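import Mathlib
import Groth.Agent.Lib.Helper29.Cocycle
import Groth.Agent.Lib.Helper29.QCohQcqs
set_option autoImplicit false
set_option linter.style.haveILetI false
set_option linter.unusedSectionVars false
universe u

open CategoryTheory CategoryTheory.Limits AlgebraicGeometry Opposite TopologicalSpace

/-! # Morphisms of `O_X`-modules from compatible linear maps on a basis of opens -/

namespace Groth.Agent.Helper19.OmegaD

open Groth.Agent.Lib.Helper29.QCoh

variable {X : Scheme.{u}}

/-- Two sections agreeing on all members of a basis contained in `W` are equal. -/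
theorem eq_of_res_basis_eq (N : X.Modules) (B : Set X.Opens) (hB : Opens.IsBasis B)
    {W : X.Opens} (s t : Γ(N, W))
    (h : ∀ (U : X.Opens) (_ : U ∈ B) (hUW : U ≤ W), res N hUW s = res N hUW t) : s = t := by
  apply section_ext
  intro x hx
  obtain ⟨U, hUB, hxU, hUW⟩ := Opens.isBasis_iff_nbhd.mp hB hx
  rw [← germ_res N hUW x hxU, ← germ_res N hUW x hxU, h U hUB hUW]

/-- A morphism of modules from compatible linear maps on a basis. -/
theorem exists_hom_of_basis {M N : X.Modules} (B : Set X.Opens) (hB : Opens.IsBasis B)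
    (φ : ∀ U : B, Γ(M, U.1) →+ Γ(N, U.1))
    (hsmul : ∀ (U : B) (r : Γ(X, U.1)) (m : Γ(M, U.1)), φ U (r • m) = r • φ U m)
    (hres : ∀ (U U' : B) (h : U'.1 ≤ U.1) (m : Γ(M, U.1)),
      φ U' (res M h m) = res N h (φ U m)) :
    ∃ α : M ⟶ N, ∀ (U : B) (m : Γ(M, U.1)), α.app U.1 m = φ U m := by
  let Bf : B → X.Opens := Subtype.val
  have hBf : Opens.IsBasis (Set.range Bf) := by
    rw [Subtype.range_coe]; exact hB
  let F : TopCat.Presheaf Ab X := M.presheaf
  let F' : TopCat.Sheaf Ab X := (toSheafAb X).obj N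
  let α₀ : (inducedFunctor Bf).op ⋙ F ⟶ (inducedFunctor Bf).op ⋙ F'.1 :=
    { app := fun i => AddCommGrpCat.ofHom (φ i.unop)
      naturality := by
        intro i j g
        ext m
        exact hres i.unop j.unop (leOfHom ((inducedFunctor Bf).map g.unop)) m }
  let β : F ⟶ F'.1 := TopCat.Sheaf.restrictHomEquivHom F F' hBf α₀
  have hβ : ∀ i : B, β.app (op (Bf i)) = α₀.app (op i) :=
    fun i => TopCat.Sheaf.extend_hom_app F F' hBf α₀ i
  let βW : ∀ W : X.Opens, Γ(M, W) →+ Γ(N, W) := fun W => (β.app (op W)).hom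
  have hβW : ∀ (U : B) (m : Γ(M, U.1)), βW U.1 m = φ U m := fun U m =>
    congrArg (fun k => k.hom m) (hβ U)
  have hnat : ∀ {W W' : X.Opens} (h : W' ≤ W) (m : Γ(M, W)),
      βW W' (res M h m) = res N h (βW W m) := by
    intro W W' h m
    exact congrArg (fun k => k.hom m) (β.naturality (homOfLE h).op)
  have hlin : ∀ (W : X.Opens) (r : Γ(X, W)) (m : Γ(M, W)), βW W (r • m) = r • βW W m := by
    intro W r m
    apply eq_of_res_basis_eq N B hB
    intro U hUB hUW
    rw [← hnat hUW, res_smul, res_smul, ← hnat hUW]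
    exact (hβW ⟨U, hUB⟩ _).trans ((hsmul ⟨U, hUB⟩ _ _).trans
      (congrArg (fun z => _ • z) (hβW ⟨U, hUB⟩ _).symm))
  refine ⟨homOfApp βW hlin (fun h m => hnat h m), fun U m => ?_⟩
  rw [homOfApp_app]
  exact hβW U m

/-- Morphisms of modules agreeing on a basis are equal. -/
theorem hom_ext_of_basis {M N : X.Modules} (B : Set X.Opens) (hB : Opens.IsBasis B)
    (α α' : M ⟶ N)
    (h : ∀ (U : X.Opens) (_ : U ∈ B) (m : Γ(M, U)), α.app U m = α'.app U m) : α = α' := by
  apply Scheme.Modules.hom_ext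
  intro W
  ext m
  apply eq_of_res_basis_eq N B hB
  intro U hUB hUW
  have h1 := app_res α hUW m
  have h2 := app_res α' hUW m
  exact h1.symm.trans ((h U hUB _).trans h2)

end Groth.Agent.Helper19.OmegaD
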