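import Groth.Prelude.Def_RelSpec2
import Mathlib
import Groth.Agent.Helper19.OmegaD3
import Groth.Agent.Lib.Helper29.QCohExact

set_option autoImplicit false
set_option linter.style.haveILetI false
set_option linter.unusedSectionVars false
universe u
open CategoryTheory CategoryTheory.Limits AlgebraicGeometry Opposite TopologicalSpace

namespace Groth.Agent.Helper19.AModFF

open Groth.Agent.Lib.Helper29.QCoh Groth.Agent.Helper19.OmegaD

section general

variable {X : Scheme.{u}} (F G : X.Modules)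

theorem smul_cancel {T : X.Opens} {c : Γ(X, T)} (hc : IsUnit c) {a b : Γ(G, T)}
    (h : c • a = c • b) : a = b := by
  obtain ⟨u, rfl⟩ := hc
  have := congrArg (fun z => (↑u⁻¹ : Γ(X, T)) • z) h
  simpa only [smul_smul, Units.inv_mul, one_smul] using this

theorem isUnit_res_of_le_basicOpen {W T : X.Opens} (ρ : Γ(X, W)) (hTW : T ≤ W)
    (hT : T ≤ X.basicOpen ρ) : IsUnit (X.presheaf.map (homOfLE hTW).op ρ) := by
  have h1 := RingedSpace.isUnit_res_basicOpen X.toRingedSpace ρ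
  have h2 := h1.map (X.presheaf.map (homOfLE hT).op).hom
  have e : (X.presheaf.map (homOfLE hT).op).hom (X.presheaf.map (homOfLE (X.basicOpen_le ρ)).op ρ)
      = X.presheaf.map (homOfLE hTW).op ρ := map_map_apply X (X.basicOpen_le ρ) hT ρ
  rw [← e]; exact h2

/-- A linear map on sections over an affine open of a quasi-coherent module respects relations
with coefficients over smaller opens. -/
theorem lin_local [F.IsQuasicoherent] {W : X.Opens} (hW : IsAffineOpen W)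
    (ℓ : Γ(F, W) →+ Γ(G, W)) (hℓ : ∀ (a : Γ(X, W)) (m : Γ(F, W)), ℓ (a • m) = a • ℓ m)
    {T : X.Opens} (hT : T ≤ W) (c c₁ : Γ(X, T)) (s s₁ : Γ(F, W))
    (h : c • res F hT s = c₁ • res F hT s₁) :
    c • res G hT (ℓ s) = c₁ • res G hT (ℓ s₁) := by
  apply section_ext
  intro x hx
  obtain ⟨ρ, hρT, hxρ⟩ := hW.exists_basicOpen_le (V := T) ⟨x, hx⟩ (hT hx)
  have hxρ' : x ∈ X.basicOpen ρ := hxρ
  rw [← germ_res G hρT x hxρ', ← germ_res G hρT x hxρ']
  congr 1
  -- work on D = D(ρ)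
  haveI := hW.isLocalization_basicOpen ρ
  obtain ⟨l, a, ha⟩ := IsLocalization.Away.surj ρ (X.presheaf.map (homOfLE hρT).op c)
  obtain ⟨l₁, a₁, ha₁⟩ := IsLocalization.Away.surj ρ (X.presheaf.map (homOfLE hρT).op c₁)
  set ρD : Γ(X, X.basicOpen ρ) := X.presheaf.map (homOfLE (X.basicOpen_le ρ)).op ρ with hρD
  have hρu : IsUnit ρD := RingedSpace.isUnit_res_basicOpen X.toRingedSpace ρ
  have ha' : X.presheaf.map (homOfLE hρT).op c * ρD ^ l =
      X.presheaf.map (homOfLE (X.basicOpen_le ρ)).op a := ha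
  have ha₁' : X.presheaf.map (homOfLE hρT).op c₁ * ρD ^ l₁ =
      X.presheaf.map (homOfLE (X.basicOpen_le ρ)).op a₁ := ha₁
  -- the relation on D
  have hD : ∀ (N : X.Modules) (t t₁ : Γ(N, W)),
      res N (X.basicOpen_le ρ) ((ρ ^ l₁ * a) • t - (ρ ^ l * a₁) • t₁) =
        (ρD ^ (l + l₁)) • (res N hρT (c • res N hT t) - res N hρT (c₁ • res N hT t₁)) := by
    intro N t t₁
    rw [map_sub, res_smul, res_smul, res_smul, res_smul, res_res, res_res, map_mul, map_mul,
      map_pow, map_pow, ← ha', ← ha₁', ← hρD, smul_sub, smul_smul, smul_smul]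
    congr 2 <;> ring
  have h0 : res F (X.basicOpen_le ρ) ((ρ ^ l₁ * a) • s - (ρ ^ l * a₁) • s₁) = 0 := by
    rw [hD F, h, sub_self, smul_zero]
  obtain ⟨j, hj⟩ := exists_pow_smul_eq_zero F hW ρ _ h0
  have h1 : ρ ^ j • ((ρ ^ l₁ * a) • ℓ s - (ρ ^ l * a₁) • ℓ s₁) = 0 := by
    rw [← hℓ, ← hℓ, ← map_sub, ← hℓ, hj, map_zero]
  have h2 := congrArg (res G (X.basicOpen_le ρ)) h1
  rw [res_smul, hD G, map_zero, map_pow, ← hρD, smul_smul] at h2
  have h3 := eq_zero_of_isUnit_smul ((hρu.pow j).mul (hρu.pow (l + l₁))) h2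
  exact sub_eq_zero.mp h3


/-- Extension of a linear map on sections over an affine open to a basic open. -/
theorem exists_lift [F.IsQuasicoherent] {W : X.Opens} (hW : IsAffineOpen W) (r : Γ(X, W))
    (ℓ : Γ(F, W) →+ Γ(G, W)) (hℓ : ∀ (a : Γ(X, W)) (m : Γ(F, W)), ℓ (a • m) = a • ℓ m) :
    ∃ ψ : Γ(F, X.basicOpen r) →+ Γ(G, X.basicOpen r),
      (∀ s, ψ (res F (X.basicOpen_le r) s) = res G (X.basicOpen_le r) (ℓ s)) ∧
      (∀ (a : Γ(X, W)) (m : Γ(F, X.basicOpen r)),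
        ψ (X.presheaf.map (homOfLE (X.basicOpen_le r)).op a • m) =
          X.presheaf.map (homOfLE (X.basicOpen_le r)).op a • ψ m) := by
  letI := sectionsModule F (X.basicOpen_le r)
  letI := sectionsModule G (X.basicOpen_le r)
  haveI := isLocalizedModule_res_basicOpen F hW r
  let ℓ' : Γ(F, W) →ₗ[Γ(X, W)] Γ(G, W) :=
    { toFun := ℓ, map_add' := ℓ.map_add, map_smul' := hℓ }
  let g : Γ(F, W) →ₗ[Γ(X, W)] Γ(G, X.basicOpen r) := (resₗ G (X.basicOpen_le r)).comp ℓ'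
  have hg : ∀ x : Submonoid.powers r,
      IsUnit (algebraMap Γ(X, W) (Module.End Γ(X, W) Γ(G, X.basicOpen r)) x) := by
    rintro ⟨_, n, rfl⟩
    have hs : IsUnit (X.presheaf.map (homOfLE (X.basicOpen_le r)).op (r ^ n)) := by
      rw [map_pow]
      exact (RingedSpace.isUnit_res_basicOpen _ r).pow n
    rw [Module.End.isUnit_iff]
    obtain ⟨u, hu⟩ := hs
    refine ⟨fun a b hab => ?_, fun b => ⟨(↑u⁻¹ : Γ(X, X.basicOpen r)) • b, ?_⟩⟩
    · have hab' : (X.presheaf.map (homOfLE (X.basicOpen_le r)).op (r ^ n)) • a =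
        (X.presheaf.map (homOfLE (X.basicOpen_le r)).op (r ^ n)) • b := hab
      rw [← hu] at hab'
      have := congrArg (fun z => (↑u⁻¹ : Γ(X, X.basicOpen r)) • z) hab'
      simpa only [smul_smul, Units.inv_mul, one_smul] using this
    · change (X.presheaf.map (homOfLE (X.basicOpen_le r)).op (r ^ n)) •
        ((↑u⁻¹ : Γ(X, X.basicOpen r)) • b) = b
      rw [← hu, smul_smul, Units.mul_inv, one_smul]
  refine ⟨(IsLocalizedModule.lift (.powers r) (resₗ F (X.basicOpen_le r)) g hg).toAddMonoidHom,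
    ?_, ?_⟩
  · intro s
    exact IsLocalizedModule.lift_apply (.powers r) (resₗ F (X.basicOpen_le r)) g hg s
  · intro a m
    exact (IsLocalizedModule.lift (.powers r) (resₗ F (X.basicOpen_le r)) g hg).map_smul a m

end general


section amod

variable {X S : Scheme.{u}} (f : X ⟶ S) [IsAffineHom f] (F G : X.Modules)

/-- sections of a morphism of `f_*O_X`-modules -/
noncomputable def secMap (w : (AMod.dirImg f).obj F ⟶ (AMod.dirImg f).obj G) (V : S.Opens) :
    Γ(F, f ⁻¹ᵁ V) →+ Γ(G, f ⁻¹ᵁ V) :=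
  (w.val.app (op V)).hom.toAddMonoidHom

theorem secMap_smul (w : (AMod.dirImg f).obj F ⟶ (AMod.dirImg f).obj G) (V : S.Opens)
    (c : Γ(X, f ⁻¹ᵁ V)) (m : Γ(F, f ⁻¹ᵁ V)) :
    secMap f F G w V (c • m) = c • secMap f F G w V m := by
  exact (w.val.app (op V)).hom.map_smul c m

theorem secMap_res (w : (AMod.dirImg f).obj F ⟶ (AMod.dirImg f).obj G) {V V' : S.Opens}
    (h : V' ≤ V) (m : Γ(F, f ⁻¹ᵁ V)) :
    secMap f F G w V' (res F (f.preimage_mono h) m) =
      res G (f.preimage_mono h) (secMap f F G w V m) := by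
  have := PresheafOfModules.naturality_apply w.val (homOfLE h).op m
  exact this

theorem secMap_map (u : F ⟶ G) (V : S.Opens) (m : Γ(F, f ⁻¹ᵁ V)) :
    secMap f F G ((AMod.dirImg f).map u) V m = u.app (f ⁻¹ᵁ V) m := rfl

variable (w : (AMod.dirImg f).obj F ⟶ (AMod.dirImg f).obj G)

/-- Lemma W: relations between sections over two preimages of affine opens are respected. -/
theorem lemW [F.IsQuasicoherent] {V V₁ : S.Opens} (hV : IsAffineOpen V) (hV₁ : IsAffineOpen V₁)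
    {T : X.Opens} (hT : T ≤ f ⁻¹ᵁ V) (hT₁ : T ≤ f ⁻¹ᵁ V₁) (c c₁ : Γ(X, T))
    (s : Γ(F, f ⁻¹ᵁ V)) (s₁ : Γ(F, f ⁻¹ᵁ V₁))
    (h : c • res F hT s = c₁ • res F hT₁ s₁) :
    c • res G hT (secMap f F G w V s) = c₁ • res G hT₁ (secMap f F G w V₁ s₁) := by
  apply section_ext
  intro x hx
  have hfx : f.base x ∈ V ⊓ V₁ := ⟨hT hx, hT₁ hx⟩
  obtain ⟨V₂, hV₂, hxV₂, hV₂le⟩ := exists_isAffineOpen_mem_and_subset hfx
  have hV₂V : V₂ ≤ V := fun y hy => (hV₂le hy).1
  have hV₂V₁ : V₂ ≤ V₁ := fun y hy => (hV₂le hy).2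
  set T₂ : X.Opens := T ⊓ f ⁻¹ᵁ V₂ with hT₂
  have hxT₂ : x ∈ T₂ := ⟨hx, hxV₂⟩
  have hT₂T : T₂ ≤ T := inf_le_left
  have hT₂W : T₂ ≤ f ⁻¹ᵁ V₂ := inf_le_right
  rw [← germ_res G hT₂T x hxT₂, ← germ_res G hT₂T x hxT₂]
  congr 1
  have hW₂ : IsAffineOpen (f ⁻¹ᵁ V₂) := hV₂.preimage f
  have key := lin_local F G hW₂ (secMap f F G w V₂) (secMap_smul f F G w V₂) hT₂W
    (X.presheaf.map (homOfLE hT₂T).op c) (X.presheaf.map (homOfLE hT₂T).op c₁)
    (res F (f.preimage_mono hV₂V) s) (res F (f.preimage_mono hV₂V₁) s₁) (by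
      rw [res_res, res_res]
      have := congrArg (res F hT₂T) h
      rw [res_smul, res_smul, res_res, res_res] at this
      exact this)
  rw [secMap_res f F G w hV₂V s, secMap_res f F G w hV₂V₁ s₁, res_res, res_res] at key
  rw [res_smul, res_smul, res_res, res_res]
  exact key

/-- compatibility of an additive map on sections over `U` with `w` -/
def Compat (U : X.Opens) (ψ : Γ(F, U) →+ Γ(G, U)) : Prop :=
  ∀ (V₁ : S.Opens) (_ : IsAffineOpen V₁) (T : X.Opens) (hTU : T ≤ U) (hTV : T ≤ f ⁻¹ᵁ V₁)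
    (c c₁ : Γ(X, T)) (m : Γ(F, U)) (s₁ : Γ(F, f ⁻¹ᵁ V₁)),
    c • res F hTU m = c₁ • res F hTV s₁ →
      c • res G hTU (ψ m) = c₁ • res G hTV (secMap f F G w V₁ s₁)

theorem compat_top [F.IsQuasicoherent] {V : S.Opens} (hV : IsAffineOpen V) :
    Compat f F G w (f ⁻¹ᵁ V) (secMap f F G w V) := by
  intro V₁ hV₁ T hTU hTV c c₁ m s₁ h
  exact lemW f F G w hV hV₁ hTU hTV c c₁ m s₁ h

/-- the basis of basic opens of preimages of affine opens -/
def Bas : Set X.Opens :=
  {U | ∃ (V : S.Opens) (_ : IsAffineOpen V) (r : Γ(X, f ⁻¹ᵁ V)), U = X.basicOpen r}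

theorem preimage_mem_Bas {V : S.Opens} (hV : IsAffineOpen V) : f ⁻¹ᵁ V ∈ Bas f :=
  ⟨V, hV, 1, (X.basicOpen_of_isUnit isUnit_one).symm⟩

theorem isBasis_Bas : Opens.IsBasis (Bas f) := by
  rw [Opens.isBasis_iff_nbhd]
  intro O x hx
  obtain ⟨V, hV, hxV, -⟩ := exists_isAffineOpen_mem_and_subset (x := f.base x) (U := ⊤) trivial
  have hW : IsAffineOpen (f ⁻¹ᵁ V) := hV.preimage f
  obtain ⟨ρ, hρO, hxρ⟩ := hW.exists_basicOpen_le (V := O) ⟨x, hx⟩ hxV
  exact ⟨X.basicOpen ρ, ⟨V, hV, ρ, rfl⟩, hxρ, hρO⟩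


/-- existence of a compatible map on each member of the basis -/
theorem exists_compat [F.IsQuasicoherent] (U : X.Opens) (hU : U ∈ Bas f) :
    ∃ ψ : Γ(F, U) →+ Γ(G, U), Compat f F G w U ψ := by
  obtain ⟨V, hV, r, rfl⟩ := hU
  have hW : IsAffineOpen (f ⁻¹ᵁ V) := hV.preimage f
  obtain ⟨ψ, hψ1, hψ2⟩ := exists_lift F G hW r (secMap f F G w V) (secMap_smul f F G w V)
  refine ⟨ψ, ?_⟩
  intro V₁ hV₁ T hTU hTV c c₁ m s₁ h
  obtain ⟨k, s, hs⟩ := exists_pow_smul_eq_res F hW r m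
  have hTW : T ≤ f ⁻¹ᵁ V := hTU.trans (X.basicOpen_le r)
  set rU : Γ(X, X.basicOpen r) := X.presheaf.map (homOfLE (X.basicOpen_le r)).op r with hrU
  set rT : Γ(X, T) := X.presheaf.map (homOfLE hTW).op r with hrT
  have hrUT : X.presheaf.map (homOfLE hTU).op rU = rT := map_map_apply X (X.basicOpen_le r) hTU r
  have hrTu : IsUnit rT := isUnit_res_of_le_basicOpen r hTW hTU
  -- relation between s and s₁ on T
  have h1 : c • res F hTW s = (rT ^ k * c₁) • res F hTV s₁ := by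
    rw [← res_res F (X.basicOpen_le r) hTU, ← hs, res_smul, map_pow, hrUT, smul_smul, mul_comm,
      ← smul_smul, h, smul_smul]
  have h2 := lemW f F G w hV hV₁ hTW hTV c (rT ^ k * c₁) s s₁ h1
  -- ψ m in terms of s
  have h3 : rU ^ k • ψ m = res G (X.basicOpen_le r) (secMap f F G w V s) := by
    rw [← hψ1, ← hs, ← map_pow, hψ2, map_pow]
  have h4 : rT ^ k • res G hTU (ψ m) = res G hTW (secMap f F G w V s) := by
    rw [← res_res G (X.basicOpen_le r) hTU, ← h3, res_smul, map_pow, hrUT]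
  apply smul_cancel G (hrTu.pow k)
  rw [smul_smul, mul_comm, ← smul_smul, h4, h2, smul_smul]

/-- uniqueness of compatible maps on members of the basis -/
theorem compat_unique [F.IsQuasicoherent] (U : X.Opens) (hU : U ∈ Bas f)
    (ψ ψ' : Γ(F, U) →+ Γ(G, U)) (hψ : Compat f F G w U ψ) (hψ' : Compat f F G w U ψ') :
    ψ = ψ' := by
  obtain ⟨V, hV, r, rfl⟩ := hU
  have hW : IsAffineOpen (f ⁻¹ᵁ V) := hV.preimage f
  ext m
  obtain ⟨k, s, hs⟩ := exists_pow_smul_eq_res F hW r m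
  set rU : Γ(X, X.basicOpen r) := X.presheaf.map (homOfLE (X.basicOpen_le r)).op r with hrU
  have hru : IsUnit rU := RingedSpace.isUnit_res_basicOpen X.toRingedSpace r
  have hrel : rU ^ k • res F (le_refl _) m = (1 : Γ(X, X.basicOpen r)) • res F (X.basicOpen_le r) s := by
    rw [res_self, one_smul, hs]
  have h1 := hψ V hV (X.basicOpen r) le_rfl (X.basicOpen_le r) (rU ^ k) 1 m s hrel
  have h2 := hψ' V hV (X.basicOpen r) le_rfl (X.basicOpen_le r) (rU ^ k) 1 m s hrel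
  rw [res_self] at h1 h2
  exact smul_cancel G (hru.pow k) (h1.trans h2.symm)

/-- compatible maps on members of the basis are linear -/
theorem compat_smul [F.IsQuasicoherent] (U : X.Opens) (hU : U ∈ Bas f)
    (ψ : Γ(F, U) →+ Γ(G, U)) (hψ : Compat f F G w U ψ) (a : Γ(X, U)) (m : Γ(F, U)) :
    ψ (a • m) = a • ψ m := by
  obtain ⟨V, hV, r, rfl⟩ := hU
  have hW : IsAffineOpen (f ⁻¹ᵁ V) := hV.preimage f
  obtain ⟨k, s, hs⟩ := exists_pow_smul_eq_res F hW r m
  set rU : Γ(X, X.basicOpen r) := X.presheaf.map (homOfLE (X.basicOpen_le r)).op r with hrU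
  have hru : IsUnit rU := RingedSpace.isUnit_res_basicOpen X.toRingedSpace r
  have hrel : rU ^ k • res F (le_refl _) m = (1 : Γ(X, X.basicOpen r)) • res F (X.basicOpen_le r) s := by
    rw [res_self, one_smul, hs]
  have hrel' : rU ^ k • res F (le_refl _) (a • m) = a • res F (X.basicOpen_le r) s := by
    rw [res_self, ← hs, smul_smul, smul_smul, mul_comm]
  have h1 := hψ V hV (X.basicOpen r) le_rfl (X.basicOpen_le r) (rU ^ k) 1 m s hrel
  have h2 := hψ V hV (X.basicOpen r) le_rfl (X.basicOpen_le r) (rU ^ k) a (a • m) s hrel'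
  rw [res_self] at h1 h2
  rw [one_smul] at h1
  apply smul_cancel G (hru.pow k)
  rw [h2, ← h1, smul_smul, smul_smul, mul_comm]

/-- compatible maps on members of the basis commute with restriction -/
theorem compat_res [F.IsQuasicoherent] (U U' : X.Opens) (hU' : U' ∈ Bas f) (h : U' ≤ U)
    (ψ : Γ(F, U) →+ Γ(G, U)) (hψ : Compat f F G w U ψ)
    (ψ' : Γ(F, U') →+ Γ(G, U')) (hψ' : Compat f F G w U' ψ') (m : Γ(F, U)) :
    ψ' (res F h m) = res G h (ψ m) := by
  obtain ⟨V, hV, r, rfl⟩ := hU'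
  have hW : IsAffineOpen (f ⁻¹ᵁ V) := hV.preimage f
  obtain ⟨k, s, hs⟩ := exists_pow_smul_eq_res F hW r (res F h m)
  set rU : Γ(X, X.basicOpen r) := X.presheaf.map (homOfLE (X.basicOpen_le r)).op r with hrU
  have hru : IsUnit rU := RingedSpace.isUnit_res_basicOpen X.toRingedSpace r
  have hrel : rU ^ k • res F (le_refl _) (res F h m) =
      (1 : Γ(X, X.basicOpen r)) • res F (X.basicOpen_le r) s := by
    rw [res_self, one_smul, hs]
  have hrel' : rU ^ k • res F h m = (1 : Γ(X, X.basicOpen r)) • res F (X.basicOpen_le r) s := by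
    rw [one_smul, hs]
  have h1 := hψ' V hV (X.basicOpen r) le_rfl (X.basicOpen_le r) (rU ^ k) 1 (res F h m) s hrel
  have h2 := hψ V hV (X.basicOpen r) h (X.basicOpen_le r) (rU ^ k) 1 m s hrel'
  rw [res_self] at h1
  exact smul_cancel G (hru.pow k) (h1.trans h2.symm)


/-- morphisms of `f_*O_X`-modules agreeing over affine opens are equal -/
theorem amod_hom_ext (w w' : (AMod.dirImg f).obj F ⟶ (AMod.dirImg f).obj G)
    (h : ∀ (V : S.Opens) (_ : IsAffineOpen V) (m : Γ(F, f ⁻¹ᵁ V)),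
      secMap f F G w V m = secMap f F G w' V m) : w = w' := by
  apply SheafOfModules.hom_ext
  apply PresheafOfModules.hom_ext
  intro V
  induction V using Opposite.rec with | _ V => ?_
  ext m
  change secMap f F G w V m = secMap f F G w' V m
  apply section_ext
  intro x hx
  obtain ⟨V', hV', hxV', hV'le⟩ := exists_isAffineOpen_mem_and_subset (x := f.base x) (U := V) hx
  have hle : V' ≤ V := hV'le
  rw [← germ_res G (f.preimage_mono hle) x hxV', ← germ_res G (f.preimage_mono hle) x hxV',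
    ← secMap_res f F G w hle, ← secMap_res f F G w' hle, h V' hV']

/-- existence: every morphism of `f_*O_X`-modules between direct images comes from a morphism
of modules. -/
theorem exists_hom [F.IsQuasicoherent] :
    ∃ α : F ⟶ G, (AMod.dirImg f).map α = w := by
  let φ : ∀ U : Bas f, Γ(F, U.1) →+ Γ(G, U.1) := fun U =>
    Classical.choose (exists_compat f F G w U.1 U.2)
  have hφ : ∀ U : Bas f, Compat f F G w U.1 (φ U) := fun U =>
    Classical.choose_spec (exists_compat f F G w U.1 U.2)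
  obtain ⟨α, hα⟩ := exists_hom_of_basis (Bas f) (isBasis_Bas f) φ
    (fun U a m => compat_smul f F G w U.1 U.2 (φ U) (hφ U) a m)
    (fun U U' h m => compat_res f F G w U.1 U'.1 U'.2 h (φ U) (hφ U) (φ U') (hφ U') m)
  refine ⟨α, ?_⟩
  apply amod_hom_ext
  intro V hV m
  rw [secMap_map]
  have h1 := hα ⟨f ⁻¹ᵁ V, preimage_mem_Bas f hV⟩ m
  have h2 := compat_unique f F G w (f ⁻¹ᵁ V) (preimage_mem_Bas f hV)
    (φ ⟨f ⁻¹ᵁ V, preimage_mem_Bas f hV⟩) (secMap f F G w V)
    (hφ ⟨f ⁻¹ᵁ V, preimage_mem_Bas f hV⟩) (compat_top f F G w hV)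
  rw [h1, h2]

/-- injectivity -/
theorem map_injective [F.IsQuasicoherent] (u u' : F ⟶ G)
    (h : (AMod.dirImg f).map u = (AMod.dirImg f).map u') : u = u' := by
  apply hom_ext_of_basis (Bas f) (isBasis_Bas f)
  rintro U ⟨V, hV, r, rfl⟩ m
  have hW : IsAffineOpen (f ⁻¹ᵁ V) := hV.preimage f
  obtain ⟨k, s, hs⟩ := exists_pow_smul_eq_res F hW r m
  set rU : Γ(X, X.basicOpen r) := X.presheaf.map (homOfLE (X.basicOpen_le r)).op r with hrU
  have hru : IsUnit rU := RingedSpace.isUnit_res_basicOpen X.toRingedSpace r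
  have hV' : u.app (f ⁻¹ᵁ V) s = u'.app (f ⁻¹ᵁ V) s := by
    rw [← secMap_map, ← secMap_map, h]
  apply smul_cancel G (hru.pow k)
  rw [← Scheme.Modules.Hom.app_smul, ← Scheme.Modules.Hom.app_smul, hs, app_res, app_res, hV']

end amod

end Groth.Agent.Helper19.AModFF
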