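import Mathlib
import Groth.Prelude.Def_LCI2
import Groth.Agent.Lib.Helper16.KzDesc2
import Groth.Agent.S9269

/-!
# Local complete intersection ring maps: surjections and smooth maps (helper19)

* `isLCIHom_iff_of_surjective`: a surjective ring map is a local complete intersection map iff its
  kernel is a Koszul-regular ideal.
* `isLCIHom_of_smooth`: smooth ring maps are local complete intersection maps.
-/

set_option autoImplicit false
set_option linter.unusedSectionVars false
set_option linter.unusedVariables false
set_option linter.style.haveILetI false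
universe u
open CategoryTheory

namespace Groth.Agent.Helper19.LciRing

open Groth.Agent.Lib.Helper16.KzComp

section surj

variable (A C : Type u) [CommRing A] [CommRing C] [Algebra A C]

/-- the tautological presentation with no variables -/
noncomputable def pres0 : MvPolynomial (Fin 0) A →ₐ[A] C :=
  MvPolynomial.aeval (fun i => i.elim0)

theorem pres0_apply (p : MvPolynomial (Fin 0) A) :
    pres0 A C p = algebraMap A C (MvPolynomial.isEmptyRingEquiv A (Fin 0) p) := by
  induction p using MvPolynomial.induction_on with
  | C a =>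
    have h1 : MvPolynomial.isEmptyRingEquiv A (Fin 0) (MvPolynomial.C a) = a :=
      (RingEquiv.eq_symm_apply (MvPolynomial.isEmptyRingEquiv A (Fin 0))).mp rfl
    rw [h1]
    simp [pres0]
  | add p q hp hq => rw [map_add, map_add, map_add, hp, hq]
  | mul_X p i _ => exact i.elim0

theorem pres0_surjective (h : Function.Surjective (algebraMap A C)) :
    Function.Surjective (pres0 A C) := by
  intro c
  obtain ⟨a, rfl⟩ := h c
  exact ⟨MvPolynomial.C a, by simp [pres0]⟩

theorem ker_pres0 :
    RingHom.ker (pres0 A C).toRingHom =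
      (RingHom.ker (algebraMap A C)).comap
        ((MvPolynomial.isEmptyRingEquiv A (Fin 0)) : MvPolynomial (Fin 0) A →+* A) := by
  ext p
  rw [RingHom.mem_ker, Ideal.mem_comap, RingHom.mem_ker]
  change pres0 A C p = 0 ↔ _
  rw [pres0_apply]
  rfl

/-- a surjective algebra is a local complete intersection iff the kernel is Koszul-regular -/
theorem isLCI_iff_of_surjective (h : Function.Surjective (algebraMap A C)) :
    LCI.IsLCI A C ↔ LCI.IsKoszulRegularIdeal (RingHom.ker (algebraMap A C)) := by
  constructor
  · rintro ⟨-, n, f, hf, hK⟩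
    have h1 := Groth.Agent.S9269.result A C n 0 f hf (pres0 A C) (pres0_surjective A C h) hK
    rw [ker_pres0] at h1
    exact (isKoszulRegularIdeal_comap_ringEquiv_iff _ _).mp h1
  · intro hK
    refine ⟨Algebra.FiniteType.of_surjective (Algebra.ofId A C) h, 0, pres0 A C,
      pres0_surjective A C h, ?_⟩
    rw [ker_pres0]
    exact (isKoszulRegularIdeal_comap_ringEquiv_iff _ _).mpr hK

end surj

theorem isLCIHom_iff_of_surjective {A C : Type u} [CommRing A] [CommRing C] (φ : A →+* C)
    (h : Function.Surjective φ) : IsLCIHom φ ↔ LCI.IsKoszulRegularIdeal (RingHom.ker φ) := by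
  letI := φ.toAlgebra
  exact isLCI_iff_of_surjective A C h

section smooth

open Polynomial

/-- the algebra `R[X]/(f)` for monic `f` is a local complete intersection -/
theorem isLCI_adjoinRoot {R : Type u} [CommRing R] (f : R[X]) (hf : f.Monic) :
    LCI.IsLCI R (AdjoinRoot f) := by
  let e₁ : MvPolynomial (Fin 1) R ≃ₐ[R] R[X] := MvPolynomial.uniqueAlgEquiv R (Fin 1)
  let β : R[X] →ₐ[R] AdjoinRoot f := AdjoinRoot.mkₐ f
  have hsurj : Function.Surjective β := AdjoinRoot.mk_surjective
  have hker : RingHom.ker β.toRingHom = Ideal.ofList [f] := by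
    have h1 : RingHom.ker β.toRingHom = Ideal.span {f} := Ideal.mk_ker
    rw [h1, Ideal.ofList]
    congr 1
    ext x
    simp
  have hft : Algebra.FiniteType R (AdjoinRoot f) :=
    Algebra.FiniteType.of_surjective β hsurj
  refine ⟨hft, 1, β.comp e₁.toAlgHom, hsurj.comp e₁.surjective, ?_⟩
  have : RingHom.ker (β.comp e₁.toAlgHom).toRingHom =
      (RingHom.ker β.toRingHom).comap (e₁.toRingEquiv : _ →+* _) := by
    ext x
    simp [RingHom.mem_ker]
  rw [this, isKoszulRegularIdeal_comap_ringEquiv_iff, hker]
  refine isKoszulRegularIdeal_ofList _ (kreg_of_isWeaklyRegular _ ?_)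
  rw [RingTheory.Sequence.isWeaklyRegular_singleton_iff]
  exact (hf.isRegular).left.isSMulRegular

/-- polynomial algebras are local complete intersections -/
theorem isLCI_mvPolynomial (R : Type u) [CommRing R] (n : ℕ) :
    LCI.IsLCI R (MvPolynomial (Fin n) R) := by
  refine ⟨inferInstance, n, AlgHom.id R _, Function.surjective_id, ?_⟩
  have h0 : RingHom.ker (AlgHom.id R (MvPolynomial (Fin n) R)).toRingHom = Ideal.ofList [] := by
    rw [Ideal.ofList_nil]
    rw [eq_bot_iff]
    intro x hx
    exact hx
  rw [h0]
  exact isKoszulRegularIdeal_ofList _ (kreg_of_isWeaklyRegular _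
    (RingTheory.Sequence.IsWeaklyRegular.nil _ _))

/-- standard étale algebras are local complete intersections -/
theorem isLCIHom_of_isStandardEtale {R S : Type u} [CommRing R] [CommRing S] [Algebra R S]
    [Algebra.IsStandardEtale R S] : IsLCIHom (algebraMap R S) := by
  have P : StandardEtalePresentation R S :=
    Algebra.IsStandardEtale.nonempty_standardEtalePresentation.some
  let S' := Localization.Away (AdjoinRoot.mk P.f P.g)
  let e : S ≃ₐ[R] S' := P.equivRing.trans P.P.equivAwayAdjoinRoot
  have h1 : IsLCIHom (algebraMap R (AdjoinRoot P.f)) :=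
    isLCIHom_algebraMap_iff.2 (isLCI_adjoinRoot P.f P.monic_f)
  have h2 : IsLCIHom (algebraMap (AdjoinRoot P.f) S') :=
    isLCIHom_holdsForLocalizationAway S' (AdjoinRoot.mk P.f P.g)
  have h3 : IsLCIHom (algebraMap R S') := by
    rw [IsScalarTower.algebraMap_eq R (AdjoinRoot P.f) S']
    exact isLCIHom_stableUnderComposition _ _ h1 h2
  have h4 := isLCIHom_respectsIso.left (algebraMap R S') e.symm.toRingEquiv h3
  convert h4 using 1
  ext x
  simp

/-- **Smooth ring maps are local complete intersection maps.** -/
theorem isLCIHom_of_smooth {R S : Type u} [CommRing R] [CommRing S] (f : R →+* S)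
    (hf : f.Smooth) : IsLCIHom f := by
  algebraize [f]
  have hloc : ∀ p : Ideal S, p.IsPrime → ∃ g ∉ p,
      IsLCIHom ((algebraMap S (Localization.Away g)).comp f) := by
    intro p hp
    obtain ⟨g, hg, n, _, _, _⟩ := Algebra.IsSmoothAt.exists_isStandardEtale_mvPolynomial
      (R := R) (S := S) (p := p)
    refine ⟨g, hg, ?_⟩
    have h1 : IsLCIHom (algebraMap R (MvPolynomial (Fin n) R)) :=
      isLCIHom_algebraMap_iff.2 (isLCI_mvPolynomial R n)
    have h2 : IsLCIHom (algebraMap (MvPolynomial (Fin n) R) (Localization.Away g)) :=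
      isLCIHom_of_isStandardEtale
    have h3 := isLCIHom_stableUnderComposition _ _ h1 h2
    rw [← IsScalarTower.algebraMap_eq R (MvPolynomial (Fin n) R) (Localization.Away g)] at h3
    rw [IsScalarTower.algebraMap_eq R S (Localization.Away g)] at h3
    exact h3
  let s : Set S := {g | IsLCIHom ((algebraMap S (Localization.Away g)).comp f)}
  have hs : Ideal.span s = ⊤ := by
    by_contra hne
    obtain ⟨m, hm, hle⟩ := Ideal.exists_le_maximal _ hne
    obtain ⟨g, hg, hq⟩ := hloc m hm.isPrime
    exact hg (hle (Ideal.subset_span hq))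
  exact isLCIHom_propertyIsLocal.ofLocalizationSpanTarget f s hs (fun r => r.2)

end smooth

end Groth.Agent.Helper19.LciRing
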