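import Groth.Agent.Lib.Helper29.QCohPullback
import Mathlib

set_option autoImplicit false
universe u
open CategoryTheory CategoryTheory.Limits AlgebraicGeometry Opposite TopologicalSpace
open scoped TensorProduct
open Groth.Agent.Lib.Helper29.QCoh

namespace Groth.Agent.Helper19.PullNat

open Scheme.Modules

section cat
variable {C : Type*} [Category C]

theorem sq2 {A0 A1 A2 B0 B1 B2 : C} {a1 : A0 ⟶ A1} {a2 : A1 ⟶ A2} {b1 : B0 ⟶ B1} {b2 : B1 ⟶ B2}
    {v0 : A0 ⟶ B0} {v1 : A1 ⟶ B1} {v2 : A2 ⟶ B2}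
    (h1 : v0 ≫ b1 = a1 ≫ v1) (h2 : v1 ≫ b2 = a2 ≫ v2) :
    v0 ≫ (b1 ≫ b2) = (a1 ≫ a2) ≫ v2 := by
  rw [reassoc_of% h1, h2, Category.assoc]

theorem sq6 {A0 A1 A2 A3 A4 A5 A6 B0 B1 B2 B3 B4 B5 B6 : C}
    {a1 : A0 ⟶ A1} {a2 : A1 ⟶ A2} {a3 : A2 ⟶ A3} {a4 : A3 ⟶ A4} {a5 : A4 ⟶ A5} {a6 : A5 ⟶ A6}
    {b1 : B0 ⟶ B1} {b2 : B1 ⟶ B2} {b3 : B2 ⟶ B3} {b4 : B3 ⟶ B4} {b5 : B4 ⟶ B5} {b6 : B5 ⟶ B6}
    {v0 : A0 ⟶ B0} {v1 : A1 ⟶ B1} {v2 : A2 ⟶ B2} {v3 : A3 ⟶ B3} {v4 : A4 ⟶ B4} {v5 : A5 ⟶ B5}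
    {v6 : A6 ⟶ B6}
    (h1 : v0 ≫ b1 = a1 ≫ v1) (h2 : v1 ≫ b2 = a2 ≫ v2) (h3 : v2 ≫ b3 = a3 ≫ v3)
    (h4 : v3 ≫ b4 = a4 ≫ v4) (h5 : v4 ≫ b5 = a5 ≫ v5) (h6 : v5 ≫ b6 = a6 ≫ v6) :
    v0 ≫ (b1 ≫ b2 ≫ b3 ≫ b4 ≫ b5 ≫ b6) = (a1 ≫ a2 ≫ a3 ≫ a4 ≫ a5 ≫ a6) ≫ v6 := by
  rw [reassoc_of% h1, reassoc_of% h2, reassoc_of% h3, reassoc_of% h4, reassoc_of% h5, h6]
  simp only [Category.assoc]

theorem map_sq {D : Type*} [Category D] (P : C ⥤ D) {A0 A1 B0 B1 : C} {a1 : A0 ⟶ A1}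
    {b1 : B0 ⟶ B1} {v0 : A0 ⟶ B0} {v1 : A1 ⟶ B1} (h : v0 ≫ b1 = a1 ≫ v1) :
    P.map v0 ≫ P.map b1 = P.map a1 ≫ P.map v1 := by
  rw [← P.map_comp, ← P.map_comp, h]

theorem inv_comm {A B A' B' : C} (α : A ⟶ B) [IsIso α] (β : A' ⟶ B') [IsIso β] (T : A ⟶ A')
    (v : B ⟶ B') (h : T ≫ β = α ≫ v) : v ≫ inv β = inv α ≫ T := by
  rw [IsIso.comp_inv_eq, Category.assoc, IsIso.eq_inv_comp]
  exact h.symm

end cat

section tilde
variable {R : CommRingCat.{u}}

theorem inv_fromTildeΓ_naturality {M N : (Spec (.of R)).Modules} [IsIso (fromTildeΓ M)]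
    [IsIso (fromTildeΓ N)] (v : M ⟶ N) :
    v ≫ inv (fromTildeΓ N) =
      inv (fromTildeΓ M) ≫ (tilde.functor R).map (moduleSpecΓFunctor.map v) := by
  have nat : (tilde.functor R).map (moduleSpecΓFunctor.map v) ≫ fromTildeΓ N =
      fromTildeΓ M ≫ v := fromTildeΓNatTrans.naturality v
  exact inv_comm _ _ _ _ nat

end tilde

variable {X Y : Scheme.{u}} (f : X ⟶ Y) {F G : Y.Modules} [F.IsQuasicoherent] [G.IsQuasicoherent]
  (u : F ⟶ G)
  {U : X.Opens} (hU : IsAffineOpen U) {V : Y.Opens} (hV : IsAffineOpen V) (e : U ≤ f ⁻¹ᵁ V)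

theorem pullbackRestrictFromSpecIso_naturality :
    (Scheme.Modules.restrictFunctor hU.fromSpec).map ((Scheme.Modules.pullback f).map u) ≫
      (pullbackRestrictFromSpecIso f G hU hV e).hom =
    (pullbackRestrictFromSpecIso f F hU hV e).hom ≫
      (tilde.functor _).map ((ModuleCat.extendScalars (f.appLE V U e).hom).map
        (moduleSpecΓFunctor.map ((Scheme.Modules.restrictFunctor hV.fromSpec).map u))) := by
  have h1 := (restrictFunctorIsoPullback hU.fromSpec).hom.naturality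
    ((Scheme.Modules.pullback f).map u)
  have h2 := (pullbackComp hU.fromSpec f).hom.naturality u
  have h3 := (pullbackCongr (IsAffineOpen.SpecMap_appLE_fromSpec f hV hU e).symm).hom.naturality u
  have h4 := (pullbackComp (Spec.map (f.appLE V U e)) hV.fromSpec).inv.naturality u
  have h5 := (restrictFunctorIsoPullback hV.fromSpec).inv.naturality u
  haveI iG : IsIso (fromTildeΓ (G.restrict hV.fromSpec)) :=
    Scheme.Modules.isIso_fromTildeΓ_of_isQuasicoherent _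
  haveI iF : IsIso (fromTildeΓ (F.restrict hV.fromSpec)) :=
    Scheme.Modules.isIso_fromTildeΓ_of_isQuasicoherent _
  have h6 := inv_fromTildeΓ_naturality ((restrictFunctor hV.fromSpec).map u)
  have h7 := (tildePullbackIso (f.appLE V U e)).hom.naturality
    (moduleSpecΓFunctor.map ((restrictFunctor hV.fromSpec).map u))
  have h56 := map_sq (Scheme.Modules.pullback (Spec.map (f.appLE V U e))) (sq2 h5 h6)
  exact sq6 h1 h2 h3 h4 h56 h7


include hU hV in
/-- If `f^* u = 0`, then `1 ⊗ u(m) = 0` in `Γ(X,U) ⊗ Γ(G,V)` for affine `U ≤ f⁻¹ V`. -/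
theorem one_tmul_app_eq_zero (h : (Scheme.Modules.pullback f).map u = 0) (m : Γ(F, V)) :
    letI := (f.appLE V U e).hom.toAlgebra
    (1 : Γ(X, U)) ⊗ₜ[Γ(Y, V)] (u.app V m) = 0 := by
  letI := (f.appLE V U e).hom.toAlgebra
  have nat := pullbackRestrictFromSpecIso_naturality f u hU hV e
  rw [h, Functor.map_zero, zero_comp] at nat
  have h2 : (tilde.functor _).map ((ModuleCat.extendScalars (f.appLE V U e).hom).map
        (moduleSpecΓFunctor.map ((Scheme.Modules.restrictFunctor hV.fromSpec).map u))) = 0 :=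
    (cancel_epi (pullbackRestrictFromSpecIso f F hU hV e).hom).mp (nat.symm.trans comp_zero.symm)
  have h3 : (ModuleCat.extendScalars (f.appLE V U e).hom).map
        (moduleSpecΓFunctor.map ((Scheme.Modules.restrictFunctor hV.fromSpec).map u)) = 0 :=
    (tilde.functor _).map_injective (h2.trans (Functor.map_zero _ _ _).symm)
  -- element level
  let m' := sectionsRestrictFromSpecEquiv F hV m
  have h4 := congrArg (fun ψ => ψ.hom ((1 : Γ(X, U)) ⊗ₜ[Γ(Y, V)] m')) h3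
  have h5 : (1 : Γ(X, U)) ⊗ₜ[Γ(Y, V)]
      (sectionsRestrictFromSpecEquiv G hV (u.app V m)) = 0 := by
    have h6 : (moduleSpecΓFunctor.map ((Scheme.Modules.restrictFunctor hV.fromSpec).map u)) m' =
        sectionsRestrictFromSpecEquiv G hV (u.app V m) :=
      app_res u (fromSpec_image_top hV).le m
    rw [← h6]
    exact h4
  have h7 := congrArg (LinearMap.lTensor Γ(X, U)
    ((sectionsRestrictFromSpecEquiv G hV).symm.toLinearMap)) h5
  rw [map_zero, LinearMap.lTensor_tmul] at h7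
  simpa using h7


section algebra

theorem mem_smul_top_of_one_tmul_eq_zero {A B N : Type*} [CommRing A] [CommRing B] [Algebra A B]
    [AddCommGroup N] [Module A N]
    (hs : Function.Surjective (algebraMap A B)) (n : N) (h : (1 : B) ⊗ₜ[A] n = 0) :
    n ∈ (RingHom.ker (algebraMap A B)) • (⊤ : Submodule A N) := by
  have hs' : Function.Surjective (Algebra.ofId A B) := hs
  let φ : (A ⧸ RingHom.ker (Algebra.ofId A B)) ≃ₐ[A] B :=
    Ideal.quotientKerAlgEquivOfSurjective hs'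
  have h1 := congrArg (TensorProduct.map φ.symm.toLinearMap (LinearMap.id : N →ₗ[A] N)) h
  rw [TensorProduct.map_tmul, map_zero] at h1
  have h2 : φ.symm.toLinearMap 1 = 1 := map_one φ.symm
  rw [h2, LinearMap.id_apply] at h1
  have h3 := congrArg (TensorProduct.quotTensorEquivQuotSMul N (RingHom.ker (Algebra.ofId A B))) h1
  rw [TensorProduct.quotTensorEquivQuotSMul_mk_one_tmul, map_zero,
    Submodule.Quotient.mk_eq_zero] at h3
  exact h3

end algebra

section closed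

variable {X : Scheme.{u}} (I : X.IdealSheafData) {F G : X.Modules} [F.IsQuasicoherent]
  [G.IsQuasicoherent] (u : F ⟶ G)

/-- If the pullback of `u` to the closed subscheme `V(I)` vanishes then `u` maps into `I G`
on affine opens. -/
theorem app_mem_ideal_smul_top (h : (Scheme.Modules.pullback I.subschemeι).map u = 0)
    (V : X.affineOpens) (m : Γ(F, V.1)) :
    u.app V.1 m ∈ I.ideal V • (⊤ : Submodule Γ(X, V.1) Γ(G, V.1)) := by
  have hU : IsAffineOpen (I.subschemeι ⁻¹ᵁ V.1) := V.2.preimage I.subschemeι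
  letI alg := (I.subschemeι.appLE V.1 (I.subschemeι ⁻¹ᵁ V.1) le_rfl).hom.toAlgebra
  have h0 := one_tmul_app_eq_zero I.subschemeι u hU V.2 le_rfl h m
  have happ : (I.subschemeι.appLE V.1 (I.subschemeι ⁻¹ᵁ V.1) le_rfl) = I.subschemeι.app V.1 :=
    (Scheme.Hom.app_eq_appLE _).symm
  have hs : Function.Surjective (algebraMap Γ(X, V.1) Γ(I.subscheme, I.subschemeι ⁻¹ᵁ V.1)) := by
    change Function.Surjective (I.subschemeι.appLE V.1 (I.subschemeι ⁻¹ᵁ V.1) le_rfl).hom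
    rw [happ]
    exact I.subschemeι_app_surjective V
  have hk : RingHom.ker (algebraMap Γ(X, V.1) Γ(I.subscheme, I.subschemeι ⁻¹ᵁ V.1)) =
      I.ideal V := by
    change RingHom.ker (I.subschemeι.appLE V.1 (I.subschemeι ⁻¹ᵁ V.1) le_rfl).hom = _
    rw [happ]
    exact I.ker_subschemeι_app V
  have := mem_smul_top_of_one_tmul_eq_zero hs _ h0
  rwa [hk] at this

end closed

end Groth.Agent.Helper19.PullNat
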