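import Mathlib
import Groth.Agent.Lib.Helper29.PullSect
import Groth.Agent.Lib.Helper29.QCohPullback
import Groth.Agent.Helper19.PullNat
set_option autoImplicit false
universe u
open CategoryTheory CategoryTheory.Limits AlgebraicGeometry TopologicalSpace Opposite
open scoped TensorProduct ChangeOfRings
open Groth.Agent.Lib.Helper29.QCoh

namespace Groth.Agent.Helper19.PullUnit

section affine
variable {R S : CommRingCat.{u}} (φ : R ⟶ S)

open ModuleCat in
theorem tildePullbackIso_unit (N : ModuleCat.{u} R) :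
    (tilde.adjunction (R := R)).unit.app N ≫
      moduleSpecΓFunctor.map ((Scheme.Modules.pullbackPushforwardAdjunction (Spec.map φ)).unit.app
        ((tilde.functor R).obj N)) ≫
      moduleSpecΓFunctor.map ((Scheme.Modules.pushforward (Spec.map φ)).map
        ((tildePullbackIso φ).hom.app N)) =
    ((ModuleCat.extendRestrictScalarsAdj φ.hom).unit.app N ≫
      (ModuleCat.restrictScalars φ.hom).map ((tilde.adjunction (R := S)).unit.app _)) ≫
      (pushforwardCompΓIso φ).inv.app _ := by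
  have h := Adjunction.unit_leftAdjointUniq_hom_app
    ((tilde.adjunction (R := R)).comp (Scheme.Modules.pullbackPushforwardAdjunction (Spec.map φ)))
    (((ModuleCat.extendRestrictScalarsAdj φ.hom).comp (tilde.adjunction (R := S))).ofNatIsoRight
      (pushforwardCompΓIso φ).symm) N
  simp only [Adjunction.comp_unit_app, Adjunction.ofNatIsoRight_unit, NatTrans.comp_app,
    Functor.whiskerLeft_app, Functor.comp_map, Category.assoc, Iso.symm_hom] at h
  exact h

theorem tildePullbackIso_pullSect (N : ModuleCat.{u} R) (n : N) :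
    ((tildePullbackIso φ).hom.app N).app ⊤
      (pullSect (Spec.map φ) (tilde N) ⊤ ((tilde.toOpen N ⊤).hom n)) =
    (tilde.toOpen ((ModuleCat.extendScalars φ.hom).obj N) ⊤).hom ((1 : S) ⊗ₜ[R, φ.hom] n) := by
  have h := tildePullbackIso_unit φ N
  have h2 := congrArg (fun k => k.hom n) h
  exact h2

/-- `fromTildeΓ` on global sections is inverse to `toOpen ⊤`. -/
theorem fromTildeΓ_app_top (M : (Spec (.of R)).Modules)
    (s : (modulesSpecToSheaf.obj M).presheaf.obj (.op ⊤)) :
    (Scheme.Modules.fromTildeΓ M).app ⊤ ((tilde.toOpen _ ⊤).hom s) = s := by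
  have h := (tilde.adjunction (R := R)).right_triangle_components M
  have h2 := congrArg (fun k => k.hom s) h
  exact h2

theorem inv_fromTildeΓ_app_top (M : (Spec (.of R)).Modules) [IsIso (Scheme.Modules.fromTildeΓ M)]
    (s : (modulesSpecToSheaf.obj M).presheaf.obj (.op ⊤)) :
    (inv (Scheme.Modules.fromTildeΓ M)).app ⊤ s = (tilde.toOpen _ ⊤).hom s := by
  have h := fromTildeΓ_app_top M s
  have h2 := congrArg ((inv (Scheme.Modules.fromTildeΓ M)).app ⊤) h
  rw [← app_comp, IsIso.hom_inv_id] at h2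
  exact h2.symm

end affine

section congr
variable {X Y : Scheme.{u}}

theorem pullbackCongr_pullSect {h₁ h₂ : X ⟶ Y} (e : h₁ = h₂) (M : Y.Modules) (V : Y.Opens)
    (m : Γ(M, V)) :
    ((Scheme.Modules.pullbackCongr e).hom.app M).app (h₂ ⁻¹ᵁ V)
      (res _ (e ▸ le_rfl : h₂ ⁻¹ᵁ V ≤ h₁ ⁻¹ᵁ V) (pullSect h₁ M V m)) =
      pullSect h₂ M V m := by
  subst e
  rw [res_self]
  rfl

end congr

section general
open Scheme.Modules
variable {X Y : Scheme.{u}} (f : X ⟶ Y) (F : Y.Modules) [F.IsQuasicoherent]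
  {U : X.Opens} (hU : IsAffineOpen U) {V : Y.Opens} (hV : IsAffineOpen V) (e : U ≤ f ⁻¹ᵁ V)

include e in
theorem image_top_le_preimage : hU.fromSpec ''ᵁ ⊤ ≤ f ⁻¹ᵁ V := by
  rw [fromSpec_image_top hU]; exact e

omit [F.IsQuasicoherent] in
theorem image_top_le : hV.fromSpec ''ᵁ ⊤ ≤ V := by
  rw [fromSpec_image_top hV]

/-- Step 1. -/
theorem step1 (P : X.Modules) (W : X.Opens) (hW : hU.fromSpec ''ᵁ ⊤ ≤ W) (s : Γ(P, W))
    (hT : (⊤ : (Spec Γ(X, U)).Opens) ≤ hU.fromSpec ⁻¹ᵁ W) :
    ((restrictFunctorIsoPullback hU.fromSpec).hom.app P).app ⊤ (res P hW s) =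
      res _ hT (pullSect hU.fromSpec P W s) := by
  have h1 := restrictFunctorIsoPullback_hom_app hU.fromSpec P W s
  have h2 := app_res ((restrictFunctorIsoPullback hU.fromSpec).hom.app P) hT
    (res P (hU.fromSpec.image_preimage_le W) s)
  rw [h1] at h2
  rw [← h2]
  congr 1
  exact (res_res P _ _ s).symm

omit [F.IsQuasicoherent] in
/-- Step 2. -/
theorem step2 {Z : Scheme.{u}} (j : Z ⟶ X) (W : Z.Opens) (hT : W ≤ (j ≫ f) ⁻¹ᵁ V)
    (m : Γ(F, V)) :
    ((pullbackComp j f).hom.app F).app W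
      (res _ hT (pullSect j ((Scheme.Modules.pullback f).obj F) (f ⁻¹ᵁ V) (pullSect f F V m))) =
      res _ hT (pullSect (j ≫ f) F V m) := by
  have h1 := pullbackComp_inv_pullSect j f F V m
  have h2 := congrArg (((pullbackComp j f).hom.app F).app ((j ≫ f) ⁻¹ᵁ V)) h1
  rw [← app_comp, ← NatTrans.comp_app, Iso.inv_hom_id] at h2
  have h3 := app_res ((pullbackComp j f).hom.app F) hT
    (pullSect j ((Scheme.Modules.pullback f).obj F) (f ⁻¹ᵁ V) (pullSect f F V m))
  rw [h3, ← h2]
  rfl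

omit [F.IsQuasicoherent] in
/-- Step 4. -/
theorem step4 {Z : Scheme.{u}} (j : Z ⟶ X) (W : Z.Opens) (hT : W ≤ (j ≫ f) ⁻¹ᵁ V)
    (m : Γ(F, V)) :
    ((pullbackComp j f).inv.app F).app W (res _ hT (pullSect (j ≫ f) F V m)) =
      res _ hT (pullSect j ((Scheme.Modules.pullback f).obj F) (f ⁻¹ᵁ V) (pullSect f F V m)) := by
  have h1 := pullbackComp_inv_pullSect j f F V m
  have h3 := app_res ((pullbackComp j f).inv.app F) hT (pullSect (j ≫ f) F V m)
  rw [h3, h1]
  rfl

omit [F.IsQuasicoherent] in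
/-- Step 3. -/
theorem step3 {h₁ h₂ : X ⟶ Y} (e : h₁ = h₂) (W : X.Opens) (hT : W ≤ h₁ ⁻¹ᵁ V)
    (hT' : W ≤ h₂ ⁻¹ᵁ V) (m : Γ(F, V)) :
    ((pullbackCongr e).hom.app F).app W (res _ hT (pullSect h₁ F V m)) =
      res _ hT' (pullSect h₂ F V m) := by
  subst e
  rfl

/-- Step 5a: the iso `jV^* F ≅ tilde N` on the pulled back section. -/
theorem step5a (m : Γ(F, V)) (hT : (⊤ : (Spec Γ(Y, V)).Opens) ≤ hV.fromSpec ⁻¹ᵁ V) :
    (((restrictFunctorIsoPullback hV.fromSpec).symm.app F ≪≫
        (asIso (fromTildeΓ (F.restrict hV.fromSpec))).symm).hom).app ⊤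
      (res _ hT (pullSect hV.fromSpec F V m)) =
    (tilde.toOpen (moduleSpecΓFunctor.obj (F.restrict hV.fromSpec)) ⊤).hom
      (res F (image_top_le hV) m) := by
  have h1 := step1 hV F V (image_top_le hV) m hT
  have h2 := congrArg (((restrictFunctorIsoPullback hV.fromSpec).inv.app F).app ⊤) h1
  rw [← app_comp, ← NatTrans.comp_app, Iso.hom_inv_id] at h2
  have h3 : ((restrictFunctorIsoPullback hV.fromSpec).inv.app F).app ⊤
      (res _ hT (pullSect hV.fromSpec F V m)) = res F (image_top_le hV) m := h2.symm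
  have h4 := inv_fromTildeΓ_app_top (F.restrict hV.fromSpec) (res F (image_top_le hV) m)
  change (inv (fromTildeΓ (F.restrict hV.fromSpec))).app ⊤
    (((restrictFunctorIsoPullback hV.fromSpec).inv.app F).app ⊤
      (res _ hT (pullSect hV.fromSpec F V m))) = _
  rw [h3]
  exact h4

/-- The key computation: under `pullbackRestrictFromSpecIso`, the pulled back section
`f^* m` corresponds to `1 ⊗ m`. -/
theorem pullbackRestrictFromSpecIso_pullSect (m : Γ(F, V)) :
    (pullbackRestrictFromSpecIso f F hU hV e).hom.app ⊤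
      (res ((Scheme.Modules.pullback f).obj F) (image_top_le_preimage f hU e)
        (pullSect f F V m)) =
    (tilde.toOpen ((ModuleCat.extendScalars (f.appLE V U e).hom).obj
        (moduleSpecΓFunctor.obj (F.restrict hV.fromSpec))) ⊤).hom
      ((1 : Γ(X, U)) ⊗ₜ[Γ(Y, V), (f.appLE V U e).hom]
        (show ↑(moduleSpecΓFunctor.obj (F.restrict hV.fromSpec)) from
          res F (image_top_le hV) m)) := by
  have hcomm : hU.fromSpec ≫ f = Spec.map (f.appLE V U e) ≫ hV.fromSpec :=
    (IsAffineOpen.SpecMap_appLE_fromSpec f hV hU e).symm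
  have hT1 : (⊤ : (Spec Γ(X, U)).Opens) ≤ hU.fromSpec ⁻¹ᵁ (f ⁻¹ᵁ V) := by
    intro x _
    exact image_top_le_preimage f hU e ⟨x, trivial, rfl⟩
  have hT2 : (⊤ : (Spec Γ(X, U)).Opens) ≤ (hU.fromSpec ≫ f) ⁻¹ᵁ V := hT1
  have hT3 : (⊤ : (Spec Γ(X, U)).Opens) ≤ (Spec.map (f.appLE V U e) ≫ hV.fromSpec) ⁻¹ᵁ V := by
    rw [← hcomm]; exact hT2
  have hTV : (⊤ : (Spec Γ(Y, V)).Opens) ≤ hV.fromSpec ⁻¹ᵁ V := by
    intro x _
    exact image_top_le hV ⟨x, trivial, rfl⟩
  have e1 := step1 hU ((Scheme.Modules.pullback f).obj F) (f ⁻¹ᵁ V)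
    (image_top_le_preimage f hU e) (pullSect f F V m) hT1
  have e2 := step2 f F hU.fromSpec ⊤ hT2 m
  have e3 := step3 F hcomm ⊤ hT2 hT3 m
  have e4 := step4 hV.fromSpec F (Spec.map (f.appLE V U e)) ⊤ hT3 m
  have e4' : res _ hT3 (pullSect (Spec.map (f.appLE V U e))
      ((Scheme.Modules.pullback hV.fromSpec).obj F) (hV.fromSpec ⁻¹ᵁ V)
      (pullSect hV.fromSpec F V m)) =
      pullSect (Spec.map (f.appLE V U e)) ((Scheme.Modules.pullback hV.fromSpec).obj F) ⊤
        (res _ hTV (pullSect hV.fromSpec F V m)) :=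
    (pullSect_res (Spec.map (f.appLE V U e)) _ hTV (pullSect hV.fromSpec F V m)).symm
  have e5 := pullSect_naturality (Spec.map (f.appLE V U e))
    (((restrictFunctorIsoPullback hV.fromSpec).symm.app F ≪≫
        (asIso (fromTildeΓ (F.restrict hV.fromSpec))).symm).hom) ⊤
    (res _ hTV (pullSect hV.fromSpec F V m))
  rw [step5a F hV m hTV] at e5
  have e6 := tildePullbackIso_pullSect (f.appLE V U e)
    (moduleSpecΓFunctor.obj (F.restrict hV.fromSpec)) (res F (image_top_le hV) m)
  let a1 := ((restrictFunctorIsoPullback hU.fromSpec).hom.app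
    ((Scheme.Modules.pullback f).obj F)).app ⊤
  let a2 := ((pullbackComp hU.fromSpec f).hom.app F).app ⊤
  let a3 := ((pullbackCongr hcomm).hom.app F).app ⊤
  let a4 := ((pullbackComp (Spec.map (f.appLE V U e)) hV.fromSpec).inv.app F).app ⊤
  let a5 := ((Scheme.Modules.pullback (Spec.map (f.appLE V U e))).map
    (((restrictFunctorIsoPullback hV.fromSpec).symm.app F ≪≫
        (asIso (fromTildeΓ (F.restrict hV.fromSpec))).symm).hom)).app ⊤
  let a6 := ((tildePullbackIso (f.appLE V U e)).hom.app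
    (moduleSpecΓFunctor.obj (F.restrict hV.fromSpec))).app ⊤
  have E1 := congrArg (fun z => a6 (a5 (a4 (a3 (a2 z))))) e1
  have E2 := congrArg (fun z => a6 (a5 (a4 (a3 z)))) e2
  have E3 := congrArg (fun z => a6 (a5 (a4 z))) e3
  have E4 := congrArg (fun z => a6 (a5 z)) (e4.trans e4')
  have E5 := congrArg (fun z => a6 z) e5
  exact E1.trans (E2.trans (E3.trans (E4.trans (E5.trans e6))))

/-- Under `pullbackSectionsEquiv`, the pulled back section `f^* m` (restricted to `U`)
corresponds to `1 ⊗ m`. -/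
theorem pullbackSectionsEquiv_pullSect (m : Γ(F, V)) :
    letI := (f.appLE V U e).hom.toAlgebra
    pullbackSectionsEquiv f F hU hV e
      (res ((Scheme.Modules.pullback f).obj F) e (pullSect f F V m)) =
      (1 : Γ(X, U)) ⊗ₜ[Γ(Y, V)] m := by
  letI := (f.appLE V U e).hom.toAlgebra
  have key := pullbackRestrictFromSpecIso_pullSect f F hU hV e m
  have h1 : sectionsRestrictFromSpecEquiv ((Scheme.Modules.pullback f).obj F) hU
      (res ((Scheme.Modules.pullback f).obj F) e (pullSect f F V m)) =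
      res ((Scheme.Modules.pullback f).obj F) (image_top_le_preimage f hU e)
        (pullSect f F V m) := by
    change res _ (fromSpec_image_top hU).le (res _ e (pullSect f F V m)) = _
    rw [res_res]
  have h5 : (sectionsRestrictFromSpecEquiv F hV).symm (res F (image_top_le hV) m) = m := by
    rw [LinearEquiv.symm_apply_eq]
    rfl
  unfold pullbackSectionsEquiv
  simp only [LinearEquiv.trans_apply]
  rw [h1]
  have h2 : (moduleSpecΓFunctor.mapIso (pullbackRestrictFromSpecIso f F hU hV e)).toLinearEquiv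
      (res ((Scheme.Modules.pullback f).obj F) (image_top_le_preimage f hU e)
        (pullSect f F V m)) =
      (tilde.toOpen ((ModuleCat.extendScalars (f.appLE V U e).hom).obj
        (moduleSpecΓFunctor.obj (F.restrict hV.fromSpec))) ⊤).hom
      ((1 : Γ(X, U)) ⊗ₜ[Γ(Y, V), (f.appLE V U e).hom]
        (show ↑(moduleSpecΓFunctor.obj (F.restrict hV.fromSpec)) from
          res F (image_top_le hV) m)) := key
  let c3 := (tilde.isoTop ((ModuleCat.extendScalars (f.appLE V U e).hom).obj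
        (moduleSpecΓFunctor.obj (F.restrict hV.fromSpec)))).symm.toLinearEquiv
  let c4 := extendScalarsEquiv (f.appLE V U e).hom
          (moduleSpecΓFunctor.obj (F.restrict hV.fromSpec))
  let c5 := (TensorProduct.AlgebraTensorModule.congr (LinearEquiv.refl ↑Γ(X, U) ↑Γ(X, U))
        (sectionsRestrictFromSpecEquiv F hV).symm)
  have h3 : c3
      ((tilde.toOpen ((ModuleCat.extendScalars (f.appLE V U e).hom).obj
        (moduleSpecΓFunctor.obj (F.restrict hV.fromSpec))) ⊤).hom
      ((1 : Γ(X, U)) ⊗ₜ[Γ(Y, V), (f.appLE V U e).hom]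
        (show ↑(moduleSpecΓFunctor.obj (F.restrict hV.fromSpec)) from
          res F (image_top_le hV) m))) =
      ((1 : Γ(X, U)) ⊗ₜ[Γ(Y, V), (f.appLE V U e).hom]
        (show ↑(moduleSpecΓFunctor.obj (F.restrict hV.fromSpec)) from
          res F (image_top_le hV) m)) := by
    have := (tilde.isoTop ((ModuleCat.extendScalars (f.appLE V U e).hom).obj
        (moduleSpecΓFunctor.obj (F.restrict hV.fromSpec)))).hom_inv_id
    exact congrArg (fun k => k.hom ((1 : Γ(X, U)) ⊗ₜ[Γ(Y, V), (f.appLE V U e).hom]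
        (show ↑(moduleSpecΓFunctor.obj (F.restrict hV.fromSpec)) from
          res F (image_top_le hV) m))) this
  have h4 : c5 (c4 ((1 : Γ(X, U)) ⊗ₜ[Γ(Y, V), (f.appLE V U e).hom]
        (show ↑(moduleSpecΓFunctor.obj (F.restrict hV.fromSpec)) from
          res F (image_top_le hV) m))) = (1 : Γ(X, U)) ⊗ₜ[Γ(Y, V)] m := by
    change c5 ((1 : Γ(X, U)) ⊗ₜ[Γ(Y, V)]
      (show ↑(moduleSpecΓFunctor.obj (F.restrict hV.fromSpec)) from
          res F (image_top_le hV) m)) = _
    rw [TensorProduct.AlgebraTensorModule.congr_tmul, h5]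
    rfl
  have E2 := congrArg (fun z => c5 (c4 (c3 z))) h2
  have E3 := congrArg (fun z => c5 (c4 z)) h3
  exact E2.trans (E3.trans h4)

end general

end Groth.Agent.Helper19.PullUnit
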