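import Mathlib
import Groth.Prelude.Def_Omega3
import Groth.Agent.Helper19.PullUnit
import Groth.Agent.Lib.Helper29.QCohIdealMod
set_option autoImplicit false
set_option linter.style.haveILetI false
set_option linter.unusedSectionVars false
universe u

open CategoryTheory CategoryTheory.Limits AlgebraicGeometry Opposite TopologicalSpace
open scoped TensorProduct

/-! # Local dictionary for conormal sheaves of quasi-compact immersions -/

namespace Groth.Agent.Helper19.Conormal

open Groth.Agent.Lib.Helper29.QCoh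

section D1

variable {Z X : Scheme.{u}} (i : Z ⟶ X) {U : X.Opens} (hU : IsAffineOpen U)
  {U' : Z.Opens} (hU' : IsAffineOpen U') (e : U' ≤ i ⁻¹ᵁ U)

/-- A section of the ideal module over an affine open as an element of the ideal. -/
noncomputable def idealElt (s : Γ(ClSub.idealMod i.ker, U)) : i.ker.ideal ⟨U, hU⟩ :=
  idealModSectionsEquiv i.ker ⟨U, hU⟩ s

theorem idealElt_val (s : Γ(ClSub.idealMod i.ker, U)) :
    ((idealElt i hU s : i.ker.ideal ⟨U, hU⟩) : Γ(X, U)) = OmegaSh.idealSect i.ker U s := rfl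

/-- Sections of the conormal sheaf over an affine `U' ≤ i⁻¹ U`, `U` affine. -/
noncomputable def conormalSectionsEquiv :
    letI := (i.appLE U U' e).hom.toAlgebra
    Γ(Omega.conormal i, U') ≃ₗ[Γ(Z, U')] Γ(Z, U') ⊗[Γ(X, U)] (i.ker.ideal ⟨U, hU⟩) :=
  letI := (i.appLE U U' e).hom.toAlgebra
  (pullbackSectionsEquiv i (ClSub.idealMod i.ker) hU' hU e) ≪≫ₗ
    TensorProduct.AlgebraTensorModule.congr (LinearEquiv.refl Γ(Z, U') Γ(Z, U'))
      (idealModSectionsEquiv i.ker ⟨U, hU⟩)

set_option maxRecDepth 8000 in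
theorem conormalSectionsEquiv_conormalSect (s : Γ(ClSub.idealMod i.ker, U)) :
    letI := (i.appLE U U' e).hom.toAlgebra
    conormalSectionsEquiv i hU hU' e
      (res (Omega.conormal i) e (OmegaSh.conormalSect i U s)) =
      (1 : Γ(Z, U')) ⊗ₜ[Γ(X, U)] idealElt i hU s := by
  letI := (i.appLE U U' e).hom.toAlgebra
  have h2 : pullbackSectionsEquiv i (ClSub.idealMod i.ker) hU' hU e
      (res ((Scheme.Modules.pullback i).obj (ClSub.idealMod i.ker)) e
        (pullSect i (ClSub.idealMod i.ker) U s)) = (1 : Γ(Z, U')) ⊗ₜ[Γ(X, U)] s :=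
    Groth.Agent.Helper19.PullUnit.pullbackSectionsEquiv_pullSect i (ClSub.idealMod i.ker)
      hU' hU e s
  change (TensorProduct.AlgebraTensorModule.congr (LinearEquiv.refl Γ(Z, U') Γ(Z, U'))
      (idealModSectionsEquiv i.ker ⟨U, hU⟩))
    (pullbackSectionsEquiv i (ClSub.idealMod i.ker) hU' hU e
      (res ((Scheme.Modules.pullback i).obj (ClSub.idealMod i.ker)) e
        (pullSect i (ClSub.idealMod i.ker) U s))) = _
  rw [h2, TensorProduct.AlgebraTensorModule.congr_tmul, LinearEquiv.refl_apply]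
  rfl

end D1

section D2

variable {Z X : Scheme.{u}} (i : Z ⟶ X) [IsImmersion i] {U : X.Opens} (hU : IsAffineOpen U)
  (hUc : U ≤ i.coborderRange)

include hUc in
theorem image_preimage_coborder :
    i.coborderRange.ι ''ᵁ (i.coborderRange.ι ⁻¹ᵁ U) = U := by
  rw [Scheme.Hom.image_preimage_eq_opensRange_inf, Scheme.Opens.opensRange_ι]
  exact inf_eq_right.mpr hUc

include hU hUc in
theorem isAffineOpen_preimage_coborder : IsAffineOpen (i.coborderRange.ι ⁻¹ᵁ U) :=
  hU.preimage_of_isOpenImmersion _ (by rw [Scheme.Opens.opensRange_ι]; exact hUc)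

include hU hUc in
theorem isAffineOpen_preimage_of_le_coborder : IsAffineOpen (i ⁻¹ᵁ U) := by
  have h1 : IsAffineOpen (i.liftCoborder ⁻¹ᵁ (i.coborderRange.ι ⁻¹ᵁ U)) :=
    (isAffineOpen_preimage_coborder i hU hUc).preimage i.liftCoborder
  rw [Scheme.Hom.liftCoborder_preimage, image_preimage_coborder i hUc] at h1
  exact h1

theorem app_surjective_of_eq {T : X.Opens} (hT : T = U)
    (h : Function.Surjective (i.app T)) : Function.Surjective (i.app U) := by
  subst hT; exact h

include hU hUc in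
theorem app_surjective_of_le_coborder : Function.Surjective (i.app U) := by
  have hU₀ := isAffineOpen_preimage_coborder i hU hUc
  have h1 : Function.Surjective (i.liftCoborder.app (i.coborderRange.ι ⁻¹ᵁ U)) :=
    i.liftCoborder.app_surjective _ hU₀
  rw [AlgebraicGeometry.liftCoborder_app] at h1
  apply app_surjective_of_eq i (image_preimage_coborder i hUc)
  intro z
  have hiso : Function.Bijective (Z.presheaf.map
      (eqToHom (i.liftCoborder_preimage (i.coborderRange.ι ⁻¹ᵁ U))).op) := by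
    rw [← ConcreteCategory.isIso_iff_bijective]
    infer_instance
  obtain ⟨y, hy⟩ := h1 (Z.presheaf.map
      (eqToHom (i.liftCoborder_preimage (i.coborderRange.ι ⁻¹ᵁ U))).op z)
  exact ⟨y, hiso.1 hy⟩

theorem ker_app_eq [QuasiCompact i] :
    RingHom.ker (i.app U).hom = i.ker.ideal ⟨U, hU⟩ :=
  (Scheme.Hom.ker_apply i ⟨U, hU⟩).symm

/-- The preimages of affine opens inside the coborder form a basis of the source. -/
def cbOpens : Set Z.Opens :=
  {U' | ∃ U : X.Opens, IsAffineOpen U ∧ U ≤ i.coborderRange ∧ U' = i ⁻¹ᵁ U}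

theorem exists_cb (z : Z) (N : Z.Opens) (hz : z ∈ N) (M : X.Opens) (hzM : i z ∈ M) :
    ∃ U : X.Opens, IsAffineOpen U ∧ U ≤ i.coborderRange ∧ U ≤ M ∧ z ∈ i ⁻¹ᵁ U ∧ i ⁻¹ᵁ U ≤ N := by
  -- `N` is the preimage of an open of `X`
  obtain ⟨N', hN'o, hN'⟩ := i.isEmbedding.isInducing.isOpen_iff.mp N.2
  have hzN' : i z ∈ N' := by
    have : z ∈ (i : Z → X) ⁻¹' N' := by rw [hN']; exact hz
    exact this
  have hzc : i z ∈ i.coborderRange := subset_coborder ⟨z, rfl⟩
  obtain ⟨U, hU, hzU, hUle⟩ := exists_isAffineOpen_mem_and_subset (x := i z)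
    (U := (⟨N', hN'o⟩ : X.Opens) ⊓ i.coborderRange ⊓ M) ⟨⟨hzN', hzc⟩, hzM⟩
  refine ⟨U, hU, hUle.trans (inf_le_left.trans inf_le_right), hUle.trans inf_le_right, hzU, ?_⟩
  intro y hy
  have h1 : i y ∈ N' := (hUle hy).1.1
  have : y ∈ (i : Z → X) ⁻¹' N' := h1
  rw [hN'] at this
  exact this

theorem isBasis_cbOpens : Opens.IsBasis (cbOpens i) := by
  rw [Opens.isBasis_iff_nbhd]
  intro N z hz
  obtain ⟨U, hU, hUc, -, hzU, hUN⟩ := exists_cb i z N hz ⊤ trivial
  exact ⟨i ⁻¹ᵁ U, ⟨U, hU, hUc, rfl⟩, hzU, hUN⟩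

end D2

end Groth.Agent.Helper19.Conormal
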