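import Mathlib
set_option autoImplicit false
universe u

open scoped TensorProduct

/-! # Algebra lemmas on Kähler differentials used for sheaves of differentials -/

namespace Groth.Agent.Helper19.OmegaAlg

section ext
variable {R A B M : Type*} [CommRing R] [CommRing A] [CommRing B] [Algebra R A] [Algebra A B]
  [AddCommGroup M] [Module B M]

/-- Two `B`-linear maps out of `B ⊗[A] Ω[A⁄R]` agreeing on the elements `b ⊗ D a` are equal. -/
theorem tensor_kaehler_ext (g₁ g₂ : B ⊗[A] Ω[A⁄R] →ₗ[B] M)
    (h : ∀ (b : B) (a : A), g₁ (b ⊗ₜ KaehlerDifferential.D R A a) =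
      g₂ (b ⊗ₜ KaehlerDifferential.D R A a)) : g₁ = g₂ := by
  apply LinearMap.ext
  intro x
  induction x using TensorProduct.induction_on with
  | zero => rw [map_zero, map_zero]
  | add x y hx hy => rw [map_add, map_add, hx, hy]
  | tmul b ω =>
    have hω : ω ∈ Submodule.span A (Set.range (KaehlerDifferential.D R A)) := by
      rw [KaehlerDifferential.span_range_derivation]; trivial
    induction hω using Submodule.span_induction generalizing b with
    | mem y hy =>
      obtain ⟨a, rfl⟩ := hy
      exact h b a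
    | zero => rw [TensorProduct.tmul_zero, map_zero, map_zero]
    | add y z _ _ hy hz => rw [TensorProduct.tmul_add, map_add, map_add, hy, hz]
    | smul a y _ hy =>
      have : b ⊗ₜ[A] (a • y) = (a • b) ⊗ₜ[A] y := (TensorProduct.smul_tmul a b y).symm
      rw [this]
      exact hy _

/-- Functions version. -/
theorem tensor_kaehler_ext' (g₁ g₂ : B ⊗[A] Ω[A⁄R] →ₗ[B] M)
    (h : ∀ (b : B) (a : A), g₁ (b ⊗ₜ KaehlerDifferential.D R A a) =
      g₂ (b ⊗ₜ KaehlerDifferential.D R A a)) (x : B ⊗[A] Ω[A⁄R]) : g₁ x = g₂ x := by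
  rw [tensor_kaehler_ext g₁ g₂ h]

end ext

section tower
variable (R A B : Type*) [CommRing R] [CommRing A] [CommRing B] [Algebra R A] [Algebra A B]
  [Algebra R B] [IsScalarTower R A B]

theorem mapBaseChange_surjective_iff :
    Function.Surjective (KaehlerDifferential.mapBaseChange R A B) ↔ Subsingleton Ω[B⁄A] := by
  constructor
  · intro hs
    refine ⟨fun a b => ?_⟩
    have h0 : ∀ ω : Ω[B⁄A], ω = 0 := by
      intro ω
      obtain ⟨ω₀, rfl⟩ := KaehlerDifferential.map_surjective R A B ω
      obtain ⟨t, rfl⟩ := hs ω₀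
      exact (KaehlerDifferential.exact_mapBaseChange_map R A B _).mpr ⟨t, rfl⟩
    rw [h0 a, h0 b]
  · intro hs ω
    exact (KaehlerDifferential.exact_mapBaseChange_map R A B ω).mp (Subsingleton.elim _ _)

/-- A map with the values of `mapBaseChange` is `mapBaseChange`. -/
theorem eq_mapBaseChange (κ : B ⊗[A] Ω[A⁄R] →ₗ[B] Ω[B⁄R])
    (h : ∀ (b : B) (a : A), κ (b ⊗ₜ KaehlerDifferential.D R A a) =
      b • KaehlerDifferential.D R B (algebraMap A B a)) :
    κ = KaehlerDifferential.mapBaseChange R A B := by
  apply tensor_kaehler_ext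
  intro b a
  rw [h, KaehlerDifferential.mapBaseChange_tmul, KaehlerDifferential.map_D]

end tower

end Groth.Agent.Helper19.OmegaAlg
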