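import Mathlib
import Groth.Agent.Helper19.OmegaAlg
set_option autoImplicit false
universe u

open scoped TensorProduct

/-! # More algebra lemmas on Kähler differentials -/

namespace Groth.Agent.Helper19.OmegaAlg

section etale
variable (R A R' A' : Type*) [CommRing R] [CommRing A] [CommRing R'] [CommRing A']
  [Algebra R A] [Algebra R R'] [Algebra A A'] [Algebra R' A'] [Algebra R A']
  [IsScalarTower R A A'] [IsScalarTower R R' A']

theorem map_bijective_of_formallyUnramified [Algebra.FormallyUnramified R R'] :
    Function.Bijective (KaehlerDifferential.map R R' A' A') := by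
  refine ⟨?_, KaehlerDifferential.map_surjective R R' A'⟩
  rw [injective_iff_map_eq_zero]
  intro ω hω
  obtain ⟨t, rfl⟩ := (KaehlerDifferential.exact_mapBaseChange_map R R' A' ω).mp hω
  clear hω
  have ht : t = 0 := by
    induction t using TensorProduct.induction_on with
    | zero => rfl
    | add x y hx hy => rw [hx, hy, add_zero]
    | tmul b ω' => rw [Subsingleton.elim ω' 0, TensorProduct.tmul_zero]
  rw [ht, map_zero]

theorem bijective_of_formallyEtale [Algebra.FormallyEtale A A'] [Algebra.FormallyUnramified R R']
    (κ : A' ⊗[A] Ω[A⁄R] →ₗ[A'] Ω[A'⁄R'])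
    (h : ∀ (a' : A') (a : A), κ (a' ⊗ₜ KaehlerDifferential.D R A a) =
      a' • KaehlerDifferential.D R' A' (algebraMap A A' a)) :
    Function.Bijective κ := by
  have hκ : κ = (KaehlerDifferential.map R R' A' A') ∘ₗ
      (KaehlerDifferential.tensorKaehlerEquivOfFormallyEtale R A A').toLinearMap := by
    apply tensor_kaehler_ext
    intro a' a
    rw [h, LinearMap.comp_apply, LinearEquiv.coe_coe,
      KaehlerDifferential.tensorKaehlerEquivOfFormallyEtale_apply,
      KaehlerDifferential.mapBaseChange_tmul, map_smul, KaehlerDifferential.map_D,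
      KaehlerDifferential.map_D]
    rfl
  rw [hκ]
  exact (map_bijective_of_formallyUnramified R R' A').comp
    (KaehlerDifferential.tensorKaehlerEquivOfFormallyEtale R A A').bijective

end etale

end Groth.Agent.Helper19.OmegaAlg
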