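import Mathlib
import Groth.Agent.Helper19.OmegaAlg2
set_option autoImplicit false
universe u

open scoped TensorProduct

namespace Groth.Agent.Helper19.OmegaAlg

section conormal
variable (R A B : Type*) [CommRing R] [CommRing A] [CommRing B] [Algebra R A] [Algebra A B]
  [Algebra R B] [IsScalarTower R A B]

theorem mapBaseChange_eq_zero_iff (h : Function.Surjective (algebraMap A B))
    (t : B ⊗[A] Ω[A⁄R]) :
    KaehlerDifferential.mapBaseChange R A B t = 0 ↔
      ∃ x : A, algebraMap A B x = 0 ∧ t = (1 : B) ⊗ₜ[A] KaehlerDifferential.D R A x := by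
  rw [KaehlerDifferential.exact_kerCotangentToTensor_mapBaseChange R A B h t]
  constructor
  · rintro ⟨y, rfl⟩
    obtain ⟨x, rfl⟩ := Ideal.toCotangent_surjective _ y
    exact ⟨x.1, RingHom.mem_ker.mp x.2, KaehlerDifferential.kerCotangentToTensor_toCotangent R A B x⟩
  · rintro ⟨x, hx, rfl⟩
    exact ⟨Ideal.toCotangent _ ⟨x, RingHom.mem_ker.mpr hx⟩,
      KaehlerDifferential.kerCotangentToTensor_toCotangent R A B _⟩

end conormal

end Groth.Agent.Helper19.OmegaAlg
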