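import Mathlib
import Groth.Prelude.Def_Omega4
import Groth.Agent.Helper19.OmegaD3
set_option autoImplicit false
set_option linter.style.haveILetI false
set_option linter.unusedSectionVars false
universe u

open CategoryTheory CategoryTheory.Limits AlgebraicGeometry Opposite TopologicalSpace

/-! # Restriction of universal derivations to open subschemes -/

namespace Groth.Agent.Helper19.OmegaD

open Groth.Agent.Lib.Helper29.QCoh

variable {X Y U V : Scheme.{u}} (f : X ⟶ Y) (j : U ⟶ X) [IsOpenImmersion j] (i : V ⟶ Y)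
  [IsOpenImmersion i] (g : U ⟶ V) (hsq : j ≫ f = g ≫ i)

include hsq in
theorem image_preimage_le_sq (T : V.Opens) : j ''ᵁ (g ⁻¹ᵁ T) ≤ f ⁻¹ᵁ (i ''ᵁ T) := by
  rintro _ ⟨y, hy, rfl⟩
  change f (j y) ∈ i ''ᵁ T
  rw [← Scheme.Hom.comp_apply, hsq, Scheme.Hom.comp_apply]
  exact ⟨g y, hy, rfl⟩

theorem appLE_congr {P Q : Scheme.{u}} {q q' : P ⟶ Q} (h : q = q') {A : Q.Opens} {B : P.Opens}
    (e : B ≤ q ⁻¹ᵁ A) (e' : B ≤ q' ⁻¹ᵁ A) : q.appLE A B e = q'.appLE A B e' := by
  subst h; rfl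

include hsq in
theorem key_sq_hom (T : V.Opens) :
    (i.appIso T).inv ≫ f.app (i ''ᵁ T) ≫
      X.presheaf.map (homOfLE (image_preimage_le_sq f j i g hsq T)).op ≫
        (j.appIso (g ⁻¹ᵁ T)).hom = g.app T := by
  rw [Scheme.Hom.appIso_hom', Scheme.Hom.map_appLE, Scheme.Hom.app_eq_appLE,
    Scheme.Hom.appLE_comp_appLE]
  have h1 : (j ≫ f).appLE (i ''ᵁ T) (g ⁻¹ᵁ T)
      (by
        intro y hy
        change f (j y) ∈ i ''ᵁ T
        rw [← Scheme.Hom.comp_apply, hsq, Scheme.Hom.comp_apply]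
        exact ⟨g y, hy, rfl⟩) =
      (g ≫ i).appLE (i ''ᵁ T) (g ⁻¹ᵁ T)
        (by intro y hy; exact ⟨g y, hy, rfl⟩) := appLE_congr hsq _ _
  rw [h1, ← Scheme.Hom.appLE_comp_appLE g i (i ''ᵁ T) T (g ⁻¹ᵁ T) (i.preimage_image_eq T).ge le_rfl,
    ← Scheme.Hom.appIso_hom', Iso.inv_hom_id_assoc, Scheme.Hom.appLE_eq_app]

include hsq in
theorem key_sq (T : V.Opens) (c : Γ(V, T)) :
    (j.appIso (g ⁻¹ᵁ T)).inv (g.app T c) =
      X.presheaf.map (homOfLE (image_preimage_le_sq f j i g hsq T)).op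
        (f.app (i ''ᵁ T) ((i.appIso T).inv c)) := by
  have h := key_sq_hom f j i g hsq T
  have h2 := congrArg (fun k => (k ≫ (j.appIso (g ⁻¹ᵁ T)).inv).hom c) h
  simp only [Category.assoc, Iso.hom_inv_id, Category.comp_id] at h2
  exact h2.symm

/-- Values of a derivation vanish on functions coming from the base, in `appLE` form. -/
theorem der_appLE' {Ω : X.Modules} (d : OmegaSh.Der f Ω) {W : X.Opens} {T : Y.Opens}
    (h : W ≤ f ⁻¹ᵁ T) (c : Γ(Y, T)) :
    d.app W (X.presheaf.map (homOfLE h).op (f.app T c)) = 0 := by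
  have h1 := d.d_map (X := op (f ⁻¹ᵁ T)) (Y := op W) (homOfLE h).op (f.app T c)
  have h2 : d.d (X := op (f ⁻¹ᵁ T)) (f.app T c) = 0 := d.d_app (X := op T) c
  rw [h2, map_zero] at h1
  exact h1

/-- The restriction of a derivation along open immersions of source and base. -/
noncomputable def restrictDer {Ω : X.Modules} (d : OmegaSh.Der f Ω) :
    OmegaSh.Der g (Ω.restrict j) where
  d {W} := (d.app (j ''ᵁ W.unop)).comp ((j.appIso W.unop).inv.hom : Γ(U, W.unop) →+* _).toAddMonoidHom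
  d_mul {W} a b := by
    change d.app (j ''ᵁ W.unop) ((j.appIso W.unop).inv (a * b)) = _
    rw [map_mul]
    exact d.d_mul (X := op (j ''ᵁ W.unop)) _ _
  d_map {W W'} k x := by
    change d.app (j ''ᵁ W'.unop) ((j.appIso W'.unop).inv (U.presheaf.map k x)) = _
    have h1 := congrArg (fun q => q.hom x) (j.appIso_inv_naturality k)
    change (j.appIso W'.unop).inv (U.presheaf.map k x) = _ at h1
    rw [h1]
    exact d.d_map (X := op (j ''ᵁ W.unop)) (Y := op (j ''ᵁ W'.unop)) _ _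
  d_app {T} c := by
    change d.app (j ''ᵁ (g ⁻¹ᵁ T.unop)) ((j.appIso (g ⁻¹ᵁ T.unop)).inv (g.app T.unop c)) = 0
    rw [key_sq f j i g hsq]
    exact der_appLE' f d _ _

theorem restrictDer_app {Ω : X.Modules} (d : OmegaSh.Der f Ω) (W : U.Opens) (s : Γ(U, W)) :
    (restrictDer f j i g hsq d).app W s = d.app (j ''ᵁ W) ((j.appIso W).inv s) := rfl

theorem der_congr_zero {F' : U.Modules} {k k' : U ⟶ Y} (h : k = k') (T : Y.Opens) (c : Γ(Y, T))
    (φ : ∀ W : U.Opens, Γ(U, W) →+ Γ(F', W))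
    (h0 : φ (k' ⁻¹ᵁ T) (k'.app T c) = 0) : φ (k ⁻¹ᵁ T) (k.app T c) = 0 := by
  subst h; exact h0

/-- The derivation of `O_X` into `j_* F'` induced by a derivation of `O_U` into `F'`. -/
noncomputable def pushDer {F' : U.Modules} (D' : OmegaSh.Der g F') :
    OmegaSh.Der f ((Scheme.Modules.pushforward j).obj F') where
  d {W} := (D'.app (j ⁻¹ᵁ W.unop)).comp ((j.app W.unop).hom : Γ(X, W.unop) →+* _).toAddMonoidHom
  d_mul {W} a b := by
    change D'.app (j ⁻¹ᵁ W.unop) (j.app W.unop (a * b)) = _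
    rw [map_mul]
    exact D'.d_mul (X := op (j ⁻¹ᵁ W.unop)) _ _
  d_map {W W'} k x := by
    change D'.app (j ⁻¹ᵁ W'.unop) (j.app W'.unop (X.presheaf.map k x)) = _
    have h1 := congrArg (fun q => q.hom x) (j.naturality k)
    change j.app W'.unop (X.presheaf.map k x) = _ at h1
    rw [h1]
    exact D'.d_map (X := op (j ⁻¹ᵁ W.unop)) (Y := op (j ⁻¹ᵁ W'.unop)) _ _
  d_app {T} c := by
    change D'.app (j ⁻¹ᵁ (f ⁻¹ᵁ T.unop)) (j.app (f ⁻¹ᵁ T.unop) (f.app T.unop c)) = 0
    refine der_congr_zero hsq T.unop c (fun W => D'.app W) ?_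
    exact D'.d_app (X := op (i ⁻¹ᵁ T.unop)) (i.app T.unop c)

theorem pushDer_app {F' : U.Modules} (D' : OmegaSh.Der g F') (W : X.Opens) (s : Γ(X, W)) :
    (pushDer f j i g hsq D').app W s = D'.app (j ⁻¹ᵁ W) (j.app W s) := rfl

theorem der_ext {P Q : Scheme.{u}} {q : P ⟶ Q} {F : P.Modules} (D₁ D₂ : OmegaSh.Der q F)
    (h : ∀ (W : P.Opens) (s : Γ(P, W)), D₁.app W s = D₂.app W s) : D₁ = D₂ := by
  apply PresheafOfModules.Derivation.ext
  funext W
  ext s
  exact h W.unop s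

theorem postcomp_app {P Q : Scheme.{u}} {q : P ⟶ Q} {F G : P.Modules} (D : OmegaSh.Der q F)
    (α : F ⟶ G) (W : P.Opens) (s : Γ(P, W)) :
    OmegaSh.Der.app (D.postcomp α.val) W s = α.app W (D.app W s) := rfl

theorem isUniversal_restrictDer {Ω : X.Modules} (d : OmegaSh.Der f Ω)
    (hd : OmegaSh.IsUniversal d) : OmegaSh.IsUniversal (restrictDer f j i g hsq d) := by
  intro F' D'
  obtain ⟨β, hβ, hβu⟩ := hd _ (pushDer f j i g hsq D')
  have hβ' : ∀ (W : X.Opens) (s : Γ(X, W)),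
      β.app W (d.app W s) = D'.app (j ⁻¹ᵁ W) (j.app W s) := fun W s => by
    rw [← postcomp_app, hβ, pushDer_app]
  let adj := Scheme.Modules.restrictAdjunction j
  have hαf : ∀ (γ : Ω ⟶ (Scheme.Modules.pushforward j).obj F') (W : U.Opens)
      (m : Γ(Ω.restrict j, W)),
      ((adj.homEquiv Ω F').symm γ).app W m =
        F'.presheaf.map (eqToHom (j.preimage_image_eq W).symm).op (γ.app (j ''ᵁ W) m) := by
    intro γ W m
    rw [Adjunction.homEquiv_counit]
    rfl
  have hβf : ∀ (α' : Ω.restrict j ⟶ F') (W : X.Opens) (m : Γ(Ω, W)),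
      (adj.homEquiv Ω F' α').app W m =
        α'.app (j ⁻¹ᵁ W) (Ω.presheaf.map (homOfLE (j.image_preimage_le W)).op m) := by
    intro α' W m
    rw [Adjunction.homEquiv_unit]
    rfl
  refine ⟨(adj.homEquiv Ω F').symm β, ?_, ?_⟩
  · apply der_ext
    intro W s
    rw [postcomp_app, hαf, restrictDer_app, hβ']
    have h1 : j.app (j ''ᵁ W) ((j.appIso W).inv s) =
        U.presheaf.map (eqToHom (j.preimage_image_eq W)).op s :=
      congrArg (fun k => k.hom s) (j.appIso_inv_app W)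
    rw [h1]
    have h2 := D'.d_map (X := op W) (Y := op (j ⁻¹ᵁ j ''ᵁ W))
      (eqToHom (j.preimage_image_eq W)).op s
    change D'.app (j ⁻¹ᵁ j ''ᵁ W) (U.presheaf.map (eqToHom (j.preimage_image_eq W)).op s) =
      F'.presheaf.map (eqToHom (j.preimage_image_eq W)).op (D'.app W s) at h2
    rw [h2, ← ConcreteCategory.comp_apply, ← Functor.map_comp, ← op_comp, eqToHom_trans,
      eqToHom_refl, op_id, F'.presheaf.map_id]
    rfl
  · intro α' hα'
    have hα'' : ∀ (W : U.Opens) (s : Γ(U, W)),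
        α'.app W ((restrictDer f j i g hsq d).app W s) = D'.app W s := fun W s => by
      rw [← postcomp_app, hα']
    have h3 : adj.homEquiv Ω F' α' = β := by
      apply hβu
      apply der_ext
      intro W s
      rw [postcomp_app, hβf, pushDer_app, ← hα'', restrictDer_app]
      have h4 := d.d_map (X := op W) (Y := op (j ''ᵁ j ⁻¹ᵁ W))
        (homOfLE (j.image_preimage_le W)).op s
      change d.app (j ''ᵁ j ⁻¹ᵁ W) (X.presheaf.map (homOfLE (j.image_preimage_le W)).op s) =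
        Ω.presheaf.map (homOfLE (j.image_preimage_le W)).op (d.app W s) at h4
      rw [← h4]
      have h5 : (j.appIso (j ⁻¹ᵁ W)).inv (j.app W s) =
          X.presheaf.map (homOfLE (j.image_preimage_le W)).op s :=
        congrArg (fun k => k.hom s) (j.app_appIso_inv W)
      rw [h5]
    rw [← h3, Equiv.symm_apply_apply]

end Groth.Agent.Helper19.OmegaD
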