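import Mathlib
import Groth.Agent.Lib.Helper29.QCohOmega
set_option autoImplicit false
set_option linter.style.haveILetI false
set_option linter.unusedSectionVars false
universe u

open CategoryTheory CategoryTheory.Limits AlgebraicGeometry Opposite TopologicalSpace
open scoped TensorProduct
open TensorProduct

/-! # Local structure of `Omega.sheaf f`

For `f : X ⟶ S` quasi-separated, `U ⊆ X`, `V ⊆ S` affine opens with `f U ⊆ V`:
`Γ(Ω_{X/S}, U) ≃ Ω[Γ(X,U)⁄Γ(S,V)]` as `Γ(X,U)`-modules. -/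

namespace Groth.Agent.Helper19.OmegaLocal

open Groth.Agent.Lib.Helper29.QCoh

variable {X S : Scheme.{u}} (f : X ⟶ S) {U : X.Opens} (hU : IsAffineOpen U) {V : S.Opens}
  (hV : IsAffineOpen V) (e : U ≤ f ⁻¹ᵁ V)

/-- The algebra structure on `Γ(X,U)` over `Γ(S,V)`. -/
@[reducible] noncomputable def algΓ : Algebra Γ(S, V) Γ(X, U) := (f.appLE V U e).hom.toAlgebra

section

/-- `Spec A ×_{Spec R} Spec A ⟶ X ×_S X`. -/
noncomputable def mMap :
    letI := algΓ f e
    pullback (specMapAlg Γ(S, V) Γ(X, U)) (specMapAlg Γ(S, V) Γ(X, U)) ⟶ pullback f f :=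
  letI := algΓ f e
  pullback.map (specMapAlg Γ(S, V) Γ(X, U)) (specMapAlg Γ(S, V) Γ(X, U)) f f
    hU.fromSpec hU.fromSpec hV.fromSpec
    (IsAffineOpen.SpecMap_appLE_fromSpec f hV hU e)
    (IsAffineOpen.SpecMap_appLE_fromSpec f hV hU e)

instance : IsOpenImmersion (mMap f hU hV e) := by
  unfold mMap
  infer_instance

lemma mMap_fst :
    letI := algΓ f e
    mMap f hU hV e ≫ pullback.fst f f =
      pullback.fst (specMapAlg Γ(S, V) Γ(X, U)) (specMapAlg Γ(S, V) Γ(X, U)) ≫ hU.fromSpec := by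
  letI := algΓ f e
  unfold mMap
  rw [pullback.lift_fst]

lemma diag_mMap :
    letI := algΓ f e
    diagSpec Γ(S, V) Γ(X, U) ≫ mMap f hU hV e = hU.fromSpec ≫ pullback.diagonal f := by
  letI := algΓ f e
  unfold mMap
  apply pullback.hom_ext
  · rw [Category.assoc, pullback.lift_fst, pullback.diagonal_fst_assoc, Category.assoc,
      pullback.diagonal_fst, Category.comp_id]
  · rw [Category.assoc, pullback.lift_snd, pullback.diagonal_snd_assoc, Category.assoc,
      pullback.diagonal_snd, Category.comp_id]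

/-- The affine open `U ×_V U` of `X ×_S X`. -/
noncomputable def WOpen : (pullback f f).Opens := (mMap f hU hV e) ''ᵁ ⊤

lemma isAffineOpen_WOpen : IsAffineOpen (WOpen f hU hV e) := by
  letI := algΓ f e
  exact (isAffineOpen_top _).image_of_isOpenImmersion (mMap f hU hV e)

lemma preimage_WOpen : (pullback.diagonal f) ⁻¹ᵁ (WOpen f hU hV e) = U := by
  letI := algΓ f e
  apply le_antisymm
  · intro x hx
    obtain ⟨q, -, hq⟩ := hx
    have hq' : (mMap f hU hV e) q = (pullback.diagonal f) x := hq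
    have h1 : (pullback.fst f f) ((pullback.diagonal f) x) = x := by
      rw [← Scheme.Hom.comp_apply, pullback.diagonal_fst]
      rfl
    have h2 : (pullback.fst f f) ((mMap f hU hV e) q) =
        hU.fromSpec ((pullback.fst (specMapAlg Γ(S, V) Γ(X, U)) (specMapAlg Γ(S, V) Γ(X, U))) q) := by
      rw [← Scheme.Hom.comp_apply, ← Scheme.Hom.comp_apply, mMap_fst]
    rw [← h1, ← hq', h2]
    have := hU.range_fromSpec
    rw [← SetLike.mem_coe, ← this]
    exact ⟨_, rfl⟩
  · intro x hx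
    have := hU.range_fromSpec
    rw [← SetLike.mem_coe, ← this] at hx
    obtain ⟨y, rfl⟩ := hx
    refine ⟨(diagSpec Γ(S, V) Γ(X, U)) y, trivial, ?_⟩
    change (mMap f hU hV e) ((diagSpec Γ(S, V) Γ(X, U)) y) = (pullback.diagonal f) (hU.fromSpec y)
    rw [← Scheme.Hom.comp_apply, ← Scheme.Hom.comp_apply, diag_mMap]

lemma le_preimage_WOpen : U ≤ (pullback.diagonal f) ⁻¹ᵁ (WOpen f hU hV e) :=
  (preimage_WOpen f hU hV e).ge

/-- `Γ(X×_S X, W) ≅ A ⊗_R A`. -/
noncomputable def θIso :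
    letI := algΓ f e
    Γ(pullback f f, WOpen f hU hV e) ≅ CommRingCat.of (Γ(X, U) ⊗[Γ(S, V)] Γ(X, U)) :=
  letI := algΓ f e
  (mMap f hU hV e).appIso ⊤ ≪≫ ΓPullbackIso Γ(S, V) Γ(X, U)

lemma fromSpec_appLE_top :
    hU.fromSpec.appLE U ⊤ (hU.fromSpec_preimage_self).ge = (Scheme.ΓSpecIso Γ(X, U)).inv := by
  rw [Scheme.Hom.appLE, hU.fromSpec_app_self, Category.assoc, ← Functor.map_comp]
  convert Category.comp_id _
  exact (Spec Γ(X, U)).presheaf.map_id _

lemma appLE_congr_hom {X Y : Scheme.{u}} {f g : X ⟶ Y} (h : f = g) (U : Y.Opens) (V : X.Opens)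
    (e₁ : V ≤ f ⁻¹ᵁ U) (e₂ : V ≤ g ⁻¹ᵁ U) : f.appLE U V e₁ = g.appLE U V e₂ := by
  subst h
  rfl

lemma appLE_diag_eq :
    letI := algΓ f e
    (pullback.diagonal f).appLE (WOpen f hU hV e) U (le_preimage_WOpen f hU hV e) =
      (θIso f hU hV e).hom ≫ CommRingCat.ofHom
        (Algebra.TensorProduct.lmul' Γ(S, V) :
          Γ(X, U) ⊗[Γ(S, V)] Γ(X, U) →ₐ[Γ(S, V)] Γ(X, U)).toRingHom := by
  letI := algΓ f e
  have h1 : (pullback.diagonal f).appLE (WOpen f hU hV e) U (le_preimage_WOpen f hU hV e) ≫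
      hU.fromSpec.appLE U ⊤ (hU.fromSpec_preimage_self).ge =
      ((mMap f hU hV e).appIso ⊤).hom ≫ (diagSpec Γ(S, V) Γ(X, U)).appTop := by
    have a := Scheme.Hom.appLE_comp_appLE hU.fromSpec (pullback.diagonal f) (WOpen f hU hV e) U ⊤
      (le_preimage_WOpen f hU hV e) (hU.fromSpec_preimage_self).ge
    have b := Scheme.Hom.appLE_comp_appLE (diagSpec Γ(S, V) Γ(X, U)) (mMap f hU hV e)
      ((mMap f hU hV e) ''ᵁ ⊤) ⊤ ⊤ ((mMap f hU hV e).preimage_image_eq ⊤).ge le_top
    rw [Scheme.Hom.appIso_hom']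
    have c : (diagSpec Γ(S, V) Γ(X, U)).appTop =
        (diagSpec Γ(S, V) Γ(X, U)).appLE ⊤ ⊤ le_top := by
      rw [Scheme.Hom.appTop, Scheme.Hom.app_eq_appLE]
      rfl
    rw [c]
    refine a.trans (Eq.trans ?_ b.symm)
    exact appLE_congr_hom (diag_mMap f hU hV e).symm _ _ _ _
  rw [fromSpec_appLE_top] at h1
  have h2 := ΓPullbackIso_comm Γ(S, V) Γ(X, U)
  have h3 : (pullback.diagonal f).appLE (WOpen f hU hV e) U (le_preimage_WOpen f hU hV e) =
      (((mMap f hU hV e).appIso ⊤).hom ≫ (diagSpec Γ(S, V) Γ(X, U)).appTop) ≫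
        (Scheme.ΓSpecIso Γ(X, U)).hom := by
    have h4 := congrArg (fun k => k ≫ (Scheme.ΓSpecIso Γ(X, U)).hom) h1
    simp only [Category.assoc, Iso.inv_hom_id, Category.comp_id] at h4
    exact h4
  rw [h3, Category.assoc]
  erw [h2]
  rw [θIso, Iso.trans_hom, Category.assoc]
  rfl

set_option maxRecDepth 8000 in
include hU hV in
theorem exists_addEquiv_sections_omega [QuasiSeparated f] :
    letI := algΓ f e
    ∃ E : Γ(Omega.sheaf f, U) ≃+ Ω[Γ(X, U)⁄Γ(S, V)],
      ∀ (c : Γ(X, U)) (s : Γ(Omega.sheaf f, U)), E (c • s) = c • E s := by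
  letI := algΓ f e
  have hW := isAffineOpen_WOpen f hU hV e
  have e' := le_preimage_WOpen f hU hV e
  have hpre := preimage_WOpen f hU hV e
  let _ : Algebra Γ(pullback f f, WOpen f hU hV e) Γ(X, U) :=
    ((pullback.diagonal f).appLE (WOpen f hU hV e) U e').hom.toAlgebra
  have halg : ∀ b : Γ(pullback f f, WOpen f hU hV e),
      algebraMap Γ(pullback f f, WOpen f hU hV e) Γ(X, U) b =
        ((pullback.diagonal f).appLE (WOpen f hU hV e) U e').hom b := fun b => rfl
  have hiso : IsIso (X.presheaf.map (homOfLE e').op) := by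
    have : homOfLE e' = eqToHom hpre.symm := Subsingleton.elim _ _
    rw [this]
    infer_instance
  have hker : (pullback.diagonal f).ker.ideal ⟨WOpen f hU hV e, hW⟩ =
      RingHom.ker (algebraMap Γ(pullback f f, WOpen f hU hV e) Γ(X, U)) := by
    rw [Scheme.Hom.ker_apply]
    ext b
    rw [RingHom.mem_ker, RingHom.mem_ker, halg]
    change _ ↔ (X.presheaf.map (homOfLE e').op).hom
      (((pullback.diagonal f).app (WOpen f hU hV e)).hom b) = 0
    rw [map_eq_zero_iff _ (ConcreteCategory.bijective_of_isIso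
      (X.presheaf.map (homOfLE e').op)).injective]
  let θ : Γ(pullback f f, WOpen f hU hV e) ≃+* Γ(X, U) ⊗[Γ(S, V)] Γ(X, U) :=
    (θIso f hU hV e).commRingCatIsoToRingEquiv
  obtain ⟨E, hE⟩ := exists_equiv_kaehler Γ(S, V) Γ(X, U) θ (RingEquiv.refl Γ(X, U))
    (fun b => by
      rw [halg]
      exact congrArg (fun k => k.hom b) (appLE_diag_eq f hU hV e))
    (idealModSectionsEquiv (pullback.diagonal f).ker ⟨WOpen f hU hV e, hW⟩ ≪≫ₗ
      LinearEquiv.ofEq _ _ hker)
  refine ⟨(pullbackSectionsEquiv (pullback.diagonal f)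
    (ClSub.idealMod (pullback.diagonal f).ker) hU hW e').toAddEquiv.trans E, fun c s => ?_⟩
  have h := (pullbackSectionsEquiv (pullback.diagonal f)
    (ClSub.idealMod (pullback.diagonal f).ker) hU hW e').map_smul c s
  have h2 := hE c (pullbackSectionsEquiv (pullback.diagonal f)
    (ClSub.idealMod (pullback.diagonal f).ker) hU hW e' s)
  rw [← h] at h2
  exact h2

include hU hV in
/-- Sections of `Ω_{X/S}` over an affine open `U` mapping into an affine open `V`. -/
theorem nonempty_linearEquiv_sections_omega [QuasiSeparated f] :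
    letI := algΓ f e
    Nonempty (Γ(Omega.sheaf f, U) ≃ₗ[Γ(X, U)] Ω[Γ(X, U)⁄Γ(S, V)]) := by
  letI := algΓ f e
  obtain ⟨E, hE⟩ := exists_addEquiv_sections_omega f hU hV e
  exact ⟨{ E with map_smul' := fun c s => hE c s }⟩

end

end Groth.Agent.Helper19.OmegaLocal
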