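import Mathlib
import Groth.Agent.Helper19.OmegaLocal
import Groth.Agent.Helper19.PullUnit
set_option autoImplicit false
set_option linter.style.haveILetI false
set_option linter.unusedSectionVars false
universe u

open CategoryTheory CategoryTheory.Limits AlgebraicGeometry Opposite TopologicalSpace
open scoped TensorProduct
open TensorProduct

/-! # The local identification `Γ(Ω_{X/S}, U) ≃ Ω[Γ(X,U)⁄Γ(S,V)]` is compatible with `d` -/

namespace Groth.Agent.Helper19.OmegaD

open Groth.Agent.Lib.Helper29.QCoh Groth.Agent.Helper19.OmegaLocal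

section Algebra

/-- For a surjective ring map `ψ : B → C` with kernel `I₀`, `C ⊗_B N ≃ I₀/I₀²` when `N ≃ I₀`,
with the value on `1 ⊗ n`. -/
theorem exists_tensor_ker_equiv_cotangent' {B C : Type*} [CommRing B] [CommRing C] [Algebra B C]
    (hψ : Function.Surjective (algebraMap B C))
    {N : Type*} [AddCommGroup N] [Module B N] (eN : N ≃ₗ[B] RingHom.ker (algebraMap B C)) :
    ∃ F : (C ⊗[B] N) ≃ₗ[B] (RingHom.ker (algebraMap B C)).Cotangent,
      ∀ n : N, F ((1 : C) ⊗ₜ[B] n) = (RingHom.ker (algebraMap B C)).toCotangent (eN n) := by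
  let I₀ : Ideal B := RingHom.ker (algebraMap B C)
  have hsurj : Function.Surjective (Algebra.ofId B C) := hψ
  let e1 : (B ⧸ RingHom.ker (Algebra.ofId B C)) ≃ₐ[B] C :=
    Ideal.quotientKerAlgEquivOfSurjective hsurj
  let e2 : (B ⧸ I₀) ≃ₗ[B] C := e1.toLinearEquiv
  refine ⟨TensorProduct.congr e2.symm eN ≪≫ₗ TensorProduct.quotTensorEquivQuotSMul I₀ I₀, ?_⟩
  intro n
  have h1 : e2.symm (1 : C) = Ideal.Quotient.mk I₀ 1 := by
    change e1.symm 1 = _
    rw [map_one]
    rfl
  rw [LinearEquiv.trans_apply, TensorProduct.congr_tmul, h1]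
  refine Eq.trans (TensorProduct.quotTensorEquivQuotSMul_mk_tmul I₀ 1 (eN n)) ?_
  rw [one_smul]
  rfl

/-- The algebra behind `Ω_{Spec A/Spec R} = Ω_{A/R}~`, with the value on `1 ⊗ n`. -/
theorem exists_equiv_kaehler' (R A : Type*) [CommRing R] [CommRing A] [Algebra R A]
    {B C : Type*} [CommRing B] [CommRing C] [Algebra B C]
    (θ : B ≃+* A ⊗[R] A) (γ : C ≃+* A)
    (hcomm : ∀ b, γ (algebraMap B C b) = Algebra.TensorProduct.lmul' R (θ b))
    {N : Type*} [AddCommGroup N] [Module B N] (eN : N ≃ₗ[B] RingHom.ker (algebraMap B C)) :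
    ∃ E : (C ⊗[B] N) ≃+ Ω[A⁄R], (∀ (c : C) (x : C ⊗[B] N), E (c • x) = γ c • E x) ∧
      ∀ (n : N) (a : A), θ (eN n : B) = 1 ⊗ₜ[R] a - a ⊗ₜ[R] 1 →
        E ((1 : C) ⊗ₜ[B] n) = KaehlerDifferential.D R A a := by
  have hψ : Function.Surjective (algebraMap B C) := by
    intro c
    refine ⟨θ.symm ((γ c) ⊗ₜ[R] (1 : A)), γ.injective ?_⟩
    rw [hcomm, θ.apply_symm_apply]
    simp
  obtain ⟨F, hF⟩ := exists_tensor_ker_equiv_cotangent' hψ eN
  have hI : RingHom.ker (algebraMap B C) =
      (KaehlerDifferential.ideal R A).comap (θ : B →+* A ⊗[R] A) := by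
    ext b
    rw [RingHom.mem_ker, Ideal.mem_comap, KaehlerDifferential.ideal, RingHom.mem_ker]
    change _ ↔ Algebra.TensorProduct.lmul' R (θ b) = 0
    rw [← hcomm, map_eq_zero_iff γ γ.injective]
  -- transport of cotangent spaces, explicit
  let θa : B →ₐ[ℤ] A ⊗[R] A := (θ : B →+* A ⊗[R] A).toIntAlgHom
  let θb : A ⊗[R] A →ₐ[ℤ] B := (θ.symm : A ⊗[R] A →+* B).toIntAlgHom
  let I₀ : Ideal B := RingHom.ker (algebraMap B C)
  let K : Ideal (A ⊗[R] A) := KaehlerDifferential.ideal R A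
  have h1 : I₀ ≤ K.comap θa := hI.le
  have h2 : K ≤ I₀.comap θb := by
    intro t ht
    change t ∈ (RingHom.ker (algebraMap B C)).comap θb
    rw [hI]
    change θ (θ.symm t) ∈ K
    rw [θ.apply_symm_apply]
    exact ht
  let f := Ideal.mapCotangent I₀ K θa h1
  let g := Ideal.mapCotangent K I₀ θb h2
  have hf : ∀ x : I₀, f (I₀.toCotangent x) = K.toCotangent ⟨θ x, h1 x.2⟩ := fun x =>
    Ideal.mapCotangent_toCotangent I₀ K θa h1 x
  have hg : ∀ x : K, g (K.toCotangent x) = I₀.toCotangent ⟨θ.symm x, h2 x.2⟩ := fun x =>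
    Ideal.mapCotangent_toCotangent K I₀ θb h2 x
  let E' : I₀.Cotangent ≃+ K.Cotangent :=
    { toFun := f, invFun := g
      left_inv := by
        intro x
        obtain ⟨x, rfl⟩ := I₀.toCotangent_surjective x
        rw [hf, hg]
        congr 1
        exact Subtype.ext (θ.symm_apply_apply _)
      right_inv := by
        intro x
        obtain ⟨x, rfl⟩ := K.toCotangent_surjective x
        rw [hg, hf]
        congr 1
        exact Subtype.ext (θ.apply_symm_apply _)
      map_add' := f.map_add }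
  have hE' : ∀ (b : B) (x : I₀.Cotangent), E' (b • x) = θ b • E' x := by
    intro b x
    obtain ⟨x, rfl⟩ := I₀.toCotangent_surjective x
    change f (b • I₀.toCotangent x) = θ b • f (I₀.toCotangent x)
    rw [← map_smul, hf, hf, ← map_smul]
    congr 1
    exact Subtype.ext (map_mul θ b x)
  refine ⟨F.toAddEquiv.trans E', fun c x => ?_, fun n a hn => ?_⟩
  · obtain ⟨b, rfl⟩ := hψ c
    change E' (F (algebraMap B C b • x)) = _
    rw [algebraMap_smul, map_smul, hE', hcomm]
    exact kaehler_smul_eq R A (θ b) _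
  · change E' (F ((1 : C) ⊗ₜ[B] n)) = _
    rw [hF n]
    change f (I₀.toCotangent (eN n)) = _
    rw [hf]
    change K.toCotangent _ = (KaehlerDifferential.ideal R A).toCotangent
      ⟨1 ⊗ₜ[R] a - a ⊗ₜ[R] 1, KaehlerDifferential.one_smul_sub_smul_one_mem_ideal R a⟩
    congr 1
    exact Subtype.ext hn

end Algebra

end Groth.Agent.Helper19.OmegaD
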