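import Mathlib
import Groth.Agent.Helper19.OmegaD1
import Groth.Prelude.Def_Omega4
set_option autoImplicit false
set_option linter.style.haveILetI false
set_option linter.unusedSectionVars false
universe u

open CategoryTheory CategoryTheory.Limits AlgebraicGeometry Opposite TopologicalSpace
open scoped TensorProduct
open TensorProduct

namespace Groth.Agent.Helper19.OmegaD

open Groth.Agent.Lib.Helper29.QCoh Groth.Agent.Helper19.OmegaLocal

variable {X S : Scheme.{u}} (f : X ⟶ S) {U : X.Opens} (hU : IsAffineOpen U) {V : S.Opens}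
  (hV : IsAffineOpen V) (e : U ≤ f ⁻¹ᵁ V)

lemma mMap_snd :
    letI := algΓ f e
    mMap f hU hV e ≫ pullback.snd f f =
      pullback.snd (specMapAlg Γ(S, V) Γ(X, U)) (specMapAlg Γ(S, V) Γ(X, U)) ≫ hU.fromSpec := by
  letI := algΓ f e
  unfold mMap
  rw [pullback.lift_snd]

lemma WOpen_le_diagNbhd : WOpen f hU hV e ≤ OmegaSh.diagNbhd f U := by
  letI := algΓ f e
  rintro z ⟨y, -, rfl⟩
  constructor
  · change pullback.fst f f (mMap f hU hV e y) ∈ U
    rw [← Scheme.Hom.comp_apply, mMap_fst, Scheme.Hom.comp_apply]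
    have : hU.fromSpec (pullback.fst (specMapAlg Γ(S, V) Γ(X, U)) (specMapAlg Γ(S, V) Γ(X, U)) y) ∈
        Set.range hU.fromSpec := ⟨_, rfl⟩
    rw [hU.range_fromSpec] at this
    exact this
  · change pullback.snd f f (mMap f hU hV e y) ∈ U
    rw [← Scheme.Hom.comp_apply, mMap_snd, Scheme.Hom.comp_apply]
    have : hU.fromSpec (pullback.snd (specMapAlg Γ(S, V) Γ(X, U)) (specMapAlg Γ(S, V) Γ(X, U)) y) ∈
        Set.range hU.fromSpec := ⟨_, rfl⟩
    rw [hU.range_fromSpec] at this
    exact this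

lemma WOpen_le_fst : WOpen f hU hV e ≤ pullback.fst f f ⁻¹ᵁ U :=
  (WOpen_le_diagNbhd f hU hV e).trans inf_le_left

lemma WOpen_le_snd : WOpen f hU hV e ≤ pullback.snd f f ⁻¹ᵁ U :=
  (WOpen_le_diagNbhd f hU hV e).trans inf_le_right

lemma proj_appLE_appIso (p : pullback f f ⟶ X)
    (p' : letI := algΓ f e;
      pullback (specMapAlg Γ(S, V) Γ(X, U)) (specMapAlg Γ(S, V) Γ(X, U)) ⟶ Spec Γ(X, U))
    (hp : mMap f hU hV e ≫ p = p' ≫ hU.fromSpec) (hW : WOpen f hU hV e ≤ p ⁻¹ᵁ U) :
    p.appLE U (WOpen f hU hV e) hW ≫ ((mMap f hU hV e).appIso ⊤).hom =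
      (Scheme.ΓSpecIso Γ(X, U)).inv ≫ p'.appTop := by
  letI := algΓ f e
  rw [Scheme.Hom.appIso_hom']
  have b := Scheme.Hom.appLE_comp_appLE (mMap f hU hV e) p U ((mMap f hU hV e) ''ᵁ ⊤) ⊤ hW
    ((mMap f hU hV e).preimage_image_eq ⊤).ge
  refine b.trans ?_
  have hle : (⊤ : (pullback (specMapAlg Γ(S, V) Γ(X, U)) (specMapAlg Γ(S, V) Γ(X, U))).Opens) ≤
      (p' ≫ hU.fromSpec) ⁻¹ᵁ U := by
    intro x _
    change hU.fromSpec (p' x) ∈ U
    have : hU.fromSpec (p' x) ∈ Set.range hU.fromSpec := ⟨_, rfl⟩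
    rw [hU.range_fromSpec] at this
    exact this
  have c : (mMap f hU hV e ≫ p).appLE U ⊤ (by rw [hp]; exact hle) =
      (p' ≫ hU.fromSpec).appLE U ⊤ hle := appLE_congr_hom hp _ _ _ _
  refine c.trans ?_
  have d := Scheme.Hom.appLE_comp_appLE p' hU.fromSpec U ⊤ ⊤
    (hU.fromSpec_preimage_self).ge le_top
  refine d.symm.trans ?_
  rw [fromSpec_appLE_top]
  congr 1
  rw [Scheme.Hom.appTop, Scheme.Hom.app_eq_appLE]
  rfl

lemma fst_appLE_θ :
    letI := algΓ f e
    (pullback.fst f f).appLE U (WOpen f hU hV e) (WOpen_le_fst f hU hV e) ≫ (θIso f hU hV e).hom =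
      CommRingCat.ofHom (Algebra.TensorProduct.includeLeftRingHom :
        Γ(X, U) →+* Γ(X, U) ⊗[Γ(S, V)] Γ(X, U)) := by
  letI := algΓ f e
  rw [θIso, Iso.trans_hom, ← Category.assoc,
    proj_appLE_appIso f hU hV e _ _ (mMap_fst f hU hV e), ΓPullbackIso_hom, Category.assoc,
    ← Category.assoc _ _ (Scheme.ΓSpecIso _).hom, ← Scheme.Hom.comp_appTop, pullbackSpecIso_inv_fst,
    Scheme.ΓSpecIso_naturality]
  exact Iso.inv_hom_id_assoc (Scheme.ΓSpecIso Γ(X, U)) _

lemma snd_appLE_θ :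
    letI := algΓ f e
    (pullback.snd f f).appLE U (WOpen f hU hV e) (WOpen_le_snd f hU hV e) ≫ (θIso f hU hV e).hom =
      CommRingCat.ofHom (Algebra.TensorProduct.includeRight.toRingHom :
        Γ(X, U) →+* Γ(X, U) ⊗[Γ(S, V)] Γ(X, U)) := by
  letI := algΓ f e
  rw [θIso, Iso.trans_hom, ← Category.assoc,
    proj_appLE_appIso f hU hV e _ _ (mMap_snd f hU hV e), ΓPullbackIso_hom, Category.assoc,
    ← Category.assoc _ _ (Scheme.ΓSpecIso _).hom, ← Scheme.Hom.comp_appTop, pullbackSpecIso_inv_snd,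
    Scheme.ΓSpecIso_naturality]
  exact Iso.inv_hom_id_assoc (Scheme.ΓSpecIso Γ(X, U)) _

set_option maxRecDepth 8000 in
include hU hV in
theorem exists_addEquiv_sections_omega_D [QuasiSeparated f] :
    letI := algΓ f e
    ∃ E : Γ(Omega.sheaf f, U) ≃+ Ω[Γ(X, U)⁄Γ(S, V)],
      (∀ (c : Γ(X, U)) (s : Γ(Omega.sheaf f, U)), E (c • s) = c • E s) ∧
      ∀ b : Γ(X, U), E (OmegaSh.dSect f U b) = KaehlerDifferential.D Γ(S, V) Γ(X, U) b := by
  letI := algΓ f e
  have hW := isAffineOpen_WOpen f hU hV e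
  have e' := le_preimage_WOpen f hU hV e
  have hpre := preimage_WOpen f hU hV e
  have hWd := WOpen_le_diagNbhd f hU hV e
  let _ : Algebra Γ(pullback f f, WOpen f hU hV e) Γ(X, U) :=
    ((pullback.diagonal f).appLE (WOpen f hU hV e) U e').hom.toAlgebra
  have halg : ∀ b : Γ(pullback f f, WOpen f hU hV e),
      algebraMap Γ(pullback f f, WOpen f hU hV e) Γ(X, U) b =
        ((pullback.diagonal f).appLE (WOpen f hU hV e) U e').hom b := fun b => rfl
  have hiso : IsIso (X.presheaf.map (homOfLE e').op) := by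
    have : homOfLE e' = eqToHom hpre.symm := Subsingleton.elim _ _
    rw [this]
    infer_instance
  have hker : (pullback.diagonal f).ker.ideal ⟨WOpen f hU hV e, hW⟩ =
      RingHom.ker (algebraMap Γ(pullback f f, WOpen f hU hV e) Γ(X, U)) := by
    rw [Scheme.Hom.ker_apply]
    ext b
    rw [RingHom.mem_ker, RingHom.mem_ker, halg]
    change _ ↔ (X.presheaf.map (homOfLE e').op).hom
      (((pullback.diagonal f).app (WOpen f hU hV e)).hom b) = 0
    rw [map_eq_zero_iff _ (ConcreteCategory.bijective_of_isIso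
      (X.presheaf.map (homOfLE e').op)).injective]
  let θ : Γ(pullback f f, WOpen f hU hV e) ≃+* Γ(X, U) ⊗[Γ(S, V)] Γ(X, U) :=
    (θIso f hU hV e).commRingCatIsoToRingEquiv
  let eN := (idealModSectionsEquiv (pullback.diagonal f).ker ⟨WOpen f hU hV e, hW⟩ ≪≫ₗ
      LinearEquiv.ofEq _ _ hker)
  obtain ⟨E, hE, hED⟩ := exists_equiv_kaehler' Γ(S, V) Γ(X, U) θ (RingEquiv.refl Γ(X, U))
    (fun b => by
      rw [halg]
      exact congrArg (fun k => k.hom b) (appLE_diag_eq f hU hV e))
    eN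
  let PE := pullbackSectionsEquiv (pullback.diagonal f)
    (ClSub.idealMod (pullback.diagonal f).ker) hU hW e'
  refine ⟨PE.toAddEquiv.trans E, fun c s => ?_, fun b => ?_⟩
  · have h := PE.map_smul c s
    have h2 := hE c (PE s)
    rw [← h] at h2
    exact h2
  · -- the section of the ideal over `W`
    set n : Γ(ClSub.idealMod (pullback.diagonal f).ker, WOpen f hU hV e) :=
      res (ClSub.idealMod (pullback.diagonal f).ker) hWd (OmegaSh.idealLift f U b) with hn
    have h1 : OmegaSh.dSect f U b =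
        res ((Scheme.Modules.pullback (pullback.diagonal f)).obj
          (ClSub.idealMod (pullback.diagonal f).ker)) e'
          (pullSect (pullback.diagonal f) (ClSub.idealMod (pullback.diagonal f).ker)
            (WOpen f hU hV e) n) := by
      rw [hn, pullSect_res, res_res]
      rfl
    have h2 : PE (OmegaSh.dSect f U b) = (1 : Γ(X, U)) ⊗ₜ[Γ(pullback f f, WOpen f hU hV e)] n := by
      rw [h1]
      exact Groth.Agent.Helper19.PullUnit.pullbackSectionsEquiv_pullSect (pullback.diagonal f)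
        (ClSub.idealMod (pullback.diagonal f).ker) hU hW e' n
    change E (PE (OmegaSh.dSect f U b)) = _
    rw [h2]
    apply hED
    have h3 : ((eN n : RingHom.ker (algebraMap Γ(pullback f f, WOpen f hU hV e) Γ(X, U))) :
        Γ(pullback f f, WOpen f hU hV e)) =
        fromUnit ((ClSub.idealModι (pullback.diagonal f).ker).app (WOpen f hU hV e) n) := rfl
    have h4 : (ClSub.idealModι (pullback.diagonal f).ker).app (WOpen f hU hV e) n =
        OmegaSh.strSect (pullback f f) (WOpen f hU hV e)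
          ((pullback f f).presheaf.map (homOfLE hWd).op (OmegaSh.diagDiff f U b)) := by
      rw [hn]
      change (ClSub.idealModι (pullback.diagonal f).ker).app (WOpen f hU hV e)
        ((ClSub.idealMod (pullback.diagonal f).ker).presheaf.map (homOfLE hWd).op
          (OmegaSh.idealLift f U b)) = _
      rw [OmegaSh.idealModι_app_map, OmegaSh.ι_idealLift, ← OmegaSh.strSect_map]
    have h5 : (pullback f f).presheaf.map (homOfLE hWd).op (OmegaSh.diagDiff f U b) =
        (pullback.snd f f).appLE U (WOpen f hU hV e) (WOpen_le_snd f hU hV e) b -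
          (pullback.fst f f).appLE U (WOpen f hU hV e) (WOpen_le_fst f hU hV e) b := by
      rw [OmegaSh.diagDiff, map_sub]
      simp only [← ConcreteCategory.comp_apply, Scheme.Hom.appLE_map]
    rw [h3, h4]
    change θ ((pullback f f).presheaf.map (homOfLE hWd).op (OmegaSh.diagDiff f U b)) = _
    rw [h5, map_sub]
    have h6 : θ ((pullback.snd f f).appLE U (WOpen f hU hV e) (WOpen_le_snd f hU hV e) b) =
        1 ⊗ₜ[Γ(S, V)] b :=
      congrArg (fun k => k.hom b) (snd_appLE_θ f hU hV e)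
    have h7 : θ ((pullback.fst f f).appLE U (WOpen f hU hV e) (WOpen_le_fst f hU hV e) b) =
        b ⊗ₜ[Γ(S, V)] 1 :=
      congrArg (fun k => k.hom b) (fst_appLE_θ f hU hV e)
    rw [h6, h7]

end Groth.Agent.Helper19.OmegaD
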