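import Mathlib
import Groth.Prelude.Def_Omega4
import Groth.Prelude.Def_OmAff
import Groth.Agent.S5005
import Groth.Agent.S15742
import Groth.Agent.Helper19.OmegaD4
import Groth.Agent.Lib.Helper29.QCohBasic
set_option autoImplicit false
set_option linter.style.haveILetI false
set_option linter.unusedSectionVars false
universe u

open CategoryTheory CategoryTheory.Limits AlgebraicGeometry Opposite TopologicalSpace

/-! # Local structure of an arbitrary universal derivation -/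

namespace Groth.Agent.Helper19.OmegaD

open Groth.Agent.Lib.Helper29.QCoh Groth.Agent.Helper19.OmegaLocal

section iso

variable {X Y : Scheme.{u}} {f : X ⟶ Y}

theorem postcomp_comp {F G H : X.Modules} (D : OmegaSh.Der f F) (α : F ⟶ G) (β : G ⟶ H) :
    D.postcomp (α ≫ β).val = (D.postcomp α.val).postcomp β.val := by
  apply der_ext
  intro W s
  rfl

theorem postcomp_id {F : X.Modules} (D : OmegaSh.Der f F) :
    D.postcomp (𝟙 F : F ⟶ F).val = D := by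
  apply der_ext
  intro W s
  rfl

/-- Two universal derivations are uniquely isomorphic. -/
theorem exists_iso_of_universal {Ω₁ Ω₂ : X.Modules} (d₁ : OmegaSh.Der f Ω₁)
    (d₂ : OmegaSh.Der f Ω₂) (h₁ : OmegaSh.IsUniversal d₁) (h₂ : OmegaSh.IsUniversal d₂) :
    ∃ e : Ω₁ ≅ Ω₂, ∀ (W : X.Opens) (s : Γ(X, W)), e.hom.app W (d₁.app W s) = d₂.app W s := by
  obtain ⟨α, hα, -⟩ := h₁ _ d₂
  obtain ⟨β, hβ, -⟩ := h₂ _ d₁
  have e1 : d₁.postcomp (α ≫ β).val = d₁ := by rw [postcomp_comp, hα, hβ]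
  have e2 : d₂.postcomp (β ≫ α).val = d₂ := by rw [postcomp_comp, hβ, hα]
  have h1 : α ≫ β = 𝟙 Ω₁ := by
    obtain ⟨γ, -, hγu⟩ := h₁ _ d₁
    rw [hγu (α ≫ β) e1, hγu (𝟙 Ω₁) (postcomp_id d₁)]
  have h2 : β ≫ α = 𝟙 Ω₂ := by
    obtain ⟨γ, -, hγu⟩ := h₂ _ d₂
    rw [hγu (β ≫ α) e2, hγu (𝟙 Ω₂) (postcomp_id d₂)]
  refine ⟨⟨α, β, h1, h2⟩, fun W s => ?_⟩
  rw [← postcomp_app, hα]

end iso

section local_structure

variable {X Y : Scheme.{u}} (f : X ⟶ Y) {Ω' : X.Modules} (d : OmegaSh.Der f Ω')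
  (hd : OmegaSh.IsUniversal d)
  {U : X.Opens} (hU : IsAffineOpen U) {V : Y.Opens} (hV : IsAffineOpen V) (h : U ≤ f ⁻¹ᵁ V)

theorem appIso_inv_toΓ (b : Γ(X, U)) :
    (hU.fromSpec.appIso ⊤).inv ((Scheme.ΓSpecIso Γ(X, U)).inv b) =
      X.presheaf.map (homOfLE (fromSpec_image_le hU ⊤)).op b := by
  have h1 := appIso_hom_res hU ⊤ b
  have h2 : (Spec Γ(X, U)).presheaf.map (⊤ : (Spec Γ(X, U)).Opens).leTop.op
      ((Scheme.ΓSpecIso Γ(X, U)).inv b) = (Scheme.ΓSpecIso Γ(X, U)).inv b := by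
    have : (⊤ : (Spec Γ(X, U)).Opens).leTop = 𝟙 _ := Subsingleton.elim _ _
    rw [this, op_id, (Spec Γ(X, U)).presheaf.map_id]
    rfl
  rw [h2] at h1
  rw [← h1, ← ConcreteCategory.comp_apply, Iso.hom_inv_id]
  rfl

include hd hU hV in
theorem exists_addEquiv_sections_of_universal :
    letI := algΓ f h
    ∃ E : Γ(Ω', U) ≃+ Ω[Γ(X, U)⁄Γ(Y, V)],
      (∀ (r : Γ(X, U)) (m : Γ(Ω', U)), E (r • m) = r • E m) ∧
      ∀ b : Γ(X, U), E (d.app U b) = KaehlerDifferential.D Γ(Y, V) Γ(X, U) b := by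
  letI := algΓ f h
  let g : Spec Γ(X, U) ⟶ Spec Γ(Y, V) := Spec.map (CommRingCat.ofHom (algebraMap Γ(Y, V) Γ(X, U)))
  let j : Spec Γ(X, U) ⟶ X := hU.fromSpec
  let i : Spec Γ(Y, V) ⟶ Y := hV.fromSpec
  have hsq : j ≫ f = g ≫ i := (IsAffineOpen.SpecMap_appLE_fromSpec f hV hU h).symm
  have hu1 := isUniversal_restrictDer f j i g hsq d hd
  have hu2 : OmegaSh.IsUniversal (OmegaSh.dOmega g) := Groth.Agent.S5005.universal g
  obtain ⟨θ, hθ⟩ := exists_iso_of_universal (OmegaSh.dOmega g) (restrictDer f j i g hsq d) hu2 hu1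
  have hbij := Groth.Agent.S15742.result Γ(Y, V) Γ(X, U)
  have hle : U ≤ j ''ᵁ ⊤ := (fromSpec_image_top hU).ge
  have hge : j ''ᵁ ⊤ ≤ U := fromSpec_image_le hU ⊤
  -- the key element identity
  have hρ : ∀ b : Γ(X, U), X.presheaf.map (homOfLE hle).op
      ((j.appIso ⊤).inv (OmAff.toΓ Γ(X, U) b)) = b := by
    intro b
    have h1 : (j.appIso ⊤).inv (OmAff.toΓ Γ(X, U) b) = X.presheaf.map (homOfLE hge).op b :=
      appIso_inv_toΓ hU b
    rw [h1, map_map_apply]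
    have : homOfLE (hle.trans hge) = 𝟙 U := Subsingleton.elim _ _
    rw [this, op_id, X.presheaf.map_id]
    rfl
  let Ψ : Ω[Γ(X, U)⁄Γ(Y, V)] → Γ(Ω', U) := fun ω =>
    res Ω' hle (θ.hom.app ⊤ (OmAff.toSpec Γ(Y, V) Γ(X, U) ω))
  have hΨadd : ∀ a b, Ψ (a + b) = Ψ a + Ψ b := by
    intro a b
    change res Ω' hle (θ.hom.app ⊤ (OmAff.toSpec Γ(Y, V) Γ(X, U) (a + b))) = _
    rw [map_add, map_add]
    exact (res Ω' hle).map_add _ _
  have hΨD : ∀ b : Γ(X, U), Ψ (KaehlerDifferential.D Γ(Y, V) Γ(X, U) b) = d.app U b := by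
    intro b
    change res Ω' hle (θ.hom.app ⊤ (OmAff.toSpec Γ(Y, V) Γ(X, U) _)) = _
    rw [OmAff.toSpec_D]
    have h1 := hθ ⊤ (OmAff.toΓ Γ(X, U) b)
    change θ.hom.app ⊤ (OmegaSh.dSect g ⊤ (OmAff.toΓ Γ(X, U) b)) = _ at h1
    rw [restrictDer_app] at h1
    have h2 := d.d_map (X := op (j ''ᵁ ⊤)) (Y := op U) (homOfLE hle).op
      ((j.appIso ⊤).inv (OmAff.toΓ Γ(X, U) b))
    change d.app U (X.presheaf.map (homOfLE hle).op ((j.appIso ⊤).inv (OmAff.toΓ Γ(X, U) b))) =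
      res Ω' hle (d.app (j ''ᵁ ⊤) ((j.appIso ⊤).inv (OmAff.toΓ Γ(X, U) b))) at h2
    rw [hρ] at h2
    rw [h2, ← h1]
  have hΨsmul : ∀ (b : Γ(X, U)) (ω : Ω[Γ(X, U)⁄Γ(Y, V)]), Ψ (b • ω) = b • Ψ ω := by
    intro b ω
    change res Ω' hle (θ.hom.app ⊤ (OmAff.toSpec Γ(Y, V) Γ(X, U) (b • ω))) =
      b • res Ω' hle (θ.hom.app ⊤ (OmAff.toSpec Γ(Y, V) Γ(X, U) ω))
    rw [LinearMap.map_smulₛₗ, Scheme.Modules.Hom.app_smul]
    have h1 := restrict_smul j Ω' ⊤ (OmAff.toΓ Γ(X, U) b)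
      (θ.hom.app ⊤ (OmAff.toSpec Γ(Y, V) Γ(X, U) ω))
    refine Eq.trans (congrArg (res Ω' hle) h1) ?_
    rw [res_smul, hρ]
  have hΨbij : Function.Bijective Ψ := by
    have hb1 : Function.Bijective (res Ω' hle) := by
      refine ⟨res_injective_of_eq Ω' (fromSpec_image_top hU).symm, fun m => ⟨res Ω' hge m, ?_⟩⟩
      rw [res_res, res_self]
    have hb2 : Function.Bijective (θ.hom.app ⊤) := by
      refine Function.bijective_iff_has_inverse.mpr ⟨θ.inv.app ⊤, fun m => ?_, fun m => ?_⟩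
      · have := congrArg (fun k => (Scheme.Modules.Hom.app k ⊤) m) θ.hom_inv_id
        exact this
      · have := congrArg (fun k => (Scheme.Modules.Hom.app k ⊤) m) θ.inv_hom_id
        exact this
    exact hb1.comp (hb2.comp hbij)
  let E₀ : Ω[Γ(X, U)⁄Γ(Y, V)] ≃+ Γ(Ω', U) :=
    AddEquiv.ofBijective (AddMonoidHom.mk' Ψ hΨadd) hΨbij
  have hE₀ : ∀ ω, E₀ ω = Ψ ω := fun ω => rfl
  refine ⟨E₀.symm, fun r m => ?_, fun b => ?_⟩
  · rw [AddEquiv.symm_apply_eq, hE₀, hΨsmul, ← hE₀, AddEquiv.apply_symm_apply]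
  · rw [AddEquiv.symm_apply_eq, hE₀, hΨD]

end local_structure

end Groth.Agent.Helper19.OmegaD
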