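import Mathlib
import Groth.Agent.Helper19.OmegaLocal
import Groth.Agent.Lib.Helper29.QCohPullback
import Groth.Agent.Lib.Helper29.QCohFinite
set_option autoImplicit false
set_option linter.style.haveILetI false
set_option linter.unusedSectionVars false
universe u

open CategoryTheory CategoryTheory.Limits AlgebraicGeometry Opposite TopologicalSpace
open scoped TensorProduct
open TensorProduct

/-! # Consequences of the local structure of `Omega.sheaf f` -/

namespace Groth.Agent.Helper19.OmegaLocal

open Groth.Agent.Lib.Helper29.QCoh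

variable {X S : Scheme.{u}} (f : X ⟶ S)

instance isQuasicoherent_omega : (Omega.sheaf f).IsQuasicoherent :=
  inferInstanceAs ((Scheme.Modules.pullback (pullback.diagonal f)).obj
    (ClSub.idealMod (pullback.diagonal f).ker)).IsQuasicoherent

section

variable {U : X.Opens} (hU : IsAffineOpen U) {V : S.Opens} (hV : IsAffineOpen V)
  (e : U ≤ f ⁻¹ᵁ V)

include hU hV e in
theorem module_finite_sections_omega [QuasiSeparated f] [LocallyOfFiniteType f] :
    Module.Finite Γ(X, U) Γ(Omega.sheaf f, U) := by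
  letI := algΓ f e
  obtain ⟨E⟩ := nonempty_linearEquiv_sections_omega f hU hV e
  have hft : Algebra.FiniteType Γ(S, V) Γ(X, U) := by
    have := f.finiteType_appLE hV hU e
    exact this
  haveI : Algebra.EssFiniteType Γ(S, V) Γ(X, U) := inferInstance
  exact Module.Finite.equiv E.symm

include hU hV in
theorem subsingleton_sections_omega_iff [QuasiSeparated f] :
    Subsingleton Γ(Omega.sheaf f, U) ↔ (f.appLE V U e).hom.FormallyUnramified := by
  letI := algΓ f e
  obtain ⟨E⟩ := nonempty_linearEquiv_sections_omega f hU hV e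
  rw [RingHom.FormallyUnramified]
  constructor
  · intro h
    exact ⟨E.symm.toEquiv.subsingleton⟩
  · intro h
    haveI := h.subsingleton_kaehlerDifferential
    exact E.toEquiv.subsingleton

end

instance isFiniteType_omega [QuasiSeparated f] [LocallyOfFiniteType f] :
    (Omega.sheaf f).IsFiniteType := by
  refine isFiniteType_of_module_finite _ (fun p : AffinePairs f => (p.1.1 : X.Opens))
    (isOpenCover_affinePairs f) (fun p => p.1.1.2) (fun p => ?_)
  exact module_finite_sections_omega f p.1.1.2 p.1.2.2 p.2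

/-- Formal unramifiedness of `W ⟶ X ⟶ S` in terms of affine pairs. -/
theorem formallyUnramified_ι_comp_iff (W : X.Opens) :
    FormallyUnramified (W.ι ≫ f) ↔
      ∀ (U : X.Opens) (V : S.Opens), IsAffineOpen U → IsAffineOpen V → U ≤ W →
        ∀ e : U ≤ f ⁻¹ᵁ V, (f.appLE V U e).hom.FormallyUnramified := by
  have key : ∀ (V : S.Opens) (V' : (W : Scheme.{u}).Opens) (e' : V' ≤ (W.ι ≫ f) ⁻¹ᵁ V),
      (W.ι ≫ f).appLE V V' e' = f.appLE V (W.ι ''ᵁ V') (by
        intro x hx
        obtain ⟨y, hy, rfl⟩ := hx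
        exact e' hy) := by
    intro V V' e'
    rw [Scheme.Hom.comp_appLE, Scheme.Opens.ι_appLE]
    rfl
  rw [formallyUnramified_iff]
  constructor
  · intro H U V hU hV hUW e
    have hV' : IsAffineOpen (W.ι ⁻¹ᵁ U) :=
      hU.preimage_of_isOpenImmersion W.ι (by rwa [Scheme.Opens.opensRange_ι])
    have himg : W.ι ''ᵁ (W.ι ⁻¹ᵁ U) = U := by
      rw [Scheme.Hom.image_preimage_eq_opensRange_inf, Scheme.Opens.opensRange_ι]
      exact inf_eq_right.mpr hUW
    have e' : W.ι ⁻¹ᵁ U ≤ (W.ι ≫ f) ⁻¹ᵁ V := by
      intro x hx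
      exact e hx
    have h1 := H hV hV' e'
    rw [key] at h1
    exact (f.appLE_congr _ rfl himg (fun φ => φ.hom.FormallyUnramified)).mp h1
  · intro H V hV V' hV' e'
    rw [key]
    refine H _ V (hV'.image_of_isOpenImmersion W.ι) hV ?_ _
    intro x hx
    obtain ⟨y, -, rfl⟩ := hx
    exact y.2

/-- The unramified locus in terms of stalks of `Ω`. -/
theorem formallyUnramified_ι_comp_iff_stalk [QuasiSeparated f] (W : X.Opens) :
    FormallyUnramified (W.ι ≫ f) ↔
      ∀ y ∈ W, Subsingleton ((Omega.sheaf f).presheaf.stalk y) := by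
  rw [formallyUnramified_ι_comp_iff]
  constructor
  · intro H y hy
    obtain ⟨V, hV, hyV, -⟩ := exists_isAffineOpen_mem_and_subset (x := f y) (U := ⊤) trivial
    obtain ⟨U, hU, hyU, hUle⟩ :=
      exists_isAffineOpen_mem_and_subset (x := y) (U := W ⊓ f ⁻¹ᵁ V) ⟨hy, hyV⟩
    have hUW : U ≤ W := fun x hx => (hUle hx).1
    have e : U ≤ f ⁻¹ᵁ V := fun x hx => (hUle hx).2
    haveI := (subsingleton_sections_omega_iff f hU hV e).mpr (H U V hU hV hUW e)
    refine (stalk_subsingleton_iff_germ (Omega.sheaf f) hU y hyU).mpr (fun m => ?_)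
    rw [Subsingleton.elim m 0, map_zero]
  · intro H U V hU hV hUW e
    refine (subsingleton_sections_omega_iff f hU hV e).mp ⟨fun s t => ?_⟩
    have h0 : ∀ s : Γ(Omega.sheaf f, U), s = 0 := fun s =>
      eq_zero_of_germ_eq_zero _ s (fun x hx => by
        haveI := H x (hUW hx)
        exact Subsingleton.elim _ _)
    rw [h0 s, h0 t]

/-- `f` is formally unramified iff all stalks of `Ω_{X/S}` vanish. -/
theorem formallyUnramified_iff_stalk [QuasiSeparated f] :
    FormallyUnramified f ↔ ∀ y : X, Subsingleton ((Omega.sheaf f).presheaf.stalk y) := by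
  haveI : IsIso (⊤ : X.Opens).ι := inferInstanceAs (IsIso X.topIso.hom)
  have h1 : FormallyUnramified f ↔ FormallyUnramified ((⊤ : X.Opens).ι ≫ f) :=
    (MorphismProperty.cancel_left_of_respectsIso @FormallyUnramified (⊤ : X.Opens).ι f).symm
  rw [h1, formallyUnramified_ι_comp_iff_stalk]
  exact ⟨fun h y => h y trivial, fun h y _ => h y⟩

end Groth.Agent.Helper19.OmegaLocal
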