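import Mathlib
import Groth.Agent.Helper19.OmegaD5
import Groth.Agent.Helper19.OmegaLocal2
import Groth.Agent.Lib.Helper29.QCohCrit
import Groth.Agent.Lib.Helper29.QCohFP
set_option autoImplicit false
set_option linter.style.haveILetI false
set_option linter.unusedSectionVars false
universe u

open CategoryTheory CategoryTheory.Limits AlgebraicGeometry Opposite TopologicalSpace

/-! # Any receptacle of a universal derivation is quasi-coherent -/

namespace Groth.Agent.Helper19.OmegaD

open Groth.Agent.Lib.Helper29.QCoh Groth.Agent.Helper19.OmegaLocal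

variable {X Y : Scheme.{u}} (f : X ⟶ Y) {Ω' : X.Modules} (d : OmegaSh.Der f Ω')
  (hd : OmegaSh.IsUniversal d)

section
variable {U : X.Opens} (hU : IsAffineOpen U) {V : Y.Opens} (hV : IsAffineOpen V) (h : U ≤ f ⁻¹ᵁ V)

include hd hV in
theorem nonempty_iso_restrict_fromSpec :
    Nonempty (Omega.sheaf (Spec.map (f.appLE V U h)) ≅ Ω'.restrict hU.fromSpec) := by
  let g : Spec Γ(X, U) ⟶ Spec Γ(Y, V) := Spec.map (f.appLE V U h)
  let j : Spec Γ(X, U) ⟶ X := hU.fromSpec
  let i : Spec Γ(Y, V) ⟶ Y := hV.fromSpec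
  have hsq : j ≫ f = g ≫ i := (IsAffineOpen.SpecMap_appLE_fromSpec f hV hU h).symm
  have hu1 := isUniversal_restrictDer f j i g hsq d hd
  have hu2 : OmegaSh.IsUniversal (OmegaSh.dOmega g) := Groth.Agent.S5005.universal g
  obtain ⟨θ, -⟩ := exists_iso_of_universal (OmegaSh.dOmega g) (restrictDer f j i g hsq d) hu2 hu1
  exact ⟨θ⟩

end

/-- Good pairs: affine opens `U ⊆ X`, `V ⊆ Y` with `U ≤ f⁻¹ V`. -/
def GoodPair : Type u :=
  {p : X.Opens × Y.Opens // IsAffineOpen p.1 ∧ IsAffineOpen p.2 ∧ p.1 ≤ f ⁻¹ᵁ p.2}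

theorem isOpenCover_goodPair : IsOpenCover (fun p : GoodPair f => p.1.1) := by
  rw [IsOpenCover, eq_top_iff]
  rintro x -
  obtain ⟨U, V, hU, hV, hxU, hUV⟩ := exists_affine_pair f x
  exact Opens.mem_iSup.mpr ⟨⟨(U, V), hU, hV, hUV⟩, hxU⟩

include hd in
theorem isQuasicoherent_of_universal : Ω'.IsQuasicoherent := by
  refine isQuasicoherent_of_restrict_spec Ω' (fun p : GoodPair f => Γ(X, p.1.1))
    (fun p => p.2.1.fromSpec) (fun x => ?_) (fun p => ?_)
  · obtain ⟨p, hp⟩ := (isOpenCover_goodPair f).exists_mem x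
    refine ⟨p, ?_⟩
    rw [p.2.1.range_fromSpec]
    exact hp
  · obtain ⟨θ⟩ := nonempty_iso_restrict_fromSpec f d hd p.2.1 p.2.2.1 p.2.2.2
    exact isQuasicoherent_of_iso θ

include hd in
/-- Sections of a universal receptacle over a good affine, as a linear equivalence. -/
theorem nonempty_linearEquiv_sections_of_universal {U : X.Opens} (hU : IsAffineOpen U)
    {V : Y.Opens} (hV : IsAffineOpen V) (h : U ≤ f ⁻¹ᵁ V) :
    letI := algΓ f h
    Nonempty (Γ(Ω', U) ≃ₗ[Γ(X, U)] Ω[Γ(X, U)⁄Γ(Y, V)]) := by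
  letI := algΓ f h
  obtain ⟨E, hE, -⟩ := exists_addEquiv_sections_of_universal f d hd hU hV h
  exact ⟨{ E with map_smul' := hE }⟩

include hd in
theorem isFiniteType_of_universal [LocallyOfFiniteType f] : Ω'.IsFiniteType := by
  haveI := isQuasicoherent_of_universal f d hd
  refine isFiniteType_of_module_finite Ω' (fun p : GoodPair f => p.1.1) (isOpenCover_goodPair f)
    (fun p => p.2.1) (fun p => ?_)
  letI := algΓ f p.2.2.2
  obtain ⟨L⟩ := nonempty_linearEquiv_sections_of_universal f d hd p.2.1 p.2.2.1 p.2.2.2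
  have hft : Algebra.FiniteType Γ(Y, p.1.2) Γ(X, p.1.1) := f.finiteType_appLE p.2.2.1 p.2.1 p.2.2.2
  haveI : Algebra.EssFiniteType Γ(Y, p.1.2) Γ(X, p.1.1) := inferInstance
  exact Module.Finite.equiv L.symm

include hd in
theorem isFinitePresentation_of_universal [LocallyOfFinitePresentation f] :
    Ω'.IsFinitePresentation := by
  haveI := isQuasicoherent_of_universal f d hd
  refine isFinitePresentation_of_module_finitePresentation Ω' (fun p : GoodPair f => p.1.1)
    (isOpenCover_goodPair f) (fun p => p.2.1) (fun p => ?_)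
  letI := algΓ f p.2.2.2
  obtain ⟨L⟩ := nonempty_linearEquiv_sections_of_universal f d hd p.2.1 p.2.2.1 p.2.2.2
  have hft : Algebra.FinitePresentation Γ(Y, p.1.2) Γ(X, p.1.1) :=
    f.finitePresentation_appLE p.2.2.1 p.2.1 p.2.2.2
  exact Module.FinitePresentation.of_equiv L.symm

end Groth.Agent.Helper19.OmegaD
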