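import Mathlib
import Groth.Agent.Helper19.OmegaD6
import Groth.Agent.Helper19.PullUnit
import Groth.Agent.Lib.Helper29.QCohAffine
set_option autoImplicit false
set_option linter.style.haveILetI false
set_option linter.unusedSectionVars false
universe u

open CategoryTheory CategoryTheory.Limits AlgebraicGeometry Opposite TopologicalSpace
open scoped TensorProduct

/-! # Local description of the canonical map `h^* Ω → Ω'` -/

namespace Groth.Agent.Helper19.OmegaD

open Groth.Agent.Lib.Helper29.QCoh Groth.Agent.Helper19.OmegaLocal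

section basis

variable {X : Scheme.{u}} {M N : X.Modules} (φ : M ⟶ N) (B : Set X.Opens) (hB : Opens.IsBasis B)

include hB in
theorem mono_of_injective_on_basis (h : ∀ U ∈ B, Function.Injective (φ.app U)) : Mono φ := by
  rw [mono_iff_app_injective]
  intro W
  rw [injective_iff_map_eq_zero]
  intro m hm
  apply eq_of_res_basis_eq M B hB
  intro U hUB hUW
  apply h U hUB
  rw [app_res, hm, map_zero, map_zero, map_zero]

include hB in
theorem epi_of_surjective_on_basis (h : ∀ U ∈ B, Function.Surjective (φ.app U)) : Epi φ := by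
  rw [epi_iff_stalkMap_surjective]
  intro x t
  obtain ⟨W, hxW, n, rfl⟩ := TopCat.Presheaf.exists_germ_eq N.presheaf t
  obtain ⟨U, hUB, hxU, hUW⟩ := Opens.isBasis_iff_nbhd.mp hB hxW
  obtain ⟨m, hm⟩ := h U hUB (res N hUW n)
  refine ⟨M.presheaf.germ U x hxU m, ?_⟩
  rw [stalkMap_germ, hm, germ_res]

include hB in
theorem isIso_of_bijective_on_basis (h : ∀ U ∈ B, Function.Bijective (φ.app U)) : IsIso φ := by
  haveI := mono_of_injective_on_basis φ B hB (fun U hU => (h U hU).1)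
  haveI := epi_of_surjective_on_basis φ B hB (fun U hU => (h U hU).2)
  exact isIso_of_mono_of_epi φ

theorem app_bijective_of_isIso [IsIso φ] (U : X.Opens) : Function.Bijective (φ.app U) := by
  refine Function.bijective_iff_has_inverse.mpr ⟨(inv φ).app U, fun m => ?_, fun m => ?_⟩
  · exact congrArg (fun k => (Scheme.Modules.Hom.app k U) m) (IsIso.hom_inv_id φ)
  · exact congrArg (fun k => (Scheme.Modules.Hom.app k U) m) (IsIso.inv_hom_id φ)

end basis

section localC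

theorem der_res' {X Y : Scheme.{u}} {f : X ⟶ Y} {F : X.Modules} (D : OmegaSh.Der f F)
    {U U' : X.Opens} (h : U' ≤ U) (b : Γ(X, U)) :
    D.app U' (X.presheaf.map (homOfLE h).op b) = res F h (D.app U b) :=
  D.d_map (X := op U) (Y := op U') (homOfLE h).op b

variable {X S X' S' : Scheme.{u}} (f : X ⟶ S) (f' : X' ⟶ S') (h : X' ⟶ X)
  {Ω : X.Modules} (d : OmegaSh.Der f Ω) (hd : OmegaSh.IsUniversal d)
  {Ω' : X'.Modules} (d' : OmegaSh.Der f' Ω') (hd' : OmegaSh.IsUniversal d')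
  (c : (Scheme.Modules.pullback h).obj Ω ⟶ Ω') (hc : OmegaSh.IsDiffCompat h d d' c)
  {U : X.Opens} (hU : IsAffineOpen U) {V : S.Opens} (hV : IsAffineOpen V) (hUV : U ≤ f ⁻¹ᵁ V)
  {U' : X'.Opens} (hU' : IsAffineOpen U') {V' : S'.Opens} (hV' : IsAffineOpen V')
  (hUV' : U' ≤ f' ⁻¹ᵁ V') (hUU : U' ≤ h ⁻¹ᵁ U)

include hd hd' hc hU hV hU' hV' in
/-- Local description of a map `c : h^*Ω ⟶ Ω'` compatible with universal derivations. -/
theorem exists_local_diffCompat :
    letI := algΓ f hUV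
    letI := algΓ f' hUV'
    letI := algΓ h hUU
    ∃ (P : Γ((Scheme.Modules.pullback h).obj Ω, U') ≃ₗ[Γ(X', U')]
          Γ(X', U') ⊗[Γ(X, U)] Ω[Γ(X, U)⁄Γ(S, V)])
      (E' : Γ(Ω', U') ≃ₗ[Γ(X', U')] Ω[Γ(X', U')⁄Γ(S', V')]),
      ∀ (b' : Γ(X', U')) (b : Γ(X, U)),
        E' (c.app U' (P.symm (b' ⊗ₜ KaehlerDifferential.D Γ(S, V) Γ(X, U) b))) =
          b' • KaehlerDifferential.D Γ(S', V') Γ(X', U') (h.appLE U U' hUU b) := by
  letI := algΓ f hUV
  letI := algΓ f' hUV'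
  letI := algΓ h hUU
  haveI := isQuasicoherent_of_universal f d hd
  obtain ⟨E, hE, hED⟩ := exists_addEquiv_sections_of_universal f d hd hU hV hUV
  obtain ⟨E', hE', hED'⟩ := exists_addEquiv_sections_of_universal f' d' hd' hU' hV' hUV'
  let EL : Γ(Ω, U) ≃ₗ[Γ(X, U)] Ω[Γ(X, U)⁄Γ(S, V)] := { E with map_smul' := hE }
  let EL' : Γ(Ω', U') ≃ₗ[Γ(X', U')] Ω[Γ(X', U')⁄Γ(S', V')] := { E' with map_smul' := hE' }
  have hEL : ∀ b, EL (d.app U b) = KaehlerDifferential.D Γ(S, V) Γ(X, U) b := hED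
  have hEL' : ∀ b, EL' (d'.app U' b) = KaehlerDifferential.D Γ(S', V') Γ(X', U') b := hED'
  let P0 : Γ((Scheme.Modules.pullback h).obj Ω, U') ≃ₗ[Γ(X', U')] Γ(X', U') ⊗[Γ(X, U)] Γ(Ω, U) :=
    pullbackSectionsEquiv h Ω hU' hU hUU
  let P := P0 ≪≫ₗ
    TensorProduct.AlgebraTensorModule.congr (LinearEquiv.refl Γ(X', U') Γ(X', U')) EL
  refine ⟨P, EL', fun b' b => ?_⟩
  have h1 : P.symm (b' ⊗ₜ KaehlerDifferential.D Γ(S, V) Γ(X, U) b) =
      b' • res ((Scheme.Modules.pullback h).obj Ω) hUU (pullSect h Ω U (d.app U b)) := by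
    rw [LinearEquiv.symm_apply_eq, map_smul]
    change _ = b' • (TensorProduct.AlgebraTensorModule.congr
      (LinearEquiv.refl Γ(X', U') Γ(X', U')) EL) (P0 _)
    have h2 : P0 (res ((Scheme.Modules.pullback h).obj Ω) hUU (pullSect h Ω U (d.app U b))) =
        (1 : Γ(X', U')) ⊗ₜ[Γ(X, U)] (d.app U b) :=
      Groth.Agent.Helper19.PullUnit.pullbackSectionsEquiv_pullSect h Ω hU' hU hUU (d.app U b)
    rw [h2, TensorProduct.AlgebraTensorModule.congr_tmul, LinearEquiv.refl_apply, hEL,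
      TensorProduct.smul_tmul', smul_eq_mul, mul_one]
  rw [h1, Scheme.Modules.Hom.app_smul, map_smul, app_res c hUU]
  have h3 : c.app (h ⁻¹ᵁ U) (pullSect h Ω U (d.app U b)) = d'.app (h ⁻¹ᵁ U) (h.app U b) :=
    hc U b
  rw [h3, ← der_res']
  exact congrArg (fun z => b' • z) (hEL' _)

end localC

end Groth.Agent.Helper19.OmegaD
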