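import Mathlib
import Groth.Agent.Helper19.OmegaD7
import Groth.Agent.Helper19.OmegaAlg2
set_option autoImplicit false
set_option linter.style.haveILetI false
set_option linter.unusedSectionVars false
universe u

open CategoryTheory CategoryTheory.Limits AlgebraicGeometry Opposite TopologicalSpace
open scoped TensorProduct

/-! # Exactness on a basis, towers `X ⟶ Y ⟶ Z`, and `pullbackId` on sections -/

namespace Groth.Agent.Helper19.OmegaD

open Groth.Agent.Lib.Helper29.QCoh Groth.Agent.Helper19.OmegaLocal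

section exactBasis

variable {X : Scheme.{u}} (B : Set X.Opens) (hB : Opens.IsBasis B)

include hB in
theorem exact_of_exact_on_basis (S : ShortComplex X.Modules)
    (h : ∀ U ∈ B, Function.Exact (S.f.app U) (S.g.app U)) : S.Exact := by
  rw [exact_iff_stalk_function_exact]
  intro x t
  constructor
  · intro ht
    obtain ⟨W, hxW, m, rfl⟩ := TopCat.Presheaf.exists_germ_eq S.X₂.presheaf t
    rw [stalkMap_germ] at ht
    -- the germ of g m vanishes, so g m vanishes on a neighbourhood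
    have ht0 : S.X₃.presheaf.germ W x hxW (S.g.app W m) = S.X₃.presheaf.germ W x hxW 0 := by
      rw [ht, map_zero]
    obtain ⟨W', hxW', i₁, i₂, hW'⟩ :=
      TopCat.Presheaf.germ_eq S.X₃.presheaf x hxW hxW _ _ ht0
    obtain ⟨U, hUB, hxU, hUW'⟩ := Opens.isBasis_iff_nbhd.mp hB hxW'
    have hUW : U ≤ W := hUW'.trans (leOfHom i₁)
    have h1 : S.g.app U (res S.X₂ hUW m) = 0 := by
      rw [app_res]
      have h2 : res S.X₃ (leOfHom i₁) (S.g.app W m) = res S.X₃ (leOfHom i₂) 0 := hW'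
      rw [map_zero] at h2
      have h3 := congrArg (res S.X₃ hUW') h2
      rw [res_res, map_zero] at h3
      exact h3
    obtain ⟨l, hl⟩ := (h U hUB _).mp h1
    refine ⟨S.X₁.presheaf.germ U x hxU l, ?_⟩
    rw [stalkMap_germ, hl, germ_res]
  · rintro ⟨s, rfl⟩
    obtain ⟨W, hxW, l, rfl⟩ := TopCat.Presheaf.exists_germ_eq S.X₁.presheaf s
    obtain ⟨U, hUB, hxU, hUW⟩ := Opens.isBasis_iff_nbhd.mp hB hxW
    rw [← germ_res S.X₁ hUW x hxU, stalkMap_germ, stalkMap_germ]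
    have : S.g.app U (S.f.app U (res S.X₁ hUW l)) = 0 := (h U hUB _).mpr ⟨_, rfl⟩
    rw [this, map_zero]

end exactBasis

section pullbackId

variable {X : Scheme.{u}}

theorem pullbackId_hom_pullSect (M : X.Modules) (U : X.Opens) (m : Γ(M, U)) :
    ((Scheme.Modules.pullbackId X).hom.app M).app U (pullSect (𝟙 X) M U m) = m := by
  have h1 := Scheme.Modules.conjugateEquiv_pullbackId_hom X
  have h2 := congrArg (fun α => (Scheme.Modules.Hom.app (α.app M) U) m) h1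
  simp only [conjugateEquiv_apply_app] at h2
  exact h2

theorem pullbackId_inv_app_app (M : X.Modules) (U : X.Opens) (m : Γ(M, U)) :
    ((Scheme.Modules.pullbackId X).inv.app M).app U m = pullSect (𝟙 X) M U m := by
  have h1 := pullbackId_hom_pullSect M U m
  have h2 := congrArg (fun z => ((Scheme.Modules.pullbackId X).inv.app M).app U z) h1
  have h3 : ((Scheme.Modules.pullbackId X).inv.app M).app U
      (((Scheme.Modules.pullbackId X).hom.app M).app U (pullSect (𝟙 X) M U m)) =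
      pullSect (𝟙 X) M U m :=
    congrArg (fun k => (Scheme.Modules.Hom.app k U) (pullSect (𝟙 X) M U m))
      ((Scheme.Modules.pullbackId X).hom_inv_id_app M)
  exact h2.symm.trans h3

end pullbackId

section localC'

variable {X S X' S' : Scheme.{u}} (f : X ⟶ S) (f' : X' ⟶ S') (h : X' ⟶ X)
  {Ω : X.Modules} (d : OmegaSh.Der f Ω) (hd : OmegaSh.IsUniversal d)
  {Ω' : X'.Modules} (d' : OmegaSh.Der f' Ω') (hd' : OmegaSh.IsUniversal d')
  (c : (Scheme.Modules.pullback h).obj Ω ⟶ Ω') (hc : OmegaSh.IsDiffCompat h d d' c)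
  {U : X.Opens} (hU : IsAffineOpen U) {V : S.Opens} (hV : IsAffineOpen V) (hUV : U ≤ f ⁻¹ᵁ V)
  {U' : X'.Opens} (hU' : IsAffineOpen U') {V' : S'.Opens} (hV' : IsAffineOpen V')
  (hUV' : U' ≤ f' ⁻¹ᵁ V') (hUU : U' ≤ h ⁻¹ᵁ U)

include hd hU hV in
/-- Sections of a universal receptacle over a good affine, as a linear equivalence matching `d`
with `D`. -/
theorem exists_linearEquiv_sections_of_universal :
    letI := algΓ f hUV
    ∃ E : Γ(Ω, U) ≃ₗ[Γ(X, U)] Ω[Γ(X, U)⁄Γ(S, V)],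
      ∀ b : Γ(X, U), E (d.app U b) = KaehlerDifferential.D Γ(S, V) Γ(X, U) b := by
  letI := algΓ f hUV
  obtain ⟨E, hE, hED⟩ := exists_addEquiv_sections_of_universal f d hd hU hV hUV
  exact ⟨{ E with map_smul' := hE }, hED⟩

include hd hd' hc hU hV hU' hV' in
/-- Local description of a map `c : h^*Ω ⟶ Ω'` compatible with universal derivations
(version recording also the values of `E'` on differentials). -/
theorem exists_local_diffCompat' :
    letI := algΓ f hUV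
    letI := algΓ f' hUV'
    letI := algΓ h hUU
    ∃ (P : Γ((Scheme.Modules.pullback h).obj Ω, U') ≃ₗ[Γ(X', U')]
          Γ(X', U') ⊗[Γ(X, U)] Ω[Γ(X, U)⁄Γ(S, V)])
      (E' : Γ(Ω', U') ≃ₗ[Γ(X', U')] Ω[Γ(X', U')⁄Γ(S', V')]),
      (∀ b' : Γ(X', U'), E' (d'.app U' b') = KaehlerDifferential.D Γ(S', V') Γ(X', U') b') ∧
      ∀ (b' : Γ(X', U')) (b : Γ(X, U)),
        E' (c.app U' (P.symm (b' ⊗ₜ KaehlerDifferential.D Γ(S, V) Γ(X, U) b))) =
          b' • KaehlerDifferential.D Γ(S', V') Γ(X', U') (h.appLE U U' hUU b) := by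
  letI := algΓ f hUV
  letI := algΓ f' hUV'
  letI := algΓ h hUU
  haveI := isQuasicoherent_of_universal f d hd
  obtain ⟨EL, hEL⟩ := exists_linearEquiv_sections_of_universal f d hd hU hV hUV
  obtain ⟨EL', hEL'⟩ := exists_linearEquiv_sections_of_universal f' d' hd' hU' hV' hUV'
  let P0 : Γ((Scheme.Modules.pullback h).obj Ω, U') ≃ₗ[Γ(X', U')] Γ(X', U') ⊗[Γ(X, U)] Γ(Ω, U) :=
    pullbackSectionsEquiv h Ω hU' hU hUU
  let P := P0 ≪≫ₗ
    TensorProduct.AlgebraTensorModule.congr (LinearEquiv.refl Γ(X', U') Γ(X', U')) EL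
  refine ⟨P, EL', hEL', fun b' b => ?_⟩
  have h1 : P.symm (b' ⊗ₜ KaehlerDifferential.D Γ(S, V) Γ(X, U) b) =
      b' • res ((Scheme.Modules.pullback h).obj Ω) hUU (pullSect h Ω U (d.app U b)) := by
    rw [LinearEquiv.symm_apply_eq, map_smul]
    change _ = b' • (TensorProduct.AlgebraTensorModule.congr
      (LinearEquiv.refl Γ(X', U') Γ(X', U')) EL) (P0 _)
    have h2 : P0 (res ((Scheme.Modules.pullback h).obj Ω) hUU (pullSect h Ω U (d.app U b))) =
        (1 : Γ(X', U')) ⊗ₜ[Γ(X, U)] (d.app U b) :=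
      Groth.Agent.Helper19.PullUnit.pullbackSectionsEquiv_pullSect h Ω hU' hU hUU (d.app U b)
    rw [h2, TensorProduct.AlgebraTensorModule.congr_tmul, LinearEquiv.refl_apply, hEL,
      TensorProduct.smul_tmul', smul_eq_mul, mul_one]
  rw [h1, Scheme.Modules.Hom.app_smul, map_smul, app_res c hUU]
  have h3 : c.app (h ⁻¹ᵁ U) (pullSect h Ω U (d.app U b)) = d'.app (h ⁻¹ᵁ U) (h.app U b) :=
    hc U b
  rw [h3, ← der_res']
  exact congrArg (fun z => b' • z) (hEL' _)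

end localC'

section tri

variable {X Y Z : Scheme.{u}} (g : Y ⟶ Z) (f : X ⟶ Y)

/-- Affine opens of `X` mapping into an affine of `Y` mapping into an affine of `Z`. -/
def triOpens : Set X.Opens :=
  {U | IsAffineOpen U ∧ ∃ (V : Y.Opens) (W : Z.Opens), IsAffineOpen V ∧ IsAffineOpen W ∧
    U ≤ f ⁻¹ᵁ V ∧ V ≤ g ⁻¹ᵁ W}

theorem exists_tri (x : X) (N : X.Opens) (hxN : x ∈ N) :
    ∃ (U : X.Opens) (V : Y.Opens) (W : Z.Opens), IsAffineOpen U ∧ IsAffineOpen V ∧
      IsAffineOpen W ∧ x ∈ U ∧ U ≤ N ∧ U ≤ f ⁻¹ᵁ V ∧ V ≤ g ⁻¹ᵁ W := by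
  obtain ⟨W, hW, hxW, -⟩ := exists_isAffineOpen_mem_and_subset (x := g (f x)) (U := ⊤) trivial
  obtain ⟨V, hV, hxV, hVW⟩ :=
    exists_isAffineOpen_mem_and_subset (x := f x) (U := g ⁻¹ᵁ W) hxW
  obtain ⟨U, hU, hxU, hUV⟩ :=
    exists_isAffineOpen_mem_and_subset (x := x) (U := N ⊓ f ⁻¹ᵁ V) ⟨hxN, hxV⟩
  exact ⟨U, V, W, hU, hV, hW, hxU, hUV.trans inf_le_left, hUV.trans inf_le_right, hVW⟩

theorem isBasis_triOpens : Opens.IsBasis (triOpens g f) := by
  rw [Opens.isBasis_iff_nbhd]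
  intro N x hx
  obtain ⟨U, V, W, hU, hV, hW, hxU, hUN, hUV, hVW⟩ := exists_tri g f x N hx
  exact ⟨U, ⟨hU, V, W, hV, hW, hUV, hVW⟩, hxU, hUN⟩

theorem le_comp_preimage {U : X.Opens} {V : Y.Opens} {W : Z.Opens} (hUV : U ≤ f ⁻¹ᵁ V)
    (hVW : V ≤ g ⁻¹ᵁ W) : U ≤ (f ≫ g) ⁻¹ᵁ W := fun _ hx => hVW (hUV hx)

theorem isScalarTower_tri {U : X.Opens} {V : Y.Opens} {W : Z.Opens} (hUV : U ≤ f ⁻¹ᵁ V)
    (hVW : V ≤ g ⁻¹ᵁ W) :
    letI := algΓ g hVW
    letI := algΓ (f ≫ g) (le_comp_preimage g f hUV hVW)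
    letI := algΓ f hUV
    IsScalarTower Γ(Z, W) Γ(Y, V) Γ(X, U) := by
  letI := algΓ g hVW
  letI := algΓ (f ≫ g) (le_comp_preimage g f hUV hVW)
  letI := algΓ f hUV
  apply IsScalarTower.of_algebraMap_eq'
  change ((f ≫ g).appLE W U _).hom = (f.appLE V U hUV).hom.comp (g.appLE W V hVW).hom
  have h1 : g.appLE W V hVW ≫ f.appLE V U hUV =
      (f ≫ g).appLE W U (le_comp_preimage g f hUV hVW) :=
    Scheme.Hom.appLE_comp_appLE f g W V U hVW hUV
  rw [← h1]
  rfl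

end tri

end Groth.Agent.Helper19.OmegaD
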