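import Mathlib
import Groth.Agent.Helper19.OmegaD8
set_option autoImplicit false
set_option linter.style.haveILetI false
set_option linter.unusedSectionVars false
universe u

open CategoryTheory CategoryTheory.Limits AlgebraicGeometry Opposite TopologicalSpace
open scoped TensorProduct

/-! # Local description of `c : h^*Ω ⟶ Ω'`, full version -/

namespace Groth.Agent.Helper19.OmegaD

open Groth.Agent.Lib.Helper29.QCoh Groth.Agent.Helper19.OmegaLocal

section localC''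

variable {X S X' S' : Scheme.{u}} (f : X ⟶ S) (f' : X' ⟶ S') (h : X' ⟶ X)
  {Ω : X.Modules} (d : OmegaSh.Der f Ω) (hd : OmegaSh.IsUniversal d)
  {Ω' : X'.Modules} (d' : OmegaSh.Der f' Ω') (hd' : OmegaSh.IsUniversal d')
  (c : (Scheme.Modules.pullback h).obj Ω ⟶ Ω') (hc : OmegaSh.IsDiffCompat h d d' c)
  {U : X.Opens} (hU : IsAffineOpen U) {V : S.Opens} (hV : IsAffineOpen V) (hUV : U ≤ f ⁻¹ᵁ V)
  {U' : X'.Opens} (hU' : IsAffineOpen U') {V' : S'.Opens} (hV' : IsAffineOpen V')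
  (hUV' : U' ≤ f' ⁻¹ᵁ V') (hUU : U' ≤ h ⁻¹ᵁ U)

include hd hU hV hU' in
/-- Sections of `h^*Ω` over an affine `U' ≤ h⁻¹U`. -/
theorem exists_pullback_sections_equiv :
    letI := algΓ f hUV
    letI := algΓ h hUU
    ∃ (P : Γ((Scheme.Modules.pullback h).obj Ω, U') ≃ₗ[Γ(X', U')]
          Γ(X', U') ⊗[Γ(X, U)] Ω[Γ(X, U)⁄Γ(S, V)]),
      ∀ b : Γ(X, U), P (res ((Scheme.Modules.pullback h).obj Ω) hUU
        (pullSect h Ω U (d.app U b))) =
          (1 : Γ(X', U')) ⊗ₜ[Γ(X, U)] KaehlerDifferential.D Γ(S, V) Γ(X, U) b := by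
  letI := algΓ f hUV
  letI := algΓ h hUU
  haveI := isQuasicoherent_of_universal f d hd
  obtain ⟨EL, hEL⟩ := exists_linearEquiv_sections_of_universal f d hd hU hV hUV
  let P0 : Γ((Scheme.Modules.pullback h).obj Ω, U') ≃ₗ[Γ(X', U')] Γ(X', U') ⊗[Γ(X, U)] Γ(Ω, U) :=
    pullbackSectionsEquiv h Ω hU' hU hUU
  let P := P0 ≪≫ₗ
    TensorProduct.AlgebraTensorModule.congr (LinearEquiv.refl Γ(X', U') Γ(X', U')) EL
  refine ⟨P, fun b => ?_⟩
  change (TensorProduct.AlgebraTensorModule.congr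
      (LinearEquiv.refl Γ(X', U') Γ(X', U')) EL) (P0 _) = _
  have h2 : P0 (res ((Scheme.Modules.pullback h).obj Ω) hUU (pullSect h Ω U (d.app U b))) =
      (1 : Γ(X', U')) ⊗ₜ[Γ(X, U)] (d.app U b) :=
    Groth.Agent.Helper19.PullUnit.pullbackSectionsEquiv_pullSect h Ω hU' hU hUU (d.app U b)
  rw [h2, TensorProduct.AlgebraTensorModule.congr_tmul, LinearEquiv.refl_apply, hEL]

include hd hd' hc hU hV hU' hV' in
/-- Local description of a map `c : h^*Ω ⟶ Ω'` compatible with universal derivations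
(version recording the values of `P` and `E'` on differentials). -/
theorem exists_local_diffCompat'' :
    letI := algΓ f hUV
    letI := algΓ f' hUV'
    letI := algΓ h hUU
    ∃ (P : Γ((Scheme.Modules.pullback h).obj Ω, U') ≃ₗ[Γ(X', U')]
          Γ(X', U') ⊗[Γ(X, U)] Ω[Γ(X, U)⁄Γ(S, V)])
      (E' : Γ(Ω', U') ≃ₗ[Γ(X', U')] Ω[Γ(X', U')⁄Γ(S', V')]),
      (∀ b' : Γ(X', U'), E' (d'.app U' b') = KaehlerDifferential.D Γ(S', V') Γ(X', U') b') ∧
      (∀ b : Γ(X, U), P (res ((Scheme.Modules.pullback h).obj Ω) hUU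
        (pullSect h Ω U (d.app U b))) =
          (1 : Γ(X', U')) ⊗ₜ[Γ(X, U)] KaehlerDifferential.D Γ(S, V) Γ(X, U) b) ∧
      ∀ (b' : Γ(X', U')) (b : Γ(X, U)),
        E' (c.app U' (P.symm (b' ⊗ₜ KaehlerDifferential.D Γ(S, V) Γ(X, U) b))) =
          b' • KaehlerDifferential.D Γ(S', V') Γ(X', U') (h.appLE U U' hUU b) := by
  letI := algΓ f hUV
  letI := algΓ f' hUV'
  letI := algΓ h hUU
  obtain ⟨P, hP⟩ := exists_pullback_sections_equiv f h d hd hU hV hUV hU' hUU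
  obtain ⟨EL', hEL'⟩ := exists_linearEquiv_sections_of_universal f' d' hd' hU' hV' hUV'
  refine ⟨P, EL', hEL', hP, fun b' b => ?_⟩
  have h1 : P.symm (b' ⊗ₜ KaehlerDifferential.D Γ(S, V) Γ(X, U) b) =
      b' • res ((Scheme.Modules.pullback h).obj Ω) hUU (pullSect h Ω U (d.app U b)) := by
    rw [LinearEquiv.symm_apply_eq, map_smul, hP, TensorProduct.smul_tmul', smul_eq_mul, mul_one]
  rw [h1, Scheme.Modules.Hom.app_smul, map_smul, app_res c hUU]
  have h3 : c.app (h ⁻¹ᵁ U) (pullSect h Ω U (d.app U b)) = d'.app (h ⁻¹ᵁ U) (h.app U b) :=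
    hc U b
  rw [h3, ← der_res']
  exact congrArg (fun z => b' • z) (hEL' _)

end localC''

end Groth.Agent.Helper19.OmegaD
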