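import Mathlib
import Groth.Agent.Helper19.OmegaD9
import Groth.Agent.Helper19.OmegaAlg3
import Groth.Agent.Helper19.Conormal1
set_option autoImplicit false
set_option linter.style.haveILetI false
set_option linter.unusedSectionVars false
universe u

open CategoryTheory CategoryTheory.Limits AlgebraicGeometry Opposite TopologicalSpace
open scoped TensorProduct

/-! # Conormal sheaf vs. differentials, locally -/

namespace Groth.Agent.Helper19.OmegaAlg

section injective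
variable {R P S : Type u} [CommRing R] [CommRing P] [CommRing S] [Algebra R P] [Algebra P S]
  [Algebra R S] [IsScalarTower R P S]

theorem exists_one_tmul (hf : Function.Surjective (algebraMap P S))
    (t : S ⊗[P] (RingHom.ker (algebraMap P S))) :
    ∃ x : RingHom.ker (algebraMap P S), t = (1 : S) ⊗ₜ[P] x := by
  induction t using TensorProduct.induction_on with
  | zero => exact ⟨0, (TensorProduct.tmul_zero _ _).symm⟩
  | add a b ha hb =>
    obtain ⟨x, rfl⟩ := ha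
    obtain ⟨y, rfl⟩ := hb
    exact ⟨x + y, (TensorProduct.tmul_add _ _ _).symm⟩
  | tmul s x =>
    obtain ⟨p, rfl⟩ := hf s
    refine ⟨p • x, ?_⟩
    rw [TensorProduct.tmul_smul, TensorProduct.smul_tmul', Algebra.smul_def, mul_one]

theorem one_tmul_eq_zero_of_mem_sq (y : P) (hy2 : y ∈ (RingHom.ker (algebraMap P S)) ^ 2)
    (hy : y ∈ RingHom.ker (algebraMap P S)) :
    (1 : S) ⊗ₜ[P] (⟨y, hy⟩ : RingHom.ker (algebraMap P S)) = 0 := by
  rw [pow_two] at hy2
  induction hy2 using Submodule.mul_induction_on' with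
  | mem_mul_mem a ha b hb =>
    have h1 : (⟨a * b, hy⟩ : RingHom.ker (algebraMap P S)) = a • ⟨b, hb⟩ := Subtype.ext rfl
    rw [h1, TensorProduct.tmul_smul, TensorProduct.smul_tmul', Algebra.smul_def,
      RingHom.mem_ker.mp ha, zero_mul, TensorProduct.zero_tmul]
  | add a ha b hb iha ihb =>
    have ha' : a ∈ RingHom.ker (algebraMap P S) := Ideal.mul_le_left ha
    have hb' : b ∈ RingHom.ker (algebraMap P S) := Ideal.mul_le_left hb
    have h1 : (⟨a + b, hy⟩ : RingHom.ker (algebraMap P S)) = ⟨a, ha'⟩ + ⟨b, hb'⟩ :=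
      Subtype.ext rfl
    rw [h1, TensorProduct.tmul_add, iha ha', ihb hb', add_zero]

/-- If the conormal map is injective, so is any additive map `S ⊗ K → S ⊗ Ω` with the values
`1 ⊗ x ↦ 1 ⊗ D x`. -/
theorem injective_of_kerCotangentToTensor_injective (hf : Function.Surjective (algebraMap P S))
    (μ : S ⊗[P] (RingHom.ker (algebraMap P S)) →+ S ⊗[P] Ω[P⁄R])
    (hμ : ∀ x : RingHom.ker (algebraMap P S),
      μ ((1 : S) ⊗ₜ[P] x) = (1 : S) ⊗ₜ[P] KaehlerDifferential.D R P x.1)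
    (hinj : Function.Injective (KaehlerDifferential.kerCotangentToTensor R P S)) :
    Function.Injective μ := by
  rw [injective_iff_map_eq_zero]
  intro t ht
  obtain ⟨x, rfl⟩ := exists_one_tmul hf t
  rw [hμ] at ht
  have h1 : KaehlerDifferential.kerCotangentToTensor R P S (Ideal.toCotangent _ x) = 0 := by
    rw [KaehlerDifferential.kerCotangentToTensor_toCotangent]
    exact ht
  have h2 : Ideal.toCotangent _ x = 0 := by
    apply hinj
    rw [h1, map_zero]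
  rw [Ideal.toCotangent_eq_zero] at h2
  exact one_tmul_eq_zero_of_mem_sq x.1 h2 x.2

/-- For `S` formally smooth over `R` and `P → S` surjective, the conormal map is injective. -/
theorem kerCotangentToTensor_injective_of_formallySmooth
    (hf : Function.Surjective (algebraMap P S)) [Algebra.FormallySmooth R S] :
    Function.Injective (KaehlerDifferential.kerCotangentToTensor R P S) := by
  have hsurj : Function.Surjective (IsScalarTower.toAlgHom R P S).kerSquareLift := by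
    intro s
    obtain ⟨p, rfl⟩ := hf s
    exact ⟨Ideal.Quotient.mk _ p, rfl⟩
  have hnil : IsNilpotent (RingHom.ker
      ((IsScalarTower.toAlgHom R P S).kerSquareLift :
        P ⧸ (RingHom.ker (IsScalarTower.toAlgHom R P S).toRingHom ^ 2) →+* S)) := by
    refine ⟨2, ?_⟩
    have := AlgHom.ker_kerSquareLift (IsScalarTower.toAlgHom R P S)
    change RingHom.ker (IsScalarTower.toAlgHom R P S).kerSquareLift.toRingHom ^ 2 = ⊥
    rw [this]
    exact Ideal.cotangentIdeal_square _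
  let g := Algebra.FormallySmooth.liftOfSurjective (AlgHom.id R S)
    (IsScalarTower.toAlgHom R P S).kerSquareLift hsurj hnil
  have hg : (IsScalarTower.toAlgHom R P S).kerSquareLift.comp g = AlgHom.id R S :=
    Algebra.FormallySmooth.comp_liftOfSurjective _ _ hsurj hnil
  obtain ⟨l, hl⟩ := (retractionKerCotangentToTensorEquivSection (R := R) hf).symm ⟨g, hg⟩
  intro a b hab
  have := congrArg l hab
  rw [← LinearMap.comp_apply, ← LinearMap.comp_apply, hl] at this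
  exact this

end injective

end Groth.Agent.Helper19.OmegaAlg

namespace Groth.Agent.Helper19.Conormal

open Groth.Agent.Lib.Helper29.QCoh Groth.Agent.Helper19.OmegaD Groth.Agent.Helper19.OmegaLocal
open Groth.Agent.Helper19.OmegaAlg

section localConormal

variable {X Y Z : Scheme.{u}} (f : Y ⟶ Z) (j : X ⟶ Y) [IsImmersion j] [QuasiCompact j]
  {ΩY : Y.Modules} (dY : OmegaSh.Der f ΩY) (hY : OmegaSh.IsUniversal dY)
  (φ : Omega.conormal j ⟶ (Scheme.Modules.pullback j).obj ΩY) (hφ : OmegaSh.IsConormalDiff j dY φ)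
  {U : Y.Opens} (hU : IsAffineOpen U) {W : Z.Opens} (hW : IsAffineOpen W)
  (hUc : U ≤ j.coborderRange) (hUW : U ≤ f ⁻¹ᵁ W)

include hU hUc in
theorem algebraMap_surjective_of_le_coborder :
    letI := algΓ j (le_refl (j ⁻¹ᵁ U))
    Function.Surjective (algebraMap Γ(Y, U) Γ(X, j ⁻¹ᵁ U)) := by
  letI := algΓ j (le_refl (j ⁻¹ᵁ U))
  change Function.Surjective (j.appLE U (j ⁻¹ᵁ U) le_rfl).hom
  rw [Scheme.Hom.appLE_eq_app]
  exact app_surjective_of_le_coborder j hU hUc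

include hU in
theorem ker_algebraMap_eq :
    letI := algΓ j (le_refl (j ⁻¹ᵁ U))
    RingHom.ker (algebraMap Γ(Y, U) Γ(X, j ⁻¹ᵁ U)) = j.ker.ideal ⟨U, hU⟩ := by
  letI := algΓ j (le_refl (j ⁻¹ᵁ U))
  rw [← ker_app_eq j hU]
  change RingHom.ker (j.appLE U (j ⁻¹ᵁ U) le_rfl).hom = _
  rw [Scheme.Hom.appLE_eq_app]

set_option maxRecDepth 16000 in
include hY hφ hU hW hUc in
/-- Local description of the conormal map `φ : C_{X/Y} → j^*Ω_{Y/Z}` of a quasi-compact
immersion. -/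
theorem exists_local_conormalDiff :
    letI := algΓ f hUW
    letI := algΓ j (le_refl (j ⁻¹ᵁ U))
    ∃ (P : Γ((Scheme.Modules.pullback j).obj ΩY, j ⁻¹ᵁ U) ≃ₗ[Γ(X, j ⁻¹ᵁ U)]
          Γ(X, j ⁻¹ᵁ U) ⊗[Γ(Y, U)] Ω[Γ(Y, U)⁄Γ(Z, W)])
      (Q : Γ(Omega.conormal j, j ⁻¹ᵁ U) ≃ₗ[Γ(X, j ⁻¹ᵁ U)]
          Γ(X, j ⁻¹ᵁ U) ⊗[Γ(Y, U)] (RingHom.ker (algebraMap Γ(Y, U) Γ(X, j ⁻¹ᵁ U)))),
      (∀ b : Γ(Y, U), P (pullSect j ΩY U (dY.app U b)) =
          (1 : Γ(X, j ⁻¹ᵁ U)) ⊗ₜ[Γ(Y, U)] KaehlerDifferential.D Γ(Z, W) Γ(Y, U) b) ∧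
      ∀ (c' : Γ(X, j ⁻¹ᵁ U)) (x : RingHom.ker (algebraMap Γ(Y, U) Γ(X, j ⁻¹ᵁ U))),
        P (φ.app (j ⁻¹ᵁ U) (Q.symm (c' ⊗ₜ[Γ(Y, U)] x))) =
          c' ⊗ₜ[Γ(Y, U)] KaehlerDifferential.D Γ(Z, W) Γ(Y, U) x.1 := by
  letI := algΓ f hUW
  letI := algΓ j (le_refl (j ⁻¹ᵁ U))
  have hU' : IsAffineOpen (j ⁻¹ᵁ U) := isAffineOpen_preimage_of_le_coborder j hU hUc
  have hUU : j ⁻¹ᵁ U ≤ j ⁻¹ᵁ U := le_rfl
  obtain ⟨P, hP⟩ := exists_pullback_sections_equiv f j dY hY hU hW hUW hU' hUU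
  have hP' : ∀ b : Γ(Y, U), P (pullSect j ΩY U (dY.app U b)) =
      (1 : Γ(X, j ⁻¹ᵁ U)) ⊗ₜ[Γ(Y, U)] KaehlerDifferential.D Γ(Z, W) Γ(Y, U) b := by
    intro b
    have := hP b
    rw [res_self] at this
    exact this
  have hIK : j.ker.ideal ⟨U, hU⟩ = RingHom.ker (algebraMap Γ(Y, U) Γ(X, j ⁻¹ᵁ U)) :=
    (ker_algebraMap_eq j hU).symm
  let Q₀ := conormalSectionsEquiv j hU hU' hUU
  let T : (j.ker.ideal ⟨U, hU⟩) ≃ₗ[Γ(Y, U)] (RingHom.ker (algebraMap Γ(Y, U) Γ(X, j ⁻¹ᵁ U))) :=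
    LinearEquiv.ofEq _ _ hIK
  let Q := Q₀ ≪≫ₗ
    TensorProduct.AlgebraTensorModule.congr (LinearEquiv.refl Γ(X, j ⁻¹ᵁ U) Γ(X, j ⁻¹ᵁ U)) T
  refine ⟨P, Q, hP', fun c' x => ?_⟩
  have hxI : x.1 ∈ j.ker.ideal ⟨U, hU⟩ := by rw [hIK]; exact x.2
  let s : Γ(ClSub.idealMod j.ker, U) := (idealModSectionsEquiv j.ker ⟨U, hU⟩).symm ⟨x.1, hxI⟩
  have hs : idealElt j hU s = ⟨x.1, hxI⟩ := LinearEquiv.apply_symm_apply _ _
  have hs' : OmegaSh.idealSect j.ker U s = x.1 := by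
    rw [← idealElt_val j hU s, hs]
  have h1 : Q.symm (c' ⊗ₜ[Γ(Y, U)] x) = c' • OmegaSh.conormalSect j U s := by
    rw [LinearEquiv.symm_apply_eq, map_smul]
    change _ = c' • (TensorProduct.AlgebraTensorModule.congr
      (LinearEquiv.refl Γ(X, j ⁻¹ᵁ U) Γ(X, j ⁻¹ᵁ U)) T) (Q₀ (OmegaSh.conormalSect j U s))
    have h2 := conormalSectionsEquiv_conormalSect j hU hU' hUU s
    rw [res_self] at h2
    rw [h2, TensorProduct.AlgebraTensorModule.congr_tmul, LinearEquiv.refl_apply, hs,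
      TensorProduct.smul_tmul', smul_eq_mul, mul_one]
    rfl
  rw [h1, Scheme.Modules.Hom.app_smul, map_smul, hφ U s, hs']
  refine (congrArg (fun z => c' • z) (hP' x.1)).trans ?_
  rw [TensorProduct.smul_tmul', smul_eq_mul, mul_one]

end localConormal

end Groth.Agent.Helper19.Conormal
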