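import Mathlib
import Groth.Agent.Helper19.OmegaD9
import Groth.Agent.Helper19.OmegaAlg3
import Groth.Agent.Helper19.Conormal1
import Groth.Agent.Helper19.Conormal2
set_option autoImplicit false
set_option linter.style.haveILetI false
set_option linter.unusedSectionVars false
universe u

open CategoryTheory CategoryTheory.Limits AlgebraicGeometry Opposite TopologicalSpace
open scoped TensorProduct

/-! # Conormal sequence: retractions, composition of `IsDiffCompat` maps -/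

namespace Groth.Agent.Helper19.OmegaAlg

section tower
variable {A C B B' : Type u} [CommRing A] [CommRing C] [CommRing B] [CommRing B']
  [Algebra A C] [Algebra C B] [Algebra A B] [IsScalarTower A C B]
  [Algebra B B'] [Algebra C B'] [Algebra A B'] [IsScalarTower C B B'] [IsScalarTower A B B']

theorem kerCotangentToTensor_injective_of_tower
    (h : Function.Injective (KaehlerDifferential.kerCotangentToTensor C B B')) :
    Function.Injective (KaehlerDifferential.kerCotangentToTensor A B B') := by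
  have key : ∀ t, (LinearMap.lTensor B' (KaehlerDifferential.map A C B B))
      (KaehlerDifferential.kerCotangentToTensor A B B' t) =
        KaehlerDifferential.kerCotangentToTensor C B B' t := by
    intro t
    obtain ⟨x, rfl⟩ := Ideal.toCotangent_surjective _ t
    rw [KaehlerDifferential.kerCotangentToTensor_toCotangent,
      KaehlerDifferential.kerCotangentToTensor_toCotangent, LinearMap.lTensor_tmul,
      KaehlerDifferential.map_D]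
    rfl
  intro a b hab
  apply h
  rw [← key, ← key, hab]

end tower

/-- In an abelian category, an exact sequence `X₁ → X₂ → X₃` with `X₁ → X₂` mono and a section
of `X₂ → X₃` has a retraction of `X₁ → X₂`. -/
theorem exists_retraction_of_exact {C : Type*} [Category C] [Abelian C] {S : ShortComplex C}
    (hS : S.Exact) [Mono S.f] (σ : S.X₃ ⟶ S.X₂) (hσ : σ ≫ S.g = 𝟙 _) :
    ∃ r : S.X₂ ⟶ S.X₁, S.f ≫ r = 𝟙 _ := by
  have he : (𝟙 S.X₂ - S.g ≫ σ) ≫ S.g = 0 := by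
    rw [Preadditive.sub_comp, Category.id_comp, Category.assoc, hσ, Category.comp_id, sub_self]
  refine ⟨hS.lift _ he, ?_⟩
  rw [← cancel_mono S.f, Category.assoc, hS.lift_f, Preadditive.comp_sub, Category.comp_id,
    ← Category.assoc, S.zero, zero_comp, sub_zero, Category.id_comp]

end Groth.Agent.Helper19.OmegaAlg

namespace Groth.Agent.Helper19.Conormal

open Groth.Agent.Lib.Helper29.QCoh Groth.Agent.Helper19.OmegaD Groth.Agent.Helper19.OmegaLocal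
open Groth.Agent.Helper19.OmegaAlg

theorem formallySmooth_of_le {Z : Scheme.{u}} {U' V' : Z.Opens} (hU' : IsAffineOpen U')
    (hV' : IsAffineOpen V') (e : U' ≤ (𝟙 Z) ⁻¹ᵁ V') :
    letI := algΓ (𝟙 Z) e
    Algebra.FormallySmooth Γ(Z, V') Γ(Z, U') := by
  letI := algΓ (𝟙 Z) e
  have h := HasRingHomProperty.appLE (P := @Smooth) (𝟙 Z) inferInstance ⟨V', hV'⟩ ⟨U', hU'⟩ e
  exact h.formallySmooth

section comp

theorem isDiffCompat_comp {X S X' S' X'' S'' : Scheme.{u}} {f : X ⟶ S} {f' : X' ⟶ S'}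
    {f'' : X'' ⟶ S''} (h₁ : X'' ⟶ X') (h₂ : X' ⟶ X)
    {Ω : X.Modules} {Ω' : X'.Modules} {Ω'' : X''.Modules} (d : OmegaSh.Der f Ω)
    (d' : OmegaSh.Der f' Ω') (d'' : OmegaSh.Der f'' Ω'')
    (c₂ : (Scheme.Modules.pullback h₂).obj Ω ⟶ Ω') (hc₂ : OmegaSh.IsDiffCompat h₂ d d' c₂)
    (c₁ : (Scheme.Modules.pullback h₁).obj Ω' ⟶ Ω'') (hc₁ : OmegaSh.IsDiffCompat h₁ d' d'' c₁) :
    OmegaSh.IsDiffCompat (h₁ ≫ h₂) d d''
      ((Scheme.Modules.pullbackComp h₁ h₂).inv.app Ω ≫ (Scheme.Modules.pullback h₁).map c₂ ≫ c₁) := by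
  intro U s
  have e1 := pullbackComp_inv_pullSect h₁ h₂ Ω U (d.app U s)
  have e2 := pullSect_naturality h₁ c₂ (h₂ ⁻¹ᵁ U) (pullSect h₂ Ω U (d.app U s))
  have e3 : c₂.app (h₂ ⁻¹ᵁ U) (pullSect h₂ Ω U (d.app U s)) = d'.app (h₂ ⁻¹ᵁ U) (h₂.app U s) :=
    hc₂ U s
  have e4 : c₁.app (h₁ ⁻¹ᵁ (h₂ ⁻¹ᵁ U))
      (pullSect h₁ Ω' (h₂ ⁻¹ᵁ U) (d'.app (h₂ ⁻¹ᵁ U) (h₂.app U s))) =
        d''.app (h₁ ⁻¹ᵁ (h₂ ⁻¹ᵁ U)) (h₁.app (h₂ ⁻¹ᵁ U) (h₂.app U s)) :=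
    hc₁ (h₂ ⁻¹ᵁ U) (h₂.app U s)
  change c₁.app (h₁ ⁻¹ᵁ (h₂ ⁻¹ᵁ U)) (((Scheme.Modules.pullback h₁).map c₂).app (h₁ ⁻¹ᵁ (h₂ ⁻¹ᵁ U))
    (((Scheme.Modules.pullbackComp h₁ h₂).inv.app Ω).app ((h₁ ≫ h₂) ⁻¹ᵁ U)
      (pullSect (h₁ ≫ h₂) Ω U (d.app U s)))) = _
  rw [e1, e2, e3]
  exact e4

theorem exists_section_of_eq_id {Z S : Scheme.{u}} {fZ : Z ⟶ S} {ΩZ : Z.Modules}
    (dZ : OmegaSh.Der fZ ΩZ) (hZ : OmegaSh.IsUniversal dZ) (h : Z ⟶ Z) (e : h = 𝟙 Z)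
    (c' : (Scheme.Modules.pullback h).obj ΩZ ⟶ ΩZ) (hc' : OmegaSh.IsDiffCompat h dZ dZ c') :
    ∃ τ : ΩZ ⟶ (Scheme.Modules.pullback h).obj ΩZ, τ ≫ c' = 𝟙 ΩZ := by
  subst e
  refine ⟨(Scheme.Modules.pullbackId Z).inv.app ΩZ, ?_⟩
  obtain ⟨α, hα, hαu⟩ := hZ ΩZ dZ
  have h1 : ((Scheme.Modules.pullbackId Z).inv.app ΩZ ≫ c') = α := by
    apply hαu
    apply der_ext
    intro W s
    rw [postcomp_app]
    change c'.app W (((Scheme.Modules.pullbackId Z).inv.app ΩZ).app W (dZ.app W s)) = _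
    rw [pullbackId_inv_app_app]
    refine (hc' W s).trans ?_
    rfl
  have h2 : 𝟙 ΩZ = α := hαu _ (postcomp_id dZ)
  rw [h1, h2]

end comp

section retraction

variable {Z X S : Scheme.{u}} (f : X ⟶ S) (i : Z ⟶ X) [IsImmersion i] [QuasiCompact i]
  (g : X ⟶ Z) (hgi : i ≫ g = 𝟙 Z) (hgS : g ≫ i ≫ f = f)
  {ΩX : X.Modules} (dX : OmegaSh.Der f ΩX) (hX : OmegaSh.IsUniversal dX)
  (φ : Omega.conormal i ⟶ (Scheme.Modules.pullback i).obj ΩX) (hφ : OmegaSh.IsConormalDiff i dX φ)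

set_option maxRecDepth 16000 in
include hgi hgS hX hφ in
theorem conormalDiff_app_injective_of_retraction
    {U : X.Opens} (hU : IsAffineOpen U) {W : S.Opens} (hW : IsAffineOpen W) {V' : Z.Opens}
    (hV' : IsAffineOpen V') (hUc : U ≤ i.coborderRange) (hUW : U ≤ f ⁻¹ᵁ W)
    (hUV' : U ≤ g ⁻¹ᵁ V') (hV'W : V' ≤ (i ≫ f) ⁻¹ᵁ W) :
    Function.Injective (φ.app (i ⁻¹ᵁ U)) := by
  have hU' : IsAffineOpen (i ⁻¹ᵁ U) := isAffineOpen_preimage_of_le_coborder i hU hUc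
  have hUU : i ⁻¹ᵁ U ≤ i ⁻¹ᵁ U := le_rfl
  have hU'V' : i ⁻¹ᵁ U ≤ (𝟙 Z) ⁻¹ᵁ V' := by
    intro z hz
    have h1 : g (i z) ∈ V' := hUV' hz
    have h2 : (i ≫ g) z = (𝟙 Z : Z ⟶ Z) z := by rw [hgi]
    have h3 : g (i z) = z := by simpa using h2
    rw [h3] at h1
    exact h1
  have hU'W := le_comp_preimage f i hUU hUW
  letI := algΓ f hUW
  letI := algΓ i hUU
  letI := algΓ g hUV'
  letI := algΓ (i ≫ f) hV'W
  letI := algΓ (𝟙 Z) hU'V'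
  letI := algΓ (i ≫ f) hU'W
  haveI : IsScalarTower Γ(S, W) Γ(X, U) Γ(Z, i ⁻¹ᵁ U) := isScalarTower_tri f i hUU hUW
  haveI : IsScalarTower Γ(S, W) Γ(Z, V') Γ(X, U) := by
    apply IsScalarTower.of_algebraMap_eq'
    change (f.appLE W U hUW).hom = (g.appLE V' U hUV').hom.comp ((i ≫ f).appLE W V' hV'W).hom
    have h1 : (i ≫ f).appLE W V' hV'W ≫ g.appLE V' U hUV' =
        (g ≫ i ≫ f).appLE W U (le_comp_preimage (i ≫ f) g hUV' hV'W) :=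
      Scheme.Hom.appLE_comp_appLE g (i ≫ f) W V' U hV'W hUV'
    rw [← appLE_congr hgS (le_comp_preimage (i ≫ f) g hUV' hV'W) hUW, ← h1]
    rfl
  haveI : IsScalarTower Γ(Z, V') Γ(X, U) Γ(Z, i ⁻¹ᵁ U) := by
    apply IsScalarTower.of_algebraMap_eq'
    change ((𝟙 Z : Z ⟶ Z).appLE V' (i ⁻¹ᵁ U) hU'V').hom =
      (i.appLE U (i ⁻¹ᵁ U) hUU).hom.comp (g.appLE V' U hUV').hom
    have h1 : g.appLE V' U hUV' ≫ i.appLE U (i ⁻¹ᵁ U) hUU =
        (i ≫ g).appLE V' (i ⁻¹ᵁ U) (le_comp_preimage g i hUU hUV') :=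
      Scheme.Hom.appLE_comp_appLE i g V' U (i ⁻¹ᵁ U) hUV' hUU
    rw [← appLE_congr hgi (le_comp_preimage g i hUU hUV') hU'V', ← h1]
    rfl
  have hsurj : Function.Surjective (algebraMap Γ(X, U) Γ(Z, i ⁻¹ᵁ U)) :=
    algebraMap_surjective_of_le_coborder i hU hUc
  haveI : Algebra.FormallySmooth Γ(Z, V') Γ(Z, i ⁻¹ᵁ U) := formallySmooth_of_le hU' hV' hU'V'
  have hinjC := kerCotangentToTensor_injective_of_formallySmooth (R := Γ(Z, V')) (P := Γ(X, U))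
    (S := Γ(Z, i ⁻¹ᵁ U)) hsurj
  have hinjA : Function.Injective
      (KaehlerDifferential.kerCotangentToTensor Γ(S, W) Γ(X, U) Γ(Z, i ⁻¹ᵁ U)) :=
    kerCotangentToTensor_injective_of_tower (A := Γ(S, W)) (C := Γ(Z, V')) hinjC
  obtain ⟨P, Q, -, hPQ⟩ := exists_local_conormalDiff f i dX hX φ hφ hU hW hUc hUW
  let μ : Γ(Z, i ⁻¹ᵁ U) ⊗[Γ(X, U)] (RingHom.ker (algebraMap Γ(X, U) Γ(Z, i ⁻¹ᵁ U))) →+
      Γ(Z, i ⁻¹ᵁ U) ⊗[Γ(X, U)] Ω[Γ(X, U)⁄Γ(S, W)] :=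
    (P.toLinearMap ∘ₗ (appₗ φ (i ⁻¹ᵁ U)) ∘ₗ Q.symm.toLinearMap).toAddMonoidHom
  have hμ : ∀ x : RingHom.ker (algebraMap Γ(X, U) Γ(Z, i ⁻¹ᵁ U)),
      μ ((1 : Γ(Z, i ⁻¹ᵁ U)) ⊗ₜ[Γ(X, U)] x) =
        (1 : Γ(Z, i ⁻¹ᵁ U)) ⊗ₜ[Γ(X, U)] KaehlerDifferential.D Γ(S, W) Γ(X, U) x.1 :=
    fun x => hPQ 1 x
  have hμinj := injective_of_kerCotangentToTensor_injective hsurj μ hμ hinjA
  intro m₁ m₂ h12
  apply Q.injective
  apply hμinj
  change P (φ.app (i ⁻¹ᵁ U) (Q.symm (Q m₁))) = P (φ.app (i ⁻¹ᵁ U) (Q.symm (Q m₂)))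
  rw [LinearEquiv.symm_apply_apply, LinearEquiv.symm_apply_apply, h12]

end retraction

end Groth.Agent.Helper19.Conormal
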