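import Mathlib
import Groth.Agent.Helper19.Conormal3
set_option autoImplicit false
set_option linter.style.haveILetI false
set_option linter.unusedSectionVars false
universe u

open CategoryTheory CategoryTheory.Limits AlgebraicGeometry Opposite TopologicalSpace
open scoped TensorProduct

/-! # Conormal sheaves: classes of sections of the ideal, maps of conormal sheaves, algebra -/

namespace Groth.Agent.Helper19.OmegaAlg

section onetmul
variable {P S : Type u} [CommRing P] [CommRing S] [Algebra P S]

theorem mem_sq_of_one_tmul_eq_zero (hf : Function.Surjective (algebraMap P S))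
    (x : RingHom.ker (algebraMap P S)) (h : (1 : S) ⊗ₜ[P] x = 0) :
    x.1 ∈ (RingHom.ker (algebraMap P S)) ^ 2 := by
  let ε : (P ⧸ RingHom.ker (algebraMap P S)) ≃ₐ[P] S :=
    Ideal.quotientKerAlgEquivOfSurjective (f := Algebra.ofId P S) hf
  have h1 := congrArg (LinearMap.rTensor (RingHom.ker (algebraMap P S)) ε.symm.toLinearMap) h
  rw [LinearMap.rTensor_tmul, map_zero] at h1
  have h2 : ε.symm.toLinearMap 1 = 1 := map_one ε.symm
  rw [h2] at h1
  have h3 := congrArg (TensorProduct.quotTensorEquivQuotSMul (RingHom.ker (algebraMap P S))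
    (RingHom.ker (algebraMap P S))) h1
  rw [TensorProduct.quotTensorEquivQuotSMul_mk_one_tmul, map_zero] at h3
  exact (Ideal.toCotangent_eq_zero _ x).mp h3

theorem exists_one_tmul' (I : Ideal P) (hI : RingHom.ker (algebraMap P S) = I)
    (hf : Function.Surjective (algebraMap P S)) (t : S ⊗[P] I) :
    ∃ x : I, t = (1 : S) ⊗ₜ[P] x := by
  subst hI
  exact exists_one_tmul hf t

theorem one_tmul_eq_zero_iff' (I : Ideal P) (hI : RingHom.ker (algebraMap P S) = I)
    (hf : Function.Surjective (algebraMap P S)) (x : I) :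
    (1 : S) ⊗ₜ[P] x = 0 ↔ x.1 ∈ I ^ 2 := by
  subst hI
  exact ⟨mem_sq_of_one_tmul_eq_zero hf x, fun h => one_tmul_eq_zero_of_mem_sq x.1 h x.2⟩

/-- `1 ⊗ ω = 0` in `S ⊗ M` (for `P → S` surjective) means `ω ∈ ker • M`. -/
theorem mem_smul_top_of_one_tmul_eq_zero {M : Type u} [AddCommGroup M] [Module P M]
    (hf : Function.Surjective (algebraMap P S)) (ω : M) (h : (1 : S) ⊗ₜ[P] ω = 0) :
    ω ∈ (RingHom.ker (algebraMap P S)) • (⊤ : Submodule P M) := by
  let ε : (P ⧸ RingHom.ker (algebraMap P S)) ≃ₐ[P] S :=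
    Ideal.quotientKerAlgEquivOfSurjective (f := Algebra.ofId P S) hf
  have h1 := congrArg (LinearMap.rTensor M ε.symm.toLinearMap) h
  rw [LinearMap.rTensor_tmul, map_zero] at h1
  have h2 : ε.symm.toLinearMap 1 = 1 := map_one ε.symm
  rw [h2] at h1
  have h3 := congrArg (TensorProduct.quotTensorEquivQuotSMul M
    (RingHom.ker (algebraMap P S))) h1
  rw [TensorProduct.quotTensorEquivQuotSMul_mk_one_tmul, map_zero] at h3
  exact (Submodule.Quotient.mk_eq_zero _).mp h3

end onetmul

section twoSurj

variable (R A B : Type u) [CommRing R] [CommRing A] [CommRing B] [Algebra R A] [Algebra A B]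
  [Algebra R B] [IsScalarTower R A B]

/-- The ideal `K² + ρ(K')A`. -/
def jIdeal : Ideal A :=
  (RingHom.ker (algebraMap A B)) ^ 2 ⊔ Ideal.map (algebraMap R A) (RingHom.ker (algebraMap R B))

variable {R A B}

theorem algebraMap_mem_ker_of_mem_ker {k' : R} (hk' : k' ∈ RingHom.ker (algebraMap R B)) :
    algebraMap R A k' ∈ RingHom.ker (algebraMap A B) := by
  rw [RingHom.mem_ker, ← IsScalarTower.algebraMap_apply]
  exact hk'

theorem exists_sub_mem_sq_of_mem_jIdeal (hRB : Function.Surjective (algebraMap R B)) (a : A)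
    (ha : a ∈ jIdeal R A B) :
    ∃ k' ∈ RingHom.ker (algebraMap R B),
      a - algebraMap R A k' ∈ (RingHom.ker (algebraMap A B)) ^ 2 := by
  have key : ∀ m ∈ Ideal.map (algebraMap R A) (RingHom.ker (algebraMap R B)),
      ∃ k' ∈ RingHom.ker (algebraMap R B),
        m - algebraMap R A k' ∈ (RingHom.ker (algebraMap A B)) ^ 2 := by
    intro m hm
    unfold Ideal.map at hm
    induction hm using Submodule.span_induction with
    | mem x hx =>
      obtain ⟨k', hk', rfl⟩ := hx
      exact ⟨k', hk', by rw [sub_self]; exact zero_mem _⟩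
    | zero => exact ⟨0, zero_mem _, by rw [map_zero, sub_self]; exact zero_mem _⟩
    | add x y _ _ hx hy =>
      obtain ⟨k₁, hk₁, h₁⟩ := hx
      obtain ⟨k₂, hk₂, h₂⟩ := hy
      refine ⟨k₁ + k₂, add_mem hk₁ hk₂, ?_⟩
      have : x + y - algebraMap R A (k₁ + k₂) =
          (x - algebraMap R A k₁) + (y - algebraMap R A k₂) := by rw [map_add]; ring
      rw [this]
      exact add_mem h₁ h₂
    | smul a x _ hx =>
      obtain ⟨k', hk', h₁⟩ := hx
      obtain ⟨r, hr⟩ := hRB (algebraMap A B a)
      have har : a - algebraMap R A r ∈ RingHom.ker (algebraMap A B) := by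
        rw [RingHom.mem_ker, map_sub, ← IsScalarTower.algebraMap_apply, hr, sub_self]
      refine ⟨r * k', Ideal.mul_mem_left _ _ hk', ?_⟩
      have : a • x - algebraMap R A (r * k') =
          a * (x - algebraMap R A k') + (a - algebraMap R A r) * algebraMap R A k' := by
        rw [map_mul, smul_eq_mul]; ring
      rw [this]
      refine add_mem (Ideal.mul_mem_left _ _ h₁) ?_
      rw [pow_two]
      exact Ideal.mul_mem_mul har (algebraMap_mem_ker_of_mem_ker hk')
  obtain ⟨q, hq, m, hm, hqm⟩ := Submodule.mem_sup.mp ha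
  obtain ⟨k', hk', h₁⟩ := key m hm
  refine ⟨k', hk', ?_⟩
  have : a - algebraMap R A k' = q + (m - algebraMap R A k') := by rw [← hqm]; ring
  rw [this]
  exact add_mem hq h₁

/-- The derivation `a ↦ a - ρ(σ(ā))` into `A ⧸ (K² + ρ(K')A)`. -/
noncomputable def diffDer (hRB : Function.Surjective (algebraMap R B)) :
    Derivation R A (A ⧸ jIdeal R A B) := by
  let σ : B → R := Function.surjInv hRB
  have hσ : ∀ b, algebraMap R B (σ b) = b := Function.surjInv_eq hRB
  have hmapK' : ∀ k' ∈ RingHom.ker (algebraMap R B), algebraMap R A k' ∈ jIdeal R A B :=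
    fun k' hk' => Ideal.mem_sup_right (Ideal.mem_map_of_mem _ hk')
  have hK : ∀ a : A, a - algebraMap R A (σ (algebraMap A B a)) ∈ RingHom.ker (algebraMap A B) := by
    intro a
    rw [RingHom.mem_ker, map_sub, ← IsScalarTower.algebraMap_apply, hσ, sub_self]
  refine Derivation.mk'
    { toFun := fun a => Ideal.Quotient.mk _ (a - algebraMap R A (σ (algebraMap A B a)))
      map_add' := ?_
      map_smul' := ?_ } ?_
  · intro a b
    rw [← map_add, Ideal.Quotient.eq]
    have : a + b - algebraMap R A (σ (algebraMap A B (a + b))) -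
        (a - algebraMap R A (σ (algebraMap A B a)) + (b - algebraMap R A (σ (algebraMap A B b)))) =
        algebraMap R A (σ (algebraMap A B a) + σ (algebraMap A B b) - σ (algebraMap A B (a + b))) := by
      rw [(algebraMap R A).map_sub, (algebraMap R A).map_add]; ring
    rw [this]
    apply hmapK'
    rw [RingHom.mem_ker, map_sub, map_add, hσ, hσ, hσ, map_add, sub_self]
  · intro r a
    rw [RingHom.id_apply, Algebra.smul_def r (Ideal.Quotient.mk _ _)]
    change _ = Ideal.Quotient.mk _ (algebraMap R A r) * _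
    rw [← map_mul, Ideal.Quotient.eq]
    have : r • a - algebraMap R A (σ (algebraMap A B (r • a))) -
        algebraMap R A r * (a - algebraMap R A (σ (algebraMap A B a))) =
        algebraMap R A (r * σ (algebraMap A B a) - σ (algebraMap A B (r • a))) := by
      rw [(algebraMap R A).map_sub, (algebraMap R A).map_mul, Algebra.smul_def]; ring
    rw [this]
    apply hmapK'
    rw [RingHom.mem_ker, map_sub, map_mul, hσ, hσ, Algebra.smul_def, map_mul,
      ← IsScalarTower.algebraMap_apply, sub_self]
  · intro a b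
    change Ideal.Quotient.mk _ _ = a • Ideal.Quotient.mk _ _ + b • Ideal.Quotient.mk _ _
    rw [Algebra.smul_def a (Ideal.Quotient.mk _ _), Algebra.smul_def b (Ideal.Quotient.mk _ _)]
    change _ = Ideal.Quotient.mk _ a * _ + Ideal.Quotient.mk _ b * _
    rw [← map_mul, ← map_mul, ← map_add, Ideal.Quotient.eq]
    have : a * b - algebraMap R A (σ (algebraMap A B (a * b))) -
        (a * (b - algebraMap R A (σ (algebraMap A B b))) +
          b * (a - algebraMap R A (σ (algebraMap A B a)))) =
        - ((a - algebraMap R A (σ (algebraMap A B a))) *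
            (b - algebraMap R A (σ (algebraMap A B b)))) +
          algebraMap R A (σ (algebraMap A B a) * σ (algebraMap A B b) -
            σ (algebraMap A B (a * b))) := by
      rw [(algebraMap R A).map_sub, (algebraMap R A).map_mul]; ring
    rw [this]
    refine add_mem (neg_mem (Ideal.mem_sup_left ?_)) (hmapK' _ ?_)
    · rw [pow_two]
      exact Ideal.mul_mem_mul (hK a) (hK b)
    · rw [RingHom.mem_ker, map_sub, map_mul, hσ, hσ, hσ, map_mul, sub_self]

theorem diffDer_apply_of_mem_ker (hRB : Function.Surjective (algebraMap R B)) (k : A)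
    (hk : k ∈ RingHom.ker (algebraMap A B)) :
    diffDer hRB k = Ideal.Quotient.mk (jIdeal R A B) k := by
  change Ideal.Quotient.mk _ (k - algebraMap R A (Function.surjInv hRB (algebraMap A B k))) = _
  rw [Ideal.Quotient.eq, sub_sub_cancel_left]
  apply neg_mem
  apply Ideal.mem_sup_right
  apply Ideal.mem_map_of_mem
  rw [RingHom.mem_ker, Function.surjInv_eq hRB]
  exact hk

theorem diffDer_apply_mem (hRB : Function.Surjective (algebraMap R B)) (a : A) :
    ∃ k ∈ RingHom.ker (algebraMap A B), diffDer hRB a = Ideal.Quotient.mk (jIdeal R A B) k := by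
  refine ⟨a - algebraMap R A (Function.surjInv hRB (algebraMap A B a)), ?_, rfl⟩
  rw [RingHom.mem_ker, map_sub, ← IsScalarTower.algebraMap_apply, Function.surjInv_eq hRB,
    sub_self]

/-- Exactness in the middle of `K'/K'² → K/K² → B ⊗ Ω_{A/R}`, elementwise. -/
theorem exists_of_one_tmul_D_eq_zero (hAB : Function.Surjective (algebraMap A B))
    (hRB : Function.Surjective (algebraMap R B)) (k : A)
    (hk : k ∈ RingHom.ker (algebraMap A B))
    (h : (1 : B) ⊗ₜ[A] KaehlerDifferential.D R A k = 0) :
    ∃ k' ∈ RingHom.ker (algebraMap R B),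
      k - algebraMap R A k' ∈ (RingHom.ker (algebraMap A B)) ^ 2 := by
  have h1 := mem_smul_top_of_one_tmul_eq_zero hAB _ h
  let l : Ω[A⁄R] →ₗ[A] (A ⧸ jIdeal R A B) :=
    (diffDer (R := R) (A := A) (B := B) hRB).liftKaehlerDifferential
  have hl : ∀ a, l (KaehlerDifferential.D R A a) = diffDer hRB a := fun a =>
    Derivation.liftKaehlerDifferential_comp_D _ a
  -- values of `l` are classes of elements of `K`
  have hval : ∀ ω : Ω[A⁄R], ∃ k₁ ∈ RingHom.ker (algebraMap A B),
      l ω = Ideal.Quotient.mk (jIdeal R A B) k₁ := by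
    intro ω
    have hω : ω ∈ Submodule.span A (Set.range (KaehlerDifferential.D R A)) := by
      rw [KaehlerDifferential.span_range_derivation]; trivial
    induction hω using Submodule.span_induction with
    | mem x hx =>
      obtain ⟨a, rfl⟩ := hx
      rw [hl]
      exact diffDer_apply_mem hRB a
    | zero => exact ⟨0, zero_mem _, by rw [map_zero, map_zero]⟩
    | add x y _ _ hx hy =>
      obtain ⟨k₁, hk₁, h₁⟩ := hx
      obtain ⟨k₂, hk₂, h₂⟩ := hy
      exact ⟨k₁ + k₂, add_mem hk₁ hk₂, by rw [map_add, h₁, h₂, map_add]⟩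
    | smul a x _ hx =>
      obtain ⟨k₁, hk₁, h₁⟩ := hx
      refine ⟨a * k₁, Ideal.mul_mem_left _ _ hk₁, ?_⟩
      rw [map_smul, h₁, Algebra.smul_def, map_mul]
      rfl
  have hzero : l (KaehlerDifferential.D R A k) = 0 := by
    refine Submodule.smul_induction_on (p := fun ω => l ω = 0) h1 (fun κ hκ ω _ => ?_)
      (fun x y hx hy => ?_)
    · obtain ⟨k₁, hk₁, h₁⟩ := hval ω
      change l (κ • ω) = 0
      rw [map_smul, h₁, Algebra.smul_def]
      change Ideal.Quotient.mk _ κ * _ = 0
      rw [← map_mul, Ideal.Quotient.eq_zero_iff_mem]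
      apply Ideal.mem_sup_left
      rw [pow_two]
      exact Ideal.mul_mem_mul hκ hk₁
    · change l (x + y) = 0
      rw [map_add, hx, hy, add_zero]
  rw [hl, diffDer_apply_of_mem_ker hRB k hk, Ideal.Quotient.eq_zero_iff_mem] at hzero
  exact exists_sub_mem_sq_of_mem_jIdeal hRB k hzero

/-- Injectivity of `K'/K'² → K/K²` when `A` is formally smooth over `R`, elementwise. -/
theorem mem_sq_of_algebraMap_mem_sq [Algebra.FormallySmooth R A]
    (hRB : Function.Surjective (algebraMap R B)) (x' : R)
    (h : algebraMap R A x' ∈ (RingHom.ker (algebraMap A B)) ^ 2) :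
    x' ∈ (RingHom.ker (algebraMap R B)) ^ 2 := by
  let f₀ : R →ₐ[R] B := Algebra.ofId R B
  have hsurj : Function.Surjective f₀.kerSquareLift := by
    intro s
    obtain ⟨p, rfl⟩ := hRB s
    exact ⟨Ideal.Quotient.mk _ p, rfl⟩
  have hsq : RingHom.ker (f₀.kerSquareLift : R ⧸ (RingHom.ker f₀.toRingHom ^ 2) →+* B) ^ 2 = ⊥ := by
    have := AlgHom.ker_kerSquareLift f₀
    change RingHom.ker f₀.kerSquareLift.toRingHom ^ 2 = ⊥
    rw [this]
    exact Ideal.cotangentIdeal_square _
  have hnil : IsNilpotent (RingHom.ker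
      (f₀.kerSquareLift : R ⧸ (RingHom.ker f₀.toRingHom ^ 2) →+* B)) := ⟨2, hsq⟩
  let lam := Algebra.FormallySmooth.liftOfSurjective (IsScalarTower.toAlgHom R A B)
    f₀.kerSquareLift hsurj hnil
  have hlam : f₀.kerSquareLift.comp lam = IsScalarTower.toAlgHom R A B :=
    Algebra.FormallySmooth.comp_liftOfSurjective _ _ hsurj hnil
  have h1 : ∀ k ∈ RingHom.ker (algebraMap A B),
      lam k ∈ RingHom.ker (f₀.kerSquareLift : R ⧸ (RingHom.ker f₀.toRingHom ^ 2) →+* B) := by
    intro k hk
    rw [RingHom.mem_ker]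
    have := congrArg (fun φ => φ k) hlam
    exact this.trans hk
  have h2 : lam (algebraMap R A x') ∈
      RingHom.ker (f₀.kerSquareLift : R ⧸ (RingHom.ker f₀.toRingHom ^ 2) →+* B) ^ 2 := by
    have h3 : (RingHom.ker (algebraMap A B)) ^ 2 ≤
        Ideal.comap lam (RingHom.ker
          (f₀.kerSquareLift : R ⧸ (RingHom.ker f₀.toRingHom ^ 2) →+* B) ^ 2) := by
      rw [pow_two, Ideal.mul_le]
      intro a ha b hb
      rw [Ideal.mem_comap, map_mul]
      have h4 := Ideal.mul_mem_mul (h1 a ha) (h1 b hb)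
      rwa [← pow_two] at h4
    exact h3 h
  rw [hsq, Ideal.mem_bot, AlgHom.commutes] at h2
  exact Ideal.Quotient.eq_zero_iff_mem.mp h2

end twoSurj

end Groth.Agent.Helper19.OmegaAlg
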