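import Mathlib
import Groth.Agent.Helper19.Conormal4
set_option autoImplicit false
set_option linter.style.haveILetI false
set_option linter.unusedSectionVars false
universe u

open CategoryTheory CategoryTheory.Limits AlgebraicGeometry Opposite TopologicalSpace
open scoped TensorProduct

/-! # Classes in the conormal sheaf and maps of conormal sheaves, locally -/

namespace Groth.Agent.Helper19.Conormal

open Groth.Agent.Lib.Helper29.QCoh Groth.Agent.Helper19.OmegaD Groth.Agent.Helper19.OmegaLocal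
open Groth.Agent.Helper19.OmegaAlg

section glue

variable {X : Scheme.{u}} (I : X.IdealSheafData)

/-- A function on an open `G` all of whose restrictions to affine opens lie in the ideal is a
section of the ideal sheaf. -/
theorem exists_idealSect_eq (G : X.Opens) (t : Γ(X, G))
    (h : ∀ (U : X.Opens) (hU : IsAffineOpen U) (hUG : U ≤ G),
      X.presheaf.map (homOfLE hUG).op t ∈ I.ideal ⟨U, hU⟩) :
    ∃ s : Γ(ClSub.idealMod I, G), OmegaSh.idealSect I G s = t := by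
  have : Mono (ShortComplex.mk (ClSub.idealModι I) (ClSub.toSubscheme I)
    (kernel.condition _)).f := inferInstanceAs (Mono (ClSub.idealModι I))
  have hex := app_exact_of_exact_of_mono
    (ShortComplex.mk (ClSub.idealModι I) (ClSub.toSubscheme I) (kernel.condition _))
    (ShortComplex.exact_kernel _) G
  have hz : (ClSub.toSubscheme I).app G (toUnit t) = 0 := by
    apply eq_of_res_basis_eq (ClSub.quotMod I) _ X.isBasis_affineOpens
    intro U hU hUG
    rw [← app_res, map_zero]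
    have h1 := h U hU hUG
    rw [← I.ker_subschemeι_app ⟨U, hU⟩, RingHom.mem_ker] at h1
    exact h1
  obtain ⟨s, hs⟩ := (hex (toUnit t)).mp hz
  exact ⟨s, hs⟩

end glue

section cls

variable {Z X : Scheme.{u}} (i : Z ⟶ X) {U : X.Opens} (hU : IsAffineOpen U)
  {V : Z.Opens} (e : V ≤ i ⁻¹ᵁ U)

/-- The class in `Γ(C_{Z/X}, i⁻¹U)` of an element of the ideal over an affine open `U`. -/
noncomputable def cls (x : i.ker.ideal ⟨U, hU⟩) : Γ(Omega.conormal i, i ⁻¹ᵁ U) :=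
  OmegaSh.conormalSect i U ((idealModSectionsEquiv i.ker ⟨U, hU⟩).symm x)

/-- The class restricted to `V ≤ i⁻¹U`. -/
noncomputable def clsV (x : i.ker.ideal ⟨U, hU⟩) : Γ(Omega.conormal i, V) :=
  res (Omega.conormal i) e (cls i hU x)

theorem idealElt_symm (x : i.ker.ideal ⟨U, hU⟩) :
    idealElt i hU ((idealModSectionsEquiv i.ker ⟨U, hU⟩).symm x) = x :=
  LinearEquiv.apply_symm_apply _ _

theorem idealSect_symm (x : i.ker.ideal ⟨U, hU⟩) :
    OmegaSh.idealSect i.ker U ((idealModSectionsEquiv i.ker ⟨U, hU⟩).symm x) = x.1 := by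
  rw [← idealElt_val i hU, idealElt_symm]

theorem clsV_self (x : i.ker.ideal ⟨U, hU⟩) : clsV i hU (le_refl (i ⁻¹ᵁ U)) x = cls i hU x :=
  res_self _ _

theorem conormalDiff_cls {S : Scheme.{u}} {f : X ⟶ S} {Ω' : X.Modules} (d : OmegaSh.Der f Ω')
    (φ : Omega.conormal i ⟶ (Scheme.Modules.pullback i).obj Ω')
    (hφ : OmegaSh.IsConormalDiff i d φ) (x : i.ker.ideal ⟨U, hU⟩) :
    φ.app (i ⁻¹ᵁ U) (cls i hU x) = OmegaSh.pullSect i Ω' U (d.app U x.1) := by
  unfold cls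
  rw [hφ U _, idealSect_symm]

set_option maxRecDepth 8000 in
theorem conormalSectionsEquiv_clsV (hV : IsAffineOpen V) (x : i.ker.ideal ⟨U, hU⟩) :
    letI := (i.appLE U V e).hom.toAlgebra
    conormalSectionsEquiv i hU hV e (clsV i hU e x) = (1 : Γ(Z, V)) ⊗ₜ[Γ(X, U)] x := by
  letI := (i.appLE U V e).hom.toAlgebra
  have h := conormalSectionsEquiv_conormalSect i hU hV e
    ((idealModSectionsEquiv i.ker ⟨U, hU⟩).symm x)
  rw [idealElt_symm] at h
  exact h

/-- `(U, V)` is a closed chart of `i`: `Γ(X,U) → Γ(Z,V)` is surjective with kernel the ideal. -/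
def IsClosedChart : Prop :=
  Function.Surjective (i.appLE U V e).hom ∧ RingHom.ker (i.appLE U V e).hom = i.ker.ideal ⟨U, hU⟩

theorem isClosedChart_of_eq [IsImmersion i] [QuasiCompact i] (hUc : U ≤ i.coborderRange)
    (hV : V = i ⁻¹ᵁ U) : IsClosedChart i hU (le_of_eq hV) := by
  subst hV
  constructor
  · rw [Scheme.Hom.appLE_eq_app]
    exact app_surjective_of_le_coborder i hU hUc
  · rw [Scheme.Hom.appLE_eq_app]
    exact ker_app_eq i hU

variable {i hU e}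

theorem exists_clsV_eq (hV : IsAffineOpen V) (hc : IsClosedChart i hU e)
    (m : Γ(Omega.conormal i, V)) : ∃ x : i.ker.ideal ⟨U, hU⟩, m = clsV i hU e x := by
  letI := (i.appLE U V e).hom.toAlgebra
  obtain ⟨x, hx⟩ := exists_one_tmul' (P := Γ(X, U)) (S := Γ(Z, V)) (i.ker.ideal ⟨U, hU⟩) hc.2 hc.1
    (conormalSectionsEquiv i hU hV e m)
  refine ⟨x, (conormalSectionsEquiv i hU hV e).injective ?_⟩
  rw [hx, conormalSectionsEquiv_clsV]

theorem clsV_eq_zero_iff (hV : IsAffineOpen V) (hc : IsClosedChart i hU e)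
    (x : i.ker.ideal ⟨U, hU⟩) : clsV i hU e x = 0 ↔ x.1 ∈ (i.ker.ideal ⟨U, hU⟩) ^ 2 := by
  letI := (i.appLE U V e).hom.toAlgebra
  rw [← one_tmul_eq_zero_iff' (P := Γ(X, U)) (S := Γ(Z, V)) (i.ker.ideal ⟨U, hU⟩) hc.2 hc.1 x,
    ← conormalSectionsEquiv_clsV i hU e hV x, LinearEquiv.map_eq_zero_iff]

theorem clsV_add (hV : IsAffineOpen V) (x y : i.ker.ideal ⟨U, hU⟩) :
    clsV i hU e (x + y) = clsV i hU e x + clsV i hU e y := by
  letI := (i.appLE U V e).hom.toAlgebra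
  apply (conormalSectionsEquiv i hU hV e).injective
  rw [map_add, conormalSectionsEquiv_clsV, conormalSectionsEquiv_clsV, conormalSectionsEquiv_clsV,
    TensorProduct.tmul_add]

theorem clsV_smul (hV : IsAffineOpen V) (a : Γ(X, U)) (x : i.ker.ideal ⟨U, hU⟩) :
    clsV i hU e (a • x) = (i.appLE U V e).hom a • clsV i hU e x := by
  letI := (i.appLE U V e).hom.toAlgebra
  apply (conormalSectionsEquiv i hU hV e).injective
  rw [map_smul, conormalSectionsEquiv_clsV, conormalSectionsEquiv_clsV,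
    TensorProduct.tmul_smul, TensorProduct.smul_tmul', TensorProduct.smul_tmul']
  congr 1

theorem clsV_congr (x y : i.ker.ideal ⟨U, hU⟩) (h : x.1 = y.1) :
    clsV i hU e x = clsV i hU e y := by
  rw [Subtype.ext h]

end cls

section conormalMap

variable {Z X Z' X' : Scheme.{u}} (i : Z ⟶ X) (i' : Z' ⟶ X') [QuasiCompact i] [QuasiCompact i']
  (g : X ⟶ X') (gZ : Z ⟶ Z')
  (φ : (Scheme.Modules.pullback gZ).obj (Omega.conormal i') ⟶ Omega.conormal i)
  (hφ : OmegaSh.IsConormalMap i i' g gZ φ)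
  {U' : X'.Opens} (hU' : IsAffineOpen U') {U : X.Opens} (hU : IsAffineOpen U)
  (hUU' : U ≤ g ⁻¹ᵁ U') {V' : Z'.Opens} (eV' : V' ≤ i' ⁻¹ᵁ U') {V : Z.Opens} (eV : V ≤ i ⁻¹ᵁ U)
  (hVV' : V ≤ gZ ⁻¹ᵁ V')

include hφ in
/-- `g♯` maps the ideal of `Z'` into the ideal of `Z`. -/
theorem appLE_mem_ker_ideal (x' : i'.ker.ideal ⟨U', hU'⟩) :
    (g.appLE U' U hUU').hom x'.1 ∈ i.ker.ideal ⟨U, hU⟩ := by
  rw [Scheme.Hom.ker_apply i ⟨U, hU⟩, RingHom.mem_ker]
  have hx' : (i'.app U').hom x'.1 = 0 := by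
    have h0 : ∀ y : Γ(X', U'), y ∈ i'.ker.ideal ⟨U', hU'⟩ → (i'.app U').hom y = 0 := by
      intro y hy
      rw [Scheme.Hom.ker_apply i' ⟨U', hU'⟩, RingHom.mem_ker] at hy
      exact hy
    exact h0 x'.1 x'.2
  have e1 : i ⁻¹ᵁ U ≤ (i ≫ g) ⁻¹ᵁ U' := fun z hz => hUU' hz
  have e2 : i ⁻¹ᵁ U ≤ (gZ ≫ i') ⁻¹ᵁ U' := by rw [hφ.1]; exact e1
  have e3 : i ⁻¹ᵁ U ≤ gZ ⁻¹ᵁ (i' ⁻¹ᵁ U') := e2
  have h1 : g.appLE U' U hUU' ≫ i.appLE U (i ⁻¹ᵁ U) le_rfl = (i ≫ g).appLE U' (i ⁻¹ᵁ U) e1 :=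
    Scheme.Hom.appLE_comp_appLE i g U' U (i ⁻¹ᵁ U) hUU' le_rfl
  have h2 : i'.appLE U' (i' ⁻¹ᵁ U') le_rfl ≫ gZ.appLE (i' ⁻¹ᵁ U') (i ⁻¹ᵁ U) e3 =
      (gZ ≫ i').appLE U' (i ⁻¹ᵁ U) e2 :=
    Scheme.Hom.appLE_comp_appLE gZ i' U' (i' ⁻¹ᵁ U') (i ⁻¹ᵁ U) le_rfl e3
  have h3 : (i ≫ g).appLE U' (i ⁻¹ᵁ U) e1 = (gZ ≫ i').appLE U' (i ⁻¹ᵁ U) e2 :=
    appLE_congr hφ.1.symm e1 e2
  have h4 : (i.app U).hom ((g.appLE U' U hUU').hom x'.1) =
      (gZ.appLE (i' ⁻¹ᵁ U') (i ⁻¹ᵁ U) e3).hom ((i'.app U').hom x'.1) := by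
    have := congrArg (fun k => k.hom x'.1) (h1.trans (h3.trans h2.symm))
    rw [Scheme.Hom.appLE_eq_app, Scheme.Hom.appLE_eq_app] at this
    exact this
  rw [h4, hx', map_zero]

include hφ in
/-- Local description of a canonical map of conormal sheaves on classes. -/
theorem conormalMap_clsV (x' : i'.ker.ideal ⟨U', hU'⟩) (x : i.ker.ideal ⟨U, hU⟩)
    (hx : x.1 = (g.appLE U' U hUU').hom x'.1) :
    φ.app V (res _ hVV' (pullSect gZ (Omega.conormal i') V' (clsV i' hU' eV' x'))) =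
      clsV i hU eV x := by
  -- the section of the ideal of `Z` over `g⁻¹U'`
  obtain ⟨s, hs⟩ := exists_idealSect_eq i.ker (g ⁻¹ᵁ U') ((g.app U').hom x'.1) (by
    intro U₁ hU₁ hU₁G
    exact appLE_mem_ker_ideal i i' g gZ φ hφ hU' hU₁ hU₁G x')
  let s' : Γ(ClSub.idealMod i'.ker, U') := (idealModSectionsEquiv i'.ker ⟨U', hU'⟩).symm x'
  have hs' : OmegaSh.idealSect i'.ker U' s' = x'.1 := idealSect_symm i' hU' x'
  have hss' : OmegaSh.idealSect i.ker (g ⁻¹ᵁ U') s = g.app U' (OmegaSh.idealSect i'.ker U' s') := by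
    rw [hs, hs']
  have h₁ : V ≤ gZ ⁻¹ᵁ (i' ⁻¹ᵁ U') := hVV'.trans (gZ.preimage_mono eV')
  have h₂ : V ≤ i ⁻¹ᵁ (g ⁻¹ᵁ U') := eV.trans (i.preimage_mono hUU')
  have key := hφ.2 U' s' s hss' V h₁ h₂
  -- left side
  have hL : φ.app V (res _ hVV' (pullSect gZ (Omega.conormal i') V' (clsV i' hU' eV' x'))) =
      res (Omega.conormal i) h₁ (φ.app (gZ ⁻¹ᵁ (i' ⁻¹ᵁ U'))
        (pullSect gZ (Omega.conormal i') (i' ⁻¹ᵁ U') (OmegaSh.conormalSect i' U' s'))) := by
    rw [← app_res]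
    congr 1
    unfold clsV cls
    rw [pullSect_res, res_res]
  -- right side
  have hR : clsV i hU eV x =
      res (Omega.conormal i) h₂ (OmegaSh.conormalSect i (g ⁻¹ᵁ U') s) := by
    unfold clsV cls
    have h5 : (idealModSectionsEquiv i.ker ⟨U, hU⟩).symm x =
        res (ClSub.idealMod i.ker) hUU' s := by
      rw [LinearEquiv.symm_apply_eq]
      apply Subtype.ext
      rw [idealModSectionsEquiv_apply]
      have h6 : (ClSub.idealModι i.ker).app U (res (ClSub.idealMod i.ker) hUU' s) =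
          res _ hUU' ((ClSub.idealModι i.ker).app (g ⁻¹ᵁ U') s) := app_res _ hUU' s
      rw [h6, hx]
      have h7 : fromUnit ((ClSub.idealModι i.ker).app (g ⁻¹ᵁ U') s) = (g.app U').hom x'.1 := hs
      change _ = X.presheaf.map (homOfLE hUU').op (fromUnit ((ClSub.idealModι i.ker).app (g ⁻¹ᵁ U') s))
      rw [h7]
      rfl
    rw [h5]
    have h8 : OmegaSh.conormalSect i U (res (ClSub.idealMod i.ker) hUU' s) =
        res (Omega.conormal i) (i.preimage_mono hUU') (OmegaSh.conormalSect i (g ⁻¹ᵁ U') s) :=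
      pullSect_res i (ClSub.idealMod i.ker) hUU' s
    rw [h8, res_res]
  rw [hL, hR]
  exact key

end conormalMap

end Groth.Agent.Helper19.Conormal
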