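import Mathlib
import Groth.Agent.Helper19.Conormal5
set_option autoImplicit false
set_option linter.style.haveILetI false
set_option linter.unusedSectionVars false
universe u

open CategoryTheory CategoryTheory.Limits AlgebraicGeometry Opposite TopologicalSpace
open scoped TensorProduct

/-! # Two immersions `i : Z → X`, `j : Z → Y` with `i ≫ p = j`: matching charts -/

namespace Groth.Agent.Helper19.Conormal

open Groth.Agent.Lib.Helper29.QCoh Groth.Agent.Helper19.OmegaD Groth.Agent.Helper19.OmegaLocal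
open Groth.Agent.Helper19.OmegaAlg

section matching

variable {Z X Y : Scheme.{u}} (p : X ⟶ Y) (i : Z ⟶ X) (j : Z ⟶ Y) [IsImmersion i] [IsImmersion j]
  [QuasiCompact i] [QuasiCompact j]

/-- Opens `i⁻¹U_X = j⁻¹U_Y` with `U_X`, `U_Y` affine inside the coborders and `U_X ≤ p⁻¹U_Y`. -/
def matchB : Set Z.Opens :=
  {V | ∃ (UX : X.Opens) (UY : Y.Opens), IsAffineOpen UX ∧ IsAffineOpen UY ∧
    UX ≤ i.coborderRange ∧ UY ≤ j.coborderRange ∧ UX ≤ p ⁻¹ᵁ UY ∧ j ⁻¹ᵁ UY ≤ i ⁻¹ᵁ UX ∧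
    V = i ⁻¹ᵁ UX}

theorem comp_apply_eq (hij : i ≫ p = j) (z : Z) : p (i z) = j z := by
  rw [← hij]; rfl

theorem isBasis_matchB (hij : i ≫ p = j) : Opens.IsBasis (matchB p i j) := by
  rw [Opens.isBasis_iff_nbhd]
  intro N z hz
  obtain ⟨UY0, hUY0, hUY0c, -, hzUY0, -⟩ := exists_cb j z ⊤ trivial ⊤ trivial
  have hzp : i z ∈ p ⁻¹ᵁ UY0 := by
    change p (i z) ∈ UY0
    rw [comp_apply_eq p i j hij]; exact hzUY0
  obtain ⟨UX0, hUX0, hUX0c, hUX0p, hzUX0, hUX0N⟩ := exists_cb i z N hz (p ⁻¹ᵁ UY0) hzp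
  have hV' : IsAffineOpen (j ⁻¹ᵁ UY0) := isAffineOpen_preimage_of_le_coborder j hUY0 hUY0c
  obtain ⟨b', hb'le, hzb'⟩ := hV'.exists_basicOpen_le (V := i ⁻¹ᵁ UX0) ⟨z, hzUX0⟩ hzUY0
  obtain ⟨r, hr⟩ := app_surjective_of_le_coborder j hUY0 hUY0c b'
  have hjr : j ⁻¹ᵁ (Y.basicOpen r) = Z.basicOpen b' := by
    rw [Scheme.preimage_basicOpen, hr]
  have hUXeq : X.basicOpen ((p.appLE UY0 UX0 hUX0p) r) = UX0 ⊓ p ⁻¹ᵁ (Y.basicOpen r) :=
    Scheme.basicOpen_appLE p UX0 UY0 hUX0p r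
  have hmem : ∀ z₁ : Z, z₁ ∈ j ⁻¹ᵁ (Y.basicOpen r) →
      z₁ ∈ i ⁻¹ᵁ (X.basicOpen ((p.appLE UY0 UX0 hUX0p) r)) := by
    intro z₁ hz₁
    have h1 : z₁ ∈ Z.basicOpen b' := hjr ▸ hz₁
    have h2 : z₁ ∈ i ⁻¹ᵁ UX0 := hb'le h1
    change i z₁ ∈ X.basicOpen ((p.appLE UY0 UX0 hUX0p) r)
    rw [hUXeq]
    refine ⟨h2, ?_⟩
    change p (i z₁) ∈ Y.basicOpen r
    rw [comp_apply_eq p i j hij]; exact hz₁
  refine ⟨i ⁻¹ᵁ (X.basicOpen ((p.appLE UY0 UX0 hUX0p) r)),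
    ⟨X.basicOpen ((p.appLE UY0 UX0 hUX0p) r), Y.basicOpen r, hUX0.basicOpen _, hUY0.basicOpen r,
      (X.basicOpen_le _).trans hUX0c, (Y.basicOpen_le r).trans hUY0c, ?_, hmem, rfl⟩, ?_, ?_⟩
  · rw [hUXeq]; exact inf_le_right
  · apply hmem
    rw [hjr]; exact hzb'
  · exact (i.preimage_mono (X.basicOpen_le _)).trans hUX0N

variable {p i j}
variable {UX : X.Opens} {UY : Y.Opens} (hUX : IsAffineOpen UX) (hUY : IsAffineOpen UY)
  (hUXc : UX ≤ i.coborderRange) (hUYc : UY ≤ j.coborderRange) (hUXY : UX ≤ p ⁻¹ᵁ UY)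
  (hJI : j ⁻¹ᵁ UY ≤ i ⁻¹ᵁ UX)

include hUXY in
theorem le_preimage_right (hij : i ≫ p = j) : i ⁻¹ᵁ UX ≤ j ⁻¹ᵁ UY := by
  intro z hz
  change j z ∈ UY
  rw [← comp_apply_eq p i j hij]
  exact hUXY hz

include hUXc in
theorem isClosedChart_left : IsClosedChart i hUX (le_refl (i ⁻¹ᵁ UX)) :=
  isClosedChart_of_eq i hUX hUXc rfl

include hUYc hUXY hJI in
theorem isClosedChart_right (hij : i ≫ p = j) :
    IsClosedChart j hUY (le_preimage_right hUXY hij) :=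
  isClosedChart_of_eq j hUY hUYc (le_antisymm (le_preimage_right hUXY hij) hJI)

include hUX hUXc hUYc hUXY hJI in
/-- Every section of `𝟙^* C_{Z/Y}` over a matching chart is the pullback of a class. -/
theorem exists_pbId_inv_clsV (hij : i ≫ p = j)
    (m' : Γ((Scheme.Modules.pullback (𝟙 Z)).obj (Omega.conormal j), i ⁻¹ᵁ UX)) :
    ∃ x' : j.ker.ideal ⟨UY, hUY⟩,
      m' = ((Scheme.Modules.pullbackId Z).inv.app (Omega.conormal j)).app (i ⁻¹ᵁ UX)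
        (clsV j hUY (le_preimage_right hUXY hij) x') := by
  have hV : IsAffineOpen (i ⁻¹ᵁ UX) := isAffineOpen_preimage_of_le_coborder i hUX hUXc
  obtain ⟨x', hx'⟩ := exists_clsV_eq hV (isClosedChart_right hUY hUYc hUXY hJI hij)
    (((Scheme.Modules.pullbackId Z).hom.app (Omega.conormal j)).app (i ⁻¹ᵁ UX) m')
  refine ⟨x', ?_⟩
  rw [← hx']
  exact (congrArg (fun k => (Scheme.Modules.Hom.app k (i ⁻¹ᵁ UX)) m')
    ((Scheme.Modules.pullbackId Z).hom_inv_id_app (Omega.conormal j))).symm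

/-- The canonical map `𝟙^* C_{Z/Y} → C_{Z/X}` on classes. -/
theorem conormalMap_pbId_inv_clsV (hij : i ≫ p = j)
    (ψ : (Scheme.Modules.pullback (𝟙 Z)).obj (Omega.conormal j) ⟶ Omega.conormal i)
    (hψ : OmegaSh.IsConormalMap i j p (𝟙 Z) ψ)
    (x' : j.ker.ideal ⟨UY, hUY⟩) (x : i.ker.ideal ⟨UX, hUX⟩)
    (hx : x.1 = (p.appLE UY UX hUXY).hom x'.1) :
    ψ.app (i ⁻¹ᵁ UX) (((Scheme.Modules.pullbackId Z).inv.app (Omega.conormal j)).app (i ⁻¹ᵁ UX)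
        (clsV j hUY (le_preimage_right hUXY hij) x')) = cls i hUX x := by
  have h := conormalMap_clsV i j p (𝟙 Z) ψ hψ hUY hUX hUXY (le_preimage_right hUXY hij)
    (le_refl (i ⁻¹ᵁ UX)) (le_refl (i ⁻¹ᵁ UX)) x' x hx
  rw [clsV_self] at h
  rw [pullbackId_inv_app_app]
  refine (congrArg (fun t => ψ.app (i ⁻¹ᵁ UX) t) ?_).trans h
  exact (res_self _ _).symm

end matching

end Groth.Agent.Helper19.Conormal
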