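import Mathlib
import Groth.Agent.Helper19.Conormal6
set_option autoImplicit false
set_option linter.style.haveILetI false
set_option linter.unusedSectionVars false
universe u

open CategoryTheory CategoryTheory.Limits AlgebraicGeometry Opposite TopologicalSpace
open scoped TensorProduct

/-! # Two composable immersions `Y' → Y → X`: charts and generation of pullbacks -/

namespace Groth.Agent.Helper19.OmegaAlg

theorem exists_mem_sq_sub_mem_ker {A B : Type u} [CommRing A] [CommRing B] (π : A →+* B)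
    (hπ : Function.Surjective π) (Jb : Ideal B) (y : A) (h : π y ∈ Jb ^ 2) :
    ∃ q ∈ (Jb.comap π) ^ 2, y - q ∈ RingHom.ker π := by
  have h1 : Jb ^ 2 = Ideal.map π ((Jb.comap π) ^ 2) := by
    rw [Ideal.map_pow, Ideal.map_comap_of_surjective π hπ]
  rw [h1, Ideal.mem_map_iff_of_surjective π hπ] at h
  obtain ⟨q, hq, hqy⟩ := h
  exact ⟨q, hq, by rw [RingHom.mem_ker, map_sub, hqy, sub_self]⟩

end Groth.Agent.Helper19.OmegaAlg

namespace Groth.Agent.Helper19.Conormal

open Groth.Agent.Lib.Helper29.QCoh Groth.Agent.Helper19.OmegaD Groth.Agent.Helper19.OmegaLocal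
open Groth.Agent.Helper19.OmegaAlg

theorem id_appLE_apply {X : Scheme.{u}} (U : X.Opens) (e : U ≤ (𝟙 X) ⁻¹ᵁ U) (x : Γ(X, U)) :
    ((𝟙 X : X ⟶ X).appLE U U e).hom x = x := by
  have h1 : X.presheaf.map (homOfLE (le_refl U)).op = 𝟙 _ := X.presheaf.map_id _
  have h2 : ((𝟙 X : X ⟶ X).appLE U U e).hom x =
      (X.presheaf.map (homOfLE (le_refl U)).op).hom x := rfl
  rw [h2, h1]
  rfl

instance isQuasicoherent_conormal {Z X : Scheme.{u}} (i : Z ⟶ X) :
    (Omega.conormal i).IsQuasicoherent := by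
  unfold Omega.conormal
  infer_instance

section span

variable {X Y : Scheme.{u}} (h : X ⟶ Y) (F : Y.Modules) [F.IsQuasicoherent]
  {U : X.Opens} (hU : IsAffineOpen U) {V : Y.Opens} (hV : IsAffineOpen V) (e : U ≤ h ⁻¹ᵁ V)

set_option maxRecDepth 8000 in
include hU hV in
/-- Sections of a pullback over an affine chart are generated by pullbacks of sections. -/
theorem pullback_span (m : Γ((Scheme.Modules.pullback h).obj F, U)) :
    m ∈ Submodule.span Γ(X, U)
      (Set.range (fun s : Γ(F, V) => res ((Scheme.Modules.pullback h).obj F) e (pullSect h F V s))) := by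
  letI := (h.appLE V U e).hom.toAlgebra
  let Θ := pullbackSectionsEquiv h F hU hV e
  have hΘ : ∀ s : Γ(F, V), Θ (res ((Scheme.Modules.pullback h).obj F) e (pullSect h F V s)) =
      (1 : Γ(X, U)) ⊗ₜ[Γ(Y, V)] s :=
    fun s => Groth.Agent.Helper19.PullUnit.pullbackSectionsEquiv_pullSect h F hU hV e s
  have key : ∀ t : Γ(X, U) ⊗[Γ(Y, V)] Γ(F, V), Θ.symm t ∈ Submodule.span Γ(X, U)
      (Set.range (fun s : Γ(F, V) =>
        res ((Scheme.Modules.pullback h).obj F) e (pullSect h F V s))) := by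
    intro t
    induction t using TensorProduct.induction_on with
    | zero => rw [map_zero]; exact zero_mem _
    | tmul c s =>
      have h1 : c ⊗ₜ[Γ(Y, V)] s = c • ((1 : Γ(X, U)) ⊗ₜ[Γ(Y, V)] s) := by
        rw [TensorProduct.smul_tmul', smul_eq_mul, mul_one]
      rw [h1, map_smul, ← hΘ, LinearEquiv.symm_apply_apply]
      exact Submodule.smul_mem _ _ (Submodule.subset_span ⟨s, rfl⟩)
    | add x y hx hy => rw [map_add]; exact add_mem hx hy
  have := key (Θ m)
  rw [LinearEquiv.symm_apply_apply] at this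
  exact this

end span

section tri

variable {Y' Y X : Scheme.{u}} (f : Y ⟶ X) [IsImmersion f] [QuasiCompact f]
  (j : Y' ⟶ Y) [IsImmersion j] [QuasiCompact j]

/-- Opens `(j ≫ f)⁻¹U` with `U` affine inside all coborders. -/
def triB : Set Y'.Opens :=
  {W | ∃ U : X.Opens, IsAffineOpen U ∧ U ≤ f.coborderRange ∧ U ≤ (j ≫ f).coborderRange ∧
    f ⁻¹ᵁ U ≤ j.coborderRange ∧ W = (j ≫ f) ⁻¹ᵁ U}

theorem isBasis_triB : Opens.IsBasis (triB f j) := by
  rw [Opens.isBasis_iff_nbhd]
  intro N y hy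
  obtain ⟨G', hG'o, hG'⟩ := f.isEmbedding.isInducing.isOpen_iff.mp j.coborderRange.2
  have hjy : j y ∈ j.coborderRange := subset_coborder ⟨y, rfl⟩
  have hyG : (j ≫ f) y ∈ (⟨G', hG'o⟩ : X.Opens) ⊓ f.coborderRange := by
    refine ⟨?_, subset_coborder ⟨j y, rfl⟩⟩
    have : j y ∈ (f : Y → X) ⁻¹' G' := by rw [hG']; exact hjy
    exact this
  obtain ⟨U, hU, hUc, hUM, hyU, hUN⟩ := exists_cb (j ≫ f) y N hy _ hyG
  refine ⟨(j ≫ f) ⁻¹ᵁ U, ⟨U, hU, hUM.trans inf_le_right, hUc, ?_, rfl⟩, hyU, hUN⟩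
  intro z hz
  have h1 : f z ∈ G' := (hUM hz).1
  have : z ∈ (f : Y → X) ⁻¹' G' := h1
  rw [hG'] at this
  exact this

end tri

end Groth.Agent.Helper19.Conormal
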