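import Mathlib
import Groth.Prelude.Def_CAlgX
import Groth.Agent.Helper19.Conormal7
set_option autoImplicit false
set_option linter.style.haveILetI false
set_option linter.unusedSectionVars false
universe u

open scoped TensorProduct

/-! # `H_1`-regular sequences: flat base change, `I ∩ J² = IJ`, freeness of the conormal module -/

namespace Groth.Agent.Helper19.OmegaAlg

section h1

/-- The trivial relations of a sequence. -/
def trivRel {R : Type u} [CommRing R] {c : ℕ} (f : Fin c → R) : Set (Fin c → R) :=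
  {v | ∃ i j : Fin c, v = Pi.single i (f j) - Pi.single j (f i)}

theorem isH1Regular_iff {R : Type u} [CommRing R] {c : ℕ} (f : Fin c → R) :
    CAlgX.IsH1Regular f ↔ ∀ a : Fin c → R, ∑ i, a i * f i = 0 →
      a ∈ Submodule.span R (trivRel f) := Iff.rfl

theorem coord_mem_of_mem_span_trivRel {R : Type u} [CommRing R] {c : ℕ} (f : Fin c → R)
    (v : Fin c → R) (hv : v ∈ Submodule.span R (trivRel f)) (k : Fin c) :
    v k ∈ Ideal.span (Set.range f) := by
  induction hv using Submodule.span_induction with
  | mem x hx =>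
    obtain ⟨i, j, rfl⟩ := hx
    rw [Pi.sub_apply]
    apply sub_mem
    · by_cases h : k = i
      · subst h; rw [Pi.single_eq_same]; exact Ideal.subset_span ⟨j, rfl⟩
      · rw [Pi.single_eq_of_ne h]; exact zero_mem _
    · by_cases h : k = j
      · subst h; rw [Pi.single_eq_same]; exact Ideal.subset_span ⟨i, rfl⟩
      · rw [Pi.single_eq_of_ne h]; exact zero_mem _
  | zero => exact zero_mem _
  | add x y _ _ hx hy => exact add_mem hx hy
  | smul a x _ hx => exact Ideal.mul_mem_left _ _ hx

theorem sum_mul_eq_zero_of_mem_span_trivRel {R : Type u} [CommRing R] {c : ℕ} (f : Fin c → R)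
    (v : Fin c → R) (hv : v ∈ Submodule.span R (trivRel f)) : ∑ k, v k * f k = 0 := by
  induction hv using Submodule.span_induction with
  | mem x hx =>
    obtain ⟨i, j, rfl⟩ := hx
    simp only [Pi.sub_apply, sub_mul, Finset.sum_sub_distrib]
    have h1 : ∑ k, (Pi.single i (f j) : Fin c → R) k * f k = f j * f i := by
      rw [Finset.sum_eq_single i]
      · rw [Pi.single_eq_same]
      · intro b _ hb; rw [Pi.single_eq_of_ne hb, zero_mul]
      · intro h; exact absurd (Finset.mem_univ i) h
    have h2 : ∑ k, (Pi.single j (f i) : Fin c → R) k * f k = f i * f j := by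
      rw [Finset.sum_eq_single j]
      · rw [Pi.single_eq_same]
      · intro b _ hb; rw [Pi.single_eq_of_ne hb, zero_mul]
      · intro h; exact absurd (Finset.mem_univ j) h
    rw [h1, h2, mul_comm, sub_self]
  | zero => simp
  | add x y _ _ hx hy =>
    simp only [Pi.add_apply, add_mul, Finset.sum_add_distrib, hx, hy, add_zero]
  | smul a x _ hx =>
    simp only [Pi.smul_apply, smul_eq_mul, mul_assoc]
    rw [← Finset.mul_sum, hx, mul_zero]

/-- `H_1`-regularity is preserved by flat ring maps. -/
theorem isH1Regular_of_flat {R R' : Type u} [CommRing R] [CommRing R'] [Algebra R R']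
    [Module.Flat R R'] {c : ℕ} (f : Fin c → R) (hf : CAlgX.IsH1Regular f) :
    CAlgX.IsH1Regular (fun k => algebraMap R R' (f k)) := by
  rw [isH1Regular_iff] at hf ⊢
  intro a' ha'
  have h0 : ∑ i, f i • a' i = 0 := by
    rw [← ha']
    apply Finset.sum_congr rfl
    intro i _
    rw [Algebra.smul_def, mul_comm]
  obtain ⟨k, α, y, hxy, hα⟩ := Module.Flat.isTrivialRelation_of_sum_smul_eq_zero
    (R := R) (M := R') (f := f) (x := a') h0
  have h1 : a' = ∑ j, y j • (fun i => algebraMap R R' (α i j)) := by
    funext i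
    rw [hxy i, Finset.sum_apply]
    apply Finset.sum_congr rfl
    intro j _
    rw [Pi.smul_apply, Algebra.smul_def, smul_eq_mul, mul_comm]
  rw [h1]
  apply Submodule.sum_mem
  intro j _
  apply Submodule.smul_mem
  have h2 : (fun i => α i j) ∈ Submodule.span R (trivRel f) := by
    apply hf
    rw [← hα j]
    apply Finset.sum_congr rfl
    intro i _
    rw [mul_comm]
  have key : ∀ v : Fin c → R, v ∈ Submodule.span R (trivRel f) →
      (fun i => algebraMap R R' (v i)) ∈
        Submodule.span R' (trivRel (fun k => algebraMap R R' (f k))) := by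
    intro v hv
    induction hv using Submodule.span_induction with
    | mem x hx =>
      obtain ⟨p, q, rfl⟩ := hx
      apply Submodule.subset_span
      refine ⟨p, q, ?_⟩
      funext i
      simp only [Pi.sub_apply, map_sub]
      congr 1
      · by_cases h : i = p
        · subst h; rw [Pi.single_eq_same, Pi.single_eq_same]
        · rw [Pi.single_eq_of_ne h, Pi.single_eq_of_ne h, map_zero]
      · by_cases h : i = q
        · subst h; rw [Pi.single_eq_same, Pi.single_eq_same]
        · rw [Pi.single_eq_of_ne h, Pi.single_eq_of_ne h, map_zero]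
    | zero =>
      have : (fun i => algebraMap R R' ((0 : Fin c → R) i)) = 0 := by
        funext i; simp
      rw [this]; exact zero_mem _
    | add x y _ _ hx hy =>
      have : (fun i => algebraMap R R' ((x + y) i)) =
          (fun i => algebraMap R R' (x i)) + (fun i => algebraMap R R' (y i)) := by
        funext i; simp
      rw [this]; exact add_mem hx hy
    | smul a x _ hx =>
      have : (fun i => algebraMap R R' ((a • x) i)) =
          algebraMap R R' a • (fun i => algebraMap R R' (x i)) := by
        funext i; simp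
      rw [this]; exact Submodule.smul_mem _ _ hx
  exact key _ h2

end h1

section inter

variable {A B : Type u} [CommRing A] [CommRing B] (π : A →+* B) (hπ : Function.Surjective π)
  {r : ℕ} (f : Fin r → A)

include hπ in
/-- If `Σ π(g_k) π(f_k) = 0` and `π ∘ f` is `H_1`-regular then `Σ g_k f_k ∈ ker π · J` for any
ideal `J` containing the `f_k`. -/
theorem sum_mul_mem_of_h1 (hf : CAlgX.IsH1Regular (fun k => π (f k))) (J : Ideal A)
    (hfJ : ∀ k, f k ∈ J) (g : Fin r → A) (hg : ∑ k, π (g k) * π (f k) = 0) :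
    ∑ k, g k * f k ∈ RingHom.ker π * J := by
  rw [isH1Regular_iff] at hf
  have hv := hf (fun k => π (g k)) hg
  -- property of vectors of `B`: some (hence any) lift has the sum in `ker π * J`
  have hany : ∀ g₁ g₂ : Fin r → A, (∀ k, π (g₁ k) = π (g₂ k)) →
      ∑ k, g₁ k * f k ∈ RingHom.ker π * J → ∑ k, g₂ k * f k ∈ RingHom.ker π * J := by
    intro g₁ g₂ h12 h1
    have : ∑ k, g₂ k * f k = ∑ k, g₁ k * f k + ∑ k, (g₂ k - g₁ k) * f k := by
      rw [← Finset.sum_add_distrib]
      apply Finset.sum_congr rfl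
      intro k _; ring
    rw [this]
    refine add_mem h1 (Ideal.sum_mem _ fun k _ => Ideal.mul_mem_mul ?_ (hfJ k))
    rw [RingHom.mem_ker, map_sub, h12 k, sub_self]
  have key : ∀ v : Fin r → B, v ∈ Submodule.span B (trivRel (fun k => π (f k))) →
      ∃ g₁ : Fin r → A, (∀ k, π (g₁ k) = v k) ∧ ∑ k, g₁ k * f k ∈ RingHom.ker π * J := by
    intro v hv
    induction hv using Submodule.span_induction with
    | mem x hx =>
      obtain ⟨p, q, rfl⟩ := hx
      refine ⟨Pi.single p (f q) - Pi.single q (f p), ?_, ?_⟩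
      · intro k
        simp only [Pi.sub_apply, map_sub]
        congr 1
        · by_cases h : k = p
          · subst h; rw [Pi.single_eq_same, Pi.single_eq_same]
          · rw [Pi.single_eq_of_ne h, Pi.single_eq_of_ne h, map_zero]
        · by_cases h : k = q
          · subst h; rw [Pi.single_eq_same, Pi.single_eq_same]
          · rw [Pi.single_eq_of_ne h, Pi.single_eq_of_ne h, map_zero]
      · have h0 := sum_mul_eq_zero_of_mem_span_trivRel f _
          (Submodule.subset_span (⟨p, q, rfl⟩ : _ ∈ trivRel f))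
        rw [h0]; exact zero_mem _
    | zero => exact ⟨0, fun k => by simp, by simp⟩
    | add x y _ _ hx hy =>
      obtain ⟨g₁, h₁, h₁'⟩ := hx
      obtain ⟨g₂, h₂, h₂'⟩ := hy
      refine ⟨g₁ + g₂, fun k => by rw [Pi.add_apply, map_add, h₁, h₂, Pi.add_apply], ?_⟩
      have : ∑ k, (g₁ + g₂) k * f k = ∑ k, g₁ k * f k + ∑ k, g₂ k * f k := by
        rw [← Finset.sum_add_distrib]
        apply Finset.sum_congr rfl
        intro k _; rw [Pi.add_apply]; ring
      rw [this]; exact add_mem h₁' h₂'
    | smul b x _ hx =>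
      obtain ⟨g₁, h₁, h₁'⟩ := hx
      obtain ⟨a, rfl⟩ := hπ b
      refine ⟨a • g₁, fun k => by
        rw [Pi.smul_apply, smul_eq_mul, map_mul, h₁, Pi.smul_apply, smul_eq_mul], ?_⟩
      have : ∑ k, (a • g₁) k * f k = a * ∑ k, g₁ k * f k := by
        rw [Finset.mul_sum]
        apply Finset.sum_congr rfl
        intro k _; rw [Pi.smul_apply, smul_eq_mul]; ring
      rw [this]; exact Ideal.mul_mem_left _ _ h₁'
  obtain ⟨g₁, h₁, h₁'⟩ := key _ hv
  exact hany g₁ g h₁ h₁'

include hπ in
/-- `I ∩ J² ⊆ I J` when `J = I + (f)` with `π ∘ f` an `H_1`-regular sequence. -/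
theorem mem_mul_of_mem_inter_sq (hf : CAlgX.IsH1Regular (fun k => π (f k))) (J : Ideal A)
    (hJ : J = RingHom.ker π ⊔ Ideal.span (Set.range f)) (x : A) (hxI : x ∈ RingHom.ker π)
    (hxJ : x ∈ J ^ 2) : x ∈ RingHom.ker π * J := by
  subst hJ
  have hfJ : ∀ k, f k ∈ RingHom.ker π ⊔ Ideal.span (Set.range f) := fun k =>
    Ideal.mem_sup_right (Ideal.subset_span ⟨k, rfl⟩)
  have h1 : (RingHom.ker π ⊔ Ideal.span (Set.range f)) ^ 2 =
      RingHom.ker π * (RingHom.ker π ⊔ Ideal.span (Set.range f)) ⊔
        Ideal.span (Set.range f) * (RingHom.ker π ⊔ Ideal.span (Set.range f)) := by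
    rw [pow_two, Ideal.sup_mul]
  rw [h1] at hxJ
  obtain ⟨u, hu, w, hw, rfl⟩ := Submodule.mem_sup.mp hxJ
  have hw' : w ∈ Ideal.span (Set.range f) := Ideal.mul_le_left hw
  obtain ⟨g, hg⟩ := (Ideal.mem_span_range_iff_exists_fun).mp hw'
  rw [← hg]
  refine add_mem hu (sum_mul_mem_of_h1 π hπ f hf _ hfJ g ?_)
  have hu0 : π u = 0 := by
    have : u ∈ RingHom.ker π := Ideal.mul_le_left hu
    exact this
  have hx0 : π (u + w) = 0 := hxI
  rw [map_add, hu0, zero_add, ← hg, map_sum] at hx0
  rw [← hx0]
  apply Finset.sum_congr rfl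
  intro k _; rw [map_mul]

end inter

section free

variable {B C : Type u} [CommRing B] [CommRing C] [Algebra B C]
  (hBC : Function.Surjective (algebraMap B C)) {r : ℕ} (f : Fin r → B)
  (hK : RingHom.ker (algebraMap B C) = Ideal.span (Set.range f))

theorem mem_ker_of_range (k : Fin r)
    (hK : RingHom.ker (algebraMap B C) = Ideal.span (Set.range f)) :
    f k ∈ RingHom.ker (algebraMap B C) := by
  rw [hK]; exact Ideal.subset_span ⟨k, rfl⟩

/-- Elements of `K * span(range f)` are combinations of the `f_k` with coefficients in `K`. -/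
theorem exists_coeff_mem_of_mem_mul (K : Ideal B) (x : B)
    (hx : x ∈ K * Ideal.span (Set.range f)) :
    ∃ d : Fin r → B, (∀ k, d k ∈ K) ∧ x = ∑ k, d k * f k := by
  induction hx using Submodule.mul_induction_on' with
  | mem_mul_mem a ha w hw =>
    obtain ⟨g, hg⟩ := (Ideal.mem_span_range_iff_exists_fun).mp hw
    refine ⟨fun k => a * g k, fun k => Ideal.mul_mem_right _ _ ha, ?_⟩
    rw [← hg, Finset.mul_sum]
    apply Finset.sum_congr rfl
    intro k _; ring
  | add x _ y _ hx hy =>
    obtain ⟨d₁, h₁, rfl⟩ := hx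
    obtain ⟨d₂, h₂, rfl⟩ := hy
    refine ⟨d₁ + d₂, fun k => add_mem (h₁ k) (h₂ k), ?_⟩
    rw [← Finset.sum_add_distrib]
    apply Finset.sum_congr rfl
    intro k _; rw [Pi.add_apply]; ring

include hBC hK in
/-- For `C = B/K` with `K` generated by an `H_1`-regular sequence of length `r`, `C ⊗_B K` is
free of rank `r`. -/
theorem exists_linearEquiv_of_h1 (hf : CAlgX.IsH1Regular f) :
    Nonempty ((Fin r → C) ≃ₗ[C] C ⊗[B] (RingHom.ker (algebraMap B C))) := by
  let v : Fin r → C ⊗[B] (RingHom.ker (algebraMap B C)) := fun k =>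
    (1 : C) ⊗ₜ[B] ⟨f k, mem_ker_of_range f k hK⟩
  let lin : (Fin r → C) →ₗ[C] C ⊗[B] (RingHom.ker (algebraMap B C)) :=
    Fintype.linearCombination C v
  have hlin : ∀ c : Fin r → C, lin c = ∑ k, c k • v k := fun c =>
    Fintype.linearCombination_apply C v c
  -- values on lifted vectors
  have hlift : ∀ b : Fin r → B, lin (fun k => algebraMap B C (b k)) =
      (1 : C) ⊗ₜ[B] (⟨∑ k, b k * f k, Ideal.sum_mem _ fun k _ =>
        Ideal.mul_mem_left _ _ (mem_ker_of_range f k hK)⟩ : RingHom.ker (algebraMap B C)) := by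
    intro b
    rw [hlin]
    have h1 : (⟨∑ k, b k * f k, Ideal.sum_mem _ fun k _ =>
        Ideal.mul_mem_left _ _ (mem_ker_of_range f k hK)⟩ : RingHom.ker (algebraMap B C)) =
        ∑ k, b k • (⟨f k, mem_ker_of_range f k hK⟩ : RingHom.ker (algebraMap B C)) := by
      apply Subtype.ext
      rw [AddSubmonoidClass.coe_finsetSum]
      rfl
    rw [h1, TensorProduct.tmul_sum]
    apply Finset.sum_congr rfl
    intro k _
    rw [TensorProduct.tmul_smul, ← algebraMap_smul C (b k)]
  refine ⟨LinearEquiv.ofBijective lin ⟨?_, ?_⟩⟩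
  · rw [injective_iff_map_eq_zero]
    intro c hc
    choose b hb using fun k => hBC (c k)
    have hcb : c = fun k => algebraMap B C (b k) := funext fun k => (hb k).symm
    rw [hcb, hlift] at hc
    have h2 : (∑ k, b k * f k) ∈ RingHom.ker (algebraMap B C) ^ 2 :=
      mem_sq_of_one_tmul_eq_zero hBC _ hc
    have hle : RingHom.ker (algebraMap B C) ^ 2 ≤
        RingHom.ker (algebraMap B C) * Ideal.span (Set.range f) := by
      rw [pow_two]
      exact Ideal.mul_mono_right (le_of_eq hK)
    have h3 : (∑ k, b k * f k) ∈ RingHom.ker (algebraMap B C) * Ideal.span (Set.range f) :=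
      hle h2
    obtain ⟨d, hd, hsum⟩ := exists_coeff_mem_of_mem_mul f _ _ h3
    have h4 : ∑ k, (b k - d k) * f k = 0 := by
      have : ∑ k, (b k - d k) * f k = ∑ k, b k * f k - ∑ k, d k * f k := by
        rw [← Finset.sum_sub_distrib]
        apply Finset.sum_congr rfl
        intro k _; ring
      rw [this, hsum, sub_self]
    have h5 := (isH1Regular_iff f).mp hf (fun k => b k - d k) h4
    rw [hcb]
    funext k
    have h6 := coord_mem_of_mem_span_trivRel f _ h5 k
    rw [← hK] at h6
    have h7 : b k ∈ RingHom.ker (algebraMap B C) := by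
      have : b k = (b k - d k) + d k := by ring
      rw [this]
      exact add_mem h6 (hd k)
    exact h7
  · intro t
    obtain ⟨x, rfl⟩ := exists_one_tmul hBC t
    have hx : x.1 ∈ Ideal.span (Set.range f) := by rw [← hK]; exact x.2
    obtain ⟨g, hg⟩ := (Ideal.mem_span_range_iff_exists_fun).mp hx
    refine ⟨fun k => algebraMap B C (g k), ?_⟩
    rw [hlift]
    congr 1
    exact Subtype.ext hg

end free

end Groth.Agent.Helper19.OmegaAlg
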