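import Mathlib
import Groth.Agent.Lib.Helper1.IdealSheafComap

/-!
# Base change of immersions on affine charts (helper19)

For a cartesian square `g' ≫ i = i' ≫ g`, an affine open `U` of `X` over which `i` is a closed
immersion and an affine open `U' ≤ g⁻¹U`: `i'` is a closed immersion over `U'` and the kernel of
`Γ(X', U') → Γ(Z', i'⁻¹U')` is generated by the image of the kernel of `Γ(X, U) → Γ(Z, i⁻¹U)`.
-/

set_option autoImplicit false
universe u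

open CategoryTheory CategoryTheory.Limits AlgebraicGeometry

namespace Groth.Agent.Helper19.RegImmBC

section ring

variable {A A₀ B B₀ ZA ZA₀ ZB ZB₀ : Type*} [CommRing A] [CommRing A₀] [CommRing B] [CommRing B₀]
  [CommRing ZA] [CommRing ZA₀] [CommRing ZB] [CommRing ZB₀]

theorem ker_transfer (τ : A₀ ≃+* A) (τ' : B₀ ≃+* B) (a : A →+* ZA) (a₀ : A₀ →+* ZA₀)
    (b : B →+* ZB) (b₀ : B₀ →+* ZB₀) (γ : A →+* B) (γ₀ : A₀ →+* B₀)
    (ha : ∀ x, a₀ x = 0 ↔ a (τ x) = 0) (hb : ∀ x, b₀ x = 0 ↔ b (τ' x) = 0)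
    (hγ : ∀ x, τ' (γ₀ x) = γ (τ x))
    (h : RingHom.ker b₀ = Ideal.map γ₀ (RingHom.ker a₀)) :
    RingHom.ker b = Ideal.map γ (RingHom.ker a) := by
  apply le_antisymm
  · intro y hy
    have h1 : τ'.symm y ∈ RingHom.ker b₀ := by
      rw [RingHom.mem_ker, hb, RingEquiv.apply_symm_apply]
      exact hy
    rw [h] at h1
    have h2 : ∀ z ∈ Ideal.map γ₀ (RingHom.ker a₀), τ' z ∈ Ideal.map γ (RingHom.ker a) := by
      intro z hz
      rw [Ideal.map] at hz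
      induction hz using Submodule.span_induction with
      | mem z hz =>
        obtain ⟨x, hx, rfl⟩ := hz
        rw [hγ]
        apply Ideal.mem_map_of_mem
        exact (ha x).mp hx
      | zero => rw [map_zero]; exact zero_mem _
      | add u v _ _ hu hv => rw [map_add]; exact add_mem hu hv
      | smul c u _ hu => rw [smul_eq_mul, map_mul]; exact Ideal.mul_mem_left _ _ hu
    have h3 := h2 _ h1
    rwa [RingEquiv.apply_symm_apply] at h3
  · rw [Ideal.map_le_iff_le_comap]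
    intro x hx
    rw [Ideal.mem_comap, RingHom.mem_ker]
    have h1 : τ.symm x ∈ RingHom.ker a₀ := by
      rw [RingHom.mem_ker, ha, RingEquiv.apply_symm_apply]
      exact hx
    have h2 : γ₀ (τ.symm x) ∈ RingHom.ker b₀ := by
      rw [h]; exact Ideal.mem_map_of_mem _ h1
    rw [RingHom.mem_ker, hb, hγ, RingEquiv.apply_symm_apply] at h2
    exact h2

end ring

section chart

variable {Z X Z' X' : Scheme.{u}} {i : Z ⟶ X} {g : X' ⟶ X} {i' : Z' ⟶ X'} {g' : Z' ⟶ Z}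

theorem le_preimage_aux (hsq : IsPullback g' i' i g) {U : X.Opens} {U' : X'.Opens}
    (e : U' ≤ g ⁻¹ᵁ U) : i' ⁻¹ᵁ U' ≤ g' ⁻¹ᵁ (i ⁻¹ᵁ U) := by
  intro z hz
  have h1 : g (i' z) ∈ U := e hz
  have h2 : g (i' z) = i (g' z) := by
    rw [← Scheme.Hom.comp_apply, ← hsq.w, Scheme.Hom.comp_apply]
  rw [h2] at h1
  exact h1

/-- The restricted square is cartesian. -/
theorem isPullback_restrict (hsq : IsPullback g' i' i g) {U : X.Opens} {U' : X'.Opens}
    (e : U' ≤ g ⁻¹ᵁ U) :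
    IsPullback (g'.resLE (i ⁻¹ᵁ U) (i' ⁻¹ᵁ U') (le_preimage_aux hsq e)) (i' ∣_ U') (i ∣_ U)
      (g.resLE U U' e) := by
  have h1 : IsPullback ((i' ⁻¹ᵁ U').ι ≫ g') (i' ∣_ U') i (U'.ι ≫ g) :=
    (isPullback_morphismRestrict i' U').flip.paste_horiz hsq
  have h2 : IsPullback (i ⁻¹ᵁ U).ι (i ∣_ U) i U.ι := (isPullback_morphismRestrict i U).flip
  have e1 : (i' ⁻¹ᵁ U').ι ≫ g' =
      g'.resLE (i ⁻¹ᵁ U) (i' ⁻¹ᵁ U') (le_preimage_aux hsq e) ≫ (i ⁻¹ᵁ U).ι :=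
    (Scheme.Hom.resLE_comp_ι g' _).symm
  have e2 : U'.ι ≫ g = g.resLE U U' e ≫ U.ι := (Scheme.Hom.resLE_comp_ι g e).symm
  rw [e1, e2] at h1
  refine IsPullback.of_right h1 ?_ h2
  rw [← cancel_mono U.ι, Category.assoc, Category.assoc, morphismRestrict_ι,
    Scheme.Hom.resLE_comp_ι, Scheme.Hom.resLE_comp_ι_assoc, morphismRestrict_ι_assoc, hsq.w]

theorem isClosedImmersion_restrict (hsq : IsPullback g' i' i g) {U : X.Opens} {U' : X'.Opens}
    (e : U' ≤ g ⁻¹ᵁ U) [IsClosedImmersion (i ∣_ U)] : IsClosedImmersion (i' ∣_ U') :=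
  MorphismProperty.of_isPullback (P := @IsClosedImmersion) (isPullback_restrict hsq e) ‹_›

theorem ker_restrict (hsq : IsPullback g' i' i g) {U : X.Opens} {U' : X'.Opens}
    (e : U' ≤ g ⁻¹ᵁ U) [IsClosedImmersion (i ∣_ U)] :
    (i' ∣_ U').ker = (i ∣_ U).ker.comap (g.resLE U U' e) := by
  have hp := (isPullback_restrict hsq e).flip
  have h1 : hp.isoPullback.hom ≫ pullback.fst (g.resLE U U' e) (i ∣_ U) = i' ∣_ U' :=
    hp.isoPullback_hom_fst
  rw [← h1, Scheme.Hom.ker_comp_of_isIso, Scheme.IdealSheafData.ker_fst_of_isClosedImmersion]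

end chart

section chart2

variable {X Y : Scheme.{u}} (f : X ⟶ Y) {U : Y.Opens} {V : X.Opens} (e : V ≤ f ⁻¹ᵁ U)

theorem resLE_app_top_eq_zero_iff (x : Γ(U.toScheme, ⊤)) :
    ((f.resLE U V e).app ⊤).hom x = 0 ↔ (f.appLE U V e).hom (U.topIso.hom.hom x) = 0 := by
  rw [Scheme.Hom.resLE_app_top]
  change V.topIso.inv.hom ((f.appLE U V e).hom (U.topIso.hom.hom x)) = 0 ↔ _
  have hinj := (ConcreteCategory.bijective_of_isIso V.topIso.inv).1
  exact map_eq_zero_iff _ hinj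

theorem morphismRestrict_app_top_eq_zero_iff (U : Y.Opens) (x : Γ(U.toScheme, ⊤)) :
    ((f ∣_ U).app ⊤).hom x = 0 ↔ (f.app U).hom (U.topIso.hom.hom x) = 0 := by
  have h := resLE_app_top_eq_zero_iff f (U := U) (V := f ⁻¹ᵁ U) le_rfl x
  rw [Scheme.Hom.resLE_eq_morphismRestrict, Scheme.Hom.appLE_eq_app] at h
  exact h

end chart2

section chart3

theorem appLE_eqToHom_aux {X X' : Scheme.{u}} (g : X' ⟶ X) {A B : X.Opens} {A' B' : X'.Opens}
    (hA : B = A) (hA' : B' = A') (e : B' ≤ g ⁻¹ᵁ B) (e₀ : A' ≤ g ⁻¹ᵁ A) :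
    g.appLE A A' e₀ ≫ X'.presheaf.map (eqToHom hA').op =
      X.presheaf.map (eqToHom hA).op ≫ g.appLE B B' e := by
  subst hA hA'
  simp

variable {Z X Z' X' : Scheme.{u}} {i : Z ⟶ X} {g : X' ⟶ X} {i' : Z' ⟶ X'} {g' : Z' ⟶ Z}

set_option maxRecDepth 8000 in
/-- Kernel of the base-changed immersion over an affine chart. -/
theorem ker_app_baseChange (hsq : IsPullback g' i' i g) (U : X.affineOpens)
    (U' : X'.affineOpens) (e : U'.1 ≤ g ⁻¹ᵁ U.1) [IsClosedImmersion (i ∣_ U.1)] :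
    RingHom.ker (i'.app U'.1).hom =
      Ideal.map (g.appLE U.1 U'.1 e).hom (RingHom.ker (i.app U.1).hom) := by
  haveI := isClosedImmersion_restrict hsq e
  haveI : IsAffine (U.1 : Scheme.{u}) := U.2
  haveI : IsAffine (U'.1 : Scheme.{u}) := U'.2
  let T : (U.1 : Scheme.{u}).affineOpens := ⟨⊤, isAffineOpen_top _⟩
  let T' : (U'.1 : Scheme.{u}).affineOpens := ⟨⊤, isAffineOpen_top _⟩
  have eT : T'.1 ≤ (g.resLE U.1 U'.1 e) ⁻¹ᵁ T.1 := le_top
  have h0 : (i' ∣_ U'.1).ker.ideal T' = ((i ∣_ U.1).ker.comap (g.resLE U.1 U'.1 e)).ideal T' := by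
    rw [ker_restrict hsq e]
  rw [Groth.Agent.Lib.Helper1.ideal_comap _ (g.resLE U.1 U'.1 e) T' T eT,
    Scheme.Hom.ker_apply, Scheme.Hom.ker_apply] at h0
  refine ker_transfer U.1.topIso.commRingCatIsoToRingEquiv U'.1.topIso.commRingCatIsoToRingEquiv
    (i.app U.1).hom ((i ∣_ U.1).app ⊤).hom (i'.app U'.1).hom ((i' ∣_ U'.1).app ⊤).hom
    (g.appLE U.1 U'.1 e).hom ((g.resLE U.1 U'.1 e).appLE ⊤ ⊤ eT).hom
    (morphismRestrict_app_top_eq_zero_iff i U.1) (morphismRestrict_app_top_eq_zero_iff i' U'.1)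
    ?_ h0
  intro x
  rw [Scheme.Hom.resLE_appLE]
  change (U'.1.topIso.hom).hom ((g.appLE (U.1.ι ''ᵁ ⊤) (U'.1.ι ''ᵁ ⊤) _).hom x) =
    (g.appLE U.1 U'.1 e).hom ((U.1.topIso.hom).hom x)
  have h1 : g.appLE (U.1.ι ''ᵁ ⊤) (U'.1.ι ''ᵁ ⊤) ((Scheme.Hom.le_resLE_preimage_iff g e ⊤ ⊤).mp eT) ≫
      U'.1.topIso.hom = U.1.topIso.hom ≫ g.appLE U.1 U'.1 e := by
    simp only [Scheme.Opens.topIso_hom]
    exact appLE_eqToHom_aux g _ _ e _
  exact congr($h1 x)

end chart3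

end Groth.Agent.Helper19.RegImmBC
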