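import Mathlib
import Groth.Prelude.Def_RegImm
import Groth.Agent.Helper19.RegImmBC
import Groth.Agent.Lib.Helper16.KzInv4

/-!
# Flat base change of regular immersions of a given kind (helper19)
-/

set_option autoImplicit false
set_option linter.style.haveILetI false
universe u

open CategoryTheory CategoryTheory.Limits AlgebraicGeometry

namespace Groth.Agent.Helper19.RegImmBC

/-- The kind `k` of sequences is stable under flat base change (with nontrivial quotient). -/
def KindFlatStable (k : RegImm.Kind) : Prop :=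
  ∀ {A B : Type u} [CommRing A] [CommRing B] (φ : A →+* B), φ.Flat → ∀ rs : List A,
    k.Seq A rs → Ideal.ofList (rs.map φ) ≠ ⊤ → k.Seq B (rs.map φ)

variable {Z X Z' X' : Scheme.{u}} {i : Z ⟶ X} {g : X' ⟶ X} {i' : Z' ⟶ X'} {g' : Z' ⟶ Z}

theorem isRegularImmersion_baseChange (k : RegImm.Kind) (hk : KindFlatStable.{u} k)
    (hsq : IsPullback g' i' i g) [Flat g] (hi : RegImm.IsRegularImmersion k i) :
    RegImm.IsRegularImmersion k i' := by
  haveI := hi.1
  refine ⟨MorphismProperty.of_isPullback (P := @IsImmersion) hsq hi.1, fun z' => ?_⟩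
  obtain ⟨U, hz, hcl, rs, hrs, hker⟩ := hi.2 (g' z')
  haveI := hcl
  have h1 : g (i' z') ∈ U.1 := by
    have h2 : g (i' z') = i (g' z') := by
      rw [← Scheme.Hom.comp_apply, ← hsq.w, Scheme.Hom.comp_apply]
    rw [h2]; exact hz
  obtain ⟨U', hU', hzU', e⟩ := exists_isAffineOpen_mem_and_subset (x := i' z') (U := g ⁻¹ᵁ U.1) h1
  have hflat : (g.appLE U.1 U' e).hom.Flat :=
    HasRingHomProperty.appLE (P := @Flat) g inferInstance U ⟨U', hU'⟩ e
  have hk1 := ker_app_baseChange hsq U ⟨U', hU'⟩ e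
  rw [hker, Ideal.map_ofList] at hk1
  refine ⟨⟨U', hU'⟩, hzU', isClosedImmersion_restrict hsq e, rs.map (g.appLE U.1 U' e).hom,
    hk (g.appLE U.1 U' e).hom hflat rs hrs ?_, hk1⟩
  rw [← hk1]
  intro htop
  have h3 : (1 : Γ(X', U')) ∈ RingHom.ker (i'.app U').hom := by rw [htop]; trivial
  rw [RingHom.mem_ker, map_one] at h3
  haveI : Nonempty (i' ⁻¹ᵁ U' : Z'.Opens) := ⟨⟨z', hzU'⟩⟩
  haveI : Nontrivial Γ(Z', i' ⁻¹ᵁ U') := Scheme.component_nontrivial Z' (i' ⁻¹ᵁ U')
  exact one_ne_zero h3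

/-- Koszul-regular sequences are stable under flat base change. -/
theorem kindFlatStable_koszul : KindFlatStable.{u} RegImm.Kind.koszul := by
  intro A B _ _ φ hφ rs hrs _
  letI := φ.toAlgebra
  haveI : Module.Flat A B := hφ
  exact Groth.Agent.Lib.Helper16.KzInv.isKoszulRegularSeq_map_of_flat (A := A) (B := B) hrs

end Groth.Agent.Helper19.RegImmBC
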