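import Mathlib
import Groth.Prelude.Def_RegImm
import Groth.Agent.Helper19.RegImmBC2
import Groth.Agent.Helper19.Conormal8

/-!
# Flat base change of regular / H1-regular / quasi-regular sequences (helper19)
-/

set_option autoImplicit false
set_option linter.style.haveILetI false
universe u

open MvPolynomial

namespace Groth.Agent.Helper19.RegImmBC

section reindex

variable {R : Type u} [CommRing R]

theorem isH1Regular_reindex {c c' : ℕ} (h : c = c') (f : Fin c → R) (f' : Fin c' → R)
    (hf : ∀ i, f' (Fin.cast h i) = f i) (hq : CAlgX.IsH1Regular f) : CAlgX.IsH1Regular f' := by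
  subst h
  have : f' = f := funext hf
  subst this
  exact hq

theorem isQuasiRegular_reindex {c c' : ℕ} (h : c = c') (f : Fin c → R) (f' : Fin c' → R)
    (hf : ∀ i, f' (Fin.cast h i) = f i) (hq : CAlgX.IsQuasiRegular f) :
    CAlgX.IsQuasiRegular f' := by
  subst h
  have : f' = f := funext hf
  subst this
  exact hq

end reindex

section quasi

variable {A B : Type u} [CommRing A] [CommRing B] [Algebra A B] [Module.Flat A B] {c : ℕ}

/-- The value of the monomial `X^d` at `g`. -/
noncomputable def mon {R : Type*} [CommRing R] (g : Fin c → R) (d : Fin c →₀ ℕ) : R :=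
  ∏ i ∈ d.support, g i ^ d i

theorem mon_map {R S : Type*} [CommRing R] [CommRing S] (φ : R →+* S) (g : Fin c → R)
    (d : Fin c →₀ ℕ) : mon (fun k => φ (g k)) d = φ (mon g d) := by
  unfold mon
  rw [map_prod]
  apply Finset.prod_congr rfl
  intro i _
  rw [map_pow]

theorem eval_sum_monomial {R : Type*} [CommRing R] (g : Fin c → R) (s : Finset (Fin c →₀ ℕ))
    (a : (Fin c →₀ ℕ) → R) :
    eval g (∑ d ∈ s, monomial d (a d)) = ∑ d ∈ s, a d * mon g d := by
  rw [map_sum]
  apply Finset.sum_congr rfl
  intro d _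
  rw [eval_monomial]
  rfl

theorem coeff_sum_monomial {R : Type*} [CommRing R] (s : Finset (Fin c →₀ ℕ))
    (a : (Fin c →₀ ℕ) → R) (d : Fin c →₀ ℕ) (hd : d ∈ s) :
    coeff d (∑ e ∈ s, monomial e (a e)) = a d := by
  classical
  rw [coeff_sum]
  simp only [coeff_monomial]
  rw [Finset.sum_ite_eq' s d]
  simp [hd]

theorem isHomogeneous_sum_monomial {R : Type*} [CommRing R] (s : Finset (Fin c →₀ ℕ))
    (a : (Fin c →₀ ℕ) → R) (n : ℕ) (hs : ∀ d ∈ s, d.degree = n) :
    (∑ e ∈ s, monomial e (a e)).IsHomogeneous n :=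
  IsHomogeneous.sum _ _ _ fun e he => isHomogeneous_monomial _ (hs e he)

theorem isQuasiRegular_of_flat (f : Fin c → A) (hf : CAlgX.IsQuasiRegular f) :
    CAlgX.IsQuasiRegular (fun k => algebraMap A B (f k)) := by
  classical
  intro n P hP hev d
  have hJ' : Ideal.span (Set.range fun k => algebraMap A B (f k)) =
      Ideal.map (algebraMap A B) (Ideal.span (Set.range f)) := by
    rw [Ideal.map_span, ← Set.range_comp]
    rfl
  obtain ⟨G, hG, hGe⟩ := (Ideal.mem_span_pow_iff_exists_isHomogeneous _ _).mp hev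
  by_cases hd : d ∈ P.support
  swap
  · rw [notMem_support_iff.mp hd]
    exact zero_mem _
  -- the relation
  let ι := (↥P.support) ⊕ (↥G.support)
  let r : ι → A := Sum.elim (fun d => mon f d.1) (fun e => - mon f e.1)
  let x : ι → B := Sum.elim (fun d => coeff d.1 P) (fun e => coeff e.1 G)
  have hrel : ∑ t, r t • x t = 0 := by
    rw [Fintype.sum_sum_type]
    simp only [r, x, Sum.elim_inl, Sum.elim_inr]
    have h1 : ∑ d : ↥P.support, mon f d.1 • coeff d.1 P =
        eval (fun k => algebraMap A B (f k)) P := by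
      rw [eval_eq, ← Finset.sum_coe_sort P.support]
      apply Finset.sum_congr rfl
      intro d _
      rw [Algebra.smul_def, mul_comm, ← mon_map]
      rfl
    have h2 : ∑ e : ↥G.support, (- mon f e.1) • coeff e.1 G =
        - eval (fun k => algebraMap A B (f k)) G := by
      rw [eval_eq, ← Finset.sum_coe_sort G.support, ← Finset.sum_neg_distrib]
      apply Finset.sum_congr rfl
      intro e _
      rw [Algebra.smul_def, map_neg, neg_mul, mul_comm, ← mon_map]
      rfl
    rw [h1, h2, hGe, add_neg_cancel]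
  obtain ⟨k, α, y, hxy, hα⟩ := Module.Flat.isTrivialRelation_of_sum_smul_eq_zero
    (R := A) (M := B) (f := r) (x := x) hrel
  -- the polynomials over `A`
  have hPdeg : ∀ e ∈ P.support, e.degree = n := by
    intro e he
    by_contra h
    exact (mem_support_iff.mp he) (hP.coeff_eq_zero h)
  have hGdeg : ∀ e ∈ G.support, e.degree = n + 1 := by
    intro e he
    by_contra h
    exact (mem_support_iff.mp he) (hG.coeff_eq_zero h)
  have hcoef : ∀ j : Fin k, α (Sum.inl ⟨d, hd⟩) j ∈ Ideal.span (Set.range f) := by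
    intro j
    let aP : (Fin c →₀ ℕ) → A := fun e => if he : e ∈ P.support then α (Sum.inl ⟨e, he⟩) j else 0
    let aG : (Fin c →₀ ℕ) → A := fun e => if he : e ∈ G.support then α (Sum.inr ⟨e, he⟩) j else 0
    have hj := hα j
    rw [Fintype.sum_sum_type] at hj
    simp only [r, Sum.elim_inl, Sum.elim_inr] at hj
    have e1 : ∑ d' : ↥P.support, mon f d'.1 * α (Sum.inl d') j =
        eval f (∑ e ∈ P.support, monomial e (aP e)) := by
      rw [eval_sum_monomial, ← Finset.sum_coe_sort P.support]
      apply Finset.sum_congr rfl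
      intro d' _
      simp only [aP, d'.2, dif_pos]
      rw [mul_comm]
    have e2 : ∑ e' : ↥G.support, (- mon f e'.1) * α (Sum.inr e') j =
        - eval f (∑ e ∈ G.support, monomial e (aG e)) := by
      rw [eval_sum_monomial, ← Finset.sum_coe_sort G.support, ← Finset.sum_neg_distrib]
      apply Finset.sum_congr rfl
      intro e' _
      simp only [aG, e'.2, dif_pos]
      rw [neg_mul, mul_comm]
    rw [e1, e2, add_neg_eq_zero] at hj
    have hmem : eval f (∑ e ∈ P.support, monomial e (aP e)) ∈
        Ideal.span (Set.range f) ^ (n + 1) := by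
      rw [hj]
      exact (Ideal.mem_span_pow_iff_exists_isHomogeneous _ _).mpr
        ⟨_, isHomogeneous_sum_monomial _ _ _ hGdeg, rfl⟩
    have h3 := hf n _ (isHomogeneous_sum_monomial _ aP n hPdeg) hmem d
    rw [coeff_sum_monomial _ _ _ hd] at h3
    have h4 : aP d = α (Sum.inl ⟨d, hd⟩) j := dif_pos hd
    rw [h4] at h3
    exact h3
  have hxd : coeff d P = ∑ j, α (Sum.inl ⟨d, hd⟩) j • y j := hxy (Sum.inl ⟨d, hd⟩)
  rw [hxd, hJ']
  refine Ideal.sum_mem _ fun j _ => ?_
  rw [Algebra.smul_def]
  exact Ideal.mul_mem_right _ _ (Ideal.mem_map_of_mem _ (hcoef j))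

end quasi

section kinds

theorem kindFlatStable_regular : KindFlatStable.{u} RegImm.Kind.regular := by
  intro A B _ _ φ hφ rs hrs hne
  letI := φ.toAlgebra
  haveI : Module.Flat A B := hφ
  have hrs' : RingTheory.Sequence.IsRegular A rs := hrs
  have h1 : RingTheory.Sequence.IsWeaklyRegular B (rs.map (algebraMap A B)) :=
    hrs'.toIsWeaklyRegular.of_flat
  refine (⟨h1, ?_⟩ : RingTheory.Sequence.IsRegular B (rs.map φ))
  intro htop
  apply hne
  have h2 : Ideal.ofList (rs.map φ) • (⊤ : Submodule B B) = Ideal.ofList (rs.map φ) := by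
    rw [smul_eq_mul, Ideal.mul_top]
  rw [h2] at htop
  exact htop.symm

theorem kindFlatStable_h1 : KindFlatStable.{u} RegImm.Kind.h1 := by
  intro A B _ _ φ hφ rs hrs _
  letI := φ.toAlgebra
  haveI : Module.Flat A B := hφ
  have hrs' : CAlgX.IsH1Regular rs.get := hrs
  have h1 := Groth.Agent.Helper19.OmegaAlg.isH1Regular_of_flat (R' := B) rs.get hrs'
  refine (isH1Regular_reindex (List.length_map φ).symm _ (rs.map φ).get ?_ h1 :
    CAlgX.IsH1Regular (rs.map φ).get)
  intro i
  simp
  rfl

theorem kindFlatStable_quasi : KindFlatStable.{u} RegImm.Kind.quasi := by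
  intro A B _ _ φ hφ rs hrs _
  letI := φ.toAlgebra
  haveI : Module.Flat A B := hφ
  have hrs' : CAlgX.IsQuasiRegular rs.get := hrs
  have h1 := isQuasiRegular_of_flat (B := B) rs.get hrs'
  refine (isQuasiRegular_reindex (List.length_map φ).symm _ (rs.map φ).get ?_ h1 :
    CAlgX.IsQuasiRegular (rs.map φ).get)
  intro i
  simp
  rfl

theorem kindFlatStable (k : RegImm.Kind) : KindFlatStable.{u} k := by
  cases k
  · exact kindFlatStable_regular
  · exact kindFlatStable_koszul
  · exact kindFlatStable_h1
  · exact kindFlatStable_quasi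

end kinds

end Groth.Agent.Helper19.RegImmBC
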