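import Mathlib
import Groth.Prelude.Def_RegImm
import Groth.Agent.Helper19.RegImmBC3
import Groth.Agent.Lib.Helper16.KzComp4

/-!
# Composition of Koszul-regular immersions: chart lemma (helper19)
-/

set_option autoImplicit false
set_option linter.style.haveILetI false
universe u

open CategoryTheory CategoryTheory.Limits AlgebraicGeometry

namespace Groth.Agent.Helper19.RegImmBC

section ring

variable {R S : Type u} [CommRing R] [CommRing S]

/-- Composition of Koszul-regular sequences along a surjection. -/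
theorem kreg_comp (p : R →+* S) (hp : Function.Surjective p) (a : List R)
    (ha : LCI.IsKoszulRegularSeq R a) (hker : RingHom.ker p = Ideal.ofList a) (b : List R)
    (hb : LCI.IsKoszulRegularSeq S (b.map p)) :
    LCI.IsKoszulRegularSeq R (b ++ a) ∧
      Ideal.comap p (Ideal.ofList (b.map p)) = Ideal.ofList (b ++ a) := by
  constructor
  · rw [Groth.Agent.Lib.Helper16.KzComp.kreg_append_iff a b ha]
    let e₁ : R ⧸ RingHom.ker p ≃+* S := RingHom.quotientKerEquivOfSurjective hp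
    let e₂ : R ⧸ Ideal.ofList a ≃+* R ⧸ RingHom.ker p := Ideal.quotEquivOfEq hker.symm
    let e : R ⧸ Ideal.ofList a ≃+* S := e₂.trans e₁
    have he : ∀ x : R, e (Ideal.Quotient.mk _ x) = p x := fun x => rfl
    have h1 := Groth.Agent.Lib.Helper16.KzComp.kreg_map_ringEquiv e.symm (b.map p) hb
    have h2 : (b.map p).map e.symm = b.map (Ideal.Quotient.mk (Ideal.ofList a)) := by
      rw [List.map_map]
      apply List.map_congr_left
      intro x _
      change e.symm (p x) = _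
      rw [← he x, RingEquiv.symm_apply_apply]
    rw [h2] at h1
    exact h1
  · rw [← Ideal.map_ofList, Ideal.comap_map_of_surjective p hp, ← RingHom.ker_eq_comap_bot, hker,
      Ideal.ofList_append]

end ring

section scheme

variable {Z X : Scheme.{u}} (i : Z ⟶ X)

theorem isAffineOpen_preimage_of_restrict {U : X.Opens} (hU : IsAffineOpen U)
    [IsClosedImmersion (i ∣_ U)] : IsAffineOpen (i ⁻¹ᵁ U) := by
  haveI : IsAffine (U : Scheme.{u}) := hU
  exact isAffine_of_isAffineHom (i ∣_ U)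

theorem app_surjective_of_restrict {U : X.Opens} (hU : IsAffineOpen U)
    [IsClosedImmersion (i ∣_ U)] : Function.Surjective (i.app U).hom := by
  haveI : IsAffine (U : Scheme.{u}) := hU
  have h1 : Function.Surjective ((i ∣_ U).app ⊤).hom :=
    (i ∣_ U).app_surjective ⊤ (isAffineOpen_top _)
  have h2 := Scheme.Hom.resLE_app_top i (U := U) (V := i ⁻¹ᵁ U) le_rfl
  rw [Scheme.Hom.resLE_eq_morphismRestrict, Scheme.Hom.appLE_eq_app] at h2
  intro y
  obtain ⟨x', hx'⟩ := h1 ((i ⁻¹ᵁ U).topIso.inv.hom y)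
  refine ⟨U.topIso.hom.hom x', ?_⟩
  have h3 : ((i ∣_ U).app ⊤).hom x' =
      (i ⁻¹ᵁ U).topIso.inv.hom ((i.app U).hom (U.topIso.hom.hom x')) := by
    rw [h2]; rfl
  rw [h3] at hx'
  exact (ConcreteCategory.bijective_of_isIso (i ⁻¹ᵁ U).topIso.inv).1 hx'

theorem id_appLE_eq (X : Scheme.{u}) {U W : X.Opens} (e : W ≤ U) (e' : W ≤ (𝟙 X) ⁻¹ᵁ U) :
    (𝟙 X : X ⟶ X).appLE U W e' = X.presheaf.map (homOfLE e).op := by
  simp only [Scheme.Hom.appLE, Scheme.Hom.id_app]
  exact Category.id_comp _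

/-- Restriction of a closed chart to a smaller affine open. -/
theorem restrict_chart (U W : X.affineOpens) (e : W.1 ≤ U.1) [IsClosedImmersion (i ∣_ U.1)] :
    IsClosedImmersion (i ∣_ W.1) ∧
      RingHom.ker (i.app W.1).hom =
        Ideal.map (X.presheaf.map (homOfLE e).op).hom (RingHom.ker (i.app U.1).hom) := by
  have hsq : IsPullback (𝟙 Z) i i (𝟙 X) := IsPullback.of_id_fst
  have e' : W.1 ≤ (𝟙 X) ⁻¹ᵁ U.1 := e
  refine ⟨isClosedImmersion_restrict hsq e', ?_⟩
  have h := ker_app_baseChange hsq U W e'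
  rw [id_appLE_eq X e e'] at h
  exact h

end scheme

section comp

variable {X Y Z : Scheme.{u}} (i : Y ⟶ X) (j : Z ⟶ Y)

set_option maxHeartbeats 800000 in
/-- The chart lemma for compositions of Koszul-regular immersions. -/
theorem comp_chart (z : Z) (U : X.affineOpens) (hzU : i (j z) ∈ U.1)
    [IsClosedImmersion (i ∣_ U.1)] (rs : List Γ(X, U.1)) (hrs : LCI.IsKoszulRegularSeq _ rs)
    (hker : RingHom.ker (i.app U.1).hom = Ideal.ofList rs)
    (V : Y.affineOpens) (hzV : j z ∈ V.1) [IsClosedImmersion (j ∣_ V.1)]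
    (ss : List Γ(Y, V.1)) (hss : LCI.IsKoszulRegularSeq _ ss)
    (hker' : RingHom.ker (j.app V.1).hom = Ideal.ofList ss) :
    ∃ W : X.affineOpens, (j ≫ i) z ∈ W.1 ∧ IsClosedImmersion ((j ≫ i) ∣_ W.1) ∧
      ∃ ts : List Γ(X, W.1), ts.length = ss.length + rs.length ∧
        LCI.IsKoszulRegularSeq _ ts ∧ RingHom.ker ((j ≫ i).app W.1).hom = Ideal.ofList ts := by
  have hUY : IsAffineOpen (i ⁻¹ᵁ U.1) := isAffineOpen_preimage_of_restrict i U.2
  have hsurjU : Function.Surjective (i.app U.1).hom := app_surjective_of_restrict i U.2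
  -- choose the basic open
  obtain ⟨hbar, hle, hmem⟩ := hUY.exists_basicOpen_le (V := V.1 ⊓ i ⁻¹ᵁ U.1)
    ⟨j z, hzV, hzU⟩ hzU
  obtain ⟨h, hh⟩ := hsurjU hbar
  let W : X.affineOpens := ⟨X.basicOpen h, U.2.basicOpen h⟩
  have hWU : W.1 ≤ U.1 := X.basicOpen_le h
  have hpre : i ⁻¹ᵁ W.1 = Y.basicOpen hbar := by
    change i ⁻¹ᵁ X.basicOpen h = _
    rw [Scheme.preimage_basicOpen]
    congr 1
  have hWV : i ⁻¹ᵁ W.1 ≤ V.1 := by
    rw [hpre]; exact hle.trans inf_le_left
  have hzW : i (j z) ∈ W.1 := by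
    have : j z ∈ i ⁻¹ᵁ W.1 := by rw [hpre]; exact hmem
    exact this
  -- the chart of `i` over `W`
  obtain ⟨hclW, hkerW⟩ := restrict_chart i U W hWU
  haveI := hclW
  have hWY : IsAffineOpen (i ⁻¹ᵁ W.1) := isAffineOpen_preimage_of_restrict i W.2
  have hsurjW : Function.Surjective (i.app W.1).hom := app_surjective_of_restrict i W.2
  -- the chart of `j` over `i⁻¹W`
  obtain ⟨hclW', hkerW'⟩ := restrict_chart j V ⟨i ⁻¹ᵁ W.1, hWY⟩ hWV
  haveI := hclW'
  rw [hker, Ideal.map_ofList] at hkerW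
  rw [hker', Ideal.map_ofList] at hkerW'
  -- regularity after restriction
  have hflat1 : (X.presheaf.map (homOfLE hWU).op).hom.Flat := by
    have e' : W.1 ≤ (𝟙 X) ⁻¹ᵁ U.1 := hWU
    have := HasRingHomProperty.appLE (P := @Flat) (𝟙 X) inferInstance U W e'
    rwa [id_appLE_eq X hWU e'] at this
  have hflat2 : (Y.presheaf.map (homOfLE hWV).op).hom.Flat := by
    have e' : i ⁻¹ᵁ W.1 ≤ (𝟙 Y) ⁻¹ᵁ V.1 := hWV
    have := HasRingHomProperty.appLE (P := @Flat) (𝟙 Y) inferInstance V ⟨i ⁻¹ᵁ W.1, hWY⟩ e'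
    rwa [id_appLE_eq Y hWV e'] at this
  have hrs' : LCI.IsKoszulRegularSeq Γ(X, W.1) (rs.map (X.presheaf.map (homOfLE hWU).op).hom) :=
    kindFlatStable_koszul _ hflat1 rs hrs (by
      rw [← hkerW]
      intro htop
      have h3 : (1 : Γ(X, W.1)) ∈ RingHom.ker (i.app W.1).hom := by rw [htop]; trivial
      rw [RingHom.mem_ker, map_one] at h3
      haveI : Nonempty (i ⁻¹ᵁ W.1 : Y.Opens) := ⟨⟨j z, hzW⟩⟩
      haveI : Nontrivial Γ(Y, i ⁻¹ᵁ W.1) := Scheme.component_nontrivial Y (i ⁻¹ᵁ W.1)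
      exact one_ne_zero h3)
  have hss' : LCI.IsKoszulRegularSeq Γ(Y, i ⁻¹ᵁ W.1)
      (ss.map (Y.presheaf.map (homOfLE hWV).op).hom) :=
    kindFlatStable_koszul _ hflat2 ss hss (by
      rw [← hkerW']
      intro htop
      have h3 : (1 : Γ(Y, i ⁻¹ᵁ W.1)) ∈ RingHom.ker (j.app (i ⁻¹ᵁ W.1)).hom := by
        rw [htop]; trivial
      rw [RingHom.mem_ker, map_one] at h3
      haveI : Nonempty (j ⁻¹ᵁ (i ⁻¹ᵁ W.1) : Z.Opens) := ⟨⟨z, hzW⟩⟩
      haveI : Nontrivial Γ(Z, j ⁻¹ᵁ (i ⁻¹ᵁ W.1)) :=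
        Scheme.component_nontrivial Z (j ⁻¹ᵁ (i ⁻¹ᵁ W.1))
      exact one_ne_zero h3)
  -- lift the second sequence
  obtain ⟨tt, -, htt⟩ := Groth.Agent.Lib.Helper16.KzLoc.exists_lift_list (i.app W.1).hom ⊤
    (ss.map (Y.presheaf.map (homOfLE hWV).op).hom) (by
      intro x _
      obtain ⟨y, hy⟩ := hsurjW x
      exact ⟨y, trivial, hy⟩)
  rw [← htt] at hss' hkerW'
  obtain ⟨hreg, hcomap⟩ := kreg_comp (i.app W.1).hom hsurjW _ hrs' hkerW tt hss'
  refine ⟨W, hzW, ?_, tt ++ rs.map (X.presheaf.map (homOfLE hWU).op).hom, ?_, hreg, ?_⟩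
  · rw [morphismRestrict_comp]
    exact MorphismProperty.comp_mem (W := @IsClosedImmersion) _ _ hclW' hclW
  · rw [List.length_append, List.length_map]
    have : tt.length = ss.length := by
      have := congrArg List.length htt
      rwa [List.length_map, List.length_map] at this
    rw [this]
  · rw [← hcomap, ← hkerW', RingHom.comap_ker]
    rfl

end comp

end Groth.Agent.Helper19.RegImmBC
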