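import Mathlib
import Groth.Prelude.Def_RegImm
import Groth.Agent.Helper19.RegImmComp
import Groth.Agent.Helper19.LciRing

/-!
# Dictionary: Koszul-regular immersions and Koszul-regular ideals on charts (helper19)
-/

set_option autoImplicit false
set_option linter.style.haveILetI false
set_option linter.unusedSectionVars false
universe u

open CategoryTheory CategoryTheory.Limits AlgebraicGeometry

namespace Groth.Agent.Helper19.LciDict

open Groth.Agent.Helper19.RegImmBC Groth.Agent.Lib.Helper16.KzComp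

theorem kreg_map_of_flat {A B : Type u} [CommRing A] [CommRing B] (φ : A →+* B) (hφ : φ.Flat)
    (rs : List A) (hrs : LCI.IsKoszulRegularSeq A rs) : LCI.IsKoszulRegularSeq B (rs.map φ) := by
  letI := φ.toAlgebra
  haveI : Module.Flat A B := hφ
  exact Groth.Agent.Lib.Helper16.KzInv.isKoszulRegularSeq_map_of_flat (A := A) (B := B) hrs

theorem mem_primeIdealOf_iff {X : Scheme.{u}} {U : X.Opens} (hU : IsAffineOpen U) (x : X)
    (hx : x ∈ U) (a : Γ(X, U)) :
    a ∈ (hU.primeIdealOf ⟨x, hx⟩).asIdeal ↔ x ∉ X.basicOpen a := by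
  have h1 : hU.fromSpec (hU.primeIdealOf ⟨x, hx⟩) = x := hU.fromSpec_primeIdealOf ⟨x, hx⟩
  have h2 : (hU.primeIdealOf ⟨x, hx⟩) ∈ hU.fromSpec ⁻¹ᵁ X.basicOpen a ↔
      (hU.primeIdealOf ⟨x, hx⟩) ∈ PrimeSpectrum.basicOpen a := by
    rw [hU.fromSpec_preimage_basicOpen]
    exact Iff.rfl
  have h3 : (hU.primeIdealOf ⟨x, hx⟩) ∈ hU.fromSpec ⁻¹ᵁ X.basicOpen a ↔ x ∈ X.basicOpen a := by
    change hU.fromSpec (hU.primeIdealOf ⟨x, hx⟩) ∈ X.basicOpen a ↔ _
    rw [h1]
  rw [← h3, h2, PrimeSpectrum.mem_basicOpen, not_not]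

section

variable {Z X : Scheme.{u}} (i : Z ⟶ X)

/-- restriction maps between affine opens are flat -/
theorem res_flat (U W : X.affineOpens) (e : W.1 ≤ U.1) :
    (X.presheaf.map (homOfLE e).op).hom.Flat := by
  have e' : W.1 ≤ (𝟙 X) ⁻¹ᵁ U.1 := e
  have := HasRingHomProperty.appLE (P := @Flat) (𝟙 X) inferInstance U W e'
  rwa [id_appLE_eq X e e'] at this

/-- sections over a basic open as a localization -/
theorem exists_equiv_away (U : X.affineOpens) (f : Γ(X, U.1)) :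
    ∃ e : Γ(X, X.basicOpen f) ≃+* Localization.Away f,
      ∀ a, e ((X.presheaf.map (homOfLE (X.basicOpen_le f)).op).hom a) =
        algebraMap Γ(X, U.1) (Localization.Away f) a := by
  haveI := U.2.isLocalization_basicOpen f
  let e' : Γ(X, X.basicOpen f) ≃ₐ[Γ(X, U.1)] Localization.Away f :=
    IsLocalization.algEquiv (Submonoid.powers f) _ _
  exact ⟨e'.toRingEquiv, fun a => e'.commutes a⟩

/-- **Dictionary, part 1**: a Koszul-regular immersion has Koszul-regular ideals on all charts. -/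
theorem isKoszulRegularIdeal_ker_app (hi : RegImm.IsRegularImmersion .koszul i)
    (U : X.affineOpens) [IsClosedImmersion (i ∣_ U.1)] :
    LCI.IsKoszulRegularIdeal (RingHom.ker (i.app U.1).hom) := by
  intro 𝔭 h𝔭
  have hUY : IsAffineOpen (i ⁻¹ᵁ U.1) := isAffineOpen_preimage_of_restrict i U.2
  have hsurj : Function.Surjective (i.app U.1).hom := app_surjective_of_restrict i U.2
  have hq : (𝔭.asIdeal.map (i.app U.1).hom).IsPrime :=
    Ideal.map_isPrime_of_surjective hsurj h𝔭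
  have hcomap : (𝔭.asIdeal.map (i.app U.1).hom).comap (i.app U.1).hom = 𝔭.asIdeal := by
    rw [Ideal.comap_map_of_surjective _ hsurj, ← RingHom.ker_eq_comap_bot]
    exact sup_eq_left.mpr h𝔭
  let 𝔮 : PrimeSpectrum Γ(Z, i ⁻¹ᵁ U.1) := ⟨_, hq⟩
  let z : Z := hUY.fromSpec 𝔮
  have hzU : z ∈ i ⁻¹ᵁ U.1 := by
    have := hUY.range_fromSpec
    have h2 : z ∈ Set.range hUY.fromSpec := ⟨𝔮, rfl⟩
    rw [this] at h2
    exact h2
  have hz : i z = U.2.fromSpec 𝔭 := by
    have h1 := IsAffineOpen.SpecMap_appLE_fromSpec i U.2 hUY le_rfl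
    have h2 : (hUY.fromSpec ≫ i) 𝔮 = (Spec.map (i.appLE U.1 (i ⁻¹ᵁ U.1) le_rfl) ≫ U.2.fromSpec) 𝔮 := by
      rw [h1]
    rw [Scheme.Hom.comp_apply, Scheme.Hom.comp_apply] at h2
    rw [show i z = i (hUY.fromSpec 𝔮) from rfl, h2]
    congr 1
    apply PrimeSpectrum.ext
    rw [← hcomap]
    rw [Scheme.Hom.appLE_eq_app]
    rfl
  obtain ⟨U₁, hx₁, hcl₁, rs, hrs, hker₁⟩ := hi.2 z
  haveI := hcl₁
  obtain ⟨f, g, hfg, hxf⟩ := exists_basicOpen_le_affine_inter U.2 U₁.2 (i z) ⟨hzU, hx₁⟩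
  let W : X.affineOpens := ⟨X.basicOpen f, U.2.basicOpen f⟩
  have hWU : W.1 ≤ U.1 := X.basicOpen_le f
  have hWU₁ : W.1 ≤ U₁.1 := by
    change X.basicOpen f ≤ U₁.1
    rw [hfg]; exact X.basicOpen_le g
  obtain ⟨-, hkerW⟩ := restrict_chart i U W hWU
  obtain ⟨-, hkerW₁⟩ := restrict_chart i U₁ W hWU₁
  rw [hker₁, Ideal.map_ofList] at hkerW₁
  have hrs' : LCI.IsKoszulRegularSeq Γ(X, W.1) (rs.map (X.presheaf.map (homOfLE hWU₁).op).hom) :=
    kreg_map_of_flat _ (res_flat U₁ W hWU₁) rs hrs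
  obtain ⟨e, he⟩ := exists_equiv_away U f
  have hf𝔭 : f ∉ 𝔭.asIdeal := by
    rw [hz] at hxf
    have h2 : 𝔭 ∈ U.2.fromSpec ⁻¹ᵁ X.basicOpen f := hxf
    rw [U.2.fromSpec_preimage_basicOpen] at h2
    exact h2
  refine ⟨f, hf𝔭, (rs.map (X.presheaf.map (homOfLE hWU₁).op).hom).map e,
    kreg_map_ringEquiv e _ hrs', ?_⟩
  have h3 : algebraMap Γ(X, U.1) (Localization.Away f) =
      (e : Γ(X, X.basicOpen f) →+* Localization.Away f).comp
        (X.presheaf.map (homOfLE hWU).op).hom := by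
    ext a
    exact (he a).symm
  rw [h3, ← Ideal.map_map, ← hkerW, hkerW₁, Ideal.map_ofList]
  rfl

/-- **Dictionary, part 2**: a chart with Koszul-regular ideal gives Koszul-regularity at a point. -/
theorem isRegularImmersionAt_of_isKoszulRegularIdeal (U : X.affineOpens)
    [IsClosedImmersion (i ∣_ U.1)] (z : Z) (hz : i z ∈ U.1)
    (hK : LCI.IsKoszulRegularIdeal (RingHom.ker (i.app U.1).hom)) :
    RegImm.IsRegularImmersionAt .koszul i z := by
  have h𝔭 : RingHom.ker (i.app U.1).hom ≤ (U.2.primeIdealOf ⟨i z, hz⟩).asIdeal := by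
    intro a ha
    rw [mem_primeIdealOf_iff]
    intro hmem
    have h1 : z ∈ i ⁻¹ᵁ X.basicOpen a := hmem
    rw [Scheme.preimage_basicOpen, show (i.app U.1).hom a = 0 from ha, Scheme.basicOpen_zero] at h1
    exact h1
  obtain ⟨g, hg, l, hl, hIl⟩ := hK (U.2.primeIdealOf ⟨i z, hz⟩) h𝔭
  let W : X.affineOpens := ⟨X.basicOpen g, U.2.basicOpen g⟩
  obtain ⟨e, he⟩ := exists_equiv_away U g
  obtain ⟨hclW, hkerW⟩ := restrict_chart i U W (X.basicOpen_le g)
  have hzW : i z ∈ W.1 := by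
    by_contra hcon
    exact hg ((mem_primeIdealOf_iff U.2 (i z) hz g).mpr hcon)
  refine ⟨W, hzW, hclW, l.map e.symm, kreg_map_ringEquiv e.symm l hl, ?_⟩
  rw [hkerW]
  have h3 : (X.presheaf.map (homOfLE (X.basicOpen_le g)).op).hom =
      (e.symm : Localization.Away g →+* Γ(X, X.basicOpen g)).comp
        (algebraMap Γ(X, U.1) (Localization.Away g)) := by
    ext a
    change _ = e.symm (algebraMap Γ(X, U.1) (Localization.Away g) a)
    rw [← he a, RingEquiv.symm_apply_apply]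
  change Ideal.map (X.presheaf.map (homOfLE (X.basicOpen_le g)).op).hom _ = _
  rw [h3, ← Ideal.map_map, hIl]
  change Ideal.map _ (Ideal.ofList l) = _
  rw [Ideal.map_ofList]
  rfl

end

end Groth.Agent.Helper19.LciDict
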