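import Mathlib
import Groth.Prelude.Def_RegImm
import Groth.Agent.Helper19.LciDict

/-!
# Koszul-regular immersions and Koszul morphisms via `LCIMor` (helper19)

* `isRegularImmersion_koszul_iff`: an immersion is Koszul-regular iff it is an `LCIMor`.
* `forall_isKoszulAt_iff`: `f` is Koszul at every point iff it is an `LCIMor`.
-/

set_option autoImplicit false
set_option linter.style.haveILetI false
set_option linter.unusedSectionVars false
universe u

open CategoryTheory CategoryTheory.Limits AlgebraicGeometry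

namespace Groth.Agent.Helper19.LciMor

open Groth.Agent.Helper19.RegImmBC Groth.Agent.Lib.Helper16.KzComp Groth.Agent.Helper19.LciDict
open Groth.Agent.Helper19.LciRing

instance : (LCIMor.{u}).IsStableUnderComposition :=
  HasRingHomProperty.stableUnderComposition (P := LCIMor.{u}) isLCIHom_stableUnderComposition

theorem isLCIHom_stableSource :
    RingHom.StableUnderCompositionWithLocalizationAwaySource @IsLCIHom :=
  (RingHom.StableUnderComposition.stableUnderCompositionWithLocalizationAway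
    isLCIHom_stableUnderComposition isLCIHom_holdsForLocalizationAway).1

section charts

variable {Z X : Scheme.{u}} (i : Z ⟶ X)

theorem isClosedImmersion_restrict_of_le_coborderRange [IsImmersion i] (D : X.Opens)
    (hD : D ≤ i.coborderRange) : IsClosedImmersion (i ∣_ D) := by
  have : IsPreimmersion (i ∣_ D) := inferInstance
  refine IsClosedImmersion.of_isPreimmersion _ ?_
  have hrange : Set.range (i ∣_ D).base = Subtype.val ⁻¹' Set.range i.base := by
    rw [morphismRestrict_base]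
    exact Set.range_restrictPreimage _ _
  rw [hrange]
  have hD' : (D : Set X) ⊆ coborder (Set.range i.base) := hD
  have hcl : IsClosed ((Subtype.val : coborder (Set.range i.base) → X) ⁻¹' Set.range i.base) :=
    isClosed_preimage_val_coborder
  exact hcl.preimage (continuous_inclusion hD')

/-- affine charts of an immersion, arbitrarily small -/
theorem exists_chart [IsImmersion i] (z : Z) (N : Z.Opens) (hz : z ∈ N) (M : X.Opens)
    (hzM : i z ∈ M) :
    ∃ U : X.affineOpens, IsClosedImmersion (i ∣_ U.1) ∧ U.1 ≤ M ∧ i z ∈ U.1 ∧ i ⁻¹ᵁ U.1 ≤ N := by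
  obtain ⟨N', hN'o, hN'⟩ := i.isEmbedding.isInducing.isOpen_iff.mp N.2
  have hzN' : i z ∈ N' := by
    have : z ∈ (i : Z → X) ⁻¹' N' := by rw [hN']; exact hz
    exact this
  have hzc : i z ∈ i.coborderRange := subset_coborder ⟨z, rfl⟩
  obtain ⟨U, hU, hzU, hUle⟩ := exists_isAffineOpen_mem_and_subset (x := i z)
    (U := (⟨N', hN'o⟩ : X.Opens) ⊓ i.coborderRange ⊓ M) ⟨⟨hzN', hzc⟩, hzM⟩
  refine ⟨⟨U, hU⟩, isClosedImmersion_restrict_of_le_coborderRange i U
    (hUle.trans (inf_le_left.trans inf_le_right)), hUle.trans inf_le_right, hzU, ?_⟩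
  intro y hy
  have h1 : i y ∈ N' := (hUle hy).1.1
  have : y ∈ (i : Z → X) ⁻¹' N' := h1
  rw [hN'] at this
  exact this

/-- **An immersion is Koszul-regular iff it is a local complete intersection morphism.** -/
theorem isRegularImmersion_koszul_iff :
    RegImm.IsRegularImmersion .koszul i ↔ IsImmersion i ∧ LCIMor i := by
  constructor
  · intro hi
    refine ⟨hi.1, ?_⟩
    rw [HasRingHomProperty.iff_exists_appLE (P := LCIMor.{u}) isLCIHom_stableSource]
    intro z
    obtain ⟨U, hzU, hcl, rs, hrs, hker⟩ := hi.2 z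
    haveI := hcl
    have hUY : IsAffineOpen (i ⁻¹ᵁ U.1) := isAffineOpen_preimage_of_restrict i U.2
    refine ⟨U, ⟨i ⁻¹ᵁ U.1, hUY⟩, hzU, le_rfl, ?_⟩
    rw [Scheme.Hom.appLE_eq_app]
    rw [isLCIHom_iff_of_surjective _ (app_surjective_of_restrict i U.2), hker]
    exact isKoszulRegularIdeal_ofList rs hrs
  · rintro ⟨himm, hlci⟩
    refine ⟨himm, fun z => ?_⟩
    obtain ⟨U, hcl, -, hzU, -⟩ := exists_chart i z ⊤ trivial ⊤ trivial
    haveI := hcl
    have hUY : IsAffineOpen (i ⁻¹ᵁ U.1) := isAffineOpen_preimage_of_restrict i U.2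
    refine isRegularImmersionAt_of_isKoszulRegularIdeal i U z hzU ?_
    rw [← isLCIHom_iff_of_surjective _ (app_surjective_of_restrict i U.2)]
    have h1 := (lciMor_iff i).mp hlci (i ⁻¹ᵁ U.1) U.1 hUY U.2 le_rfl
    rwa [Scheme.Hom.appLE_eq_app] at h1

end charts

section master

variable {X Y : Scheme.{u}} (f : X ⟶ Y)

theorem lciMor_of_smooth [Smooth f] : LCIMor f := by
  rw [lciMor_iff]
  intro U V hU hV hUV
  exact isLCIHom_of_smooth _
    ((HasRingHomProperty.iff_appLE (P := @Smooth)).1 ‹Smooth f› ⟨V, hV⟩ ⟨U, hU⟩ hUV)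

theorem lciMor_of_forall_isKoszulAt (hf : ∀ x : X, Synt.IsKoszulAt f x) : LCIMor f := by
  choose U P i π hxU _ hi hπ hfac using hf
  have hsup : iSup U = ⊤ := top_le_iff.mp fun x _ => TopologicalSpace.Opens.mem_iSup.2 ⟨x, hxU x⟩
  refine IsZariskiLocalAtSource.of_iSup_eq_top (P := LCIMor.{u}) U hsup fun x => ?_
  rw [← hfac x]
  haveI := hπ x
  exact MorphismProperty.comp_mem _ _ _ ((isRegularImmersion_koszul_iff (i x)).mp (hi x)).2
    (lciMor_of_smooth (π x))

theorem isKoszulAt_of_lciMor (hf : LCIMor f) (x : X) : Synt.IsKoszulAt f x := by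
  -- affine charts
  obtain ⟨_, ⟨V, hV, rfl⟩, hxV, -⟩ :=
    Y.isBasis_affineOpens.exists_subset_of_mem_open (Set.mem_univ (f x)) isOpen_univ
  have hV' : IsAffineOpen V := hV
  obtain ⟨_, ⟨U, hU, rfl⟩, hxU, hUV⟩ :=
    X.isBasis_affineOpens.exists_subset_of_mem_open (show x ∈ f ⁻¹ᵁ V from hxV) (f ⁻¹ᵁ V).2
  have hU' : IsAffineOpen U := hU
  have hUV' : U ≤ f ⁻¹ᵁ V := hUV
  have h1 : IsLCIHom (f.appLE V U hUV').hom := (lciMor_iff f).mp hf U V hU' hV' hUV'
  letI := (f.appLE V U hUV').hom.toAlgebra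
  obtain ⟨-, n, α, hα, hK⟩ := (show LCI.IsLCI Γ(Y, V) Γ(X, U) from h1)
  let Pn : Scheme.{u} := Spec (CommRingCat.of (MvPolynomial (Fin n) Γ(Y, V)))
  let i₀ : Spec Γ(X, U) ⟶ Pn := Spec.map (CommRingCat.ofHom α.toRingHom)
  let i : (U : Scheme.{u}) ⟶ Pn := hU'.isoSpec.hom ≫ i₀
  let π₀ : Pn ⟶ Spec Γ(Y, V) :=
    Spec.map (CommRingCat.ofHom (algebraMap Γ(Y, V) (MvPolynomial (Fin n) Γ(Y, V))))
  let π : Pn ⟶ Y := π₀ ≫ hV'.fromSpec
  have hfac : i ≫ π = Scheme.Opens.ι U ≫ f := by
    have h2 : i₀ ≫ π₀ = Spec.map (f.appLE V U hUV') := by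
      rw [← Spec.map_comp]
      congr 1
      ext a
      exact α.commutes a
    have h3 := IsAffineOpen.SpecMap_appLE_fromSpec f hV' hU' hUV'
    calc i ≫ π = hU'.isoSpec.hom ≫ (i₀ ≫ π₀) ≫ hV'.fromSpec := by
          simp only [i, π, Category.assoc]
      _ = hU'.isoSpec.hom ≫ hU'.fromSpec ≫ f := by rw [h2, h3]
      _ = Scheme.Opens.ι U ≫ f := by rw [← Category.assoc, hU'.isoSpec_hom_fromSpec]
  have hcl₀ : IsClosedImmersion i₀ := IsClosedImmersion.spec_of_surjective _ hα
  have hcl : IsClosedImmersion i := by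
    haveI := hcl₀
    infer_instance
  have hsm₀ : Smooth π₀ := by
    rw [HasRingHomProperty.Spec_iff (P := @Smooth)]
    exact RingHom.smooth_algebraMap.mpr
      (⟨inferInstance, inferInstance⟩ : Algebra.Smooth Γ(Y, V) (MvPolynomial (Fin n) Γ(Y, V)))
  have hsm : Smooth π := by
    haveI := hsm₀
    infer_instance
  have hlci₀ : LCIMor i₀ := by
    rw [HasRingHomProperty.Spec_iff (P := LCIMor.{u})]
    exact (isLCIHom_iff_of_surjective _ hα).mpr hK
  have hlci : LCIMor i := by
    exact (MorphismProperty.cancel_left_of_respectsIso LCIMor.{u} hU'.isoSpec.hom i₀).mpr hlci₀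
  refine ⟨U, Pn, i, π, hxU, ?_, (isRegularImmersion_koszul_iff i).mpr ⟨inferInstance, hlci⟩, hsm,
    hfac⟩
  rw [← hfac]
  haveI := hsm
  infer_instance

/-- **Koszul at every point iff local complete intersection morphism (affine-local sense).** -/
theorem forall_isKoszulAt_iff : (∀ x : X, Synt.IsKoszulAt f x) ↔ LCIMor f :=
  ⟨lciMor_of_forall_isKoszulAt f, isKoszulAt_of_lciMor f⟩

end master

end Groth.Agent.Helper19.LciMor
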