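import Mathlib
import Groth.Prelude.Def_LCI2
import Groth.Agent.Helper19.LciRing
import Groth.Agent.Lib.Helper25.SectionRegular
import Groth.Agent.Lib.Helper16.KzComp7

/-!
# Koszul-regular ideals and smooth ring maps (helper19)

For `φ : A → B` smooth and `β : B → C` surjective with `β ∘ φ` surjective:
`ker β` is a Koszul-regular ideal iff `ker (β ∘ φ)` is.
-/

set_option autoImplicit false
set_option linter.style.haveILetI false
set_option linter.unusedSectionVars false
universe u

open CategoryTheory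

namespace Groth.Agent.Helper19.LciSmooth

open Groth.Agent.Lib.Helper16.KzComp Groth.Agent.Helper19.LciRing

/-- the ideal of a section of a smooth algebra is Koszul-regular -/
theorem isKoszulRegularIdeal_of_section {A B : Type u} [CommRing A] [CommRing B] [Algebra A B]
    [Algebra.Smooth A B] (J : Ideal B)
    (hbij : Function.Bijective ((Ideal.Quotient.mk J).comp (algebraMap A B))) :
    LCI.IsKoszulRegularIdeal J := by
  intro 𝔮 h𝔮
  obtain ⟨g, n, b, hg, -, H⟩ :=
    Groth.Agent.Lib.Helper25.SectionRegular.exists_regular_of_section J hbij 𝔮.asIdeal h𝔮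
  obtain ⟨hreg, hmap⟩ := H (Localization.Away g)
  exact ⟨g, hg, _, kreg_of_isWeaklyRegular _ hreg, hmap⟩

variable {A B C : Type u} [CommRing A] [CommRing B] [CommRing C]

/-- descent: `ker β` Koszul-regular ⇒ `ker (β ∘ φ)` Koszul-regular -/
theorem isKoszulRegularIdeal_ker_comp_of_smooth (φ : A →+* B) (hφ : φ.Smooth) (β : B →+* C)
    (hβ : Function.Surjective β) (hβφ : Function.Surjective (β.comp φ))
    (hJ : LCI.IsKoszulRegularIdeal (RingHom.ker β)) :
    LCI.IsKoszulRegularIdeal (RingHom.ker (β.comp φ)) := by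
  rw [← isLCIHom_iff_of_surjective _ hβφ]
  exact isLCIHom_stableUnderComposition _ _ (isLCIHom_of_smooth φ hφ)
    ((isLCIHom_iff_of_surjective β hβ).mpr hJ)

/-- ascent: `ker (β ∘ φ)` Koszul-regular ⇒ `ker β` Koszul-regular -/
theorem isKoszulRegularIdeal_ker_of_smooth (φ : A →+* B) (hφ : φ.Smooth) (β : B →+* C)
    (hβ : Function.Surjective β) (hβφ : Function.Surjective (β.comp φ))
    (hI : LCI.IsKoszulRegularIdeal (RingHom.ker (β.comp φ))) :
    LCI.IsKoszulRegularIdeal (RingHom.ker β) := by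
  algebraize [φ]
  set I := RingHom.ker (β.comp φ) with hIdef
  have hIB : LCI.IsKoszulRegularIdeal (I.map (algebraMap A B)) :=
    isKoszulRegularIdeal_map_of_flat I hI
  let μ : B →+* B ⧸ I.map (algebraMap A B) := Ideal.Quotient.mk (I.map (algebraMap A B))
  have hμ : Function.Surjective μ := Ideal.Quotient.mk_surjective
  have hkerμ : RingHom.ker μ = I.map (algebraMap A B) := Ideal.mk_ker
  haveI : Algebra.Smooth (A ⧸ I) (B ⧸ I.map (algebraMap A B)) :=
    Algebra.Smooth.of_equiv (Algebra.TensorProduct.quotIdealMapEquivQuotTensor B I).symm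
  have hle : I.map (algebraMap A B) ≤ RingHom.ker β := by
    rw [Ideal.map_le_iff_le_comap]
    intro a ha
    exact ha
  have hcomap : ((RingHom.ker β).map μ).comap μ = RingHom.ker β := by
    rw [Ideal.comap_map_of_surjective μ hμ, ← RingHom.ker_eq_comap_bot, hkerμ]
    exact sup_eq_left.mpr hle
  rw [← hcomap]
  refine isKoszulRegularIdeal_comap_of_surjective μ hμ (by rw [hkerμ]; exact hIB) _ ?_
  apply isKoszulRegularIdeal_of_section (A := A ⧸ I)
  have hmem : ∀ b : B, μ b ∈ (RingHom.ker β).map μ ↔ β b = 0 := by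
    intro b
    rw [← Ideal.mem_comap, hcomap, RingHom.mem_ker]
  constructor
  · rw [injective_iff_map_eq_zero]
    intro x hx
    obtain ⟨a, rfl⟩ := Ideal.Quotient.mk_surjective x
    have h1 : μ (algebraMap A B a) ∈ (RingHom.ker β).map μ := by
      rw [← Ideal.Quotient.eq_zero_iff_mem]
      exact hx
    rw [hmem] at h1
    rw [Ideal.Quotient.eq_zero_iff_mem]
    exact h1
  · intro y
    obtain ⟨y', rfl⟩ := Ideal.Quotient.mk_surjective y
    obtain ⟨b, rfl⟩ := hμ y'
    obtain ⟨a, ha⟩ := hβφ (β b)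
    refine ⟨Ideal.Quotient.mk I a, ?_⟩
    change Ideal.Quotient.mk _ (μ (algebraMap A B a)) = Ideal.Quotient.mk _ (μ b)
    rw [Ideal.Quotient.eq, ← map_sub, hmem, map_sub, sub_eq_zero]
    exact ha

theorem isKoszulRegularIdeal_ker_iff_of_smooth (φ : A →+* B) (hφ : φ.Smooth) (β : B →+* C)
    (hβ : Function.Surjective β) (hβφ : Function.Surjective (β.comp φ)) :
    LCI.IsKoszulRegularIdeal (RingHom.ker β) ↔
      LCI.IsKoszulRegularIdeal (RingHom.ker (β.comp φ)) :=
  ⟨isKoszulRegularIdeal_ker_comp_of_smooth φ hφ β hβ hβφ,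
    isKoszulRegularIdeal_ker_of_smooth φ hφ β hβ hβφ⟩

end Groth.Agent.Helper19.LciSmooth
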