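import Mathlib
import Groth.Prelude.Def_RegImm
import Groth.Agent.Helper19.LciMor
import Groth.Agent.Helper19.LciSmooth

/-!
# Cancellation of a smooth morphism for local complete intersection morphisms (helper19)

If `f ≫ g` is a local complete intersection morphism and `g` is smooth, then `f` is one.
-/

set_option autoImplicit false
set_option linter.style.haveILetI false
set_option linter.unusedSectionVars false
universe u

open CategoryTheory CategoryTheory.Limits AlgebraicGeometry

namespace Groth.Agent.Helper19.LciCancel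

open Groth.Agent.Lib.Helper16.KzComp Groth.Agent.Helper19.LciRing Groth.Agent.Helper19.LciMor
open Groth.Agent.Helper19.LciSmooth

section ring

variable {A B C : Type u} [CommRing A] [CommRing B] [CommRing C]

attribute [local instance] MvPolynomial.algebraMvPolynomial in
theorem smooth_mvPolynomial_map (φ : A →+* B) (hφ : φ.Smooth) (n : ℕ) :
    (MvPolynomial.map (σ := Fin n) φ).Smooth := by
  algebraize [φ]
  have h1 : (algebraMap A B).Smooth := RingHom.smooth_algebraMap.mpr inferInstance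
  exact RingHom.Smooth.isStableUnderBaseChange A B (MvPolynomial (Fin n) A) (MvPolynomial (Fin n) B) h1

/-- ring-level cancellation -/
theorem isLCIHom_of_comp_smooth (φ : A →+* B) (hφ : φ.Smooth) (ψ : B →+* C)
    (h : IsLCIHom (ψ.comp φ)) : IsLCIHom ψ := by
  letI : Algebra A B := φ.toAlgebra
  letI : Algebra B C := ψ.toAlgebra
  letI : Algebra A C := (ψ.comp φ).toAlgebra
  haveI : IsScalarTower A B C := IsScalarTower.of_algebraMap_eq (fun x => rfl)
  obtain ⟨hft, n, α, hα, hK⟩ := (show LCI.IsLCI A C from h)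
  let γ : MvPolynomial (Fin n) B →ₐ[B] C := MvPolynomial.aeval (fun j => α (MvPolynomial.X j))
  let φ' : MvPolynomial (Fin n) A →+* MvPolynomial (Fin n) B := MvPolynomial.map φ
  have hcomp : γ.toRingHom.comp φ' = α.toRingHom := by
    apply MvPolynomial.ringHom_ext
    · intro a
      simp only [RingHom.comp_apply, φ', MvPolynomial.map_C]
      change γ (MvPolynomial.C (φ a)) = α (MvPolynomial.C a)
      have h1 : γ (MvPolynomial.C (φ a)) = algebraMap B C (φ a) := MvPolynomial.aeval_C _ _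
      have h2 : α (MvPolynomial.C a) = algebraMap A C a := by
        rw [← MvPolynomial.algebraMap_eq]
        exact α.commutes a
      rw [h1, h2]
      rfl
    · intro j
      simp only [RingHom.comp_apply, φ', MvPolynomial.map_X]
      change γ (MvPolynomial.X j) = α (MvPolynomial.X j)
      exact MvPolynomial.aeval_X _ j
  have hγφ : Function.Surjective (γ.toRingHom.comp φ') := by rw [hcomp]; exact hα
  have hγ : Function.Surjective γ.toRingHom := by
    intro c
    obtain ⟨p, hp⟩ := hγφ c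
    exact ⟨φ' p, hp⟩
  have hK' : LCI.IsKoszulRegularIdeal (RingHom.ker γ.toRingHom) :=
    isKoszulRegularIdeal_ker_of_smooth φ' (smooth_mvPolynomial_map φ hφ n) γ.toRingHom hγ hγφ
      (by rw [hcomp]; exact hK)
  exact ⟨Algebra.FiniteType.of_restrictScalars_finiteType A B C, n, γ, hγ, hK'⟩

end ring

section scheme

variable {X Y S : Scheme.{u}}

/-- **Cancellation**: `f ≫ g` lci and `g` smooth imply `f` lci. -/
theorem lciMor_of_comp_smooth (f : X ⟶ Y) (g : Y ⟶ S) [Smooth g] (h : LCIMor (f ≫ g)) :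
    LCIMor f := by
  rw [HasRingHomProperty.iff_exists_appLE (P := LCIMor.{u}) isLCIHom_stableSource]
  intro x
  obtain ⟨_, ⟨T, hT, rfl⟩, hxT, -⟩ :=
    S.isBasis_affineOpens.exists_subset_of_mem_open (Set.mem_univ (g (f x))) isOpen_univ
  have hT' : IsAffineOpen T := hT
  obtain ⟨_, ⟨W, hW, rfl⟩, hxW, hWT⟩ :=
    Y.isBasis_affineOpens.exists_subset_of_mem_open (show f x ∈ g ⁻¹ᵁ T from hxT) (g ⁻¹ᵁ T).2
  have hW' : IsAffineOpen W := hW
  have hWT' : W ≤ g ⁻¹ᵁ T := hWT
  obtain ⟨_, ⟨U, hU, rfl⟩, hxU, hUW⟩ :=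
    X.isBasis_affineOpens.exists_subset_of_mem_open (show x ∈ f ⁻¹ᵁ W from hxW) (f ⁻¹ᵁ W).2
  have hU' : IsAffineOpen U := hU
  have hUW' : U ≤ f ⁻¹ᵁ W := hUW
  refine ⟨⟨W, hW'⟩, ⟨U, hU'⟩, hxU, hUW', ?_⟩
  have hUT : U ≤ (f ≫ g) ⁻¹ᵁ T := fun y hy => hWT' (hUW' hy)
  have h1 := (lciMor_iff (f ≫ g)).mp h U T hU' hT' hUT
  have h2 : g.appLE T W hWT' ≫ f.appLE W U hUW' = (f ≫ g).appLE T U hUT :=
    Scheme.Hom.appLE_comp_appLE _ _ _ _ _ _ _
  have h3 : ((f ≫ g).appLE T U hUT).hom = (f.appLE W U hUW').hom.comp (g.appLE T W hWT').hom := by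
    rw [← h2]; rfl
  rw [h3] at h1
  exact isLCIHom_of_comp_smooth _
    (HasRingHomProperty.appLE (P := @Smooth) g inferInstance ⟨T, hT'⟩ ⟨W, hW'⟩ hWT') _ h1

end scheme

end Groth.Agent.Helper19.LciCancel
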