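import Mathlib
import Groth.Agent.Lib.Helper16.TransReg1

/-!
# Ring-level transversally regular sequences (helper19)

`RTR A rs`: the partial quotients `C/(r_1..r_j)` are all flat over `A` and each `r_{j+1}` is a
nonzerodivisor on `C/(r_1..r_j)`.  Stable under arbitrary base change (`RTR.baseChange`, pushout
form) and under localization of `C` (`RTR.localization`).
-/

set_option autoImplicit false
set_option linter.style.haveILetI false
set_option linter.unusedSectionVars false
universe u
open RingTheory.Sequence TensorProduct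

namespace Groth.Agent.Helper19.RelGCI


section flatloc

variable {A C : Type*} [CommRing A] [CommRing C] [Algebra A C] (M : Submonoid C)
  {N N' : Type*} [AddCommGroup N] [Module A N] [Module C N] [IsScalarTower A C N]
  [AddCommGroup N'] [Module A N'] [Module C N'] [IsScalarTower A C N']

theorem flat_of_isLocalizedModule (g : N →ₗ[C] N') [IsLocalizedModule M g] [Module.Flat A N] :
    Module.Flat A N' := by
  rw [Module.Flat.iff_lTensor_injectiveₛ]
  intro P _ _ Q
  have h0 : Function.Injective (Q.subtype.lTensor N) :=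
    Module.Flat.lTensor_preserves_injective_linearMap _ Q.injective_subtype
  rw [← AlgebraTensorModule.coe_lTensor (A := C)] at h0 ⊢
  have := IsLocalizedModule.map_injective M (AlgebraTensorModule.rTensor A Q g)
    (AlgebraTensorModule.rTensor A P g) _ h0
  rwa [IsLocalizedModule.map_lTensor] at this

end flatloc

section RTRdef

variable (A : Type*) {C : Type*} [CommRing A] [CommRing C] [Algebra A C]

def RTR (rs : List C) : Prop :=
  (∀ j, j ≤ rs.length → Module.Flat A (C ⧸ Ideal.ofList (rs.take j))) ∧
  ∀ j (h : j < rs.length) (x : C),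
    rs[j] * x ∈ Ideal.ofList (rs.take j) → x ∈ Ideal.ofList (rs.take j)

variable {A}

theorem isWeaklyRegular_iff_forall_mul_mem (rs : List C) :
    IsWeaklyRegular C rs ↔ ∀ j (h : j < rs.length) (x : C),
      rs[j] * x ∈ Ideal.ofList (rs.take j) → x ∈ Ideal.ofList (rs.take j) := by
  rw [isWeaklyRegular_iff]
  refine forall_congr' fun j => forall_congr' fun h => ?_
  rw [isSMulRegular_quotient_iff_mem_of_smul_mem]
  simp only [smul_eq_mul, Ideal.mul_top]

theorem RTR.isWeaklyRegular {rs : List C} (h : RTR A rs) : IsWeaklyRegular C rs :=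
  (isWeaklyRegular_iff_forall_mul_mem rs).mpr h.2

end RTRdef

section loc

variable {A C C' : Type*} [CommRing A] [CommRing C] [CommRing C'] [Algebra A C] [Algebra C C']
  [Algebra A C'] [IsScalarTower A C C'] (M : Submonoid C) [IsLocalization M C']

include M in
theorem flat_quotient_map_of_isLocalization (I : Ideal C) [Module.Flat A (C ⧸ I)] :
    Module.Flat A (C' ⧸ I.map (algebraMap C C')) := by
  rw [← Ideal.localized'_eq_map C' M I]
  exact flat_of_isLocalizedModule (A := A) M
    (Submodule.toLocalizedQuotient' C' M (Algebra.linearMap C C') I)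

include M in
theorem RTR.localization {rs : List C} (h : RTR A rs) : RTR A (rs.map (algebraMap C C')) := by
  have hmap : ∀ j, Ideal.ofList ((rs.map (algebraMap C C')).take j) =
      (Ideal.ofList (rs.take j)).map (algebraMap C C') := by
    intro j
    rw [← List.map_take, Ideal.map_ofList]
  refine ⟨fun j hj => ?_, ?_⟩
  · rw [List.length_map] at hj
    rw [hmap j]
    haveI := h.1 j hj
    exact flat_quotient_map_of_isLocalization (A := A) M _
  · rw [← isWeaklyRegular_iff_forall_mul_mem]
    exact h.isWeaklyRegular.of_isLocalization C' M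

end loc


section baseChange

theorem ofList_take_succ {C : Type*} [CommRing C] (rs : List C) (j : ℕ) (h : j < rs.length) :
    Ideal.ofList (rs.take (j + 1)) = Ideal.ofList (rs.take j) ⊔ Ideal.span {rs[j]} := by
  rw [List.take_succ_eq_append_getElem h, Ideal.ofList_append, Ideal.ofList_singleton]

variable {A₀ A C₀ C' : Type*} [CommRing A₀] [CommRing A] [CommRing C₀] [CommRing C']
  [Algebra A₀ A] [Algebra A₀ C₀] [Algebra A C'] [Algebra C₀ C'] [Algebra A₀ C']
  [IsScalarTower A₀ A C'] [IsScalarTower A₀ C₀ C']

/-- the quotient of a pushout by an extended ideal is the base change of the quotient -/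
noncomputable def pushoutQuotEquiv [Algebra.IsPushout A₀ A C₀ C'] (I : Ideal C₀) :
    A ⊗[A₀] (C₀ ⧸ I) ≃ₐ[A] C' ⧸ I.map (algebraMap C₀ C') :=
  (Algebra.TensorProduct.tensorQuotientEquiv A C₀ A I).trans
    (Ideal.quotientEquivAlg _ _ (Algebra.IsPushout.equiv A₀ A C₀ C') (by
      have key : ∀ c : C₀, (Algebra.IsPushout.equiv A₀ A C₀ C')
          (Algebra.TensorProduct.includeRight c) = algebraMap C₀ C' c := by
        intro c
        simp [Algebra.IsPushout.equiv_tmul]
      apply le_antisymm
      · rw [Ideal.map_le_iff_le_comap]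
        intro c hc
        rw [Ideal.mem_comap, ← key c]
        exact Ideal.mem_map_of_mem _ (Ideal.mem_map_of_mem _ hc)
      · rw [Ideal.map_le_iff_le_comap, Ideal.map_le_iff_le_comap]
        intro c hc
        rw [Ideal.mem_comap, Ideal.mem_comap]
        have := key c
        rw [RingHom.coe_coe, this]
        exact Ideal.mem_map_of_mem _ hc))

theorem pushoutQuotEquiv_tmul [Algebra.IsPushout A₀ A C₀ C'] (I : Ideal C₀) (a : A) (c : C₀) :
    pushoutQuotEquiv (A₀ := A₀) (A := A) (C' := C') I (a ⊗ₜ Ideal.Quotient.mk I c) =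
      Ideal.Quotient.mk _ (algebraMap A C' a * algebraMap C₀ C' c) := by
  simp [pushoutQuotEquiv, Algebra.IsPushout.equiv_tmul]


/-- multiplication by an element on a quotient ring, as a linear map over the base -/
noncomputable def mulQ (A₀ : Type*) {C₀ : Type*} [CommRing A₀] [CommRing C₀] [Algebra A₀ C₀]
    (I : Ideal C₀) (r : C₀) : (C₀ ⧸ I) →ₗ[A₀] (C₀ ⧸ I) :=
  (LinearMap.mulLeft A₀ (Ideal.Quotient.mk I r))

theorem RTR.baseChange [Algebra.IsPushout A₀ A C₀ C'] {rs : List C₀} (h : RTR A₀ rs) :
    RTR A (rs.map (algebraMap C₀ C')) := by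
  have hmap : ∀ j, Ideal.ofList ((rs.map (algebraMap C₀ C')).take j) =
      (Ideal.ofList (rs.take j)).map (algebraMap C₀ C') := by
    intro j
    rw [← List.map_take, Ideal.map_ofList]
  refine ⟨fun j hj => ?_, fun j hj x' hx' => ?_⟩
  · rw [List.length_map] at hj
    rw [hmap j]
    haveI := h.1 j hj
    exact Module.Flat.of_linearEquiv
      (pushoutQuotEquiv (A₀ := A₀) (A := A) (C' := C') (Ideal.ofList (rs.take j))).symm.toLinearEquiv
  · rw [List.length_map] at hj
    rw [List.getElem_map] at hx'
    rw [hmap j] at hx' ⊢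
    set I := Ideal.ofList (rs.take j) with hI
    set Φ := pushoutQuotEquiv (A₀ := A₀) (A := A) (C' := C') I with hΦ
    -- the key injectivity
    haveI : Module.Flat A₀ (C₀ ⧸ Ideal.ofList (rs.take (j + 1))) := h.1 (j + 1) hj
    have hle : I ≤ Ideal.ofList (rs.take (j + 1)) := by
      rw [ofList_take_succ rs j hj]; exact le_sup_left
    let f : (C₀ ⧸ I) →ₗ[A₀] (C₀ ⧸ Ideal.ofList (rs.take (j + 1))) :=
      (Ideal.Quotient.factorₐ A₀ hle).toLinearMap
    have hf : Function.Surjective f := Ideal.Quotient.factor_surjective hle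
    have hg : Function.Injective (mulQ A₀ I rs[j]) := by
      rw [injective_iff_map_eq_zero]
      intro y hy
      obtain ⟨y, rfl⟩ := Ideal.Quotient.mk_surjective y
      rw [Ideal.Quotient.eq_zero_iff_mem]
      apply h.2 j hj y
      rw [← Ideal.Quotient.eq_zero_iff_mem, map_mul]
      exact hy
    have hex : Function.Exact (mulQ A₀ I rs[j]) f := by
      intro y
      obtain ⟨y, rfl⟩ := Ideal.Quotient.mk_surjective y
      constructor
      · intro hy
        have hy' : y ∈ Ideal.ofList (rs.take (j + 1)) := by
          rw [← Ideal.Quotient.eq_zero_iff_mem]; exact hy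
        rw [ofList_take_succ rs j hj, Submodule.mem_sup] at hy'
        obtain ⟨a, ha, b, hb, rfl⟩ := hy'
        obtain ⟨d, rfl⟩ := Ideal.mem_span_singleton'.mp hb
        refine ⟨Ideal.Quotient.mk I d, ?_⟩
        change Ideal.Quotient.mk I rs[j] * Ideal.Quotient.mk I d = _
        rw [← map_mul, map_add, (Ideal.Quotient.eq_zero_iff_mem).mpr ha, zero_add, mul_comm]
      · rintro ⟨z, hz⟩
        rw [← hz]
        obtain ⟨z, rfl⟩ := Ideal.Quotient.mk_surjective z
        change Ideal.Quotient.factor hle (Ideal.Quotient.mk I rs[j] * Ideal.Quotient.mk I z) = 0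
        rw [← map_mul, Ideal.Quotient.factor_mk, Ideal.Quotient.eq_zero_iff_mem,
          ofList_take_succ rs j hj]
        exact Ideal.mem_sup_right (Ideal.mul_mem_right _ _ (Ideal.mem_span_singleton_self _))
    have hK := LinearMap.lTensor_injective_of_exact_of_flat f hf (mulQ A₀ I rs[j]) hg hex A
    -- transport
    rw [← Ideal.Quotient.eq_zero_iff_mem] at hx' ⊢
    have h1 : Φ.symm (Ideal.Quotient.mk _ x') = 0 := by
      apply hK
      rw [map_zero]
      have h2 : ∀ y : A ⊗[A₀] (C₀ ⧸ I), (mulQ A₀ I rs[j]).lTensor A y =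
          Φ.symm (Ideal.Quotient.mk _ (algebraMap C₀ C' rs[j]) * Φ y) := by
        intro y
        induction y using TensorProduct.induction_on with
        | zero => simp
        | tmul a c =>
          obtain ⟨c, rfl⟩ := Ideal.Quotient.mk_surjective c
          rw [eq_comm, AlgEquiv.symm_apply_eq, LinearMap.lTensor_tmul, eq_comm]
          change Φ (a ⊗ₜ (Ideal.Quotient.mk I rs[j] * Ideal.Quotient.mk I c)) = _
          rw [← map_mul, hΦ, pushoutQuotEquiv_tmul, pushoutQuotEquiv_tmul, ← map_mul]
          congr 1
          rw [map_mul]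
          ring
        | add y z hy hz => rw [map_add, hy, hz, map_add, mul_add, map_add]
      rw [h2, AlgEquiv.apply_symm_apply, ← map_mul, hx', map_zero]
    have := congrArg Φ h1
    rwa [AlgEquiv.apply_symm_apply, map_zero] at this

end baseChange


end Groth.Agent.Helper19.RelGCI
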