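import Mathlib
import Groth.Agent.Helper19.RelGCI1

/-!
# Transversally regular sequences: interface with helper16's `TR`, transfer along base change of
polynomial rings followed by localization (helper19)
-/

set_option autoImplicit false
set_option linter.style.haveILetI false
set_option linter.unusedSectionVars false
universe u
open RingTheory.Sequence TensorProduct

namespace Groth.Agent.Helper19.RelGCI


section iface

open Groth.Agent.Lib.Helper16.TransReg in
theorem rtr_of_tr {A C : Type u} [CommRing A] [CommRing C] [Algebra A C] {rs : List C}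
    (h : TR A C rs) : RTR A rs := by
  refine ⟨fun j hj => ?_, (isWeaklyRegular_iff_forall_mul_mem rs).mp h.1⟩
  have := h.2 j hj
  exact Module.Flat.of_linearEquiv
    ((Submodule.quotEquivOfEq (Ideal.ofList (rs.take j) • ⊤ : Submodule C C)
      (Ideal.ofList (rs.take j)) (by rw [smul_eq_mul, Ideal.mul_top])).restrictScalars A).symm

/-- change of the base ring along a flat map -/
theorem RTR.of_flat {A₀ A C : Type*} [CommRing A₀] [CommRing A] [CommRing C] [Algebra A₀ A]
    [Algebra A C] [Algebra A₀ C] [IsScalarTower A₀ A C] [Module.Flat A₀ A] {rs : List C}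
    (h : RTR A rs) : RTR A₀ rs := by
  refine ⟨fun j hj => ?_, h.2⟩
  haveI := h.1 j hj
  exact Module.Flat.trans A₀ A _

end iface



section transfer

open MvPolynomial
attribute [local instance] MvPolynomial.algebraMvPolynomial

variable {R₀ R : Type u} [CommRing R₀] [CommRing R] [Algebra R₀ R] {n : ℕ}
  (T₀ : Submonoid (MvPolynomial (Fin n) R₀)) (T : Submonoid (MvPolynomial (Fin n) R))
  (hT : T₀.map (algebraMap (MvPolynomial (Fin n) R₀) (MvPolynomial (Fin n) R)) ≤ T)
  (C₀ : Type u) [CommRing C₀] [Algebra (MvPolynomial (Fin n) R₀) C₀] [Algebra R₀ C₀]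
  [IsScalarTower R₀ (MvPolynomial (Fin n) R₀) C₀] [IsLocalization T₀ C₀]
  (C' : Type u) [CommRing C'] [Algebra (MvPolynomial (Fin n) R) C'] [Algebra R C']
  [IsScalarTower R (MvPolynomial (Fin n) R) C'] [IsLocalization T C']

include hT in
theorem RTR.transfer (rs₀ : List (MvPolynomial (Fin n) R₀))
    (h : RTR R₀ (rs₀.map (algebraMap _ C₀))) :
    RTR R ((rs₀.map (algebraMap (MvPolynomial (Fin n) R₀) (MvPolynomial (Fin n) R))).map
      (algebraMap _ C')) := by
  let P₀ := MvPolynomial (Fin n) R₀
  let P := MvPolynomial (Fin n) R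
  let T₁ : Submonoid P := Algebra.algebraMapSubmonoid P T₀
  let C₁ := Localization T₁
  haveI : IsScalarTower P₀ P C₁ := inferInstance
  have hle : T₀ ≤ T₁.comap (algebraMap P₀ P) := Submonoid.le_comap_map _
  letI : Algebra C₀ C₁ := (IsLocalization.map C₁ (algebraMap P₀ P) hle).toAlgebra
  haveI : IsScalarTower P₀ C₀ C₁ := IsScalarTower.of_algebraMap_eq' (by
    change _ = (IsLocalization.map C₁ (algebraMap P₀ P) hle).comp (algebraMap P₀ C₀)
    rw [IsLocalization.map_comp, IsScalarTower.algebraMap_eq P₀ P C₁])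
  haveI : IsLocalization (Algebra.algebraMapSubmonoid P T₀) C₁ :=
    inferInstanceAs (IsLocalization T₁ (Localization T₁))
  have hpo1 : Algebra.IsPushout P₀ P C₀ C₁ := Algebra.isPushout_of_isLocalization T₀ C₀ P C₁
  haveI : IsScalarTower R₀ P₀ C₁ := inferInstance
  haveI : IsScalarTower R₀ C₀ C₁ := IsScalarTower.to₁₃₄ R₀ P₀ C₀ C₁
  haveI : IsScalarTower R₀ R C₁ := inferInstance
  haveI : IsScalarTower R₀ P C₁ := inferInstance
  haveI : IsScalarTower R P C₁ := inferInstance
  have hpo2 : Algebra.IsPushout R₀ C₀ R C₁ :=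
    (Algebra.IsPushout.comp_iff R₀ P₀ R (S' := P) (T := C₀) (T' := C₁)).mpr hpo1.symm
  have hpo3 : Algebra.IsPushout R₀ R C₀ C₁ := hpo2.symm
  have h1 : RTR R ((rs₀.map (algebraMap P₀ C₀)).map (algebraMap C₀ C₁)) := h.baseChange
  -- now localize further
  have hunits : ∀ y : T₁, IsUnit (algebraMap P C' y) := by
    rintro ⟨y, hy⟩
    exact IsLocalization.map_units C' (⟨y, hT hy⟩ : T)
  letI : Algebra C₁ C' := (IsLocalization.lift (M := T₁) (g := algebraMap P C') hunits).toAlgebra
  haveI : IsScalarTower P C₁ C' := IsScalarTower.of_algebraMap_eq' (by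
    change _ = (IsLocalization.lift (M := T₁) (g := algebraMap P C') hunits).comp (algebraMap P C₁)
    rw [IsLocalization.lift_comp])
  haveI : IsScalarTower R C₁ C' := IsScalarTower.to₁₃₄ R P C₁ C'
  haveI : IsLocalization (T.map (algebraMap P C₁)) C' :=
    IsLocalization.isLocalization_of_submonoid_le C₁ C' T₁ T hT
  have h2 := h1.localization (C' := C') (T.map (algebraMap P C₁))
  convert h2 using 1
  rw [List.map_map, List.map_map, List.map_map]
  congr 1
  funext x
  simp only [Function.comp_apply]
  rw [← IsScalarTower.algebraMap_apply P₀ C₀ C₁, IsScalarTower.algebraMap_apply P₀ P C₁,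
    ← IsScalarTower.algebraMap_apply P C₁ C']

end transfer


end Groth.Agent.Helper19.RelGCI
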