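import Mathlib
import Groth.Agent.Lib.Helper16.TransReg1

/-!
# Noetherian local step for transversal regularity in polynomial rings (helper19)

For a Noetherian local ring `A₀` with residue field `κ₀` and a prime `Q₀` of `κ₀[x]` with contraction
`q` to `A₀[x]`: a sequence of polynomials whose reduction is weakly regular in `κ₀[x]_{Q₀}` is
transversally regular (`TR`) in `A₀[x]_q` (Stacks 00MF iterated, via helper16).
-/

set_option autoImplicit false
set_option linter.style.haveILetI false
set_option linter.unusedSectionVars false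
universe u
open RingTheory.Sequence TensorProduct IsLocalRing

namespace Groth.Agent.Helper19.RelGCI


section noeth

variable (A₀ : Type u) [CommRing A₀] [IsLocalRing A₀] [IsNoetherianRing A₀] (n : ℕ)

/-- the reduction map `A₀[x] → κ₀[x]` -/
noncomputable abbrev redMap : MvPolynomial (Fin n) A₀ →+* MvPolynomial (Fin n) (ResidueField A₀) :=
  MvPolynomial.map (residue A₀)

theorem redMap_surjective : Function.Surjective (redMap A₀ n) :=
  MvPolynomial.map_surjective _ residue_surjective

variable (Q₀ : Ideal (MvPolynomial (Fin n) (ResidueField A₀))) [Q₀.IsPrime]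

/-- the local ring `A₀[x]_{q}` with `q` the contraction of `Q₀` -/
abbrev CB : Type u := Localization.AtPrime (Q₀.comap (redMap A₀ n))

/-- the map `A₀[x]_q → κ₀[x]_{Q₀}` -/
noncomputable abbrev theta : CB A₀ n Q₀ →+* Localization.AtPrime Q₀ :=
  Localization.localRingHom (Q₀.comap (redMap A₀ n)) Q₀ (redMap A₀ n) rfl

theorem theta_surjective : Function.Surjective (theta A₀ n Q₀) :=
  RingHom.surjective_localRingHom_of_surjective _ (redMap_surjective A₀ n) Q₀

theorem ker_theta : RingHom.ker (theta A₀ n Q₀) =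
    (maximalIdeal A₀).map (algebraMap A₀ (CB A₀ n Q₀)) := by
  have hT : Submonoid.map (redMap A₀ n) (Q₀.comap (redMap A₀ n)).primeCompl = Q₀.primeCompl :=
    Submonoid.map_comap_eq_of_surjective (redMap_surjective A₀ n) Q₀.primeCompl
  have h1 := IsLocalization.ker_map (S := CB A₀ n Q₀) (Localization.AtPrime Q₀) (redMap A₀ n) hT
  have h2 : RingHom.ker (redMap A₀ n) = (maximalIdeal A₀).map MvPolynomial.C := by
    rw [MvPolynomial.ker_map, ker_residue]
  rw [h2, Ideal.map_map] at h1
  rw [IsScalarTower.algebraMap_eq A₀ (MvPolynomial (Fin n) A₀) (CB A₀ n Q₀)]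
  exact h1

instance : IsLocalHom (algebraMap A₀ (CB A₀ n Q₀)) := by
  constructor
  intro a ha
  by_contra hna
  have hmem : a ∈ maximalIdeal A₀ := (mem_maximalIdeal a).mpr hna
  have h1 : algebraMap A₀ (CB A₀ n Q₀) a ∈ RingHom.ker (theta A₀ n Q₀) := by
    rw [ker_theta]
    exact Ideal.mem_map_of_mem _ hmem
  have h2 : theta A₀ n Q₀ (algebraMap A₀ (CB A₀ n Q₀) a) = 0 := h1
  have h3 := ha.map (theta A₀ n Q₀)
  rw [h2] at h3
  exact not_isUnit_zero h3

open Groth.Agent.Lib.Helper16.TransReg in
/-- **Noetherian local step**: a sequence of polynomials over a Noetherian local ring whose reduction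
is weakly regular in the local ring of the closed fibre is transversally regular in `A₀[x]_q`. -/
theorem tr_CB (c : ℕ) (G : Fin c → MvPolynomial (Fin n) A₀)
    (hreg : IsWeaklyRegular (Localization.AtPrime Q₀)
      (List.ofFn fun i => algebraMap _ (Localization.AtPrime Q₀) (redMap A₀ n (G i)))) :
    TR A₀ (CB A₀ n Q₀)
      ((List.ofFn G).map (algebraMap (MvPolynomial (Fin n) A₀) (CB A₀ n Q₀))) := by
  haveI : IsNoetherianRing (CB A₀ n Q₀) :=
    IsLocalization.isNoetherianRing (Q₀.comap (redMap A₀ n)).primeCompl _ inferInstance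
  apply tr_of_isWeaklyRegular_fibre
  letI : Algebra (CB A₀ n Q₀) (Localization.AtPrime Q₀) := (theta A₀ n Q₀).toAlgebra
  have hker : ((maximalIdeal A₀).map (algebraMap A₀ (CB A₀ n Q₀)) • ⊤ :
      Submodule (CB A₀ n Q₀) (CB A₀ n Q₀)) =
      LinearMap.ker (Algebra.linearMap (CB A₀ n Q₀) (Localization.AtPrime Q₀)) := by
    rw [smul_eq_mul, Ideal.mul_top, ← ker_theta]
    ext x
    rfl
  let e : (CB A₀ n Q₀ ⧸ ((maximalIdeal A₀).map (algebraMap A₀ (CB A₀ n Q₀)) • ⊤ :
      Submodule (CB A₀ n Q₀) (CB A₀ n Q₀))) ≃ₗ[CB A₀ n Q₀] Localization.AtPrime Q₀ :=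
    (Submodule.quotEquivOfEq _ _ hker).trans
      (LinearMap.quotKerEquivOfSurjective (Algebra.linearMap (CB A₀ n Q₀) (Localization.AtPrime Q₀))
        (theta_surjective A₀ n Q₀))
  have hlist : ((List.ofFn G).map (algebraMap (MvPolynomial (Fin n) A₀) (CB A₀ n Q₀))).map
      (algebraMap (CB A₀ n Q₀) (Localization.AtPrime Q₀)) =
      List.ofFn fun i => algebraMap _ (Localization.AtPrime Q₀) (redMap A₀ n (G i)) := by
    rw [List.map_map, List.map_ofFn]
    congr 1
    ext i
    exact Localization.localRingHom_to_map _ _ _ rfl _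
  rw [e.isWeaklyRegular_congr, ← isWeaklyRegular_map_algebraMap_iff (Localization.AtPrime Q₀), hlist]
  exact hreg

end noeth


end Groth.Agent.Helper19.RelGCI
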