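import Mathlib
import Groth.Agent.Lib.Helper22.FibreDim

/-!
# Fibres of presented algebras (helper19)

`fibEquiv`: `K ⊗[A] A[x]/(G) ≃ₐ[K] K[x]/(Ḡ)`.  `ringKrullDim_fibre_descend`: the dimension of the fibre
of `R[x]/(F)` at a residue field `k` can be computed over a subfield `k₀` through which the
coefficients factor.
-/

set_option autoImplicit false
set_option linter.style.haveILetI false
set_option linter.unusedSectionVars false
universe u
open TensorProduct

namespace Groth.Agent.Helper19.RelGCI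


section fibre

variable (A K : Type*) [CommRing A] [CommRing K] [Algebra A K] {n c : ℕ}
  (G : Fin c → MvPolynomial (Fin n) A)

/-- the reduced polynomials -/
noncomputable def mapPoly : Fin c → MvPolynomial (Fin n) K :=
  fun i => MvPolynomial.map (algebraMap A K) (G i)

/-- Base change of a presented algebra: `K ⊗ A[x]/(G) ≃ K[x]/(Ḡ)`. -/
noncomputable def fibEquiv :
    K ⊗[A] (MvPolynomial (Fin n) A ⧸ Ideal.span (Set.range G)) ≃ₐ[K]
      MvPolynomial (Fin n) K ⧸ Ideal.span (Set.range (mapPoly A K G)) :=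
  (Algebra.TensorProduct.tensorQuotientEquiv K (MvPolynomial (Fin n) A) K
      (Ideal.span (Set.range G))).trans
    (Ideal.quotientEquivAlg _ _ (MvPolynomial.algebraTensorAlgEquiv A K) (by
      have key : ∀ g : MvPolynomial (Fin n) A, (MvPolynomial.algebraTensorAlgEquiv A K)
          (Algebra.TensorProduct.includeRight g) = MvPolynomial.map (algebraMap A K) g := by
        intro g
        simp [MvPolynomial.algebraTensorAlgEquiv_tmul]
      apply le_antisymm
      · rw [Ideal.span_le]
        rintro _ ⟨i, rfl⟩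
        simp only [mapPoly, SetLike.mem_coe]
        rw [← key]
        exact Ideal.mem_map_of_mem _ (Ideal.mem_map_of_mem _ (Ideal.subset_span ⟨i, rfl⟩))
      · rw [Ideal.map_le_iff_le_comap, Ideal.map_le_iff_le_comap, Ideal.span_le]
        rintro _ ⟨i, rfl⟩
        simp only [SetLike.mem_coe, Ideal.mem_comap]
        have := key (G i)
        rw [RingHom.coe_coe, this]
        exact Ideal.subset_span ⟨i, rfl⟩))

theorem fibEquiv_tmul (a : K) (g : MvPolynomial (Fin n) A) :
    fibEquiv A K G (a ⊗ₜ Ideal.Quotient.mk _ g) =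
      Ideal.Quotient.mk _ (a • MvPolynomial.map (algebraMap A K) g) := by
  simp [fibEquiv, MvPolynomial.algebraTensorAlgEquiv_tmul]

end fibre

section dim

variable {R₀ R k₀ k : Type u} [CommRing R₀] [CommRing R] [Field k₀] [Field k]
  [Algebra R₀ R] [Algebra R₀ k₀] [Algebra R k] [Algebra k₀ k] [Algebra R₀ k]
  [IsScalarTower R₀ k₀ k] [IsScalarTower R₀ R k] {n c : ℕ}

theorem mapPoly_mapPoly (F₀ : Fin c → MvPolynomial (Fin n) R₀) :
    mapPoly k₀ k (mapPoly R₀ k₀ F₀) = mapPoly R k (mapPoly R₀ R F₀) := by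
  funext i
  simp only [mapPoly, MvPolynomial.map_map]
  rw [← IsScalarTower.algebraMap_eq, ← IsScalarTower.algebraMap_eq]

/-- The fibre dimension of a presented algebra can be computed after descending to a subring. -/
theorem ringKrullDim_fibre_descend (F₀ : Fin c → MvPolynomial (Fin n) R₀) :
    ringKrullDim (MvPolynomial (Fin n) k₀ ⧸ Ideal.span (Set.range (mapPoly R₀ k₀ F₀))) =
      ringKrullDim (k ⊗[R] (MvPolynomial (Fin n) R ⧸ Ideal.span (Set.range (mapPoly R₀ R F₀)))) := by
  have h1 : ringKrullDim (k ⊗[R] (MvPolynomial (Fin n) R ⧸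
      Ideal.span (Set.range (mapPoly R₀ R F₀)))) = ringKrullDim (MvPolynomial (Fin n) k ⧸
        Ideal.span (Set.range (mapPoly R k (mapPoly R₀ R F₀)))) :=
    ringKrullDim_eq_of_ringEquiv (fibEquiv R k (mapPoly R₀ R F₀)).toRingEquiv
  have h2 : ringKrullDim (k ⊗[k₀] (MvPolynomial (Fin n) k₀ ⧸
      Ideal.span (Set.range (mapPoly R₀ k₀ F₀)))) = ringKrullDim (MvPolynomial (Fin n) k ⧸
        Ideal.span (Set.range (mapPoly k₀ k (mapPoly R₀ k₀ F₀)))) :=
    ringKrullDim_eq_of_ringEquiv (fibEquiv k₀ k (mapPoly R₀ k₀ F₀)).toRingEquiv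
  rw [mapPoly_mapPoly (R := R)] at h2
  rw [h1, ← h2]
  exact (Groth.Agent.Lib.Helper22.ringKrullDim_tensor_field k₀ k _).symm

end dim


end Groth.Agent.Helper19.RelGCI
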