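import Mathlib
import Groth.Agent.Helper19.RelGCI2
import Groth.Agent.Helper19.RelGCI3
import Groth.Agent.Helper19.RelGCI4
import Groth.Agent.Lib.Helper23.SyntF1

/-!
# Stacks 00SV (non-Noetherian): polynomials cutting out a fibre of the expected dimension form a
transversally regular sequence in the local ring (helper19)

`rtr_of_fibre_dim`: `R₀ → R` with `R₀` Noetherian, `F₀ : Fin c → R₀[x]`, `q'` a prime of `R[x]`
containing the images `F`, such that the fibre of `R[x]/(F)` over `p = q' ∩ R` has dimension `≤ n - c`.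
Then `F` is a regular sequence in `R[x]_{q'}` with all partial quotients flat over `R`.
-/

set_option autoImplicit false
set_option linter.style.haveILetI false
set_option linter.unusedSectionVars false
universe u
open RingTheory.Sequence TensorProduct IsLocalRing

namespace Groth.Agent.Helper19.RelGCI


section thmA

open MvPolynomial
attribute [local instance] MvPolynomial.algebraMvPolynomial

variable (R₀ R : Type u) [CommRing R₀] [CommRing R] [IsNoetherianRing R₀] [Algebra R₀ R]
  {n c : ℕ} (F₀ : Fin c → MvPolynomial (Fin n) R₀)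
  (q' : Ideal (MvPolynomial (Fin n) R)) [q'.IsPrime]


theorem rtr_of_fibre_dim
    (hq' : Ideal.span (Set.range (mapPoly R₀ R F₀)) ≤ q') (hcn : c ≤ n)
    (hdim : ringKrullDim ((q'.comap (C : R →+* MvPolynomial (Fin n) R)).Fiber
      (MvPolynomial (Fin n) R ⧸ Ideal.span (Set.range (mapPoly R₀ R F₀)))) ≤
        ((n - c : ℕ) : WithBot ℕ∞)) :
    RTR R ((List.ofFn (mapPoly R₀ R F₀)).map (algebraMap _ (Localization.AtPrime q'))) := by
  classical
  set p : Ideal R := q'.comap (C : R →+* MvPolynomial (Fin n) R) with hp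
  set p₀ : Ideal R₀ := p.comap (algebraMap R₀ R) with hp₀
  haveI : p.LiesOver p₀ := ⟨rfl⟩
  letI := Localization.AtPrime.algebraOfLiesOver p₀ p
  haveI : IsScalarTower R₀ p₀.ResidueField p.ResidueField := inferInstance
  haveI : IsScalarTower R₀ R p.ResidueField := inferInstance
  have hdim₀ : ringKrullDim (MvPolynomial (Fin n) p₀.ResidueField ⧸
      Ideal.span (Set.range (mapPoly R₀ p₀.ResidueField F₀))) ≤ ((n - c : ℕ) : WithBot ℕ∞) := by
    rw [ringKrullDim_fibre_descend (R := R) (k := p.ResidueField) F₀]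
    exact hdim
  -- the prime `q₀'` of `R₀[x]`
  set ι : MvPolynomial (Fin n) R₀ →+* MvPolynomial (Fin n) R :=
    MvPolynomial.map (algebraMap R₀ R) with hι
  set q₀' : Ideal (MvPolynomial (Fin n) R₀) := q'.comap ι with hq₀'
  have hq₀C : q₀'.comap (C : R₀ →+* MvPolynomial (Fin n) R₀) = p₀ := by
    rw [hq₀', hp₀, hp, Ideal.comap_comap, Ideal.comap_comap]
    congr 1
    ext r
    simp [hι]
  haveI : q₀'.LiesOver p₀ := ⟨by rw [← hq₀C]; rfl⟩
  -- a prime of the fibre over `q₀'`
  let qt : PrimeSpectrum (p₀.Fiber (MvPolynomial (Fin n) R₀)) :=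
    PrimeSpectrum.primesOverOrderIsoFiber R₀ (MvPolynomial (Fin n) R₀) p₀
      ⟨q₀', inferInstance, inferInstance⟩
  have hqt : qt.asIdeal.comap Algebra.TensorProduct.includeRight = q₀' := by
    have := (PrimeSpectrum.primesOverOrderIsoFiber R₀ (MvPolynomial (Fin n) R₀) p₀).symm_apply_apply
      ⟨q₀', inferInstance, inferInstance⟩
    rw [Subtype.ext_iff] at this
    exact this
  -- transport to `κ₀[x]`
  set e := MvPolynomial.algebraTensorAlgEquiv (σ := Fin n) R₀ p₀.ResidueField with he
  let Q₀ : Ideal (MvPolynomial (Fin n) (ResidueField (Localization.AtPrime p₀))) :=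
    qt.asIdeal.comap (e.symm : _ →+* _)
  haveI : Q₀.IsPrime := Ideal.comap_isPrime _ _
  have hQ₀ : Q₀.comap (MvPolynomial.map (algebraMap R₀ p₀.ResidueField)) = q₀' := by
    rw [← hqt]
    ext g
    simp only [Q₀, Ideal.mem_comap]
    have : e.symm (MvPolynomial.map (algebraMap R₀ p₀.ResidueField) g) =
        Algebra.TensorProduct.includeRight g := by
      simp [he, MvPolynomial.algebraTensorAlgEquiv_symm_map]
    rw [← this]
    rfl
  have hmemQ₀ : Ideal.span (Set.range (mapPoly R₀ p₀.ResidueField F₀)) ≤ Q₀ := by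
    rw [Ideal.span_le]
    rintro _ ⟨i, rfl⟩
    have h1 : F₀ i ∈ q₀' := by
      rw [hq₀', Ideal.mem_comap]
      exact hq' (Ideal.subset_span ⟨i, rfl⟩)
    rw [← hQ₀, Ideal.mem_comap] at h1
    exact h1
  -- regularity in the fibre local ring
  have hreg := Groth.Agent.Lib.Helper23.SyntF.isRegular_ofFn_atPrime Q₀
    (Groth.Agent.Lib.Helper23.SyntF.cmLocal_of_regular _) c (mapPoly R₀ p₀.ResidueField F₀) hmemQ₀
    (fun P' hP' => Groth.Agent.Lib.Helper23.SyntF.height_eq_of_mem_minimalPrimes c hcn _ hdim₀ hP')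
  -- Noetherian local step
  haveI : IsNoetherianRing (Localization.AtPrime p₀) :=
    IsLocalization.isNoetherianRing p₀.primeCompl _ inferInstance
  let G : Fin c → MvPolynomial (Fin n) (Localization.AtPrime p₀) :=
    fun i => MvPolynomial.map (algebraMap R₀ (Localization.AtPrime p₀)) (F₀ i)
  have hG : ∀ i, redMap (Localization.AtPrime p₀) n (G i) = mapPoly R₀ p₀.ResidueField F₀ i := by
    intro i
    simp only [G, redMap, mapPoly, MvPolynomial.map_map]
    rfl
  have htr := tr_CB (Localization.AtPrime p₀) n Q₀ c G (by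
    simp_rw [hG]
    exact hreg.toIsWeaklyRegular)
  have hrtr₀ : RTR R₀ ((List.ofFn G).map (algebraMap (MvPolynomial (Fin n) (Localization.AtPrime p₀))
      (CB (Localization.AtPrime p₀) n Q₀))) := (rtr_of_tr htr).of_flat
  -- `CB` is the localization of `R₀[x]` at `q₀'`
  haveI : IsScalarTower R₀ (MvPolynomial (Fin n) R₀) (CB (Localization.AtPrime p₀) n Q₀) :=
    inferInstance
  haveI hloc : IsLocalization q₀'.primeCompl (CB (Localization.AtPrime p₀) n Q₀) := by
    have h1 := IsLocalization.isLocalization_isLocalization_atPrime_isLocalization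
      (p₀.primeCompl.map (C : R₀ →+* MvPolynomial (Fin n) R₀))
      (CB (Localization.AtPrime p₀) n Q₀)
      (Q₀.comap (redMap (Localization.AtPrime p₀) n))
    have h2 : (Q₀.comap (redMap (Localization.AtPrime p₀) n)).comap
        (algebraMap (MvPolynomial (Fin n) R₀) (MvPolynomial (Fin n) (Localization.AtPrime p₀))) =
        q₀' := by
      rw [← hQ₀, Ideal.comap_comap]
      congr 1
      apply RingHom.ext
      intro g
      change MvPolynomial.map (residue _) (MvPolynomial.map (algebraMap R₀ _) g) = _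
      rw [MvPolynomial.map_map]
      rfl
    have key : ∀ (I : Ideal (MvPolynomial (Fin n) R₀)) [I.IsPrime], I = q₀' →
        IsLocalization.AtPrime (CB (Localization.AtPrime p₀) n Q₀) I →
        IsLocalization q₀'.primeCompl (CB (Localization.AtPrime p₀) n Q₀) := by
      intro I _ hI h
      subst hI
      exact h
    exact key _ h2 h1
  have hT : q₀'.primeCompl.map (algebraMap (MvPolynomial (Fin n) R₀) (MvPolynomial (Fin n) R)) ≤
      q'.primeCompl := by
    rintro _ ⟨x, hx, rfl⟩
    exact hx
  have hlist : (List.ofFn G).map (algebraMap (MvPolynomial (Fin n) (Localization.AtPrime p₀))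
      (CB (Localization.AtPrime p₀) n Q₀)) =
      (List.ofFn F₀).map (algebraMap (MvPolynomial (Fin n) R₀) (CB (Localization.AtPrime p₀) n Q₀)) := by
    rw [List.map_ofFn, List.map_ofFn]
    congr 1
  rw [hlist] at hrtr₀
  have hfin := RTR.transfer (R := R) q₀'.primeCompl q'.primeCompl hT
    (CB (Localization.AtPrime p₀) n Q₀) (Localization.AtPrime q') (List.ofFn F₀) hrtr₀
  rw [List.map_ofFn] at hfin
  exact hfin

end thmA


end Groth.Agent.Helper19.RelGCI
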