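import Mathlib
import Groth.Agent.Helper19.RelGCI5
import Groth.Prelude.Def_RegImm

/-!
# Relative global complete intersections: the relations are transversally regular at every prime
(Stacks 00SV, non-Noetherian) (helper19)

`exists_subalgebra_model`: coefficients descend to a finite type `ℤ`-subalgebra.
`nontrivial_fiber_of_le`: a prime containing the relations gives a nonempty fibre.
`rtr_of_isRelGCI`: `Synt.IsRelGCI R n c F` and `(F) ≤ q'` imply `c ≤ n` and
`RTR R (F in R[x]_{q'})`: regular sequence with `R`-flat partial quotients.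
-/

set_option autoImplicit false
set_option linter.style.haveILetI false
set_option linter.unusedSectionVars false
universe u
open RingTheory.Sequence TensorProduct IsLocalRing

namespace Groth.Agent.Helper19.RelGCI


section model

variable (R : Type u) [CommRing R] {n c : ℕ} (F : Fin c → MvPolynomial (Fin n) R)

theorem exists_subalgebra_model :
    ∃ (R₀ : Subalgebra ℤ R) (F₀ : Fin c → MvPolynomial (Fin n) R₀), Algebra.FiniteType ℤ R₀ ∧
      ∀ i, MvPolynomial.map (algebraMap R₀ R) (F₀ i) = F i := by
  classical
  let s : Finset R := Finset.univ.biUnion fun i => (F i).coeffs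
  let R₀ : Subalgebra ℤ R := Algebra.adjoin ℤ (s : Set R)
  have hfg : R₀.FG := Subalgebra.fg_adjoin_finset s
  have hF : ∀ i, F i ∈ Set.range (MvPolynomial.map (algebraMap R₀ R)) := by
    intro i
    rw [MvPolynomial.mem_range_map_iff_coeffs_subset]
    intro a ha
    refine ⟨⟨a, Algebra.subset_adjoin ?_⟩, rfl⟩
    simp only [s, Finset.coe_biUnion, Finset.coe_univ, Set.mem_univ, Set.iUnion_true, Set.mem_iUnion]
    exact ⟨i, ha⟩
  choose F₀ hF₀ using hF
  exact ⟨R₀, F₀, (Subalgebra.fg_iff_finiteType R₀).mp hfg, hF₀⟩

end model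

section main

open MvPolynomial

variable {R : Type u} [CommRing R] {n c : ℕ} {F : Fin c → MvPolynomial (Fin n) R}

/-- a prime of the polynomial ring containing the relations gives a point of the fibre -/
theorem nontrivial_fiber_of_le (q' : Ideal (MvPolynomial (Fin n) R)) [q'.IsPrime]
    (hq' : Ideal.span (Set.range F) ≤ q') :
    Nontrivial ((q'.comap (C : R →+* MvPolynomial (Fin n) R)).Fiber (Synt.RelGCIRing R n c F)) := by
  set I := Ideal.span (Set.range F) with hI
  set p := q'.comap (C : R →+* MvPolynomial (Fin n) R) with hp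
  have hker : RingHom.ker (Ideal.Quotient.mk I) ≤ q' := by rw [Ideal.mk_ker]; exact hq'
  let q : Ideal (Synt.RelGCIRing R n c F) := q'.map (Ideal.Quotient.mk I)
  haveI : q.IsPrime := Ideal.map_isPrime_of_surjective Ideal.Quotient.mk_surjective hker
  have hqc : q.comap (Ideal.Quotient.mk I) = q' := by
    rw [Ideal.comap_map_of_surjective' (Ideal.Quotient.mk I) Ideal.Quotient.mk_surjective q',
      sup_eq_left]
    exact hker
  have hqp : q.comap (algebraMap R (Synt.RelGCIRing R n c F)) = p := by
    rw [hp, ← hqc, Ideal.comap_comap]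
    rfl
  haveI : q.LiesOver p := ⟨hqp.symm⟩
  have x : PrimeSpectrum (p.Fiber (Synt.RelGCIRing R n c F)) :=
    PrimeSpectrum.primesOverOrderIsoFiber R (Synt.RelGCIRing R n c F) p ⟨q, inferInstance, inferInstance⟩
  by_contra hnt
  rw [not_nontrivial_iff_subsingleton] at hnt
  exact x.isPrime.ne_top (Subsingleton.elim _ _)

/-- **Stacks 00SV**: for a relative global complete intersection the relations form a transversally
regular sequence in the local ring at any prime containing them. -/
theorem rtr_of_isRelGCI (h : Synt.IsRelGCI R n c F) (q' : Ideal (MvPolynomial (Fin n) R)) [q'.IsPrime]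
    (hq' : Ideal.span (Set.range F) ≤ q') :
    c ≤ n ∧ RTR R ((List.ofFn F).map (algebraMap _ (Localization.AtPrime q'))) := by
  obtain ⟨hcn, hdim⟩ := h ⟨q'.comap (C : R →+* MvPolynomial (Fin n) R), inferInstance⟩
    (nontrivial_fiber_of_le q' hq')
  refine ⟨hcn, ?_⟩
  obtain ⟨R₀, F₀, hft, hF₀⟩ := exists_subalgebra_model R F
  haveI : IsNoetherianRing R₀ := Algebra.FiniteType.isNoetherianRing ℤ R₀
  have hF : mapPoly R₀ R F₀ = F := funext hF₀
  subst hF
  exact rtr_of_fibre_dim R₀ R F₀ q' hq' hcn hdim.le

end main


end Groth.Agent.Helper19.RelGCI
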