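import Mathlib
import Groth.Agent.Helper19.RelGCI6
import Groth.Agent.Lib.Helper16.KzComp4
import Groth.Agent.Lib.Helper11.KzCot

/-!
# Relative global complete intersections are Koszul-regular (helper19)

`kreg_of_forall_prime`: Koszul-regularity of a sequence can be checked in the localizations at the
primes containing it.  `kreg_of_isRelGCI` (= S9254).
-/

set_option autoImplicit false
set_option linter.style.haveILetI false
set_option linter.unusedSectionVars false
universe u
open RingTheory.Sequence TensorProduct IsLocalRing CategoryTheory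

namespace Groth.Agent.Helper19.RelGCI


section kreg

open Groth.Agent.Lib.Helper16.KzLoc

variable {P : Type u} [CommRing P]

/-- Koszul homology is killed by the ideal generated by the sequence -/
theorem smul_koszul_homology_eq_zero (l : List P) {a : P} (ha : a ∈ Ideal.ofList l) (i : ℤ)
    (y : ((Koszul.koszul P l).homology i : ModuleCat.{u} P)) : a • y = 0 := by
  have h := Groth.Agent.Lib.Helper11.Kz.koszul_eq l
  revert y
  rw [h]
  intro y
  exact Groth.Agent.Lib.Helper11.Kz.KH_smul_eq_zero_of_mem l P i ha y

/-- Koszul-regularity can be checked at the primes containing the ideal -/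
theorem kreg_of_forall_prime (l : List P)
    (h : ∀ (q' : Ideal P) [q'.IsPrime], Ideal.ofList l ≤ q' → KregLoc l q'.primeCompl) :
    LCI.IsKoszulRegularSeq P l := by
  rw [← kregLoc_top_iff]
  intro i hi y
  refine ⟨1, one_mem _, ?_⟩
  rw [one_smul]
  by_contra hy
  let J : Ideal P := LinearMap.ker (LinearMap.toSpanSingleton P _ y)
  have hJ : ∀ a, a ∈ J ↔ a • y = 0 := fun a => by
    rw [LinearMap.mem_ker, LinearMap.toSpanSingleton_apply]
  have hJtop : J ≠ ⊤ := by
    intro htop
    have : (1 : P) ∈ J := htop ▸ Submodule.mem_top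
    rw [hJ, one_smul] at this
    exact hy this
  obtain ⟨m, hm, hJm⟩ := Ideal.exists_le_maximal J hJtop
  haveI : m.IsPrime := hm.isPrime
  by_cases hlm : Ideal.ofList l ≤ m
  · obtain ⟨s, hs, hsy⟩ := h m hlm i hi y
    exact hs (hJm ((hJ s).mpr hsy))
  · obtain ⟨x, hx, hxm⟩ := SetLike.not_le_iff_exists.mp hlm
    exact hxm (hJm ((hJ x).mpr (smul_koszul_homology_eq_zero l hx i y)))

end kreg

section relgci

open Groth.Agent.Lib.Helper16.KzLoc MvPolynomial

variable {R : Type u} [CommRing R] {n c : ℕ} {F : Fin c → MvPolynomial (Fin n) R}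

theorem ofList_ofFn {A : Type*} [CommRing A] {c : ℕ} (F : Fin c → A) :
    Ideal.ofList (List.ofFn F) = Ideal.span (Set.range F) := by
  rw [Ideal.ofList]
  congr 1
  ext x
  simp [List.mem_ofFn]

/-- **S9254**: the relations of a relative global complete intersection form a Koszul-regular
sequence in the polynomial ring. -/
theorem kreg_of_isRelGCI (h : Synt.IsRelGCI R n c F) :
    LCI.IsKoszulRegularSeq (MvPolynomial (Fin n) R) (List.ofFn F) := by
  apply kreg_of_forall_prime
  intro q' _ hle
  rw [ofList_ofFn] at hle
  obtain ⟨-, hrtr⟩ := rtr_of_isRelGCI h q' hle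
  exact (kreg_iff_kregLoc (List.ofFn F) q'.primeCompl (Localization.AtPrime q')).mp
    (Groth.Agent.Lib.Helper16.KzComp.kreg_of_isWeaklyRegular _ hrtr.isWeaklyRegular)

end relgci


end Groth.Agent.Helper19.RelGCI
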