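import Mathlib
import Groth.Agent.Helper19.RelGCI7
import Groth.Agent.Lib.Helper23.SyntF2

/-!
# Relative global complete intersections are syntomic (helper19)

`flat_atPrime_of_isRelGCI`, `flat_of_isRelGCI`, `isGlobalCI_fiber_of_isRelGCI`,
`isSyntomic_of_isRelGCI` (= S9147).
-/

set_option autoImplicit false
set_option linter.style.haveILetI false
set_option linter.unusedSectionVars false
universe u
open RingTheory.Sequence TensorProduct IsLocalRing CategoryTheory

namespace Groth.Agent.Helper19.RelGCI


section synt

open MvPolynomial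

variable {R : Type u} [CommRing R] {n c : ℕ} {F : Fin c → MvPolynomial (Fin n) R}

/-- the local rings of a relative global complete intersection are flat over the base -/
theorem flat_atPrime_of_isRelGCI (h : Synt.IsRelGCI R n c F) (q : Ideal (Synt.RelGCIRing R n c F))
    [q.IsPrime] : Module.Flat R (Localization.AtPrime q) := by
  set I := Ideal.span (Set.range F) with hI
  let φ : MvPolynomial (Fin n) R →ₐ[R] Synt.RelGCIRing R n c F := Ideal.Quotient.mkₐ R I
  have hφ : Function.Surjective φ := Ideal.Quotient.mkₐ_surjective R I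
  have hker : RingHom.ker φ = I := Ideal.Quotient.mkₐ_ker R I
  have hle : I ≤ q.comap φ := by
    rw [← hker]
    exact Ideal.comap_mono bot_le
  obtain ⟨-, hrtr⟩ := rtr_of_isRelGCI h (q.comap φ) hle
  have hfl := hrtr.1 c (by rw [List.length_map, List.length_ofFn])
  rw [List.take_of_length_le (by rw [List.length_map, List.length_ofFn]), ← Ideal.map_ofList,
    ofList_ofFn] at hfl
  have e := Groth.Agent.Lib.Helper23.SyntF.locQuotAlgEquiv R φ q hφ
  rw [hker] at e
  exact Module.Flat.of_linearEquiv e.toLinearEquiv

/-- a relative global complete intersection is flat -/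
theorem flat_of_isRelGCI (h : Synt.IsRelGCI R n c F) :
    Module.Flat R (Synt.RelGCIRing R n c F) := by
  refine Module.flat_of_isLocalized_maximal (Synt.RelGCIRing R n c F) (Synt.RelGCIRing R n c F)
    (fun q _ => Localization.AtPrime q)
    (fun q _ => Algebra.linearMap (Synt.RelGCIRing R n c F) (Localization.AtPrime q)) ?_
  intro q hq
  exact flat_atPrime_of_isRelGCI h q

/-- the fibres of a relative global complete intersection are global complete intersections -/
theorem isGlobalCI_fiber_of_isRelGCI (h : Synt.IsRelGCI R n c F) (p : PrimeSpectrum R) :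
    Synt.IsGlobalCI p.asIdeal.ResidueField (p.asIdeal.Fiber (Synt.RelGCIRing R n c F)) := by
  by_cases hnt : Nontrivial (p.asIdeal.Fiber (Synt.RelGCIRing R n c F))
  · obtain ⟨hcn, hdim⟩ := h p hnt
    set k := p.asIdeal.ResidueField with hk
    set J := Ideal.span (Set.range (mapPoly R k F)) with hJ
    let e := fibEquiv R k F
    refine Or.inr ⟨n, c, hcn, e.symm.toAlgHom.comp (Ideal.Quotient.mkₐ k J), mapPoly R k F, ?_, ?_, hdim⟩
    · exact e.symm.surjective.comp (Ideal.Quotient.mkₐ_surjective k J)
    · ext x
      simp only [RingHom.mem_ker]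
      change e.symm (Ideal.Quotient.mk J x) = 0 ↔ _
      rw [map_eq_zero_iff _ e.symm.injective, Ideal.Quotient.eq_zero_iff_mem]
  · rw [not_nontrivial_iff_subsingleton] at hnt
    exact Or.inl hnt

/-- **S9147**: a relative global complete intersection is syntomic. -/
theorem isSyntomic_of_isRelGCI (h : Synt.IsRelGCI R n c F) :
    Synt.IsSyntomic R (Synt.RelGCIRing R n c F) := by
  refine ⟨flat_of_isRelGCI h, ?_, fun p => ?_⟩
  · exact Algebra.FinitePresentation.quotient (Submodule.fg_span (Set.finite_range F))
  · exact Groth.Agent.Lib.Helper23.SyntF.isLCIOver_of_isGlobalCI (isGlobalCI_fiber_of_isRelGCI h p)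

end synt


end Groth.Agent.Helper19.RelGCI
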