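import Mathlib
import Groth.Agent.Helper19.RelGCI8
import Groth.Prelude.Def_RegImm

/-!
# Krull lower bound for fibres and the presentation of a principal localization (helper19)

`le_ringKrullDim_quotient_span_range`: nonzero `k[x_1..x_n]/(G_1..G_c)` has dimension `≥ n - c`.
`awayPresEquiv`: `S_g ≃ₐ[R] R[x, y]/(F, h y - 1)` for `S = R[x]/(F)`, `g = h mod (F)`.
-/

set_option autoImplicit false
set_option linter.style.haveILetI false
set_option linter.unusedSectionVars false
universe u
open TensorProduct MvPolynomial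

namespace Groth.Agent.Helper19.RelGCI

section krull

variable {k : Type u} [Field k] {n c : ℕ}

/-- Krull lower bound: a nonzero `k[x_1..x_n]/(G_1..G_c)` has dimension at least `n - c`. -/
theorem le_ringKrullDim_quotient_span_range (G : Fin c → MvPolynomial (Fin n) k)
    (hne : Nontrivial (MvPolynomial (Fin n) k ⧸ Ideal.span (Set.range G))) :
    ((n - c : ℕ) : WithBot ℕ∞) ≤ ringKrullDim (MvPolynomial (Fin n) k ⧸ Ideal.span (Set.range G)) := by
  have hne' : Ideal.span (Set.range G) ≠ ⊤ := by
    intro h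
    rw [← Ideal.Quotient.subsingleton_iff] at h
    exact not_subsingleton _ h
  obtain ⟨m, hm, hle⟩ := Ideal.exists_le_maximal _ hne'
  obtain ⟨P, hP, hPm⟩ := Ideal.exists_minimalPrimes_le hle
  haveI hPp : P.IsPrime := hP.1.1
  have h1 := Groth.Agent.Lib.Helper23.SyntF.height_le_of_mem_minimalPrimes_span_range c G hP
  have h2 := Groth.Agent.Lib.Helper23.SyntF.height_add_dim_quotient P
  have h3 : ringKrullDim (MvPolynomial (Fin n) k ⧸ P) ≤
      ringKrullDim (MvPolynomial (Fin n) k ⧸ Ideal.span (Set.range G)) :=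
    ringKrullDim_le_of_surjective (Ideal.Quotient.factor hP.1.2)
      (Ideal.Quotient.factor_surjective hP.1.2)
  refine le_trans ?_ h3
  have hfin : P.height ≠ ⊤ := Ideal.height_ne_top_of_isPrime
  obtain ⟨a, ha⟩ := ENat.ne_top_iff_exists.mp hfin
  rw [← ha] at h1 h2
  have hac : a ≤ c := by exact_mod_cast h1
  have h0 : 0 ≤ ringKrullDim (MvPolynomial (Fin n) k ⧸ P) := ringKrullDim_nonneg_of_nontrivial
  have hN : ringKrullDim (MvPolynomial (Fin n) k ⧸ P) ≤ (n : WithBot ℕ∞) := by
    rw [← h2]
    exact le_add_of_nonneg_left (by exact_mod_cast (zero_le : (0 : ℕ∞) ≤ (a : ℕ∞)))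
  obtain ⟨d, hd, hdle⟩ := Groth.Agent.Lib.Helper23.SyntF.exists_nat_of_le h0 hN
  rw [hd] at h2 ⊢
  have h4 : a + d = n := by exact_mod_cast h2
  have : n - c ≤ d := by omega
  exact_mod_cast this

end krull

section away

variable (R : Type u) [CommRing R] {n c : ℕ} (F : Fin c → MvPolynomial (Fin n) R)
  (h : MvPolynomial (Fin n) R)

/-- the relations presenting `S_g` -/
noncomputable def awayRel : Fin (c + 1) → MvPolynomial (Fin (n + 1)) R :=
  Fin.snoc (fun i => rename Fin.castSucc (F i)) (rename Fin.castSucc h * X (Fin.last n) - 1)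

theorem awayRel_castSucc (i : Fin c) : awayRel R F h i.castSucc = rename Fin.castSucc (F i) := by
  simp [awayRel]

theorem awayRel_last : awayRel R F h (Fin.last c) = rename Fin.castSucc h * X (Fin.last n) - 1 := by
  simp [awayRel]

/-- `S → S'` -/
noncomputable def awayFwd₀ : Synt.RelGCIRing R n c F →ₐ[R] Synt.RelGCIRing R (n + 1) (c + 1) (awayRel R F h) :=
  Ideal.Quotient.liftₐ _ ((Ideal.Quotient.mkₐ R _).comp (rename Fin.castSucc)) (by
    intro a ha
    rw [← RingHom.mem_ker]
    revert a
    change Ideal.span (Set.range F) ≤ _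
    rw [Ideal.span_le]
    rintro _ ⟨i, rfl⟩
    rw [SetLike.mem_coe, RingHom.mem_ker]
    simp only [AlgHom.coe_comp, Function.comp_apply, Ideal.Quotient.mkₐ_eq_mk]
    rw [Ideal.Quotient.eq_zero_iff_mem, ← awayRel_castSucc R F h i]
    exact Ideal.subset_span ⟨_, rfl⟩)

theorem awayFwd₀_mk (a : MvPolynomial (Fin n) R) :
    awayFwd₀ R F h (Ideal.Quotient.mk _ a) = Ideal.Quotient.mk _ (rename Fin.castSucc a) := rfl

theorem mk_mul_X_last :
    (Ideal.Quotient.mk (Ideal.span (Set.range (awayRel R F h))) (rename Fin.castSucc h)) *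
      Ideal.Quotient.mk _ (X (Fin.last n)) = 1 := by
  rw [← map_mul, ← sub_eq_zero, ← map_one (Ideal.Quotient.mk _), ← map_sub,
    Ideal.Quotient.eq_zero_iff_mem, ← awayRel_last R F h]
  exact Ideal.subset_span ⟨_, rfl⟩

/-- `S_g → S'` -/
noncomputable def awayFwd : Localization.Away (Ideal.Quotient.mk (Ideal.span (Set.range F)) h) →ₐ[R]
    Synt.RelGCIRing R (n + 1) (c + 1) (awayRel R F h) :=
  IsLocalization.liftAlgHom (M := Submonoid.powers (Ideal.Quotient.mk (Ideal.span (Set.range F)) h))
    (f := awayFwd₀ R F h) (by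
      rintro ⟨_, k, rfl⟩
      rw [map_pow]
      refine IsUnit.pow _ ?_
      rw [awayFwd₀_mk]
      exact IsUnit.of_mul_eq_one _ (mk_mul_X_last R F h))

theorem awayFwd_algebraMap (s : Synt.RelGCIRing R n c F) :
    awayFwd R F h (algebraMap _ _ s) = awayFwd₀ R F h s := by
  simp [awayFwd]

/-- images of the variables in `S_g` -/
noncomputable def awayVal : Fin (n + 1) → Localization.Away (Ideal.Quotient.mk (Ideal.span (Set.range F)) h) :=
  Fin.snoc (α := fun _ => Localization.Away (Ideal.Quotient.mk (Ideal.span (Set.range F)) h))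
    (fun i => algebraMap (Synt.RelGCIRing R n c F) _ (Ideal.Quotient.mk _ (X i)))
    (IsLocalization.Away.invSelf (Ideal.Quotient.mk (Ideal.span (Set.range F)) h))

theorem awayVal_castSucc (i : Fin n) :
    awayVal R F h i.castSucc = algebraMap (Synt.RelGCIRing R n c F) _ (Ideal.Quotient.mk _ (X i)) := by
  simp [awayVal]

theorem awayVal_last :
    awayVal R F h (Fin.last n) =
      IsLocalization.Away.invSelf (Ideal.Quotient.mk (Ideal.span (Set.range F)) h) := by
  simp [awayVal]

theorem aeval_awayVal_rename (a : MvPolynomial (Fin n) R) :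
    aeval (awayVal R F h) (rename Fin.castSucc a) =
      algebraMap (Synt.RelGCIRing R n c F) _ (Ideal.Quotient.mk _ a) := by
  rw [aeval_rename]
  have : (awayVal R F h) ∘ Fin.castSucc =
      fun i => algebraMap (Synt.RelGCIRing R n c F) _ (Ideal.Quotient.mk _ (X i)) := by
    funext i; exact awayVal_castSucc R F h i
  rw [this]
  induction a using MvPolynomial.induction_on with
  | C r =>
    simp only [aeval_C, algHom_C]
    rw [IsScalarTower.algebraMap_apply R (Synt.RelGCIRing R n c F)]
    rfl
  | add p q hp hq => rw [map_add, map_add, map_add, hp, hq]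
  | mul_X p i hp => rw [map_mul, map_mul, map_mul, hp, aeval_X]

/-- `S' → S_g` -/
noncomputable def awayBwd : Synt.RelGCIRing R (n + 1) (c + 1) (awayRel R F h) →ₐ[R]
    Localization.Away (Ideal.Quotient.mk (Ideal.span (Set.range F)) h) :=
  Ideal.Quotient.liftₐ _ (aeval (awayVal R F h)) (by
    intro a ha
    rw [← RingHom.mem_ker]
    revert a
    change Ideal.span (Set.range (awayRel R F h)) ≤ _
    rw [Ideal.span_le]
    rintro _ ⟨i, rfl⟩
    rw [SetLike.mem_coe, RingHom.mem_ker]
    refine Fin.lastCases ?_ (fun j => ?_) i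
    · rw [awayRel_last, map_sub, map_mul, aeval_awayVal_rename, map_one, aeval_X, awayVal_last,
        sub_eq_zero]
      exact IsLocalization.Away.mul_invSelf _
    · rw [awayRel_castSucc, aeval_awayVal_rename]
      have : Ideal.Quotient.mk (Ideal.span (Set.range F)) (F j) = 0 :=
        Ideal.Quotient.eq_zero_iff_mem.mpr (Ideal.subset_span ⟨_, rfl⟩)
      rw [this, map_zero])

theorem awayBwd_mk (a : MvPolynomial (Fin (n + 1)) R) :
    awayBwd R F h (Ideal.Quotient.mk _ a) = aeval (awayVal R F h) a := rfl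

theorem awayFwd_invSelf :
    awayFwd R F h (IsLocalization.Away.invSelf (Ideal.Quotient.mk (Ideal.span (Set.range F)) h)) =
      Ideal.Quotient.mk _ (X (Fin.last n)) := by
  have h1 : awayFwd R F h (algebraMap _ _ (Ideal.Quotient.mk (Ideal.span (Set.range F)) h)) *
      awayFwd R F h (IsLocalization.Away.invSelf (Ideal.Quotient.mk (Ideal.span (Set.range F)) h)) = 1 := by
    rw [← map_mul, IsLocalization.Away.mul_invSelf, map_one]
  rw [awayFwd_algebraMap, awayFwd₀_mk] at h1
  have h2 := mk_mul_X_last R F h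
  calc awayFwd R F h (IsLocalization.Away.invSelf (Ideal.Quotient.mk (Ideal.span (Set.range F)) h))
      = (Ideal.Quotient.mk _ (X (Fin.last n)) * Ideal.Quotient.mk _ (rename Fin.castSucc h)) *
        awayFwd R F h (IsLocalization.Away.invSelf (Ideal.Quotient.mk (Ideal.span (Set.range F)) h)) := by
        rw [mul_comm (Ideal.Quotient.mk _ (X (Fin.last n))), h2, one_mul]
    _ = Ideal.Quotient.mk _ (X (Fin.last n)) := by rw [mul_assoc, h1, mul_one]

/-- **Presentation of a principal localization**: `S_g ≃ R[x, y]/(F, h y - 1)`. -/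
noncomputable def awayPresEquiv :
    Localization.Away (Ideal.Quotient.mk (Ideal.span (Set.range F)) h) ≃ₐ[R]
      Synt.RelGCIRing R (n + 1) (c + 1) (awayRel R F h) :=
  AlgEquiv.ofAlgHom (awayFwd R F h) (awayBwd R F h) (by
    apply Ideal.Quotient.algHom_ext
    apply MvPolynomial.algHom_ext
    intro j
    simp only [AlgHom.coe_comp, Function.comp_apply, Ideal.Quotient.mkₐ_eq_mk, AlgHom.coe_id, id_eq]
    rw [awayBwd_mk, aeval_X]
    refine Fin.lastCases ?_ (fun i => ?_) j
    · rw [awayVal_last, awayFwd_invSelf]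
    · rw [awayVal_castSucc, awayFwd_algebraMap, awayFwd₀_mk, rename_X]) (by
    apply AlgHom.coe_ringHom_injective
    apply IsLocalization.ringHom_ext (Submonoid.powers (Ideal.Quotient.mk (Ideal.span (Set.range F)) h))
    refine RingHom.ext fun s => ?_
    obtain ⟨a, rfl⟩ := Ideal.Quotient.mk_surjective s
    simp only [RingHom.coe_comp, RingHom.coe_coe, AlgHom.coe_comp, Function.comp_apply, AlgHom.coe_id, id_eq]
    rw [awayFwd_algebraMap, awayFwd₀_mk, awayBwd_mk, aeval_awayVal_rename])

theorem awayPresEquiv_algebraMap (s : Synt.RelGCIRing R n c F) :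
    awayPresEquiv R F h (algebraMap _ _ s) = awayFwd₀ R F h s :=
  awayFwd_algebraMap R F h s

end away

end Groth.Agent.Helper19.RelGCI
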