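import Mathlib
import Groth.Agent.Helper19.RelGCI9
import Groth.Agent.Lib.Helper21.FibDim2
import Groth.Agent.Lib.Helper21.SpecFibreDim
import Groth.Agent.Lib.Helper21.CondT5
import Groth.Agent.Lib.Helper21.BaseChg1
import Groth.Agent.Lib.Helper21.EquiSub1
import Groth.Agent.Lib.Helper12.FibDimGen
import Groth.Agent.Lib.Helper6.EtaleSq
import Groth.Agent.Lib.Helper18.TopDim
import Groth.Prelude.Def_RegImm
import Groth.Prelude.Def_Flat

/-!
# Local fibre dimension of presented algebras; shrinking to a relative global complete intersection (helper19)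

`fibreDimAt_le_ringKrullDim_fiber`, `le_fibreDimAt` (Krull lower bound `n - c ≤ dim_x X_{f x}`),
`fibreDimAt_eq_of_isRelGCI` (= S9366), `isOpen_fibreDimAt_le` (Chevalley, via helper21),
`ringKrullDim_fiber_away_le`, `isRelGCI_away` (local fibre dimension `≤ n - c` on `D(g)` ⇒
`S_g = R[x,y]/(F, hy-1)` is a relative global complete intersection).
-/

set_option autoImplicit false
set_option linter.style.haveILetI false
set_option linter.unusedSectionVars false
universe u
open TensorProduct MvPolynomial AlgebraicGeometry CategoryTheory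

namespace Groth.Agent.Helper19.RelGCI

section wrappers

variable (R S : Type u) [CommRing R] [CommRing S] [Algebra R S]

/-- the structure morphism `Spec S ⟶ Spec R` -/
noncomputable abbrev sm : Spec (CommRingCat.of S) ⟶ Spec (CommRingCat.of R) :=
  Spec.map (CommRingCat.ofHom (algebraMap R S))

/-- local fibre dimension is at most the dimension of the fibre ring -/
theorem fibreDimAt_le_ringKrullDim_fiber (q : Spec (CommRingCat.of S)) (p : PrimeSpectrum R)
    (hp : (sm R S) q = p) :
    FlatMor.fibreDimAt (sm R S) q ≤ ringKrullDim (p.asIdeal.Fiber S) := by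
  subst hp
  rw [← Groth.Agent.Lib.Helper21.SpecFibreDim.topologicalKrullDim_fiber_specMap]
  exact Groth.Agent.Lib.Helper12.H12FibDimGen.fibreDimAt_le_topologicalKrullDim_fiber _ q

/-- a lower bound for the local dimension of a prime spectrum through basic opens -/
theorem le_localDim_primeSpectrum (A : Type u) [CommRing A] (z : PrimeSpectrum A) (N : WithBot ℕ∞)
    (h : ∀ b : A, b ∉ z.asIdeal → N ≤ ringKrullDim (Localization.Away b)) :
    N ≤ FlatMor.localDim (PrimeSpectrum A) z := by
  unfold FlatMor.localDim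
  refine le_iInf fun U => ?_
  obtain ⟨g, hg, hle⟩ := Groth.Agent.Lib.Helper21.BaseChg.exists_away_le A z U.1 U.2
  exact (h g hg).trans hle

/-- local fibre dimension as the local dimension of the spectrum of the fibre ring -/
theorem fibreDimAt_eq_localDim_fiberRing (q : Spec (CommRingCat.of S)) :
    ∃ (hq : q ∈ PrimeSpectrum.comap (algebraMap R S) ⁻¹' {(sm R S) q}),
    FlatMor.fibreDimAt (sm R S) q =
      FlatMor.localDim (PrimeSpectrum (((sm R S) q : PrimeSpectrum R).asIdeal.Fiber S))
        (PrimeSpectrum.preimageHomeomorphFiber R S ((sm R S) q) ⟨q, hq⟩) := by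
  refine ⟨rfl, ?_⟩
  rw [Groth.Agent.Lib.Helper21.EquiSub.fibreDimAt_eq_localDim_preimage]
  exact Groth.Agent.Lib.Helper21.EquiSub.localDim_homeomorph
    (PrimeSpectrum.preimageHomeomorphFiber R S ((sm R S) q)) ⟨q, rfl⟩

end wrappers


section away

variable (R S : Type u) [CommRing R] [CommRing S] [Algebra R S]

/-- if the local fibre dimension is `≤ d` on `D(g)`, all fibre rings of `S_g` have dimension `≤ d` -/
theorem ringKrullDim_fiber_away_le (g : S) (d : ℕ)
    (h : ∀ q : Spec (CommRingCat.of S), g ∉ (q : PrimeSpectrum S).asIdeal →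
      FlatMor.fibreDimAt (sm R S) q ≤ (d : WithBot ℕ∞)) (p' : PrimeSpectrum R) :
    ringKrullDim (p'.asIdeal.Fiber (Localization.Away g)) ≤ (d : WithBot ℕ∞) := by
  rw [← Groth.Agent.Lib.Helper21.SpecFibreDim.topologicalKrullDim_fiber_specMap,
    Groth.Agent.Lib.Helper18.TopDim.topologicalKrullDim_eq_iSup_localDim]
  refine iSup_le fun t => ?_
  set fT := sm R (Localization.Away g) with hfT
  let j : Spec (CommRingCat.of (Localization.Away g)) ⟶ Spec (CommRingCat.of S) :=
    Spec.map (CommRingCat.ofHom (algebraMap S (Localization.Away g)))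
  have hw : fT (fT.fiberι p' t) = p' := by
    have := Set.mem_range_self (f := fT.fiberι p') t
    rw [Scheme.Hom.range_fiberι] at this
    exact this
  rw [Groth.Agent.Lib.Helper21.CondT.localDim_fiber_eq_fibreDimAt fT p' (fT.fiberι p' t) hw t rfl]
  have comm : fT ≫ 𝟙 _ = j ≫ sm R S := by
    rw [Category.comp_id, hfT, ← Spec.map_comp, ← CommRingCat.ofHom_comp,
      ← IsScalarTower.algebraMap_eq]
  rw [← Groth.Agent.Lib.Helper6.EtaleSq.fibreDimAt_etale_square (sm R S) fT j (𝟙 _) comm]
  apply h
  intro hg
  set w := fT.fiberι p' t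
  have h1 : algebraMap S (Localization.Away g) g ∈ (w : PrimeSpectrum (Localization.Away g)).asIdeal := hg
  have h2 : IsUnit (algebraMap S (Localization.Away g) g) := IsLocalization.Away.algebraMap_isUnit g
  exact (w : PrimeSpectrum (Localization.Away g)).2.ne_top (Ideal.eq_top_of_isUnit_mem _ h1 h2)

end away

section presented

variable (R : Type u) [CommRing R] {n c : ℕ} (F : Fin c → MvPolynomial (Fin n) R)

/-- fibre rings of isomorphic algebras have the same dimension -/
theorem ringKrullDim_fiber_congr {S T : Type u} [CommRing S] [CommRing T] [Algebra R S] [Algebra R T]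
    (e : S ≃ₐ[R] T) (p : Ideal R) [p.IsPrime] :
    ringKrullDim (p.Fiber S) = ringKrullDim (p.Fiber T) :=
  ringKrullDim_eq_of_ringEquiv
    (Algebra.TensorProduct.congr (AlgEquiv.refl : p.ResidueField ≃ₐ[R] p.ResidueField) e).toRingEquiv

theorem nontrivial_fiber_congr {S T : Type u} [CommRing S] [CommRing T] [Algebra R S] [Algebra R T]
    (e : S ≃ₐ[R] T) (p : Ideal R) [p.IsPrime] (h : Nontrivial (p.Fiber T)) :
    Nontrivial (p.Fiber S) :=
  (Algebra.TensorProduct.congr (AlgEquiv.refl : p.ResidueField ≃ₐ[R] p.ResidueField)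
    e).toRingEquiv.toEquiv.nontrivial

/-- Krull lower bound for the fibres of a presented algebra -/
theorem le_ringKrullDim_fiber (p : Ideal R) [p.IsPrime]
    (hne : Nontrivial (p.Fiber (Synt.RelGCIRing R n c F))) :
    ((n - c : ℕ) : WithBot ℕ∞) ≤ ringKrullDim (p.Fiber (Synt.RelGCIRing R n c F)) := by
  have e := fibEquiv R p.ResidueField F
  rw [ringKrullDim_eq_of_ringEquiv e.toRingEquiv]
  have : Nontrivial (MvPolynomial (Fin n) p.ResidueField ⧸
      Ideal.span (Set.range (mapPoly R p.ResidueField F))) := e.symm.toRingEquiv.toEquiv.nontrivial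
  exact le_ringKrullDim_quotient_span_range _ this

/-- Krull lower bound for principal localizations of `k[x]/(G)` -/
theorem le_ringKrullDim_away {k : Type u} [Field k] (G : Fin c → MvPolynomial (Fin n) k)
    (b : MvPolynomial (Fin n) k ⧸ Ideal.span (Set.range G)) (hb : Nontrivial (Localization.Away b)) :
    ((n - c : ℕ) : WithBot ℕ∞) ≤ ringKrullDim (Localization.Away b) := by
  obtain ⟨h, rfl⟩ := Ideal.Quotient.mk_surjective b
  have e := awayPresEquiv k G h
  rw [ringKrullDim_eq_of_ringEquiv e.toRingEquiv]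
  have : Nontrivial (Synt.RelGCIRing k (n + 1) (c + 1) (awayRel k G h)) :=
    e.symm.toRingEquiv.toEquiv.nontrivial
  have h1 := le_ringKrullDim_quotient_span_range (awayRel k G h) this
  have h2 : n + 1 - (c + 1) = n - c := by omega
  rw [h2] at h1
  exact h1

theorem nontrivial_away_of_notMem (A : Type u) [CommRing A] (z : PrimeSpectrum A) (b : A)
    (hb : b ∉ z.asIdeal) : Nontrivial (Localization.Away b) := by
  rw [← not_subsingleton_iff_nontrivial]
  intro hs
  have h0 : (algebraMap A (Localization.Away b) 1) = 0 := Subsingleton.elim _ _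
  rw [IsLocalization.map_eq_zero_iff (Submonoid.powers b)] at h0
  obtain ⟨⟨_, k, rfl⟩, hk⟩ := h0
  rw [mul_one] at hk
  have hk' : b ^ k = 0 := hk
  have : b ^ k ∈ z.asIdeal := by
    rw [hk']; exact zero_mem _
  exact hb (z.2.mem_of_pow_mem k this)

/-- Krull lower bound for the local fibre dimension of a presented algebra -/
theorem le_fibreDimAt (q : Spec (CommRingCat.of (Synt.RelGCIRing R n c F))) :
    ((n - c : ℕ) : WithBot ℕ∞) ≤ FlatMor.fibreDimAt (sm R (Synt.RelGCIRing R n c F)) q := by
  obtain ⟨hq, heq⟩ := fibreDimAt_eq_localDim_fiberRing R (Synt.RelGCIRing R n c F) q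
  rw [heq]
  set p : PrimeSpectrum R := (sm R (Synt.RelGCIRing R n c F)) q
  refine le_localDim_primeSpectrum (p.asIdeal.Fiber (Synt.RelGCIRing R n c F)) _ _ (fun b hb => ?_)
  have e := fibEquiv R p.asIdeal.ResidueField F
  have hnt : Nontrivial (Localization.Away b) := nontrivial_away_of_notMem _ _ b hb
  let e' : Localization.Away b ≃+* Localization.Away (e b) :=
    IsLocalization.ringEquivOfRingEquiv (M := Submonoid.powers b) (T := Submonoid.powers (e b))
      (Localization.Away b) (Localization.Away (e b)) e.toRingEquiv (by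
        rw [Submonoid.map_powers]; rfl)
  rw [ringKrullDim_eq_of_ringEquiv e']
  exact le_ringKrullDim_away _ _ e'.symm.toEquiv.nontrivial

end presented

section main

variable (R : Type u) [CommRing R] {n c : ℕ} (F : Fin c → MvPolynomial (Fin n) R)

/-- **S9366**: the local fibre dimension of a relative global complete intersection is `n - c`. -/
theorem fibreDimAt_eq_of_isRelGCI (hF : Synt.IsRelGCI R n c F)
    (q : Spec (CommRingCat.of (Synt.RelGCIRing R n c F))) :
    FlatMor.fibreDimAt (sm R (Synt.RelGCIRing R n c F)) q = ((n - c : ℕ) : WithBot ℕ∞) := by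
  apply le_antisymm _ (le_fibreDimAt R F q)
  set p : PrimeSpectrum R := (sm R (Synt.RelGCIRing R n c F)) q with hp
  refine (fibreDimAt_le_ringKrullDim_fiber R _ q p rfl).trans ?_
  have hnt : Nontrivial (p.asIdeal.Fiber (Synt.RelGCIRing R n c F)) := by
    have z := PrimeSpectrum.preimageHomeomorphFiber R (Synt.RelGCIRing R n c F) p ⟨q, rfl⟩
    exact z.nontrivial
  exact (hF p hnt).2.le

/-- the locus where the local fibre dimension is `≤ d` is open -/
theorem isOpen_fibreDimAt_le (d : ℕ) :
    IsOpen {q : Spec (CommRingCat.of (Synt.RelGCIRing R n c F)) |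
      FlatMor.fibreDimAt (sm R (Synt.RelGCIRing R n c F)) q ≤ (d : WithBot ℕ∞)} := by
  haveI : LocallyOfFiniteType (sm R (Synt.RelGCIRing R n c F)) := by
    rw [HasRingHomProperty.Spec_iff (P := @LocallyOfFiniteType)]
    rw [CommRingCat.hom_ofHom, RingHom.finiteType_algebraMap]
    infer_instance
  exact Groth.Agent.Lib.Helper21.FibDim.isOpen_setOf_fibreDimAt_le _ d

/-- **Shrinking to a relative global complete intersection**: if the local fibre dimension is
`≤ n - c` on `D(g)`, then `S_g = R[x, y]/(F, h y - 1)` is a relative global complete intersection. -/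
theorem isRelGCI_away (hcn : c ≤ n) (h : MvPolynomial (Fin n) R)
    (hW : ∀ q : Spec (CommRingCat.of (Synt.RelGCIRing R n c F)),
      Ideal.Quotient.mk (Ideal.span (Set.range F)) h ∉ (q : PrimeSpectrum _).asIdeal →
      FlatMor.fibreDimAt (sm R (Synt.RelGCIRing R n c F)) q ≤ ((n - c : ℕ) : WithBot ℕ∞)) :
    Synt.IsRelGCI R (n + 1) (c + 1) (awayRel R F h) := by
  intro p' hnt
  refine ⟨by omega, le_antisymm ?_ ?_⟩
  · rw [← ringKrullDim_fiber_congr R (awayPresEquiv R F h) p'.asIdeal]
    have h2 : n + 1 - (c + 1) = n - c := by omega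
    rw [h2]
    exact ringKrullDim_fiber_away_le R _ _ (n - c) hW p'
  · exact le_ringKrullDim_fiber R _ p'.asIdeal hnt

end main

end Groth.Agent.Helper19.RelGCI
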