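import Mathlib
import Groth.Agent.Helper19.RelGCI10

/-!
# Shrinking a presented algebra to a relative global complete intersection (helper19)

`exists_mem_isUnit_one_tmul`, `exists_ideal_fibreDimAt`, `isRelGCI_away_of_mem`,
`exists_isRelGCI_away_of_fibre` (= S9173).
-/

set_option autoImplicit false
set_option linter.style.haveILetI false
set_option linter.unusedSectionVars false
universe u
open TensorProduct MvPolynomial AlgebraicGeometry CategoryTheory

namespace Groth.Agent.Helper19.RelGCI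

section unitFiber

variable {R S : Type u} [CommRing R] [CommRing S] [Algebra R S] (p : Ideal R) [p.IsPrime]

/-- every element of the ideal generated by `J` in the fibre ring is, up to a unit scalar, `1 ⊗ g`
with `g ∈ J` -/
theorem exists_smul_eq_one_tmul_of_mem_map (J : Ideal S) (x : p.Fiber S)
    (hx : x ∈ J.map (Algebra.TensorProduct.includeRight : S →ₐ[R] p.Fiber S)) :
    ∃ r ∉ p, ∃ g ∈ J, r • x = (1 : p.ResidueField) ⊗ₜ[R] g := by
  rw [Ideal.map] at hx
  induction hx using Submodule.span_induction with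
  | mem x hx =>
    obtain ⟨g, hg, rfl⟩ := hx
    exact ⟨1, fun h => ‹p.IsPrime›.ne_top (p.eq_top_of_isUnit_mem h isUnit_one), g, hg, by
      rw [one_smul]; rfl⟩
  | zero => exact ⟨1, fun h => ‹p.IsPrime›.ne_top (p.eq_top_of_isUnit_mem h isUnit_one), 0,
      J.zero_mem, by rw [smul_zero, tmul_zero]⟩
  | add x y _ _ hx hy =>
    obtain ⟨r₁, hr₁, g₁, hg₁, e₁⟩ := hx
    obtain ⟨r₂, hr₂, g₂, hg₂, e₂⟩ := hy
    refine ⟨r₁ * r₂, ‹p.IsPrime›.mul_notMem hr₁ hr₂, r₂ • g₁ + r₁ • g₂,
      J.add_mem (J.smul_of_tower_mem r₂ hg₁) (J.smul_of_tower_mem r₁ hg₂), ?_⟩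
    rw [smul_add, mul_comm r₁ r₂, mul_smul, e₁, mul_comm r₂ r₁, mul_smul, e₂, tmul_add,
      tmul_smul, tmul_smul]
  | smul a x _ hx =>
    obtain ⟨r, hr, g, hg, e⟩ := hx
    obtain ⟨r', hr', t, e'⟩ := Ideal.Fiber.exists_smul_eq_one_tmul p a
    refine ⟨r' * r, ‹p.IsPrime›.mul_notMem hr' hr, t * g, J.mul_mem_left t hg, ?_⟩
    rw [smul_eq_mul, mul_smul_mul_comm, e, e', Algebra.TensorProduct.tmul_mul_tmul, one_mul]

/-- if `J` generates the unit ideal of the fibre ring, some `g ∈ J` becomes a unit there -/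
theorem exists_mem_isUnit_one_tmul (J : Ideal S)
    (hJ : J.map (Algebra.TensorProduct.includeRight : S →ₐ[R] p.Fiber S) = ⊤) :
    ∃ g ∈ J, IsUnit ((1 : p.ResidueField) ⊗ₜ[R] g : p.Fiber S) := by
  obtain ⟨r, hr, g, hg, e⟩ := exists_smul_eq_one_tmul_of_mem_map p J 1 (by rw [hJ]; trivial)
  refine ⟨g, hg, ?_⟩
  rw [← e, Algebra.smul_def, mul_one, IsScalarTower.algebraMap_apply R p.ResidueField (p.Fiber S)]
  refine IsUnit.map (algebraMap p.ResidueField (p.Fiber S)) ?_
  rw [isUnit_iff_ne_zero, Ne, Ideal.algebraMap_residueField_eq_zero]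
  exact hr

end unitFiber

section shrink

theorem exists_primeSpectrum_ge (A : Type u) [CommRing A] (I : Ideal A) (h : I ≠ ⊤) :
    ∃ Q : PrimeSpectrum A, I ≤ Q.asIdeal := by
  obtain ⟨M, hM, hle⟩ := Ideal.exists_le_maximal _ h
  exact ⟨⟨M, hM.isPrime⟩, hle⟩

variable (R : Type u) [CommRing R] {n c : ℕ} (F : Fin c → MvPolynomial (Fin n) R)

/-- the closed complement of the locus of local fibre dimension `≤ d` -/
theorem exists_ideal_fibreDimAt (d : ℕ) :
    ∃ J : Ideal (Synt.RelGCIRing R n c F), ∀ q : Spec (CommRingCat.of (Synt.RelGCIRing R n c F)),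
      J ≤ (q : PrimeSpectrum _).asIdeal ↔
        ¬ FlatMor.fibreDimAt (sm R (Synt.RelGCIRing R n c F)) q ≤ (d : WithBot ℕ∞) := by
  have hopen := isOpen_fibreDimAt_le R F d
  have hcl : IsClosed ({q : PrimeSpectrum (Synt.RelGCIRing R n c F) |
      FlatMor.fibreDimAt (sm R (Synt.RelGCIRing R n c F)) q ≤ (d : WithBot ℕ∞)}ᶜ) :=
    isClosed_compl_iff.mpr hopen
  obtain ⟨J, hJ⟩ := (PrimeSpectrum.isClosed_iff_zeroLocus_ideal _).mp hcl
  refine ⟨J, fun q => ?_⟩
  have := Set.ext_iff.mp hJ q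
  rw [Set.mem_compl_iff, Set.mem_setOf_eq, PrimeSpectrum.mem_zeroLocus, SetLike.coe_subset_coe] at this
  exact this.symm

/-- shrinking by an element of the bad ideal gives a relative global complete intersection -/
theorem isRelGCI_away_of_mem (hcn : c ≤ n) (J : Ideal (Synt.RelGCIRing R n c F))
    (hJ : ∀ q : Spec (CommRingCat.of (Synt.RelGCIRing R n c F)),
      J ≤ (q : PrimeSpectrum _).asIdeal ↔
        ¬ FlatMor.fibreDimAt (sm R (Synt.RelGCIRing R n c F)) q ≤ ((n - c : ℕ) : WithBot ℕ∞))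
    (h : MvPolynomial (Fin n) R) (hh : Ideal.Quotient.mk (Ideal.span (Set.range F)) h ∈ J) :
    Synt.IsRelGCI R (n + 1) (c + 1) (awayRel R F h) := by
  apply isRelGCI_away R F hcn h
  intro q hq
  by_contra hcon
  exact hq (((hJ q).mpr hcon) hh)

/-- **S9173**: a fibre of the expected dimension has a basic open neighbourhood which is a relative
global complete intersection -/
theorem exists_isRelGCI_away_of_fibre (p : Ideal R) [p.IsPrime] (hcn : c ≤ n)
    (hdim : ringKrullDim (p.Fiber (Synt.RelGCIRing R n c F)) = ((n - c : ℕ) : WithBot ℕ∞)) :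
    ∃ h : MvPolynomial (Fin n) R,
      IsUnit ((1 : p.ResidueField) ⊗ₜ[R] (Ideal.Quotient.mk (Ideal.span (Set.range F)) h) :
        p.Fiber (Synt.RelGCIRing R n c F)) ∧
      Synt.IsRelGCI R (n + 1) (c + 1) (awayRel R F h) := by
  obtain ⟨J, hJ⟩ := exists_ideal_fibreDimAt R F (n - c)
  have htop : J.map (Algebra.TensorProduct.includeRight :
      Synt.RelGCIRing R n c F →ₐ[R] p.Fiber (Synt.RelGCIRing R n c F)) = ⊤ := by
    by_contra hne
    obtain ⟨Q, hle⟩ := exists_primeSpectrum_ge (p.Fiber (Synt.RelGCIRing R n c F)) _ hne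
    let q := (PrimeSpectrum.primesOverOrderIsoFiber R (Synt.RelGCIRing R n c F) p).symm Q
    haveI hqp : q.1.IsPrime := q.2.1
    haveI hqo : q.1.LiesOver p := q.2.2
    let q' : Spec (CommRingCat.of (Synt.RelGCIRing R n c F)) := ⟨q.1, hqp⟩
    have hJq : J ≤ q.1 := by
      rw [PrimeSpectrum.coe_primesOverOrderIsoFiber_symm_apply]
      exact Ideal.map_le_iff_le_comap.mp hle
    have h1 := (hJ q').mp hJq
    apply h1
    have h2 : (sm R (Synt.RelGCIRing R n c F)) q' = ⟨p, inferInstance⟩ := by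
      apply PrimeSpectrum.ext
      exact (hqo.over).symm
    refine (fibreDimAt_le_ringKrullDim_fiber R _ q' ⟨p, inferInstance⟩ h2).trans ?_
    exact hdim.le
  obtain ⟨g, hg, hu⟩ := exists_mem_isUnit_one_tmul p J htop
  obtain ⟨h, rfl⟩ := Ideal.Quotient.mk_surjective g
  exact ⟨h, hu, isRelGCI_away_of_mem R F hcn J hJ h hg⟩

end shrink

end Groth.Agent.Helper19.RelGCI
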