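import Mathlib
import Groth.Agent.Helper19.RelGCI11

/-!
# Fibres of a base change of a presented algebra; lifting a relative global complete intersection from `R/I` (helper19)

`ringKrullDim_fiber_baseChange`, `fibre_of_quotient`, `exists_isRelGCI_away_of_quotient` (= S9172).
-/

set_option autoImplicit false
set_option linter.style.haveILetI false
set_option linter.unusedSectionVars false
universe u
open TensorProduct MvPolynomial AlgebraicGeometry CategoryTheory

namespace Groth.Agent.Helper19.RelGCI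

section basechange

variable (R₀ R : Type u) [CommRing R₀] [CommRing R] [Algebra R₀ R]
  {n c : ℕ} (F₀ : Fin c → MvPolynomial (Fin n) R₀)

/-- fibre rings of a presented algebra and of its base change have the same dimension -/
theorem ringKrullDim_fiber_baseChange (p : Ideal R) [p.IsPrime] :
    ringKrullDim ((p.comap (algebraMap R₀ R)).Fiber (Synt.RelGCIRing R₀ n c F₀)) =
      ringKrullDim (p.Fiber (Synt.RelGCIRing R n c (mapPoly R₀ R F₀))) := by
  set p₀ : Ideal R₀ := p.comap (algebraMap R₀ R) with hp₀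
  haveI : p.LiesOver p₀ := ⟨rfl⟩
  letI := Localization.AtPrime.algebraOfLiesOver p₀ p
  haveI : IsScalarTower R₀ p₀.ResidueField p.ResidueField := inferInstance
  haveI : IsScalarTower R₀ R p.ResidueField := inferInstance
  rw [ringKrullDim_eq_of_ringEquiv (fibEquiv R₀ p₀.ResidueField F₀).toRingEquiv]
  exact ringKrullDim_fibre_descend (R := R) (k := p.ResidueField) F₀

end basechange

section quotient

variable (R : Type u) [CommRing R] {n c : ℕ} (F : Fin c → MvPolynomial (Fin n) R) (I : Ideal R)

theorem nontrivial_of_ringKrullDim_ne_bot (A : Type u) [CommRing A] (h : ringKrullDim A ≠ ⊥) :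
    Nontrivial A := by
  by_contra hn
  rw [not_nontrivial_iff_subsingleton] at hn
  exact h ringKrullDim_eq_bot_of_subsingleton

theorem ringKrullDim_fiber_of_eq (S : Type u) [CommRing S] [Algebra R S] (p p' : Ideal R) [p.IsPrime]
    [p'.IsPrime] (h : p = p') : ringKrullDim (p.Fiber S) = ringKrullDim (p'.Fiber S) := by
  subst h
  rfl

/-- over a prime of `S` containing `I S`, the fibre is the fibre of the reduction mod `I` -/
theorem fibre_of_quotient
    (hI : Synt.IsRelGCI (R ⧸ I) n c (fun i => MvPolynomial.map (Ideal.Quotient.mk I) (F i)))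
    (Q : Spec (CommRingCat.of (Synt.RelGCIRing R n c F)))
    (hQ : I.map (algebraMap R (Synt.RelGCIRing R n c F)) ≤ (Q : PrimeSpectrum _).asIdeal) :
    c ≤ n ∧ FlatMor.fibreDimAt (sm R (Synt.RelGCIRing R n c F)) Q ≤ ((n - c : ℕ) : WithBot ℕ∞) := by
  set p : PrimeSpectrum R := (sm R (Synt.RelGCIRing R n c F)) Q with hp
  have hIp : I ≤ p.asIdeal := by
    intro r hr
    change algebraMap R (Synt.RelGCIRing R n c F) r ∈ (Q : PrimeSpectrum _).asIdeal
    exact hQ (Ideal.mem_map_of_mem _ hr)
  let pb : Ideal (R ⧸ I) := p.asIdeal.map (Ideal.Quotient.mk I)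
  have hker : RingHom.ker (Ideal.Quotient.mk I) ≤ p.asIdeal := by rw [Ideal.mk_ker]; exact hIp
  haveI : pb.IsPrime := Ideal.map_isPrime_of_surjective Ideal.Quotient.mk_surjective hker
  have hpb : pb.comap (algebraMap R (R ⧸ I)) = p.asIdeal := by
    change pb.comap (Ideal.Quotient.mk I) = p.asIdeal
    rw [Ideal.comap_map_of_surjective' (Ideal.Quotient.mk I) Ideal.Quotient.mk_surjective,
      sup_eq_left]
    exact hker
  have h1 := ringKrullDim_fiber_baseChange R (R ⧸ I) F pb
  have h2 := fibreDimAt_le_ringKrullDim_fiber R _ Q p rfl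
  have h3 : ringKrullDim (p.asIdeal.Fiber (Synt.RelGCIRing R n c F)) =
      ringKrullDim ((pb.comap (algebraMap R (R ⧸ I))).Fiber (Synt.RelGCIRing R n c F)) :=
    ringKrullDim_fiber_of_eq R _ _ _ hpb.symm
  rw [h3, h1] at h2
  have hnt0 : Nontrivial (p.asIdeal.Fiber (Synt.RelGCIRing R n c F)) := by
    have z := PrimeSpectrum.preimageHomeomorphFiber R (Synt.RelGCIRing R n c F) p ⟨Q, rfl⟩
    exact z.nontrivial
  have hnt : Nontrivial (pb.Fiber (Synt.RelGCIRing (R ⧸ I) n c (mapPoly R (R ⧸ I) F))) := by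
    apply nontrivial_of_ringKrullDim_ne_bot
    rw [← h1, ← h3]
    intro hbot
    have : (0 : WithBot ℕ∞) ≤ ringKrullDim (p.asIdeal.Fiber (Synt.RelGCIRing R n c F)) :=
      ringKrullDim_nonneg_of_nontrivial
    rw [hbot] at this
    exact absurd this (by simp)
  obtain ⟨hcn, hd⟩ := hI ⟨pb, inferInstance⟩ hnt
  refine ⟨hcn, h2.trans ?_⟩
  exact hd.le

end quotient

section s9172

variable (R : Type u) [CommRing R] {n c : ℕ} (F : Fin c → MvPolynomial (Fin n) R) (I : Ideal R)

theorem subsingleton_awayRel_zero :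
    Subsingleton (Synt.RelGCIRing R (n + 1) (c + 1) (awayRel R F 0)) := by
  rw [Ideal.Quotient.subsingleton_iff, Ideal.eq_top_iff_one]
  have h1 : awayRel R F 0 (Fin.last c) ∈ Ideal.span (Set.range (awayRel R F 0)) :=
    Ideal.subset_span ⟨_, rfl⟩
  rw [awayRel_last, map_zero, zero_mul, zero_sub] at h1
  simpa using (Ideal.neg_mem_iff _).mp h1

/-- **S9172** -/
theorem exists_isRelGCI_away_of_quotient
    (hI : Synt.IsRelGCI (R ⧸ I) n c (fun i => MvPolynomial.map (Ideal.Quotient.mk I) (F i))) :
    ∃ h : MvPolynomial (Fin n) R,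
      Ideal.Quotient.mk (I.map (algebraMap R (Synt.RelGCIRing R n c F)))
        (Ideal.Quotient.mk (Ideal.span (Set.range F)) h) = 1 ∧
      Synt.IsRelGCI R (n + 1) (c + 1) (awayRel R F h) := by
  by_cases hcn : c ≤ n
  · obtain ⟨J, hJ⟩ := exists_ideal_fibreDimAt R F (n - c)
    have htop : I.map (algebraMap R (Synt.RelGCIRing R n c F)) ⊔ J = ⊤ := by
      by_contra hne
      obtain ⟨Q, hle⟩ := exists_primeSpectrum_ge _ _ hne
      have h1 := fibre_of_quotient R F I hI Q (le_sup_left.trans hle)
      exact (hJ Q).mp (le_sup_right.trans hle) h1.2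
    have h1 : (1 : Synt.RelGCIRing R n c F) ∈ I.map (algebraMap R (Synt.RelGCIRing R n c F)) ⊔ J := by
      rw [htop]; trivial
    obtain ⟨a, ha, g, hg, hag⟩ := Submodule.mem_sup.mp h1
    obtain ⟨h, rfl⟩ := Ideal.Quotient.mk_surjective g
    refine ⟨h, ?_, isRelGCI_away_of_mem R F hcn J hJ h hg⟩
    rw [← map_one (Ideal.Quotient.mk (I.map (algebraMap R (Synt.RelGCIRing R n c F)))), ← hag, map_add,
      Ideal.Quotient.eq_zero_iff_mem.mpr ha, zero_add]
  · have htop : I.map (algebraMap R (Synt.RelGCIRing R n c F)) = ⊤ := by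
      by_contra hne
      obtain ⟨Q, hle⟩ := exists_primeSpectrum_ge _ _ hne
      exact hcn (fibre_of_quotient R F I hI Q hle).1
    refine ⟨0, ?_, ?_⟩
    · haveI : Subsingleton (Synt.RelGCIRing R n c F ⧸ I.map (algebraMap R (Synt.RelGCIRing R n c F))) := by
        rw [Ideal.Quotient.subsingleton_iff]; exact htop
      exact Subsingleton.elim _ _
    · intro p' hnt
      exfalso
      haveI := subsingleton_awayRel_zero R F
      haveI : Subsingleton (p'.asIdeal.Fiber (Synt.RelGCIRing R (n + 1) (c + 1) (awayRel R F 0))) :=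
        inferInstance
      exact not_subsingleton _ ‹_›

end s9172

end Groth.Agent.Helper19.RelGCI
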