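import Mathlib
import Groth.Agent.Helper19.RelGCI12
import Groth.Agent.Lib.Helper21.BaseChg4
import Groth.Agent.Lib.Helper18.TopDim

/-!
# Base change squares of presented algebras and Noetherian descent of relative global complete intersections (helper19)

`presMap`, `presAlgebra` (local instance), `isPushout_pres`, `isPullback_pres`, `fibreDimAt_pres`,
`ringKrullDim_fiber_le`, `exists_finset_map_eq_top`, `exists_finset_descent` (Stacks 00SU),
`exists_subalgebra_isRelGCI` (= S9148).
-/

set_option autoImplicit false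
set_option linter.style.haveILetI false
set_option linter.unusedSectionVars false
universe u
open TensorProduct MvPolynomial AlgebraicGeometry CategoryTheory

namespace Groth.Agent.Helper19.RelGCI

section presBC

variable (A K : Type u) [CommRing A] [CommRing K] [Algebra A K] {n c : ℕ}
  (G : Fin c → MvPolynomial (Fin n) A)

/-- the comparison map `A[x]/(G) → K[x]/(Ḡ)` -/
noncomputable def presMap : Synt.RelGCIRing A n c G →+* Synt.RelGCIRing K n c (mapPoly A K G) :=
  Ideal.quotientMap _ (MvPolynomial.map (algebraMap A K)) (by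
    rw [Ideal.span_le]
    rintro _ ⟨i, rfl⟩
    exact Ideal.subset_span ⟨i, rfl⟩)

theorem presMap_mk (g : MvPolynomial (Fin n) A) :
    presMap A K G (Ideal.Quotient.mk _ g) = Ideal.Quotient.mk _ (MvPolynomial.map (algebraMap A K) g) := by
  simp [presMap]

/-- the `A[x]/(G)`-algebra structure on `K[x]/(Ḡ)` -/
@[reducible] noncomputable def presAlgebra : Algebra (Synt.RelGCIRing A n c G) (Synt.RelGCIRing K n c (mapPoly A K G)) :=
  (presMap A K G).toAlgebra

attribute [local instance] presAlgebra

theorem presAlgebraMap_mk (g : MvPolynomial (Fin n) A) :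
    algebraMap (Synt.RelGCIRing A n c G) (Synt.RelGCIRing K n c (mapPoly A K G)) (Ideal.Quotient.mk _ g) =
      Ideal.Quotient.mk _ (MvPolynomial.map (algebraMap A K) g) :=
  presMap_mk A K G g

instance presTower : IsScalarTower A (Synt.RelGCIRing A n c G) (Synt.RelGCIRing K n c (mapPoly A K G)) := by
  refine IsScalarTower.of_algebraMap_eq (R := A) (S := Synt.RelGCIRing A n c G)
    (A := Synt.RelGCIRing K n c (mapPoly A K G)) (fun a => ?_)
  rw [IsScalarTower.algebraMap_apply A (MvPolynomial (Fin n) A) (Synt.RelGCIRing A n c G),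
    Ideal.Quotient.algebraMap_eq, presAlgebraMap_mk,
    IsScalarTower.algebraMap_apply A K (Synt.RelGCIRing K n c (mapPoly A K G)),
    IsScalarTower.algebraMap_apply K (MvPolynomial (Fin n) K) (Synt.RelGCIRing K n c (mapPoly A K G)),
    Ideal.Quotient.algebraMap_eq]
  simp [MvPolynomial.algebraMap_eq]

attribute [local instance] Algebra.TensorProduct.rightAlgebra in
theorem isPushout_pres :
    Algebra.IsPushout A (Synt.RelGCIRing A n c G) K (Synt.RelGCIRing K n c (mapPoly A K G)) := by
  have h := Algebra.IsPushout.of_equiv (R := A) (R' := K) (S := Synt.RelGCIRing A n c G)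
    (S' := K ⊗[A] Synt.RelGCIRing A n c G) (fibEquiv A K G) (by
      refine RingHom.ext fun s => ?_
      obtain ⟨g, rfl⟩ := Ideal.Quotient.mk_surjective s
      rw [presAlgebraMap_mk]
      have := fibEquiv_tmul A K G 1 g
      rw [one_smul] at this
      exact this)
  exact h.symm

/-- base change square of spectra of presented algebras -/
theorem isPullback_pres :
    IsPullback (Spec.map (CommRingCat.ofHom
        (algebraMap (Synt.RelGCIRing A n c G) (Synt.RelGCIRing K n c (mapPoly A K G)))))
      (sm K (Synt.RelGCIRing K n c (mapPoly A K G))) (sm A (Synt.RelGCIRing A n c G))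
      (Spec.map (CommRingCat.ofHom (algebraMap A K))) := by
  haveI := isPushout_pres A K G
  exact isPullback_SpecMap_of_isPushout _ _ _ _
    (CommRingCat.isPushout_of_isPushout A (Synt.RelGCIRing A n c G) K
      (Synt.RelGCIRing K n c (mapPoly A K G)))

/-- local fibre dimension is invariant under base change of presented algebras -/
theorem fibreDimAt_pres (q : Spec (CommRingCat.of (Synt.RelGCIRing K n c (mapPoly A K G)))) :
    FlatMor.fibreDimAt (sm K (Synt.RelGCIRing K n c (mapPoly A K G))) q =
      FlatMor.fibreDimAt (sm A (Synt.RelGCIRing A n c G))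
        ((Spec.map (CommRingCat.ofHom
          (algebraMap (Synt.RelGCIRing A n c G) (Synt.RelGCIRing K n c (mapPoly A K G))))) q) := by
  haveI : LocallyOfFiniteType (sm A (Synt.RelGCIRing A n c G)) := by
    rw [HasRingHomProperty.Spec_iff (P := @LocallyOfFiniteType)]
    rw [CommRingCat.hom_ofHom, RingHom.finiteType_algebraMap]
    infer_instance
  exact Groth.Agent.Lib.Helper21.BaseChg.fibreDimAt_eq_of_isPullback (isPullback_pres A K G) q

end presBC

section descent

/-- if all local fibre dimensions are `≤ d`, all fibre rings have dimension `≤ d` -/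
theorem ringKrullDim_fiber_le (R S : Type u) [CommRing R] [CommRing S] [Algebra R S] (d : ℕ)
    (h : ∀ q : Spec (CommRingCat.of S), FlatMor.fibreDimAt (sm R S) q ≤ (d : WithBot ℕ∞))
    (p' : PrimeSpectrum R) : ringKrullDim (p'.asIdeal.Fiber S) ≤ (d : WithBot ℕ∞) := by
  rw [← Groth.Agent.Lib.Helper21.SpecFibreDim.topologicalKrullDim_fiber_specMap,
    Groth.Agent.Lib.Helper18.TopDim.topologicalKrullDim_eq_iSup_localDim]
  refine iSup_le fun t => ?_
  have hw : (sm R S) ((sm R S).fiberι p' t) = p' := by
    have := Set.mem_range_self (f := (sm R S).fiberι p') t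
    rw [Scheme.Hom.range_fiberι] at this
    exact this
  rw [Groth.Agent.Lib.Helper21.CondT.localDim_fiber_eq_fibreDimAt (sm R S) p' _ hw t rfl]
  exact h _

variable (A B : Type u) [CommRing A] [CommRing B] [Algebra A B] {n : ℕ}

/-- a finitely generated ideal of `A[x]` generating the unit ideal of `B[x]` does so over any
intermediate ring containing finitely many prescribed elements -/
theorem exists_finset_map_eq_top (J : Ideal (MvPolynomial (Fin n) A)) (hfg : J.FG)
    (h : J.map (MvPolynomial.map (σ := Fin n) (algebraMap A B)) = ⊤) :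
    ∃ t : Finset B, ∀ (A₁ : Type u) [CommRing A₁] [Algebra A A₁] [Algebra A₁ B]
      [IsScalarTower A A₁ B], Function.Injective (algebraMap A₁ B) →
      (↑t ⊆ Set.range (algebraMap A₁ B)) →
      J.map (MvPolynomial.map (σ := Fin n) (algebraMap A A₁)) = ⊤ := by
  classical
  obtain ⟨s, rfl⟩ := hfg
  rw [Ideal.map_span, Ideal.eq_top_iff_one] at h
  obtain ⟨a, ha⟩ := (Submodule.mem_span_image_finset_iff_exists_fun'
    (R := MvPolynomial (Fin n) B) (v := fun j => MvPolynomial.map (σ := Fin n) (algebraMap A B) j)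
    (s := s)).mp h
  refine ⟨s.biUnion fun j => (a j).coeffs, ?_⟩
  intro A₁ _ _ _ _ hinj ht
  have hrange : ∀ j ∈ s, a j ∈ Set.range (MvPolynomial.map (σ := Fin n) (algebraMap A₁ B)) := by
    intro j hj
    rw [MvPolynomial.mem_range_map_iff_coeffs_subset]
    intro x hx
    apply ht
    simp only [Finset.coe_biUnion, Set.mem_iUnion]
    exact ⟨j, hj, hx⟩
  choose! a₁ ha₁ using hrange
  rw [Ideal.map_span, Ideal.eq_top_iff_one]
  have hone : ∑ j ∈ s, a₁ j * MvPolynomial.map (σ := Fin n) (algebraMap A A₁) j = 1 := by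
    apply MvPolynomial.map_injective _ hinj
    rw [map_sum, map_one, ← ha]
    refine Finset.sum_congr rfl fun j hj => ?_
    rw [map_mul, ha₁ j hj, MvPolynomial.map_map, ← IsScalarTower.algebraMap_eq, smul_eq_mul]
  rw [← hone]
  refine Ideal.sum_mem _ fun j hj => Ideal.mul_mem_left _ _ (Ideal.subset_span ⟨j, hj, rfl⟩)

end descent

section descent2

variable (A B : Type u) [CommRing A] [CommRing B] [Algebra A B] {n c : ℕ}
  (G : Fin c → MvPolynomial (Fin n) A)

attribute [local instance] presAlgebra

theorem map_span_range_mapPoly (K : Type u) [CommRing K] [Algebra A K] :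
    (Ideal.span (Set.range G)).map (MvPolynomial.map (σ := Fin n) (algebraMap A K)) =
      Ideal.span (Set.range (mapPoly A K G)) := by
  rw [Ideal.map_span, ← Set.range_comp]
  rfl

/-- an ideal of `A[x]` containing the relations whose image generates the unit ideal of `S_B`
generates the unit ideal of `B[x]` -/
theorem map_eq_top_of_map_presMap (J₀ : Ideal (Synt.RelGCIRing A n c G))
    (h : J₀.map (presMap A B G) = ⊤) :
    (J₀.comap (Ideal.Quotient.mk (Ideal.span (Set.range G)))).map
      (MvPolynomial.map (σ := Fin n) (algebraMap A B)) = ⊤ := by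
  set J' := J₀.comap (Ideal.Quotient.mk (Ideal.span (Set.range G))) with hJ'
  set K := J'.map (MvPolynomial.map (σ := Fin n) (algebraMap A B)) with hK
  have h1 : Ideal.span (Set.range (mapPoly A B G)) ≤ K := by
    rw [← map_span_range_mapPoly A G B]
    apply Ideal.map_mono
    intro x hx
    rw [hJ', Ideal.mem_comap, Ideal.Quotient.eq_zero_iff_mem.mpr hx]
    exact J₀.zero_mem
  have h2 : K.map (Ideal.Quotient.mk (Ideal.span (Set.range (mapPoly A B G)))) = ⊤ := by
    rw [hK, Ideal.map_map]
    have : (Ideal.Quotient.mk (Ideal.span (Set.range (mapPoly A B G)))).comp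
        (MvPolynomial.map (σ := Fin n) (algebraMap A B)) =
        (presMap A B G).comp (Ideal.Quotient.mk (Ideal.span (Set.range G))) := by
      ext <;> simp [presMap]
    rw [this, ← Ideal.map_map, hJ', Ideal.map_comap_of_surjective _ Ideal.Quotient.mk_surjective, h]
  have h3 := Ideal.comap_map_of_surjective' (Ideal.Quotient.mk (Ideal.span (Set.range (mapPoly A B G))))
    Ideal.Quotient.mk_surjective K
  rw [h2, Ideal.comap_top, Ideal.mk_ker, sup_eq_left.mpr h1] at h3
  exact h3.symm

/-- a point of `Spec S` gives a nonempty fibre -/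
theorem nontrivial_fiber_of_point (R S : Type u) [CommRing R] [CommRing S] [Algebra R S]
    (q : Spec (CommRingCat.of S)) :
    Nontrivial (((sm R S) q : PrimeSpectrum R).asIdeal.Fiber S) := by
  have z := PrimeSpectrum.preimageHomeomorphFiber R S ((sm R S) q) ⟨q, rfl⟩
  exact z.nontrivial

/-- **Descent of relative global complete intersections to intermediate rings** (Stacks 00SU):
if `A` is Noetherian and `B[x]/(G)` is a relative global complete intersection over `B`, then so is
`A₁[x]/(G)` over every intermediate ring `A → A₁ ⊆ B` containing finitely many prescribed elements. -/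
theorem exists_finset_descent [IsNoetherianRing A]
    (hF : Synt.IsRelGCI B n c (mapPoly A B G)) :
    ∃ t : Finset B, ∀ (A₁ : Type u) [CommRing A₁] [Algebra A A₁] [Algebra A₁ B]
      [IsScalarTower A A₁ B], Function.Injective (algebraMap A₁ B) →
      (↑t ⊆ Set.range (algebraMap A₁ B)) → Synt.IsRelGCI A₁ n c (mapPoly A A₁ G) := by
  by_cases hcn : c ≤ n
  · obtain ⟨J₀, hJ₀⟩ := exists_ideal_fibreDimAt A G (n - c)
    have hmap : J₀.map (presMap A B G) = ⊤ := by
      by_contra hne
      obtain ⟨Q, hle⟩ := exists_primeSpectrum_ge _ _ hne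
      have h1 := fibreDimAt_pres A B G Q
      rw [fibreDimAt_eq_of_isRelGCI B _ hF Q] at h1
      refine (hJ₀ _).mp ?_ h1.symm.le
      exact Ideal.map_le_iff_le_comap.mp hle
    have hfg : (J₀.comap (Ideal.Quotient.mk (Ideal.span (Set.range G)))).FG :=
      (isNoetherianRing_iff_ideal_fg _).mp inferInstance _
    obtain ⟨t, ht⟩ := exists_finset_map_eq_top A B _ hfg (map_eq_top_of_map_presMap A B G J₀ hmap)
    refine ⟨t, fun A₁ _ _ _ _ hinj hsub => ?_⟩
    have htop := ht A₁ hinj hsub
    intro p₁ hnt
    refine ⟨hcn, le_antisymm ?_ (le_ringKrullDim_fiber A₁ _ p₁.asIdeal hnt)⟩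
    refine ringKrullDim_fiber_le A₁ _ (n - c) (fun q₁ => ?_) p₁
    rw [fibreDimAt_pres A A₁ G q₁]
    by_contra hcon
    have hle := (hJ₀ _).mpr hcon
    have h2 : (J₀.comap (Ideal.Quotient.mk (Ideal.span (Set.range G)))).map
        (MvPolynomial.map (σ := Fin n) (algebraMap A A₁)) ≤
        (q₁ : PrimeSpectrum _).asIdeal.comap (Ideal.Quotient.mk _) := by
      rw [Ideal.map_le_iff_le_comap]
      intro j hj
      rw [Ideal.mem_comap, Ideal.mem_comap, ← presMap_mk]
      exact hle hj
    rw [htop, top_le_iff, Ideal.comap_eq_top_iff] at h2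
    exact (q₁ : PrimeSpectrum _).2.ne_top h2
  · have htriv : Ideal.span (Set.range (mapPoly A B G)) = ⊤ := by
      by_contra hne
      obtain ⟨Q', hle⟩ := exists_primeSpectrum_ge _ _ hne
      have hnt : Nontrivial (Synt.RelGCIRing B n c (mapPoly A B G)) :=
        Ideal.Quotient.nontrivial_iff.mpr hne
      obtain ⟨Q⟩ : Nonempty (PrimeSpectrum (Synt.RelGCIRing B n c (mapPoly A B G))) := inferInstance
      exact hcn (hF _ (nontrivial_fiber_of_point B _ Q)).1
    rw [← map_span_range_mapPoly A G B] at htriv
    obtain ⟨t, ht⟩ := exists_finset_map_eq_top A B _ (Submodule.fg_span (Set.finite_range G)) htriv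
    refine ⟨t, fun A₁ _ _ _ _ hinj hsub => ?_⟩
    have htop := ht A₁ hinj hsub
    rw [map_span_range_mapPoly A G A₁] at htop
    intro p₁ hnt
    exfalso
    haveI : Subsingleton (Synt.RelGCIRing A₁ n c (mapPoly A A₁ G)) :=
      Ideal.Quotient.subsingleton_iff.mpr htop
    haveI : Subsingleton (p₁.asIdeal.Fiber (Synt.RelGCIRing A₁ n c (mapPoly A A₁ G))) := inferInstance
    exact not_subsingleton _ ‹_›

end descent2

section s9148

variable (R : Type u) [CommRing R] {n c : ℕ} (F : Fin c → MvPolynomial (Fin n) R)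

/-- **S9148** -/
theorem exists_subalgebra_isRelGCI (h : Synt.IsRelGCI R n c F) :
    ∃ (R₀ : Subalgebra ℤ R) (F₀ : Fin c → MvPolynomial (Fin n) R₀), Algebra.FiniteType ℤ R₀ ∧
      (∀ i, MvPolynomial.map (algebraMap R₀ R) (F₀ i) = F i) ∧ Synt.IsRelGCI R₀ n c F₀ := by
  classical
  obtain ⟨R₀, F₀, hft, hF₀⟩ := exists_subalgebra_model R F
  haveI : IsNoetherianRing R₀ := Algebra.FiniteType.isNoetherianRing ℤ R₀
  have hF : mapPoly R₀ R F₀ = F := funext hF₀
  subst hF
  obtain ⟨t, ht⟩ := exists_finset_descent R₀ R F₀ h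
  let R₁ : Subalgebra ℤ R := R₀ ⊔ Algebra.adjoin ℤ (t : Set R)
  letI : Algebra R₀ R₁ := (Subalgebra.inclusion (le_sup_left : R₀ ≤ R₁)).toRingHom.toAlgebra
  haveI : IsScalarTower R₀ R₁ R := IsScalarTower.of_algebraMap_eq (fun x => rfl)
  have hfg : R₁.FG := by
    have h0 : R₀.FG := (Subalgebra.fg_iff_finiteType R₀).mpr hft
    exact h0.sup (Subalgebra.fg_adjoin_finset t)
  refine ⟨R₁, mapPoly R₀ R₁ F₀, (Subalgebra.fg_iff_finiteType R₁).mp hfg, fun i => ?_, ?_⟩
  · simp only [mapPoly, MvPolynomial.map_map]
    rw [← IsScalarTower.algebraMap_eq]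
  · refine ht R₁ Subtype.val_injective ?_
    intro x hx
    exact ⟨⟨x, (le_sup_right : Algebra.adjoin ℤ (t : Set R) ≤ R₁) (Algebra.subset_adjoin hx)⟩, rfl⟩

end s9148

end Groth.Agent.Helper19.RelGCI
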