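import Mathlib
import Groth.Agent.Helper19.RelGCI13
import Groth.Agent.Lib.Helper23.SyntF3
import Groth.Agent.Lib.Helper16.KzFlat6

/-!
# Lifting generators of the kernel from the fibre (helper19)

For a prime `p` of `R` with residue field `κ`: `rho : R[x] → κ[x]`, `exists_smul_eq_rho` (clearing
denominators), `psi p π : κ[x] →ₐ κ ⊗ T` for a presentation `π : R[x] →ₐ T` (`psi_rho`, `psi_surjective`,
`ker_psi`), `thetaP : R[x]_{q'} → κ[x]_{Q̄'}` (`thetaP_surjective`, `ker_thetaP = p R[x]_{q'}`),
`exists_lift_of_flat` (flatness of `(R[x]/I)_{q'}` + Nakayama: generators of `Ī_{Q̄'}` lift to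
generators of `I_{q'}` lying in `I`; no Noetherian hypothesis, `I` finitely generated).
-/

set_option autoImplicit false
set_option linter.style.haveILetI false
set_option linter.unusedSectionVars false
universe u
open TensorProduct MvPolynomial

namespace Groth.Agent.Helper19.RelGCI


section denominators

variable (R : Type u) [CommRing R] (p : Ideal R) [p.IsPrime] (n : ℕ)

/-- the reduction map `R[x] → κ(p)[x]` -/
noncomputable abbrev rho : MvPolynomial (Fin n) R →+* MvPolynomial (Fin n) p.ResidueField :=
  MvPolynomial.map (algebraMap R p.ResidueField)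

/-- clearing denominators in `κ(p)[x]` -/
theorem exists_smul_eq_rho (a : MvPolynomial (Fin n) p.ResidueField) :
    ∃ r : R, r ∉ p ∧ ∃ b : MvPolynomial (Fin n) R, rho R p n b = r • a := by
  let e := MvPolynomial.algebraTensorAlgEquiv (σ := Fin n) R p.ResidueField
  obtain ⟨r, hr, s, hs⟩ := Ideal.Fiber.exists_smul_eq_one_tmul p (e.symm a)
  refine ⟨r, hr, s, ?_⟩
  have h1 : e (r • e.symm a) = r • a := by
    rw [← algebraMap_smul p.ResidueField r (e.symm a), map_smul, AlgEquiv.apply_symm_apply,
      algebraMap_smul]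
  rw [← h1, hs, MvPolynomial.algebraTensorAlgEquiv_tmul, one_smul]

theorem ker_rho : RingHom.ker (rho R p n) = p.map (C : R →+* MvPolynomial (Fin n) R) := by
  rw [rho, MvPolynomial.ker_map, Ideal.ker_algebraMap_residueField]

theorem rho_C (r : R) : rho R p n (C r) = C (algebraMap R p.ResidueField r) := by
  simp [rho]

theorem isUnit_C_of_notMem {r : R} (hr : r ∉ p) :
    IsUnit (C (algebraMap R p.ResidueField r) : MvPolynomial (Fin n) p.ResidueField) := by
  refine IsUnit.map C ?_
  rw [isUnit_iff_ne_zero, Ne, Ideal.algebraMap_residueField_eq_zero]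
  exact hr

theorem smul_eq_C_mul' (r : R) (a : MvPolynomial (Fin n) p.ResidueField) :
    r • a = C (algebraMap R p.ResidueField r) * a := by
  rw [← algebraMap_smul p.ResidueField r a, MvPolynomial.smul_eq_C_mul]

end denominators

section psi

variable {R : Type u} [CommRing R] (p : Ideal R) [p.IsPrime] {n : ℕ}
  {T : Type u} [CommRing T] [Algebra R T] (π : MvPolynomial (Fin n) R →ₐ[R] T)

/-- the presentation of the fibre ring induced by a presentation of `T` -/
noncomputable def psi : MvPolynomial (Fin n) p.ResidueField →ₐ[p.ResidueField] p.Fiber T :=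
  (Algebra.TensorProduct.map (AlgHom.id p.ResidueField p.ResidueField) π).comp
    (MvPolynomial.algebraTensorAlgEquiv (σ := Fin n) R p.ResidueField).symm.toAlgHom

theorem psi_apply (x : MvPolynomial (Fin n) p.ResidueField) :
    psi p π x = Algebra.TensorProduct.map (AlgHom.id p.ResidueField p.ResidueField) π
      ((MvPolynomial.algebraTensorAlgEquiv (σ := Fin n) R p.ResidueField).symm x) := rfl

theorem symm_rho (a : MvPolynomial (Fin n) R) :
    (MvPolynomial.algebraTensorAlgEquiv (σ := Fin n) R p.ResidueField).symm (rho R p n a) =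
      (1 : p.ResidueField) ⊗ₜ[R] a := by
  rw [AlgEquiv.symm_apply_eq, MvPolynomial.algebraTensorAlgEquiv_tmul, one_smul]

theorem psi_rho (a : MvPolynomial (Fin n) R) :
    psi p π (rho R p n a) = (1 : p.ResidueField) ⊗ₜ[R] π a := by
  rw [psi_apply, symm_rho, Algebra.TensorProduct.map_tmul]
  rfl

theorem psi_surjective (hπ : Function.Surjective π) : Function.Surjective (psi p π) := by
  intro y
  obtain ⟨z, rfl⟩ := Algebra.TensorProduct.map_surjective
    (AlgHom.id p.ResidueField p.ResidueField) π Function.surjective_id hπ y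
  exact ⟨MvPolynomial.algebraTensorAlgEquiv (σ := Fin n) R p.ResidueField z, by
    rw [psi_apply, AlgEquiv.symm_apply_apply]⟩

theorem map_id_eq (z : p.ResidueField ⊗[R] MvPolynomial (Fin n) R) :
    Algebra.TensorProduct.map (AlgHom.id p.ResidueField p.ResidueField) π z =
      Algebra.TensorProduct.map (AlgHom.id R p.ResidueField) π z := by
  induction z using TensorProduct.induction_on with
  | zero => simp
  | tmul k a => simp
  | add x y hx hy => rw [map_add, map_add, hx, hy]

theorem ker_psi (hπ : Function.Surjective π) :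
    RingHom.ker (psi p π) = (RingHom.ker π).map (rho R p n) := by
  have h1 := Algebra.TensorProduct.lTensor_ker (A := p.ResidueField) π hπ
  set e := MvPolynomial.algebraTensorAlgEquiv (σ := Fin n) R p.ResidueField with he
  apply le_antisymm
  · intro x hx
    rw [RingHom.mem_ker, psi_apply, map_id_eq] at hx
    have h3 : e.symm x ∈ RingHom.ker (Algebra.TensorProduct.map (AlgHom.id R p.ResidueField) π) := hx
    rw [h1, Ideal.map] at h3
    have key : ∀ y ∈ Ideal.span ((Algebra.TensorProduct.includeRight :
        MvPolynomial (Fin n) R →ₐ[R] p.ResidueField ⊗[R] MvPolynomial (Fin n) R) '' (RingHom.ker π)),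
        e y ∈ (RingHom.ker π).map (rho R p n) := by
      intro y hy
      induction hy using Submodule.span_induction with
      | mem y hy =>
        obtain ⟨a, ha, rfl⟩ := hy
        rw [Algebra.TensorProduct.includeRight_apply, he, MvPolynomial.algebraTensorAlgEquiv_tmul,
          one_smul]
        exact Ideal.mem_map_of_mem _ ha
      | zero => rw [map_zero]; exact zero_mem _
      | add y z _ _ hy hz => rw [map_add]; exact add_mem hy hz
      | smul a y _ hy => rw [smul_eq_mul, map_mul]; exact Ideal.mul_mem_left _ _ hy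
    have := key _ h3
    rwa [AlgEquiv.apply_symm_apply] at this
  · rw [Ideal.map_le_iff_le_comap]
    intro a ha
    rw [Ideal.mem_comap, RingHom.mem_ker, psi_rho, (RingHom.mem_ker).mp ha, tmul_zero]

end psi



section thetaSec

variable {R : Type u} [CommRing R] (p : Ideal R) [p.IsPrime] {n : ℕ}
  (q' : Ideal (MvPolynomial (Fin n) R)) [q'.IsPrime]
  (Qb : Ideal (MvPolynomial (Fin n) p.ResidueField)) [Qb.IsPrime]
  (hq : q' = Qb.comap (rho R p n))

include hq in
theorem C_mem_iff (r : R) : C r ∈ q' ↔ r ∈ p := by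
  rw [hq, Ideal.mem_comap, rho_C]
  constructor
  · intro h
    by_contra hr
    exact ‹Qb.IsPrime›.ne_top (Ideal.eq_top_of_isUnit_mem _ h (isUnit_C_of_notMem R p n hr))
  · intro hr
    rw [(Ideal.algebraMap_residueField_eq_zero).mpr hr, C_0]
    exact zero_mem _

/-- the comparison map `R[x]_{q'} → κ(p)[x]_{Q̄'}` -/
noncomputable def thetaP : Localization.AtPrime q' →+* Localization.AtPrime Qb :=
  Localization.localRingHom q' Qb (rho R p n) hq

theorem thetaP_algebraMap (a : MvPolynomial (Fin n) R) :
    thetaP p q' Qb hq (algebraMap _ _ a) = algebraMap _ _ (rho R p n a) :=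
  Localization.localRingHom_to_map _ _ _ hq a

theorem thetaP_surjective : Function.Surjective (thetaP p q' Qb hq) := by
  intro y
  obtain ⟨⟨ab, ⟨sb, hsb⟩⟩, rfl⟩ := IsLocalization.mk'_surjective Qb.primeCompl y
  obtain ⟨r₁, hr₁, a, ha⟩ := exists_smul_eq_rho R p n ab
  obtain ⟨r₂, hr₂, s, hs⟩ := exists_smul_eq_rho R p n sb
  have hs' : C r₁ * s ∉ q' := by
    intro h
    rcases ‹q'.IsPrime›.mem_or_mem h with h | h
    · exact hr₁ ((C_mem_iff p q' Qb hq r₁).mp h)
    · rw [hq, Ideal.mem_comap, hs, smul_eq_C_mul'] at h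
      rcases ‹Qb.IsPrime›.mem_or_mem h with h | h
      · exact ‹Qb.IsPrime›.ne_top (Ideal.eq_top_of_isUnit_mem _ h (isUnit_C_of_notMem R p n hr₂))
      · exact hsb h
  refine ⟨IsLocalization.mk' _ (C r₂ * a) (⟨C r₁ * s, hs'⟩ : q'.primeCompl), ?_⟩
  rw [thetaP, Localization.localRingHom_mk', IsLocalization.mk'_eq_iff_eq]
  congr 1
  simp only [map_mul, rho_C, ha, hs, smul_eq_C_mul']
  ring

theorem ker_thetaP :
    RingHom.ker (thetaP p q' Qb hq) = p.map (algebraMap R (Localization.AtPrime q')) := by
  have hmm : p.map (algebraMap R (Localization.AtPrime q')) =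
      (p.map (C : R →+* MvPolynomial (Fin n) R)).map (algebraMap _ (Localization.AtPrime q')) := by
    rw [Ideal.map_map]
    rfl
  apply le_antisymm
  · intro x hx
    obtain ⟨⟨a, ⟨s, hs⟩⟩, rfl⟩ := IsLocalization.mk'_surjective q'.primeCompl x
    rw [RingHom.mem_ker, thetaP, Localization.localRingHom_mk', IsLocalization.mk'_eq_zero_iff] at hx
    obtain ⟨⟨tb, htb⟩, ht⟩ := hx
    obtain ⟨r, hr, t, hrt⟩ := exists_smul_eq_rho R p n tb
    rw [hmm, IsLocalization.mk'_mem_map_algebraMap_iff]
    refine ⟨t, ?_, ?_⟩
    · intro h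
      change t ∈ q' at h
      rw [hq, Ideal.mem_comap, hrt, smul_eq_C_mul'] at h
      rcases ‹Qb.IsPrime›.mem_or_mem h with h | h
      · exact ‹Qb.IsPrime›.ne_top (Ideal.eq_top_of_isUnit_mem _ h (isUnit_C_of_notMem R p n hr))
      · exact htb h
    · rw [← ker_rho, RingHom.mem_ker, map_mul, hrt, smul_mul_assoc]
      have : tb * rho R p n a = 0 := ht
      rw [this, smul_zero]
  · rw [Ideal.map_le_iff_le_comap]
    intro r hr
    rw [Ideal.mem_comap, RingHom.mem_ker,
      IsScalarTower.algebraMap_apply R (MvPolynomial (Fin n) R) (Localization.AtPrime q'),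
      thetaP_algebraMap, MvPolynomial.algebraMap_eq, rho_C,
      (Ideal.algebraMap_residueField_eq_zero).mpr hr, C_0, map_zero]

theorem map_thetaP_map (I : Ideal (MvPolynomial (Fin n) R)) :
    (I.map (algebraMap _ (Localization.AtPrime q'))).map (thetaP p q' Qb hq) =
      (I.map (rho R p n)).map (algebraMap _ (Localization.AtPrime Qb)) := by
  rw [Ideal.map_map, Ideal.map_map]
  congr 1
  refine RingHom.ext fun a => ?_
  exact thetaP_algebraMap p q' Qb hq a

end thetaSec



section lifting

variable {R : Type u} [CommRing R] (p : Ideal R) [p.IsPrime] {n : ℕ}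
  (q' : Ideal (MvPolynomial (Fin n) R)) [q'.IsPrime]
  (Qb : Ideal (MvPolynomial (Fin n) p.ResidueField)) [Qb.IsPrime]
  (hq : q' = Qb.comap (rho R p n))

include hq in
theorem map_le_maximalIdeal :
    p.map (algebraMap R (Localization.AtPrime q')) ≤
      IsLocalRing.maximalIdeal (Localization.AtPrime q') := by
  rw [Ideal.map_le_iff_le_comap]
  intro r hr
  rw [Ideal.mem_comap,
    IsScalarTower.algebraMap_apply R (MvPolynomial (Fin n) R) (Localization.AtPrime q'),
    IsLocalization.AtPrime.to_map_mem_maximal_iff (Localization.AtPrime q') q',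
    MvPolynomial.algebraMap_eq]
  exact (C_mem_iff p q' Qb hq r).mpr hr

include hq in
/-- **Lifting generators from the fibre**: if `(R[x]/I)_{q'}` is `R`-flat, `I` is finitely generated
and the extension of `Ī` to `κ(p)[x]_{Q̄'}` is generated by `xs`, then `I_{q'}` is generated by
`xs.length` elements of `I` whose reductions generate the same ideal as `xs`. -/
theorem exists_lift_of_flat (I : Ideal (MvPolynomial (Fin n) R)) (hI : I.FG)
    (hflat : Module.Flat R (Localization.AtPrime q' ⧸ I.map (algebraMap _ (Localization.AtPrime q'))))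
    (xs : List (Localization.AtPrime Qb))
    (hxs : Ideal.ofList xs = (I.map (rho R p n)).map (algebraMap _ (Localization.AtPrime Qb))) :
    ∃ f : Fin xs.length → MvPolynomial (Fin n) R, (∀ i, f i ∈ I) ∧
      (Ideal.span (Set.range f)).map (algebraMap _ (Localization.AtPrime q')) =
        I.map (algebraMap _ (Localization.AtPrime q')) ∧
      (Ideal.span (Set.range fun i => rho R p n (f i))).map (algebraMap _ (Localization.AtPrime Qb)) =
        Ideal.ofList xs := by
  set θ := thetaP p q' Qb hq with hθ
  have hsurj : Function.Surjective θ := thetaP_surjective p q' Qb hq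
  set J := I.map (algebraMap _ (Localization.AtPrime q')) with hJ
  have hJθ : J.map θ = Ideal.ofList xs := by rw [hxs, hJ, hθ, map_thetaP_map]
  have hex : ∀ i : Fin xs.length, ∃ j ∈ J, θ j = xs.get i := by
    intro i
    have hmem : xs.get i ∈ J.map θ := by
      rw [hJθ]
      exact Ideal.subset_span (List.get_mem xs i)
    rw [Ideal.mem_map_iff_of_surjective θ hsurj] at hmem
    exact hmem
  choose j hjJ hjθ using hex
  set J'' := Ideal.span (Set.range j) with hJ''
  have hle : J'' ≤ J := Ideal.span_le.mpr (by rintro _ ⟨i, rfl⟩; exact hjJ i)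
  have hJ''θ : J''.map θ = Ideal.ofList xs := by
    rw [hJ'', Ideal.map_span, ← Set.range_comp]
    have : (⇑θ ∘ j) = xs.get := funext hjθ
    rw [this, Groth.Agent.Lib.Helper16.CIInv.span_range_get]
  have hmap : J.map (Ideal.Quotient.mk (p.map (algebraMap R (Localization.AtPrime q')))) =
      J''.map (Ideal.Quotient.mk (p.map (algebraMap R (Localization.AtPrime q')))) := by
    apply le_antisymm _ (Ideal.map_mono hle)
    rw [Ideal.map_le_iff_le_comap]
    intro x hx
    have h1 : θ x ∈ J''.map θ := by
      rw [hJ''θ, ← hJθ]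
      exact Ideal.mem_map_of_mem _ hx
    rw [Ideal.mem_map_iff_of_surjective θ hsurj] at h1
    obtain ⟨y, hy, hyx⟩ := h1
    have h2 : x - y ∈ p.map (algebraMap R (Localization.AtPrime q')) := by
      rw [← ker_thetaP p q' Qb hq, RingHom.mem_ker, map_sub, hyx, sub_self]
    rw [Ideal.mem_comap]
    have h3 : Ideal.Quotient.mk (p.map (algebraMap R (Localization.AtPrime q'))) x =
        Ideal.Quotient.mk _ y := by
      rw [Ideal.Quotient.eq]; exact h2
    rw [h3]
    exact Ideal.mem_map_of_mem _ hy
  have h4 := Groth.Agent.Lib.Helper16.KzFlat.le_sup_mul_of_map_eq_of_flat p J J'' hle hmap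
  have hJfg : J.FG := hI.map _
  have hJeq : J ≤ J'' := by
    refine Submodule.le_of_le_smul_of_le_jacobson_bot (I := p.map (algebraMap R (Localization.AtPrime q')))
      hJfg ?_ ?_
    · rw [IsLocalRing.jacobson_eq_maximalIdeal ⊥ bot_ne_top]
      exact map_le_maximalIdeal p q' Qb hq
    · rw [smul_eq_mul]
      exact h4
  have hJJ : J'' = J := le_antisymm hle hJeq
  obtain ⟨f, hfI, hfmap⟩ := Groth.Agent.Lib.Helper23.SyntF.exists_lift_generators I q' xs.length j hJJ
  refine ⟨f, hfI, hfmap, ?_⟩
  have h5 : Ideal.span (Set.range fun i => rho R p n (f i)) = (Ideal.span (Set.range f)).map (rho R p n) := by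
    rw [Ideal.map_span, ← Set.range_comp]
    rfl
  rw [h5, ← map_thetaP_map p q' Qb hq, hfmap, ← hJ, ← hθ, hJθ]

end lifting

end Groth.Agent.Helper19.RelGCI
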