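import Mathlib
import Groth.Agent.Helper19.RelGCI14

/-!
# Dimension of presented algebras over a field near a point; fibre rings of principal localizations (helper19)

`exists_dim_away_le` (adapted from helper23 `exists_away_isGlobalCI`): relations of height `c` at `Q'`
⇒ `c ≤ n` and principal localizations near `Q'` have dimension `≤ n - c`.
`mapPoly_awayRel`, `ringKrullDim_fiber_away`, `fibreDimAt_le_ringKrullDim_fiber_away`,
`exists_mul_mem_of_map_le_fg`, `nonempty_away_algEquiv_of_surjective'`.
-/

set_option autoImplicit false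
set_option linter.style.haveILetI false
set_option linter.unusedSectionVars false
universe u
open TensorProduct MvPolynomial IsLocalRing

namespace Groth.Agent.Helper19.RelGCI


section dim

open Groth.Agent.Lib.Helper23.SyntF

variable {k : Type u} [Field k] {n c : ℕ}

/-- **Dimension of a presented algebra near a point where the relations have height `c`**
(adapted from helper23 `exists_away_isGlobalCI`): there is `h ∉ Q'` such that every principal
localization of `k[x]/(b_1..b_c)` at a multiple of `h` has dimension at most `n - c`. -/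
theorem exists_dim_away_le (b : Fin c → MvPolynomial (Fin n) k)
    (Q' : Ideal (MvPolynomial (Fin n) k)) [hQ' : Q'.IsPrime]
    (hJQ : Ideal.span (Set.range b) ≤ Q')
    (hht : (c : ℕ∞) ≤ ((Ideal.span (Set.range b)).map
      (algebraMap (MvPolynomial (Fin n) k) (Localization.AtPrime Q'))).height) :
    c ≤ n ∧ ∃ h : MvPolynomial (Fin n) k, h ∉ Q' ∧ ∀ h' : MvPolynomial (Fin n) k, h ∣ h' →
      ringKrullDim (Localization.Away (Ideal.Quotient.mk (Ideal.span (Set.range b)) h')) ≤
        ((n - c : ℕ) : WithBot ℕ∞) := by
  set J := Ideal.span (Set.range b) with hJ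
  have hcn : c ≤ n := by
    have h1 : (J.map (algebraMap (MvPolynomial (Fin n) k) (Localization.AtPrime Q'))).height ≤
        Q'.height := by
      have h2 := Ideal.height_le_ringKrullDim_of_ne_top
        (Groth.Agent.Lib.Helper16.Liaison.map_ne_top_of_le Q' J hJQ)
      rw [IsLocalization.AtPrime.ringKrullDim_eq_height Q' (Localization.AtPrime Q')] at h2
      exact_mod_cast h2
    have h3 := height_add_dim_quotient Q'
    have h4 : ((Q'.height : ℕ∞) : WithBot ℕ∞) ≤ (n : WithBot ℕ∞) := by
      rw [← h3]
      exact le_add_of_nonneg_right ringKrullDim_nonneg_of_nontrivial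
    have h5 : Q'.height ≤ (n : ℕ∞) := by exact_mod_cast h4
    have h6 : (c : ℕ∞) ≤ (n : ℕ∞) := hht.trans (h1.trans h5)
    exact_mod_cast h6
  refine ⟨hcn, ?_⟩
  obtain ⟨h, hhQ, hh⟩ := exists_avoid J Q'
  refine ⟨h, hhQ, fun h' hdvd => ?_⟩
  set S := MvPolynomial (Fin n) k ⧸ J with hS
  let φ : MvPolynomial (Fin n) k →ₐ[k] S := Ideal.Quotient.mkₐ k J
  have hφsurj : Function.Surjective φ := Ideal.Quotient.mkₐ_surjective k J
  have hker : RingHom.ker φ = J := by
    ext x
    rw [RingHom.mem_ker]
    change Ideal.Quotient.mk J x = 0 ↔ _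
    rw [Ideal.Quotient.eq_zero_iff_mem]
  set g : S := Ideal.Quotient.mk J h' with hg
  by_cases hsub : Subsingleton (Localization.Away g)
  · rw [ringKrullDim_eq_bot_of_subsingleton]
    exact bot_le
  haveI : Nontrivial (Localization.Away g) := not_subsingleton_iff_nontrivial.mp hsub
  haveI : Algebra.FiniteType k S := Algebra.FiniteType.of_surjective φ hφsurj
  haveI : Algebra.FiniteType k (Localization.Away g) := finiteType_away g
  haveI : IsNoetherianRing S := Algebra.FiniteType.isNoetherianRing k S
  have hmax : ∀ m' : Ideal (Localization.Away g), m'.IsMaximal →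
      m'.height ≤ ((n - c : ℕ) : ℕ∞) := by
    intro m' hm'
    set m := m'.comap (IsScalarTower.toAlgHom k S (Localization.Away g)) with hm
    haveI hmmax : m.IsMaximal :=
      isMaximal_comap_of_finiteType (IsScalarTower.toAlgHom k S (Localization.Away g)) m'
    have hmh : m.height = m'.height := IsLocalization.height_under (Submonoid.powers g) m'
    have hgm : g ∉ m := by
      intro hgm
      have h1 : algebraMap S (Localization.Away g) g ∈ m' := hgm
      exact hm'.ne_top (Ideal.eq_top_of_isUnit_mem _ h1 (IsLocalization.Away.algebraMap_isUnit g))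
    have hφhm : φ h ∉ m := by
      intro h1
      apply hgm
      obtain ⟨w, rfl⟩ := hdvd
      rw [hg, map_mul]
      exact Ideal.mul_mem_right _ _ h1
    haveI hM : (m.comap φ).IsMaximal := Ideal.comap_isMaximal_of_surjective φ hφsurj
    have hhM : h ∉ m.comap φ := hφhm
    have hMh := Groth.Agent.Lib.Helper7.DimFT.height_eq_of_isMaximal_mvPolynomial k n _ hM
    have hJM : J ≤ m.comap φ := by
      intro x hx
      rw [Ideal.mem_comap]
      have : φ x = 0 := by
        change Ideal.Quotient.mk J x = 0
        exact Ideal.Quotient.eq_zero_iff_mem.mpr hx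
      rw [this]
      exact zero_mem _
    have h1 := Groth.Agent.Lib.Helper16.CMHt.height_add_ringKrullDim_quotient
      (Localization.AtPrime (m.comap φ))
      (cmLocal_of_regular _).supportDim_eq_depth
      (J.map (algebraMap _ (Localization.AtPrime (m.comap φ))))
      (Groth.Agent.Lib.Helper16.Liaison.map_ne_top_of_le (m.comap φ) J hJM)
    have h2 := IsLocalization.AtPrime.ringKrullDim_eq_height (m.comap φ)
      (Localization.AtPrime (m.comap φ))
    have h3 := ringKrullDim_eq_of_ringEquiv (locQuotAlgEquiv k φ m hφsurj).toRingEquiv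
    rw [hker] at h3
    have h4 := IsLocalization.AtPrime.ringKrullDim_eq_height m (Localization.AtPrime m)
    rw [← h3, h4, h2, hMh, hmh] at h1
    have hc' : (c : ℕ∞) ≤ (J.map (algebraMap _ (Localization.AtPrime (m.comap φ)))).height := by
      apply le_height_map_atPrime
      intro P' hP' hP'M
      haveI := hP'.isPrime
      have hP'Q : P' ≤ Q' := by
        by_contra hnle
        exact hhM (hP'M (hh P' hP' hnle))
      have hdisj : Disjoint (Q'.primeCompl : Set (MvPolynomial (Fin n) k)) (P' : Set _) := by
        rw [Set.disjoint_left]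
        intro x hx hxP
        exact hx (hP'Q hxP)
      rw [← IsLocalization.height_map_of_disjoint Q'.primeCompl P' hdisj
        (S := Localization.AtPrime Q')]
      exact hht.trans (Ideal.height_mono (Ideal.map_mono hP'.1.2))
    have hfin1 : m'.height ≠ ⊤ := Ideal.height_ne_top_of_isPrime
    obtain ⟨a, ha⟩ := ENat.ne_top_iff_exists.mp hfin1
    have hfin2 : (J.map (algebraMap _ (Localization.AtPrime (m.comap φ)))).height ≠ ⊤ :=
      Ideal.height_ne_top (Groth.Agent.Lib.Helper16.Liaison.map_ne_top_of_le (m.comap φ) J hJM)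
    obtain ⟨c', hc'eq⟩ := ENat.ne_top_iff_exists.mp hfin2
    rw [← ha, ← hc'eq] at h1
    rw [← hc'eq] at hc'
    rw [← ha]
    have h5 : c' + a = n := by exact_mod_cast h1
    have h6 : c ≤ c' := by exact_mod_cast hc'
    have : a ≤ n - c := by omega
    exact_mod_cast this
  rw [← Ideal.sup_isMaximal_height_eq_ringKrullDim]
  have : (⨆ (m : Ideal (Localization.Away g)) (_ : m.IsMaximal), m.height) ≤
      ((n - c : ℕ) : ℕ∞) := iSup₂_le hmax
  exact WithBot.coe_le_coe.mpr this

end dim



section awayFibre

variable (A K : Type u) [CommRing A] [CommRing K] [Algebra A K] {n c : ℕ}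
  (F : Fin c → MvPolynomial (Fin n) A) (h : MvPolynomial (Fin n) A)

theorem mapPoly_awayRel :
    mapPoly A K (awayRel A F h) = awayRel K (mapPoly A K F) (MvPolynomial.map (algebraMap A K) h) := by
  funext i
  refine Fin.lastCases ?_ (fun j => ?_) i
  · simp only [mapPoly, awayRel_last, map_sub, map_mul, map_one, MvPolynomial.map_X,
      MvPolynomial.map_rename]
  · simp only [mapPoly, awayRel_castSucc, MvPolynomial.map_rename]

/-- the fibre ring of a principal localization of a presented algebra -/
theorem ringKrullDim_fiber_away (p : Ideal A) [p.IsPrime] :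
    ringKrullDim (p.Fiber (Localization.Away (Ideal.Quotient.mk (Ideal.span (Set.range F)) h))) =
      ringKrullDim (Localization.Away (Ideal.Quotient.mk
        (Ideal.span (Set.range (mapPoly A p.ResidueField F)))
        (MvPolynomial.map (algebraMap A p.ResidueField) h))) := by
  rw [ringKrullDim_fiber_congr A (awayPresEquiv A F h) p,
    ringKrullDim_eq_of_ringEquiv (fibEquiv A p.ResidueField (awayRel A F h)).toRingEquiv,
    ringKrullDim_eq_of_ringEquiv (awayPresEquiv p.ResidueField (mapPoly A p.ResidueField F)
      (MvPolynomial.map (algebraMap A p.ResidueField) h)).toRingEquiv,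
    mapPoly_awayRel]

end awayFibre

section pointwise

open AlgebraicGeometry CategoryTheory

variable (R S : Type u) [CommRing R] [CommRing S] [Algebra R S]

/-- the local fibre dimension at a point of `D(g)` is bounded by the dimension of the fibre ring
of `S_g` -/
theorem fibreDimAt_le_ringKrullDim_fiber_away (q : Spec (CommRingCat.of S)) (g : S)
    (hg : g ∉ (q : PrimeSpectrum S).asIdeal) (p : PrimeSpectrum R) (hp : (sm R S) q = p) :
    FlatMor.fibreDimAt (sm R S) q ≤ ringKrullDim (p.asIdeal.Fiber (Localization.Away g)) := by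
  let j : Spec (CommRingCat.of (Localization.Away g)) ⟶ Spec (CommRingCat.of S) :=
    Spec.map (CommRingCat.ofHom (algebraMap S (Localization.Away g)))
  have hq : (q : PrimeSpectrum S) ∈ Set.range (PrimeSpectrum.comap (algebraMap S (Localization.Away g))) := by
    rw [PrimeSpectrum.localization_away_comap_range (Localization.Away g) g]
    exact hg
  obtain ⟨qg, hqg⟩ := hq
  let qg' : Spec (CommRingCat.of (Localization.Away g)) := qg
  have hjq : j qg' = q := hqg
  have comm : sm R (Localization.Away g) ≫ 𝟙 _ = j ≫ sm R S := by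
    rw [Category.comp_id, ← Spec.map_comp, ← CommRingCat.ofHom_comp,
      ← IsScalarTower.algebraMap_eq]
  have h1 := Groth.Agent.Lib.Helper6.EtaleSq.fibreDimAt_etale_square (sm R S)
    (sm R (Localization.Away g)) j (𝟙 _) comm qg'
  rw [hjq] at h1
  rw [h1]
  apply fibreDimAt_le_ringKrullDim_fiber
  have h2 : (sm R (Localization.Away g)) qg' = (sm R S) (j qg') := by
    have := congrArg (fun φ => φ.base qg') comm
    simpa using this
  rw [h2, hjq, hp]

end pointwise



section general

/-- if `I` is f.g. and `I_Q ≤ J_Q`, some `G ∉ Q` has `G I ≤ J` (f.g. version of helper23's lemma) -/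
theorem exists_mul_mem_of_map_le_fg {R : Type u} [CommRing R] (I J Q : Ideal R) (hI : I.FG)
    [hQ : Q.IsPrime]
    (h : I.map (algebraMap R (Localization.AtPrime Q)) ≤ J.map (algebraMap R (Localization.AtPrime Q))) :
    ∃ G : R, G ∉ Q ∧ ∀ y ∈ I, G * y ∈ J := by
  classical
  obtain ⟨T, hT⟩ := hI
  have h1 : ∀ y : R, ∃ t : R, t ∉ Q ∧ (y ∈ I → t * y ∈ J) := by
    intro y
    by_cases hy : y ∈ I
    · have hmem : algebraMap R (Localization.AtPrime Q) y ∈
          J.map (algebraMap R (Localization.AtPrime Q)) := h (Ideal.mem_map_of_mem _ hy)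
      rw [IsLocalization.mem_map_algebraMap_iff Q.primeCompl] at hmem
      obtain ⟨⟨a, s⟩, ha⟩ := hmem
      rw [← map_mul, IsLocalization.eq_iff_exists Q.primeCompl] at ha
      obtain ⟨t', ht'⟩ := ha
      refine ⟨t'.1 * s.1, fun hmem => (hQ.mem_or_mem hmem).elim t'.2 s.2, fun _ => ?_⟩
      have : t'.1 * s.1 * y = t'.1 * a.1 := by rw [← ht']; ring
      rw [this]
      exact Ideal.mul_mem_left _ _ a.2
    · exact ⟨1, fun h1 => hQ.ne_top ((Ideal.eq_top_iff_one Q).mpr h1), fun h => absurd h hy⟩
  choose t ht1 ht2 using h1
  refine ⟨∏ y ∈ T, t y, ?_, ?_⟩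
  · rw [hQ.prod_mem_iff]
    rintro ⟨y, -, hy⟩
    exact ht1 y hy
  · have hle : I ≤ J.colon ({∏ y ∈ T, t y} : Set R) := by
      rw [← hT, Ideal.span_le]
      intro y hy
      have hyI : y ∈ I := hT ▸ Ideal.subset_span hy
      rw [SetLike.mem_coe, Submodule.mem_colon_singleton, smul_eq_mul]
      obtain ⟨w, hw⟩ := Finset.dvd_prod_of_mem t hy
      rw [hw]
      have : y * (t y * w) = w * (t y * y) := by ring
      rw [this]
      exact Ideal.mul_mem_left _ _ (ht2 y hyI)
    intro y hy
    have := hle hy
    rw [Submodule.mem_colon_singleton, smul_eq_mul] at this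
    rwa [mul_comm]

/-- localization away from `g'` only depends on the quotient when `g'` kills the kernel
(helper23's lemma over an arbitrary base ring) -/
theorem nonempty_away_algEquiv_of_surjective' {k : Type u} [CommRing k] {S' S : Type u}
    [CommRing S'] [CommRing S]
    [Algebra k S'] [Algebra k S] (π : S' →ₐ[k] S) (hπ : Function.Surjective π) (g' : S')
    (hg' : ∀ x, π x = 0 → g' * x = 0) :
    Nonempty (Localization.Away g' ≃ₐ[k] Localization.Away (π g')) := by
  let T := Localization.Away (π g')
  letI : Algebra S' T := ((algebraMap S T).comp π.toRingHom).toAlgebra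
  have hmap : ∀ x : S', algebraMap S' T x = algebraMap S T (π x) := fun x => rfl
  haveI : IsScalarTower k S' T := by
    refine IsScalarTower.of_algebraMap_eq fun x => ?_
    rw [hmap, AlgHom.commutes, ← IsScalarTower.algebraMap_apply k S T]
  haveI : IsLocalization.Away g' T := by
    refine IsLocalization.Away.mk g' ?_ (fun z => ?_) (fun a b h => ?_)
    · rw [hmap]
      exact IsLocalization.Away.algebraMap_isUnit (π g')
    · obtain ⟨n, a, ha⟩ := IsLocalization.Away.surj (π g') z
      obtain ⟨a', rfl⟩ := hπ a
      refine ⟨n, a', ?_⟩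
      rw [hmap, hmap]
      exact ha
    · rw [hmap, hmap] at h
      obtain ⟨n, hn⟩ := IsLocalization.Away.exists_of_eq (π g') h
      refine ⟨n + 1, ?_⟩
      have h1 : π (g' ^ n * (a - b)) = 0 := by
        rw [map_mul, map_pow, map_sub, mul_sub, hn, sub_self]
      have h2 := hg' _ h1
      have : g' ^ (n + 1) * a - g' ^ (n + 1) * b = 0 := by
        rw [← mul_sub, pow_succ', mul_assoc]
        exact h2
      exact sub_eq_zero.mp this
  exact ⟨(IsLocalization.algEquiv (Submonoid.powers g') (Localization.Away g') T).restrictScalars k⟩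

end general

end Groth.Agent.Helper19.RelGCI
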