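import Mathlib
import Groth.Agent.Helper19.RelGCI15

/-!
# Local structure of syntomic ring maps (Stacks 00SY) (helper19)

`exists_relGCI_away_of_presentation` / `exists_relGCI_away`: `T` f.p. over `R`, `T_q` flat over `R`, local ring
of the fibre at the point a complete intersection ⇒ some `T_t`, `t ∉ q`, is a relative global complete
intersection (no Noetherian hypothesis).  `exists_relGCI_away_of_isSyntomic`: a syntomic algebra is
locally a relative global complete intersection.
-/

set_option autoImplicit false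
set_option linter.style.haveILetI false
set_option linter.unusedSectionVars false
universe u
open TensorProduct MvPolynomial

namespace Groth.Agent.Helper19.RelGCI

section core

open AlgebraicGeometry CategoryTheory Groth.Agent.Lib.Helper23.SyntF

variable {R T : Type u} [CommRing R] [CommRing T] [Algebra R T]
  (p : Ideal R) [p.IsPrime] {n : ℕ} (π : MvPolynomial (Fin n) R →ₐ[R] T)
  (Q : Ideal (p.Fiber T)) [Q.IsPrime]

theorem comap_rho_comap_psi :
    (Q.comap (psi p π)).comap (rho R p n) =
      (Q.comap (Algebra.TensorProduct.includeRight : T →ₐ[R] p.Fiber T)).comap π := by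
  ext a
  simp only [Ideal.mem_comap]
  rw [psi_rho]
  rfl

/-- **Core of the local structure theorem** (Stacks 00SY (3) ⇒ (2), presentation form). -/
theorem exists_relGCI_away_of_presentation (hπ : Function.Surjective π)
    (hI : (RingHom.ker π).FG)
    (hflat : Module.Flat R (Localization.AtPrime
      (Q.comap (Algebra.TensorProduct.includeRight : T →ₐ[R] p.Fiber T))))
    (hCI : Synt.IsCIOver p.ResidueField (Localization.AtPrime Q)) :
    ∃ t : T, t ∉ Q.comap (Algebra.TensorProduct.includeRight : T →ₐ[R] p.Fiber T) ∧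
      ∃ (m c : ℕ) (F : Fin c → MvPolynomial (Fin m) R), Synt.IsRelGCI R m c F ∧
        Nonempty (Localization.Away t ≃ₐ[R] Synt.RelGCIRing R m c F) := by
  classical
  set q : Ideal T := Q.comap (Algebra.TensorProduct.includeRight : T →ₐ[R] p.Fiber T) with hqdef
  set I := RingHom.ker π with hIdef
  set Qb : Ideal (MvPolynomial (Fin n) p.ResidueField) := Q.comap (psi p π) with hQb
  haveI : Qb.IsPrime := Ideal.comap_isPrime _ _
  set q' : Ideal (MvPolynomial (Fin n) R) := q.comap π with hq'
  haveI : q'.IsPrime := Ideal.comap_isPrime _ _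
  have hq : q' = Qb.comap (rho R p n) := (comap_rho_comap_psi p π Q).symm
  have hIq' : I ≤ q' := by
    intro x hx
    rw [hq', Ideal.mem_comap, (RingHom.mem_ker).mp hx]
    exact zero_mem _
  -- step 1: regular sequence on the fibre
  obtain ⟨xs, hxs, hreg⟩ := exists_isRegular_ker_of_isCIOver (psi p π) (psi_surjective p π hπ) Q hCI
  rw [ker_psi p π hπ] at hxs
  -- step 2: flatness of the local ring of the presentation
  have hflat' : Module.Flat R (Localization.AtPrime q' ⧸
      I.map (algebraMap _ (Localization.AtPrime q'))) :=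
    Module.Flat.of_linearEquiv (locQuotAlgEquiv R π q hπ).symm.toLinearEquiv
  -- step 3: lift
  set c := xs.length with hc
  obtain ⟨f, hfI, hfmap, hfb⟩ := exists_lift_of_flat p q' Qb hq I hI hflat' xs hxs
  set J := Ideal.span (Set.range f) with hJ
  have hJI : J ≤ I := Ideal.span_le.mpr (by rintro _ ⟨i, rfl⟩; exact hfI i)
  -- step 4: height and dimension
  have hCM : LocCoh.IsCohenMacaulayModule (Localization.AtPrime Qb) (Localization.AtPrime Qb) :=
    Groth.Agent.Lib.Helper16.PDR.isCohenMacaulayModule_self_of_isRegularLocalRing _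
  have hht : (c : ℕ∞) ≤ ((Ideal.span (Set.range fun i => rho R p n (f i))).map
      (algebraMap _ (Localization.AtPrime Qb))).height := by
    rw [hfb, height_ofList_of_isRegular hCM xs hreg]
  have hJbQ : Ideal.span (Set.range fun i => rho R p n (f i)) ≤ Qb := by
    rw [Ideal.span_le]
    rintro _ ⟨i, rfl⟩
    change rho R p n (f i) ∈ Qb
    rw [← Ideal.mem_comap, ← hq]
    exact hIq' (hfI i)
  obtain ⟨hcn, hb, hbQ, hdim⟩ := exists_dim_away_le (fun i => rho R p n (f i)) Qb hJbQ hht
  obtain ⟨r, hr, h₁, hh₁⟩ := exists_smul_eq_rho R p n hb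
  have hh₁q : h₁ ∉ q' := by
    intro hmem
    rw [hq, Ideal.mem_comap, hh₁, smul_eq_C_mul'] at hmem
    rcases ‹Qb.IsPrime›.mem_or_mem hmem with hmem | hmem
    · exact ‹Qb.IsPrime›.ne_top (Ideal.eq_top_of_isUnit_mem _ hmem (isUnit_C_of_notMem R p n hr))
    · exact hbQ hmem
  -- step 5: the point of `T' = R[x]/(f)`
  have hJq' : J ≤ q' := hJI.trans hIq'
  have hker : RingHom.ker (Ideal.Quotient.mk J) ≤ q' := by rw [Ideal.mk_ker]; exact hJq'
  let q'' : Ideal (Synt.RelGCIRing R n c f) := q'.map (Ideal.Quotient.mk J)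
  haveI hq''p : q''.IsPrime := Ideal.map_isPrime_of_surjective Ideal.Quotient.mk_surjective hker
  have hq''c : q''.comap (Ideal.Quotient.mk J) = q' := by
    rw [Ideal.comap_map_of_surjective' (Ideal.Quotient.mk J) Ideal.Quotient.mk_surjective q',
      sup_eq_left]
    exact hker
  let z : Spec (CommRingCat.of (Synt.RelGCIRing R n c f)) := ⟨q'', hq''p⟩
  have hzp : (sm R (Synt.RelGCIRing R n c f)) z = ⟨p, inferInstance⟩ := by
    apply PrimeSpectrum.ext
    ext a
    change algebraMap R (Synt.RelGCIRing R n c f) a ∈ q'' ↔ a ∈ p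
    rw [← C_mem_iff p q' Qb hq a, ← hq''c, Ideal.mem_comap]
    rfl
  have hmem_iff : ∀ a : MvPolynomial (Fin n) R, Ideal.Quotient.mk J a ∈ q'' ↔ a ∈ q' := by
    intro a
    rw [← hq''c, Ideal.mem_comap]
  have hz1 : FlatMor.fibreDimAt (sm R (Synt.RelGCIRing R n c f)) z ≤ ((n - c : ℕ) : WithBot ℕ∞) := by
    refine (fibreDimAt_le_ringKrullDim_fiber_away R _ z (Ideal.Quotient.mk J h₁)
      (fun hmem => hh₁q ((hmem_iff h₁).mp hmem)) ⟨p, inferInstance⟩ hzp).trans ?_
    rw [ringKrullDim_fiber_away R f h₁ p]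
    refine hdim _ ?_
    change hb ∣ rho R p n h₁
    rw [hh₁, smul_eq_C_mul']
    exact Dvd.intro_left _ rfl
  -- step 6: the bad locus
  obtain ⟨Jbad, hJbad⟩ := exists_ideal_fibreDimAt R f (n - c)
  have hnot : ¬ Jbad ≤ q'' := fun hle => (hJbad z).mp hle hz1
  obtain ⟨jb, hjb, hjbq⟩ := SetLike.not_le_iff_exists.mp hnot
  obtain ⟨j₀, rfl⟩ := Ideal.Quotient.mk_surjective jb
  have hj₀q : j₀ ∉ q' := fun hmem => hjbq ((hmem_iff j₀).mpr hmem)
  -- step 7: the kernel is killed near `q'`
  obtain ⟨g₃, hg₃q, hg₃⟩ := exists_mul_mem_of_map_le_fg I J q' hI hfmap.ge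
  set hfin := j₀ * g₃ with hhfin
  have hfinq : hfin ∉ q' := fun hmem => (‹q'.IsPrime›.mem_or_mem hmem).elim hj₀q hg₃q
  have hfinJ : Ideal.Quotient.mk J hfin ∈ Jbad := by
    rw [hhfin, map_mul]
    exact Ideal.mul_mem_right _ _ hjb
  have hG := isRelGCI_away_of_mem R f hcn Jbad hJbad hfin hfinJ
  -- step 8: assemble
  let π' : Synt.RelGCIRing R n c f →ₐ[R] T := Ideal.Quotient.liftₐ J π (fun x hx => hJI hx)
  have hπ' : Function.Surjective π' := by
    intro y
    obtain ⟨x, rfl⟩ := hπ y
    exact ⟨Ideal.Quotient.mk J x, rfl⟩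
  obtain ⟨e⟩ := nonempty_away_algEquiv_of_surjective' π' hπ' (Ideal.Quotient.mk J hfin) (by
    intro x hx
    obtain ⟨y, rfl⟩ := Ideal.Quotient.mk_surjective x
    have hy : y ∈ I := hx
    rw [hhfin, map_mul, mul_assoc, ← map_mul (Ideal.Quotient.mk J) g₃ y,
      Ideal.Quotient.eq_zero_iff_mem.mpr (hg₃ y hy), mul_zero])
  refine ⟨π hfin, fun hmem => hfinq hmem, n + 1, c + 1, awayRel R f hfin, hG, ⟨?_⟩⟩
  exact e.symm.trans (awayPresEquiv R f hfin)

end core

section structureThm

open Groth.Agent.Lib.Helper23.SyntF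

variable (R T : Type u) [CommRing R] [CommRing T] [Algebra R T]

/-- **Local structure (Stacks 00SY (3) ⇒ (2))**: `T` of finite presentation over `R`, `Q` a prime of
the fibre ring over `p` with contraction `q`; if `T_q` is `R`-flat and the local ring of the fibre at
`Q` is a complete intersection, then a basic open neighbourhood of `q` is a relative global complete
intersection. -/
theorem exists_relGCI_away [Algebra.FinitePresentation R T] (p : Ideal R) [p.IsPrime]
    (Q : Ideal (p.Fiber T)) [Q.IsPrime]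
    (hflat : Module.Flat R (Localization.AtPrime
      (Q.comap (Algebra.TensorProduct.includeRight : T →ₐ[R] p.Fiber T))))
    (hCI : Synt.IsCIOver p.ResidueField (Localization.AtPrime Q)) :
    ∃ t : T, t ∉ Q.comap (Algebra.TensorProduct.includeRight : T →ₐ[R] p.Fiber T) ∧
      ∃ (m c : ℕ) (F : Fin c → MvPolynomial (Fin m) R), Synt.IsRelGCI R m c F ∧
        Nonempty (Localization.Away t ≃ₐ[R] Synt.RelGCIRing R m c F) := by
  obtain ⟨n, π, hπ, hI⟩ := (inferInstance : Algebra.FinitePresentation R T).out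
  exact exists_relGCI_away_of_presentation p π Q hπ hI hflat hCI

/-- **Local structure of syntomic algebras**: a syntomic algebra is, locally on its spectrum, a
relative global complete intersection. -/
theorem exists_relGCI_away_of_isSyntomic (h : Synt.IsSyntomic R T) (q : Ideal T) [q.IsPrime] :
    ∃ t : T, t ∉ q ∧
      ∃ (m c : ℕ) (F : Fin c → MvPolynomial (Fin m) R), Synt.IsRelGCI R m c F ∧
        Nonempty (Localization.Away t ≃ₐ[R] Synt.RelGCIRing R m c F) := by
  obtain ⟨hfl, hfp, hlci⟩ := h
  set p : Ideal R := q.under R with hp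
  haveI : q.LiesOver p := ⟨rfl⟩
  let Q' := PrimeSpectrum.primesOverOrderIsoFiber R T p ⟨q, inferInstance, inferInstance⟩
  have hQq : Q'.asIdeal.comap (Algebra.TensorProduct.includeRight : T →ₐ[R] p.Fiber T) = q := by
    have := (PrimeSpectrum.primesOverOrderIsoFiber R T p).symm_apply_apply ⟨q, inferInstance, inferInstance⟩
    have h2 := congrArg Subtype.val this
    rw [PrimeSpectrum.coe_primesOverOrderIsoFiber_symm_apply] at h2
    exact h2
  haveI : Q'.asIdeal.IsPrime := Q'.2
  have hflat : Module.Flat R (Localization.AtPrime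
      (Q'.asIdeal.comap (Algebra.TensorProduct.includeRight : T →ₐ[R] p.Fiber T))) :=
    Module.Flat.trans R T _
  have hCI := isCIOver_atPrime_of_isLCIOver (hlci ⟨p, inferInstance⟩) Q'.asIdeal
  obtain ⟨t, ht, rest⟩ := exists_relGCI_away R T p Q'.asIdeal hflat hCI
  rw [hQq] at ht
  exact ⟨t, ht, rest⟩

end structureThm

end Groth.Agent.Helper19.RelGCI
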