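import Mathlib
import Groth.Prelude.Def_AlgSpMor6
import Groth.Agent.Lib.Helper14.AlgSpLocP2
import Groth.Agent.Lib.Helper16.SyntDesc7
import Groth.Agent.Lib.Helper16.SyntDesc8
import Groth.Agent.S9699
import Groth.Agent.Helper19.LciCancel
import Groth.Agent.Helper19.LciMor

/-!
# Local complete intersection morphisms of algebraic spaces: étale locality (helper19)

`AlgSp.lci` (Koszul at every point) is étale local on the source and target (`etLocal_lci`), even
smooth local on the source; cancellation against smooth morphisms for `AlgSp.LocP`.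
-/

set_option autoImplicit false
set_option linter.style.haveILetI false
set_option linter.unusedSectionVars false
set_option linter.unusedVariables false
universe u

open CategoryTheory CategoryTheory.Limits AlgebraicGeometry Opposite

namespace Groth.Agent.Helper19.AlgSpLci

open AlgSp Groth.Agent.Lib.Helper14.AS Groth.Agent.Lib.Helper14.ESL
open Groth.Agent.Lib.Helper16.KzComp Groth.Agent.Helper19.LciMor Groth.Agent.Helper19.LciCancel

section scheme

variable {X Y Z : Scheme.{u}}

theorem lci_iff (f : X ⟶ Y) : AlgSp.lci f ↔ LCIMor f := forall_isKoszulAt_iff f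

theorem lci_of_smooth (f : X ⟶ Y) [Smooth f] : AlgSp.lci f :=
  (lci_iff f).mpr (lciMor_of_smooth f)

theorem lci_comp (f : X ⟶ Y) (g : Y ⟶ Z) (hf : AlgSp.lci f) (hg : AlgSp.lci g) :
    AlgSp.lci (f ≫ g) :=
  (lci_iff _).mpr (MorphismProperty.comp_mem _ _ _ ((lci_iff f).mp hf) ((lci_iff g).mp hg))

theorem lci_of_comp_smooth (f : X ⟶ Y) (g : Y ⟶ Z) (h : AlgSp.lci (f ≫ g)) (hg : Smooth g) :
    AlgSp.lci f :=
  (lci_iff f).mpr (lciMor_of_comp_smooth f g ((lci_iff _).mp h))

/-- `lci` is smooth local on the source -/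
theorem lci_of_smooth_comp (p : X ⟶ Y) (h : Y ⟶ Z) (hp : Smooth p) (hs : Surjective p)
    (hph : AlgSp.lci (p ≫ h)) : AlgSp.lci h :=
  (Groth.Agent.Lib.Helper16.SyntDesc.forall_isKoszulAt_comp_iff
    Groth.Agent.Lib.Helper16.SyntDesc.locStr p (Groth.Agent.S9699.result p) h).mp hph

theorem etLocal_lci : EtLocal AlgSp.lci.{u} where
  src := fun U' U V p h hp hs hph => by
    haveI := hp
    exact lci_of_smooth_comp p h inferInstance hs hph
  comp_etale := fun X Y Z f g hf hg => by
    haveI := hg
    exact lci_comp f g hf (lci_of_smooth g)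
  etale_comp := fun X Y Z f g hf hg => by
    haveI := hf
    exact lci_comp f g (lci_of_smooth f) hg
  of_comp_etale := fun X Y Z f g hfg hg => by
    haveI := hg
    exact lci_of_comp_smooth f g hfg inferInstance

end scheme

variable {S : Scheme.{u}}

set_option backward.isDefEq.respectTransparency.types false in
/-- If `f ≫ g` has `P` etale locally, `g` has `Q` etale locally and `P` cancels against `Q`, then
`f` has `P` etale locally. (Variant of helper14's `locP_of_comp`.) -/
theorem locP_of_comp' {P Q : MorphismProperty Scheme.{u}} (hP : EtLocal P)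
    (hc : ∀ ⦃A B C : Scheme.{u}⦄ (f : A ⟶ B) (g : B ⟶ C), P (f ≫ g) → Q g → P f)
    {X Y Z : Sp S} (hZ : IsAlgSpace Z) (f : X ⟶ Y) (g : Y ⟶ Z) (hfg : LocP P (f ≫ g))
    (hg : LocP Q g) : LocP P f := by
  intro U V a b h ha hb comm
  obtain ⟨W, c, hce, hcs⟩ := hZ.atlas
  have sqV := hce.rep.isPullback (b ≫ g)
  have he : Etale (hce.rep.snd (b ≫ g)).left := hce.property_snd _
  have hs : Surjective (hce.rep.snd (b ≫ g)).left := hcs.property _ _ _ sqV
  obtain ⟨w1, hw1⟩ := (yon S).map_surjective (hce.rep.fst (b ≫ g))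
  have sqU := IsPullback.of_hasPullback h (hce.rep.snd (b ≫ g))
  have hfe : Etale (pullback.fst h (hce.rep.snd (b ≫ g))).left :=
    MorphismProperty.of_isPullback (P := MorphismProperty.inverseImage @Etale (Over.forget S))
      sqU.flip he
  have hfs : Surjective (pullback.fst h (hce.rep.snd (b ≫ g))).left :=
    MorphismProperty.of_isPullback (P := MorphismProperty.inverseImage @Surjective (Over.forget S))
      sqU.flip hs
  have ha' : RepWith @Etale ((yon S).map (pullback.fst h (hce.rep.snd (b ≫ g))) ≫ a) :=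
    repWith_comp _ ((repWith_yon_map_iff _ _).2 hfe) ha
  have hb' : RepWith @Etale ((yon S).map (hce.rep.snd (b ≫ g)) ≫ b) :=
    repWith_comp _ ((repWith_yon_map_iff _ _).2 he) hb
  have comm' : ((yon S).map (pullback.fst h (hce.rep.snd (b ≫ g))) ≫ a) ≫ f ≫ g =
      (yon S).map (pullback.snd h (hce.rep.snd (b ≫ g)) ≫ w1) ≫ c := by
    rw [Category.assoc, reassoc_of% comm, ← Functor.map_comp_assoc, sqU.w, Functor.map_comp,
      Functor.map_comp, Category.assoc, Category.assoc, hw1, sqV.w]
  have commg : ((yon S).map (hce.rep.snd (b ≫ g)) ≫ b) ≫ g = (yon S).map w1 ≫ c := by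
    rw [Category.assoc, hw1, sqV.w]
  have hQ : Q w1.left := hg _ c w1 hb' hce commg
  have h1 : P ((pullback.snd h (hce.rep.snd (b ≫ g))).left ≫ w1.left) :=
    hfg _ c _ ha' hce comm'
  have h2 : P (pullback.snd h (hce.rep.snd (b ≫ g))).left := hc _ _ h1 hQ
  have h3 : P ((pullback.snd h (hce.rep.snd (b ≫ g))).left ≫ (hce.rep.snd (b ≫ g)).left) :=
    hP.comp_etale _ _ h2 he
  have h4 : P ((pullback.fst h (hce.rep.snd (b ≫ g))).left ≫ h.left) := by
    rw [← Over.comp_left, sqU.w, Over.comp_left]; exact h3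
  exact hP.src _ _ hfe hfs h4

/-- cancellation of lci morphisms of algebraic spaces against smooth ones -/
theorem isLCIMor_of_comp_smooth {X Y Z : Sp S} (hZ : IsAlgSpace Z) (f : X ⟶ Y) (g : Y ⟶ Z)
    (hfg : AlgSp.IsLCIMor (f ≫ g)) (hg : LocP @Smooth g) : AlgSp.IsLCIMor f :=
  locP_of_comp' etLocal_lci (fun _ _ _ f g h hg => lci_of_comp_smooth f g h hg) hZ f g hfg hg

end Groth.Agent.Helper19.AlgSpLci
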