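import Mathlib
import Groth.Prelude.Def_AlgSpMor6
import Groth.Agent.Helper19.AlgSpLci1
import Groth.Agent.Helper19.RegImmBC2
import Groth.Agent.Lib.Helper14.BCChart

/-!
# Flat base change of local complete intersection morphisms (helper19)
-/

set_option autoImplicit false
set_option linter.style.haveILetI false
set_option linter.unusedSectionVars false
set_option linter.unusedVariables false
universe u

open CategoryTheory CategoryTheory.Limits AlgebraicGeometry Opposite Topology

namespace Groth.Agent.Helper19.AlgSpLci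

open AlgSp Groth.Agent.Lib.Helper14.AS Groth.Agent.Lib.Helper14.ESL
open Groth.Agent.Lib.Helper16.KzComp Groth.Agent.Helper19.LciMor Groth.Agent.Helper19.LciCancel
open Groth.Agent.Helper19.RegImmBC

section scheme

variable {X Y X' Y' : Scheme.{u}}

/-- flat base change of a Koszul (lci) morphism of schemes -/
theorem lci_flat_baseChange {f : X ⟶ Y} {g : Y' ⟶ Y} {f' : X' ⟶ Y'} {g' : X' ⟶ X}
    (sq : IsPullback g' f' f g) [Flat g] (hf : AlgSp.lci f) : AlgSp.lci f' := by
  intro x'
  obtain ⟨U, P, i, π, hxU, hlft, hi, hπ, hfac⟩ := hf (g' x')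
  haveI := hπ
  have outer : IsPullback (g' ∣_ U) ((g' ⁻¹ᵁ U).ι ≫ f') (U.ι ≫ f) g :=
    (isPullback_morphismRestrict g' U).paste_vert sq
  have sqP : IsPullback (pullback.fst π g) (pullback.snd π g) π g := IsPullback.of_hasPullback π g
  have hw : ((g' ∣_ U) ≫ i) ≫ π = ((g' ⁻¹ᵁ U).ι ≫ f') ≫ g := by
    rw [Category.assoc, hfac]; exact outer.w
  let i' : ((g' ⁻¹ᵁ U : X'.Opens) : Scheme.{u}) ⟶ pullback π g :=
    pullback.lift ((g' ∣_ U) ≫ i) ((g' ⁻¹ᵁ U).ι ≫ f') hw
  have hi'1 : i' ≫ pullback.fst π g = (g' ∣_ U) ≫ i := pullback.lift_fst _ _ _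
  have hi'2 : i' ≫ pullback.snd π g = (g' ⁻¹ᵁ U).ι ≫ f' := pullback.lift_snd _ _ _
  have left : IsPullback i' (g' ∣_ U) (pullback.fst π g) i := by
    refine IsPullback.of_right ?_ hi'1 sqP.flip
    rw [hi'2, hfac]
    exact outer.flip
  haveI : Flat (pullback.fst π g) := MorphismProperty.pullback_fst (P := @Flat) π g inferInstance
  have hi' : RegImm.IsRegularImmersion .koszul i' :=
    isRegularImmersion_baseChange .koszul kindFlatStable_koszul left.flip hi
  refine ⟨g' ⁻¹ᵁ U, pullback π g, i', pullback.snd π g, hxU, ?_, hi', ?_, hi'2⟩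
  · exact MorphismProperty.of_isPullback (P := @LocallyOfFiniteType) outer hlft
  · exact MorphismProperty.pullback_snd (P := @Smooth) π g hπ

end scheme

variable {S : Scheme.{u}}

set_option backward.isDefEq.respectTransparency.types false in
/-- flat base change of an lci morphism of algebraic spaces -/
theorem isLCIMor_flat_baseChange {X Y Y' X' : Sp S} (hX : IsAlgSpace X) (hY : IsAlgSpace Y)
    (hY' : IsAlgSpace Y') (f : X ⟶ Y) (g : Y' ⟶ Y) (fst : X' ⟶ X) (f' : X' ⟶ Y')
    (sq : IsPullback fst f' f g) (hf : IsLCIMor f) (hg : LocP @Flat g) : IsLCIMor f' := by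
  obtain ⟨U, V, U', V', a, b, a', b', h, h', α, β, hae, has, hbe, hbs, ha'e, ha's, hb'e, hb's,
    comm, comm', commα, commβ, sqS⟩ := exists_bc_chart hX hY hY' f g fst f' sq
  have hβ : Flat β.left := hg b' b β hb'e hbe commβ
  have hh : AlgSp.lci h.left := hf a b h hae hbe comm
  have sqS' : IsPullback α.left h'.left h.left β.left := sqS.map (Over.forget S)
  haveI := hβ
  have hh' : AlgSp.lci h'.left := lci_flat_baseChange sqS' hh
  exact locP_of_chart etLocal_lci f' a' b' h' ha'e ha's hb'e comm' hh'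

end Groth.Agent.Helper19.AlgSpLci
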