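import Mathlib
import Groth.Prelude.Def_AlgSpMor6
import Groth.Agent.Helper19.AlgSpLci7
import Groth.Agent.Lib.Helper24.AlgSpSmLocal
import Groth.Agent.Lib.Helper24.SmSrcSmooth

/-!
# `IsLCIMor` is smooth local on source-and-target (helper19)
-/

set_option autoImplicit false
set_option linter.style.haveILetI false
set_option linter.unusedSectionVars false
set_option linter.unusedVariables false
universe u

open CategoryTheory CategoryTheory.Limits AlgebraicGeometry Opposite Topology

namespace Groth.Agent.Helper19.AlgSpLci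

open AlgSp Groth.Agent.Lib.Helper14.AS Groth.Agent.Lib.Helper14.ESL
open Groth.Agent.Lib.Helper16.KzComp Groth.Agent.Helper19.LciMor Groth.Agent.Helper19.LciCancel
open Groth.Agent.Lib.Helper24.AlgSpSmLocal Groth.Agent.Lib.Helper24.SmSrc

theorem lci_eq_lciMor : (AlgSp.lci.{u} : MorphismProperty Scheme.{u}) = LCIMor := by
  ext X Y f
  exact lci_iff f

instance : (AlgSp.lci.{u}).IsStableUnderComposition := by
  rw [lci_eq_lciMor]; infer_instance

instance : IsZariskiLocalAtSource AlgSp.lci.{u} := by
  rw [lci_eq_lciMor]; infer_instance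

instance : IsZariskiLocalAtTarget AlgSp.lci.{u} := by
  rw [lci_eq_lciMor]; infer_instance

theorem smooth_le_lci : (@Smooth : MorphismProperty Scheme.{u}) ≤ AlgSp.lci :=
  fun _ _ f h => by have : Smooth f := h; exact lci_of_smooth f

theorem smSrcLocal_lci : SmSrcLocal AlgSp.lci.{u} :=
  fun U' U V p h hp hs hph => lci_of_smooth_comp p h hp hs hph

theorem smLocal_lci : SmLocal AlgSp.lci.{u} := ⟨etLocal_lci, smSrcLocal_lci, smooth_le_lci⟩

variable {S : Scheme.{u}}

set_option backward.isDefEq.respectTransparency.types false in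
theorem isSmoothLocalST_lci : IsSmoothLocalST (IsLCIMor (S := S)) where
  precomp X Y Z hX hY hZ f g hf hg :=
    locP_comp etLocal_lci hX hY hZ f g (locP_mono smooth_le_lci hf) hg
  baseChange X Y X' Y' hX hY hX' hY' f g f' g' sq hg hf :=
    isLCIMor_flat_baseChange hX hY hY' f g g' f' sq hf (locP_mono smooth_le_flat hg)
  locality X Y hX hY f := by
    refine ⟨fun hf x => ⟨X, Y, 𝟙 X, 𝟙 Y, f, x, hX, hY, locP_smooth_id X, locP_smooth_id Y,
      by simp, Points.map_id _, hf⟩, locP_of_smooth_squares smLocal_lci hX hY f⟩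

end Groth.Agent.Helper19.AlgSpLci
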