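import Mathlib
import Groth.Prelude.Def_AlgSpMor6
import Groth.Prelude.Def_AlgSpCov
import Groth.Agent.Helper19.AlgSpLci8
import Groth.Agent.Lib.Helper14.FpqcBase2
import Groth.Agent.Lib.Helper24.AlgStLocQ6

/-!
# `IsLCIMor` is fpqc local on the base (helper19)
-/

set_option autoImplicit false
set_option linter.style.haveILetI false
set_option linter.unusedSectionVars false
set_option linter.unusedVariables false
universe u

open CategoryTheory CategoryTheory.Limits AlgebraicGeometry Opposite Topology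

namespace Groth.Agent.Helper19.AlgSpLci

open AlgSp Groth.Agent.Lib.Helper14.AS Groth.Agent.Lib.Helper14.ESL
open Groth.Agent.Lib.Helper16.KzComp Groth.Agent.Helper19.LciMor Groth.Agent.Helper19.LciCancel
open Groth.Agent.Lib.Helper24.AlgSpSmLocal

instance : (AlgSp.lci.{u}).DescendsAlong (@Surjective ⊓ @Flat ⊓ @QuasiCompact) := by
  rw [lci_eq_lciMor]; exact lciMor_descendsAlong

variable {S : Scheme.{u}}

set_option backward.isDefEq.respectTransparency.types false in
/-- a variant of helper14's `affLocal_locP`: only etale affine charts of the target are needed -/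
theorem affEtLocal_locP {P : MorphismProperty Scheme.{u}} (hP : EtLocal P)
    [IsZariskiLocalAtTarget P] {X Y : Sp S} (hX : IsAlgSpace X) (hY : IsAlgSpace Y) (f : X ⟶ Y)
    (H : ∀ (Z : Over S), IsAffine Z.left → ∀ (h : (yon S).obj Z ⟶ Y), RepWith @Etale h →
      ∀ (X' : Sp S) (fst : X' ⟶ X) (snd : X' ⟶ (yon S).obj Z), IsPullback fst snd f h →
        LocP P snd) : LocP P f := by
  obtain ⟨V, b, hbe, hbs⟩ := hY.atlas
  obtain ⟨U, a, k, hae, has, comm⟩ := exists_chart_diagram hX f b hbe hbs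
  refine locP_of_chart hP f a b k hae has hbe comm ?_
  refine IsZariskiLocalAtTarget.of_openCover V.left.affineCover fun i => ?_
  let Zi : Over S := Over.mk (V.left.affineCover.f i ≫ V.hom)
  let j : Zi ⟶ V := Over.homMk (V.left.affineCover.f i) rfl
  have hZi : IsAffine Zi.left := by dsimp [Zi]; infer_instance
  have hje : RepWith @Etale ((yon S).map j) := by
    rw [repWith_yon_map_iff]
    simp only [j, Over.homMk_left]; infer_instance
  have hjb : RepWith @Etale ((yon S).map j ≫ b) := repWith_comp _ hje hbe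
  obtain ⟨l, hl1, hl2⟩ := exists_chart_of_baseChange f a b k comm j _ rfl
  have sq := IsPullback.of_hasPullback f ((yon S).map j ≫ b)
  have hw : RepWith @Etale (pullback.fst f ((yon S).map j ≫ b)) :=
    repWith_of_isPullback _ sq.flip hjb
  have hfe : Etale (pullback.fst k j).left :=
    MorphismProperty.of_isPullback (P := MorphismProperty.inverseImage @Etale (Over.forget S))
      (IsPullback.of_hasPullback k j).flip ((repWith_yon_map_iff _ _).1 hje)
  have hle : RepWith @Etale l := by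
    refine repWith_etale_of_comp l _ hw ?_
    rw [hl1]
    exact repWith_comp _ ((repWith_yon_map_iff _ _).2 hfe) hae
  have key := H Zi hZi ((yon S).map j ≫ b) hjb _ _ _ sq l (𝟙 _) (pullback.snd k j) hle
    (repWith_id _ Zi) (by rw [hl2, Category.comp_id])
  exact (P_over_pullback_snd_iff k j).1 key

/-- finitely many affine opens of `T` already cover `W` when `T ⟶ W` has a section after an
etale surjection onto a quasi-compact `W` -/
theorem exists_finite_affine_family {T W W' : Scheme.{u}} [CompactSpace W] (t : T ⟶ W)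
    (w : W' ⟶ W) [Etale w] (hw : Function.Surjective w) (s : W' ⟶ T) (hs : s ≫ t = w) :
    ∃ (m : ℕ) (A : Fin m → T.Opens), (∀ k, IsAffineOpen (A k)) ∧
      ∀ z : W, ∃ k, z ∈ Set.range ((A k).ι ≫ t) := by
  have hopen : IsOpenMap w := w.isOpenMap
  have key : ∀ z : W, ∃ A : T.Opens, IsAffineOpen A ∧ ∃ O : Set W, IsOpen O ∧ z ∈ O ∧
      O ⊆ Set.range (A.ι ≫ t) := by
    intro z
    obtain ⟨x', rfl⟩ := hw z
    obtain ⟨A, hA, hxA, -⟩ := TopologicalSpace.Opens.isBasis_iff_nbhd.mp T.isBasis_affineOpens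
      (TopologicalSpace.Opens.mem_top (s x'))
    have hA : IsAffineOpen (A : T.Opens) := hA
    refine ⟨(A : T.Opens), hA, w '' (s ⁻¹' (A : Set T)), hopen _ (A.isOpen.preimage s.continuous),
      ⟨x', hxA, rfl⟩, ?_⟩
    rintro _ ⟨y, hy, rfl⟩
    refine ⟨⟨s y, hy⟩, ?_⟩
    rw [Scheme.Hom.comp_apply]
    have : (Scheme.Opens.ι (A : T.Opens)) ⟨s y, hy⟩ = s y := rfl
    rw [this, ← Scheme.Hom.comp_apply, hs]
  choose A hA O hO hzO hOA using key
  obtain ⟨F, hF⟩ := isCompact_univ.elim_finite_subcover O hO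
    (fun z _ => Set.mem_iUnion.2 ⟨z, hzO z⟩)
  refine ⟨F.card, fun k => A (F.equivFin.symm k).1, fun k => hA _, fun z => ?_⟩
  obtain ⟨z₀, hz₀⟩ := Set.mem_iUnion.1 (hF (Set.mem_univ z))
  obtain ⟨hz₀F, hz⟩ := Set.mem_iUnion.1 hz₀
  refine ⟨F.equivFin ⟨z₀, hz₀F⟩, ?_⟩
  have e : ((F.equivFin.symm (F.equivFin ⟨z₀, hz₀F⟩)) : W) = z₀ := by
    rw [Equiv.symm_apply_apply]
  show z ∈ Set.range ((A (F.equivFin.symm (F.equivFin ⟨z₀, hz₀F⟩)).1).ι ≫ t)
  rw [e]
  exact hOA z₀ hz

end Groth.Agent.Helper19.AlgSpLci
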