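import Mathlib
import Groth.Prelude.Def_AlgSpMor6
import Groth.Prelude.Def_AlgSpCov
import Groth.Agent.Helper19.AlgSpLci9

/-!
# `IsLCIMor` is fpqc local on the base: the twist (helper19)
-/

set_option autoImplicit false
set_option linter.style.haveILetI false
set_option linter.unusedSectionVars false
set_option linter.unusedVariables false
universe u

open CategoryTheory CategoryTheory.Limits AlgebraicGeometry Opposite Topology

namespace Groth.Agent.Helper19.AlgSpLci

open AlgSp Groth.Agent.Lib.Helper14.AS Groth.Agent.Lib.Helper14.ESL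
open Groth.Agent.Lib.Helper16.KzComp Groth.Agent.Helper19.LciMor Groth.Agent.Helper19.LciCancel
open Groth.Agent.Lib.Helper24.AlgSpSmLocal Groth.Agent.Lib.Helper24.AlgStLocQ6

variable {S : Scheme.{u}}

set_option backward.isDefEq.respectTransparency.types false in
/-- the twist: if `p` is the base change of `f` along a flat `g : Yi ⟶ Y`, `p` is lci, and a flat
`r : h_W ⟶ Y` from an affine scheme lifts (arbitrarily) through `g`, then the base change of `f`
along `r` is lci -/
theorem isLCIMor_of_lift {X Y Yi Xi : Sp S} (hX : IsAlgSpace X) (hY : IsAlgSpace Y)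
    (hYi : IsAlgSpace Yi) (hXi : IsAlgSpace Xi) (f : X ⟶ Y) (g : Yi ⟶ Y) (p : Xi ⟶ Yi)
    (q : Xi ⟶ X) (sq : IsPullback q p f g) (hg : LocP @Flat g) (hp : IsLCIMor p)
    {W : Over S} (hW : IsAffine W.left) (r : (yon S).obj W ⟶ Y) (hr : LocP @Flat r)
    (l : (yon S).obj W ⟶ Yi) (hl : l ≫ g = r)
    (X'' : Sp S) (fst : X'' ⟶ X) (snd : X'' ⟶ (yon S).obj W) (sq'' : IsPullback fst snd f r) :
    IsLCIMor snd := by
  have hX'' : IsAlgSpace X'' :=
    isAlgSpace_of_isPullback (repDiag_of_isAlgSpace hY) hX (IsAlgSpace.yon_obj W) sq''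
  obtain ⟨V, b, hbe, hbs⟩ := hYi.atlas
  have hbf : LocP @Flat b := locP_mono etale_le_flat (locP_of_repWith le_rfl hbe)
  have hbg : LocP @Flat (b ≫ g) :=
    locP_comp etLocal_flat (IsAlgSpace.yon_obj V) hYi hY b g hbf hg
  -- the scheme `T = V ×_Y W`
  have rep : Representable (b ≫ g) := repDiag_of_isAlgSpace hY (b ≫ g)
  have sqT := rep.isPullback' r
  have ht₂ : Flat (rep.snd r).left := locP_yon_map
    (locP_baseChange etLocal_flat (IsAlgSpace.yon_obj V) hY (IsAlgSpace.yon_obj W) (b ≫ g) r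
      _ _ sqT hbg)
  have ht₁ : Flat (rep.fst' r).left := locP_yon_map
    (locP_baseChange etLocal_flat (IsAlgSpace.yon_obj W) hY (IsAlgSpace.yon_obj V) r (b ≫ g)
      _ _ sqT.flip hr)
  -- the etale cover `W'` of `W` through which `l` lifts to the atlas
  have sqW := hbe.rep.isPullback' l
  have hwe : Etale (hbe.rep.snd l).left := hbe.property_snd l
  have hws : Surjective (hbe.rep.snd l).left := hbs.property_snd l
  have hc : (yon S).map (hbe.rep.fst' l) ≫ b ≫ g = (yon S).map (hbe.rep.snd l) ≫ r := by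
    rw [← hl, ← Category.assoc, ← Category.assoc, sqW.w]
  obtain ⟨s, hs⟩ := (yon S).map_surjective (sqT.lift _ _ hc)
  have hs₂ : s ≫ rep.snd r = hbe.rep.snd l := by
    apply (yon S).map_injective
    rw [Functor.map_comp, hs, sqT.lift_snd]
  have hs₂' : s.left ≫ (rep.snd r).left = (hbe.rep.snd l).left := by
    rw [← Over.comp_left, hs₂]
  haveI : CompactSpace W.left := by haveI := hW; infer_instance
  haveI := hwe
  obtain ⟨m, A, hA, hcov⟩ := exists_finite_affine_family (rep.snd r).left (hbe.rep.snd l).left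
    hws.surj s.left hs₂'
  -- the standard fpqc covering of `W` by the `A k`
  let T : Over S := rep.pullback r
  let Wk : Fin m → Over S := fun k => Over.mk ((A k).ι ≫ T.hom)
  let ιk : ∀ k, Wk k ⟶ T := fun k => Over.homMk (A k).ι rfl
  let ck : ∀ k, Wk k ⟶ W := fun k => ιk k ≫ rep.snd r
  have hWka : ∀ k, IsAffine (Wk k).left := fun k => hA k
  have hckf : ∀ k, Flat (ck k).left := fun k => by
    haveI := ht₂
    show Flat ((A k).ι ≫ (rep.snd r).left)
    infer_instance
  have hcks : ∀ z : ↥W.left, ∃ k, z ∈ Set.range (ck k).left := hcov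
  refine fpqcDesc_locP etLocal_lci hX'' hW snd m Wk ck hWka hckf hcks fun k X''' fst' snd' sq' => ?_
  have hX''' : IsAlgSpace X''' :=
    isAlgSpace_of_isPullback (repDiag_of_isAlgSpace (IsAlgSpace.yon_obj W)) hX''
      (IsAlgSpace.yon_obj (Wk k)) sq'
  -- `snd'` is the base change of `p` along the flat `ρ`
  let ρ : (yon S).obj (Wk k) ⟶ Yi := (yon S).map (ιk k ≫ rep.fst' r) ≫ b
  have hρ : LocP @Flat ρ := by
    refine locP_comp etLocal_flat (IsAlgSpace.yon_obj _) (IsAlgSpace.yon_obj V) hYi _ b ?_ hbf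
    refine locP_yon_map_of etLocal_flat ?_
    haveI := ht₁
    show Flat ((A k).ι ≫ (rep.fst' r).left)
    infer_instance
  have big := sq'.paste_horiz sq''
  have hρg : ρ ≫ g = (yon S).map (ck k) ≫ r := by
    simp only [ρ, ck, Functor.map_comp, Category.assoc]
    rw [sqT.w]
  rw [← hρg] at big
  have hc' : (fst' ≫ fst) ≫ f = (snd' ≫ ρ) ≫ g := by
    rw [Category.assoc]; exact big.w
  have key : IsPullback (sq.lift _ _ hc') snd' p ρ := by
    refine IsPullback.of_right ?_ (sq.lift_snd _ _ _) sq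
    rw [sq.lift_fst]
    exact big
  exact isLCIMor_flat_baseChange hXi hYi (IsAlgSpace.yon_obj (Wk k)) p ρ _ snd' key hp hρ

set_option backward.isDefEq.respectTransparency.types false in
/-- S10667: being a local complete intersection morphism is fpqc local on the base -/
theorem isLocalOnBase_fpqc_isLCIMor : IsLocalOnBase (IsFpqcCover (S := S)) IsLCIMor := by
  intro ι Y Yi g hY hYi hcov X f hX Xi p q hXi hsq
  constructor
  · intro hf i
    exact isLCIMor_flat_baseChange hX hY (hYi i) f (g i) (q i) (p i) (hsq i) hf (hcov.1 i)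
  · intro H
    refine affEtLocal_locP etLocal_lci hX hY f fun Z hZ h hhe X' fst snd sq => ?_
    have hX' : IsAlgSpace X' :=
      isAlgSpace_of_isPullback (repDiag_of_isAlgSpace hY) hX (IsAlgSpace.yon_obj Z) sq
    obtain ⟨m, W, c, hWa, hWf, hWs, hl⟩ := hcov.2 Z hZ h
    refine fpqcDesc_locP etLocal_lci hX' hZ snd m W c hWa hWf hWs fun j X'' fst' snd' sq' => ?_
    obtain ⟨i, l, hl⟩ := hl j
    have big := sq'.paste_horiz sq
    have hr : LocP @Flat ((yon S).map (c j) ≫ h) :=
      locP_comp etLocal_flat (IsAlgSpace.yon_obj _) (IsAlgSpace.yon_obj Z) hY _ h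
        (locP_yon_map_of etLocal_flat (hWf j))
        (locP_mono etale_le_flat (locP_of_repWith le_rfl hhe))
    exact isLCIMor_of_lift hX hY (hYi i) (hXi i) f (g i) (p i) (q i) (hsq i) (hcov.1 i) (H i)
      (hWa j) ((yon S).map (c j) ≫ h) hr l hl X'' (fst' ≫ fst) snd' big

end Groth.Agent.Helper19.AlgSpLci
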