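import Mathlib
import Groth.Prelude.Def_AlgSpMor6
import Groth.Agent.Helper19.AlgSpLci1
import Groth.Agent.Lib.Helper14.AlgSpLocP3
import Groth.Agent.Lib.Helper14.FpqcBase4
import Groth.Agent.Lib.Helper24.EtSmLocalST

/-!
# Local complete intersection morphisms of algebraic spaces: immersions into smooth spaces
(helper19)
-/

set_option autoImplicit false
set_option linter.style.haveILetI false
set_option linter.unusedSectionVars false
set_option linter.unusedVariables false
universe u

open CategoryTheory CategoryTheory.Limits AlgebraicGeometry Opposite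

namespace Groth.Agent.Helper19.AlgSpLci

open AlgSp Groth.Agent.Lib.Helper14.AS Groth.Agent.Lib.Helper14.ESL
open Groth.Agent.Lib.Helper16.KzComp Groth.Agent.Helper19.LciMor Groth.Agent.Helper19.LciCancel

variable {S : Scheme.{u}}

/-- `LocP P` is stable under precomposition with étale morphisms (no hypothesis on `P`). -/
theorem locP_isEtaleMor_comp {P : MorphismProperty Scheme.{u}} {W X Y : Sp S} {φ : W ⟶ X}
    (hφ : IsEtaleMor φ) {f : X ⟶ Y} (hf : LocP P f) : LocP P (φ ≫ f) := by
  intro U V a b h ha hb comm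
  exact hf (a ≫ φ) b h (hφ a ha) hb (by rw [Category.assoc]; exact comm)

set_option backward.isDefEq.respectTransparency.types false in
/-- an immersion of an étale `X`-space into a smooth `Y`-space is Koszul-regular when `X ⟶ Y` is
a local complete intersection morphism. -/
theorem isRegImmMor_koszul_of_lci {X Y P U : Sp S} (hY : IsAlgSpace Y) (hP : IsAlgSpace P)
    (f : X ⟶ Y) (g : P ⟶ Y) (e : U ⟶ X) (i : U ⟶ P)
    (hc : i ≫ g = e ≫ f) (hf : AlgSp.IsLCIMor f) (hg : AlgSp.LocP @Smooth g)
    (he : AlgSp.IsEtaleMor e) (hi : AlgSp.RepWith @IsImmersion i) :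
    AlgSp.IsRegImmMor RegImm.Kind.koszul i := by
  refine ⟨hi.1, fun V W b fst snd hb sq => ?_⟩
  have himm : IsImmersion snd.left := hi.2 b fst snd sq
  have hfst : RepWith @Etale fst :=
    MorphismProperty.of_isPullback (P := RepWith @Etale) sq.flip hb
  have h1 : AlgSp.IsLCIMor (fst ≫ e ≫ f) := by
    rw [← Category.assoc]
    exact locP_isEtaleMor_comp
      (isEtaleMor_comp (Groth.Agent.Lib.Helper14.AS.isEtaleMor_of_repWith_etale hfst) he) hf
  have h2 : (yon S).map snd ≫ (b ≫ g) = fst ≫ e ≫ f := by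
    rw [← Category.assoc, ← sq.w, Category.assoc, hc]
  have h3 : LocP @Smooth (b ≫ g) :=
    locP_comp etLocal_smooth (IsAlgSpace.yon_obj V) hP hY b g
      (Groth.Agent.Lib.Helper24.EtSmLocalST.locP_smooth_of_isEtaleMor
        (Groth.Agent.Lib.Helper14.AS.isEtaleMor_of_repWith_etale hb)) hg
  have h4 : AlgSp.IsLCIMor ((yon S).map snd) :=
    isLCIMor_of_comp_smooth hY _ (b ≫ g) (h2 ▸ h1) h3
  have h5 : AlgSp.lci snd.left := locP_yon_map h4
  exact (isRegularImmersion_koszul_iff snd.left).mpr ⟨himm, (lci_iff _).mp h5⟩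

end Groth.Agent.Helper19.AlgSpLci
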