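import Mathlib
import Groth.Prelude.Def_AlgSpMor6
import Groth.Agent.Helper19.AlgSpLci2

/-!
# Koszul-regular immersions of algebraic spaces are lci morphisms (helper19)
-/

set_option autoImplicit false
set_option linter.style.haveILetI false
set_option linter.unusedSectionVars false
set_option linter.unusedVariables false
universe u

open CategoryTheory CategoryTheory.Limits AlgebraicGeometry Opposite

namespace Groth.Agent.Helper19.AlgSpLci

open AlgSp Groth.Agent.Lib.Helper14.AS Groth.Agent.Lib.Helper14.ESL
open Groth.Agent.Lib.Helper16.KzComp Groth.Agent.Helper19.LciMor Groth.Agent.Helper19.LciCancel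

variable {S : Scheme.{u}}

set_option backward.isDefEq.respectTransparency.types false in
/-- A representable morphism having `P` on all étale charts of the target has `P` étale locally
on source and target, when `P` is stable under precomposition with étale morphisms. -/
theorem locP_of_repLocT {P : MorphismProperty Scheme.{u}}
    (hP : ∀ ⦃A B C : Scheme.{u}⦄ (f : A ⟶ B) (g : B ⟶ C), Etale f → P g → P (f ≫ g))
    {X Y : Sp S} {f : X ⟶ Y} (hf : RepLocT P f) : LocP P f := by
  intro U V a b h ha hb comm
  have sq := hf.1.isPullback b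
  have hw : P (hf.1.snd b).left := hf.2 b (hf.1.fst b) (hf.1.snd b) hb sq
  have hfst : RepWith @Etale (hf.1.fst b) :=
    MorphismProperty.of_isPullback (P := RepWith @Etale) sq.flip hb
  obtain ⟨l, hl⟩ := (yon S).map_surjective (sq.lift a ((yon S).map h) comm)
  have hl1 : (yon S).map l ≫ hf.1.fst b = a := by rw [hl, sq.lift_fst]
  have hl2 : l ≫ hf.1.snd b = h :=
    (yon S).map_injective (by rw [Functor.map_comp, hl, sq.lift_snd])
  have hle : RepWith @Etale ((yon S).map l) :=
    repWith_etale_of_comp _ _ hfst (by rw [hl1]; exact ha)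
  have hle' : Etale l.left := (repWith_yon_map_iff _ _).1 hle
  rw [← hl2]
  exact hP _ _ hle' hw

theorem lci_of_regImm_koszul {X Y : Scheme.{u}} (i : X ⟶ Y) (hi : AlgSp.regImm .koszul i) :
    AlgSp.lci i :=
  (lci_iff i).mpr ((isRegularImmersion_koszul_iff i).mp hi).2

/-- a Koszul-regular immersion of algebraic spaces is a local complete intersection morphism -/
theorem isLCIMor_of_isRegImmMor_koszul {X Y : Sp S} (i : X ⟶ Y)
    (hi : AlgSp.IsRegImmMor RegImm.Kind.koszul i) : AlgSp.IsLCIMor i := by
  have h1 : RepLocT AlgSp.lci i :=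
    ⟨hi.1, fun V W b fst snd hb sq => lci_of_regImm_koszul _ (hi.2 b fst snd hb sq)⟩
  exact locP_of_repLocT (fun _ _ _ f g hf hg => etLocal_lci.etale_comp f g hf hg) h1

end Groth.Agent.Helper19.AlgSpLci
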