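import Mathlib
import Groth.Agent.Lib.Helper16.TransReg2
import Groth.Agent.Lib.Helper23.SyntF3

set_option autoImplicit false
set_option linter.style.haveILetI false
universe u

namespace Groth.Agent.Helper19.CIBridge

open Groth.Agent.Lib.Helper23.SyntF

/-- **Bridge**: for a local algebra essentially of finite type over a field, "the completion is a
regular local ring modulo a regular sequence" is the same as being a complete intersection over
the field. -/
theorem pi1CI_iff_isCIOver (k : Type u) [Field k] (S : Type u) [CommRing S] [IsLocalRing S]
    [Algebra k S] [Algebra.EssFiniteType k S] :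
    Pi1.IsCompleteIntersection S ↔ Synt.IsCIOver k S := by
  obtain ⟨n, Q, hQ, π, hπ⟩ := exists_surjective_atPrime (k := k) (S := S)
  letI : Algebra (Localization.AtPrime Q) S := π.toRingHom.toAlgebra
  have hs : Function.Surjective (algebraMap (Localization.AtPrime Q) S) := hπ
  have hbridge := Groth.Agent.Lib.Helper16.TransReg.ci_iff_of_surjective
    (R := Localization.AtPrime Q) (A' := S) hs
  have hess : Algebra.EssFiniteType k (Localization.AtPrime Q) :=
    Algebra.EssFiniteType.comp k (MvPolynomial (Fin n) k) _
  constructor
  · intro h
    obtain ⟨rs, hrs, hreg⟩ := hbridge.mp h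
    exact isCIOver_of_surjective (Localization.AtPrime Q) hess π hπ rs hreg hrs.symm
  · intro h
    obtain ⟨xs, hxs, hreg⟩ := exists_isRegular_of_isCIOver h (Localization.AtPrime Q)
      π.toRingHom hπ
    exact hbridge.mpr ⟨xs, hxs, hreg⟩

end Groth.Agent.Helper19.CIBridge
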