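import Mathlib
import Groth.Prelude.Def_Koszul
import Groth.Prelude.Def_LCI2
import Groth.Agent.Lib.Helper16.KzComp6
import Groth.Agent.Lib.Helper16.KzLoc5
import Groth.Agent.Lib.Helper16.KzReg1
import Groth.Agent.Lib.Helper16.QfLci2

/-!
# Koszul-regularity of an ideal near a prime (helper19)

`KR I Q`: on a basic open neighbourhood of the prime `Q` the ideal `I` is generated by a
Koszul-regular sequence.  `KRp I Q`: the same after localizing at `Q`.  Transport along flat maps,
ring isomorphisms and localizations away from an element.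
-/

set_option autoImplicit false
set_option linter.unusedSectionVars false
set_option linter.unusedVariables false
set_option linter.style.haveILetI false
universe u

namespace Groth.Agent.Helper19.KosLoc

open Groth.Agent.Lib.Helper16.KzLoc Groth.Agent.Lib.Helper16.KzComp Groth.Agent.Lib.Helper16.QfLci

variable {R : Type u} [CommRing R]

/-- `I` is generated by a Koszul-regular sequence on a basic open neighbourhood of `Q`. -/
def KR (I Q : Ideal R) : Prop :=
  ∃ g : R, g ∉ Q ∧ ∃ l : List R, KregLoc l (Submonoid.powers g) ∧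
    LocEq (Submonoid.powers g) I (Ideal.ofList l)

/-- `I` is generated by a Koszul-regular sequence after localizing at `Q`. -/
def KRp (I Q : Ideal R) [Q.IsPrime] : Prop :=
  ∃ l : List R, KregLoc l Q.primeCompl ∧ LocEq Q.primeCompl I (Ideal.ofList l)

theorem KR.krp {I Q : Ideal R} [Q.IsPrime] (h : KR I Q) : KRp I Q := by
  obtain ⟨g, hg, l, hl, hI⟩ := h
  exact ⟨l, hl.mono (powers_le_primeCompl hg), hI.mono (powers_le_primeCompl hg)⟩

theorem KRp.kr [IsNoetherianRing R] {I Q : Ideal R} [Q.IsPrime] (h : KRp I Q) : KR I Q := by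
  obtain ⟨l, hl, hI⟩ := h
  obtain ⟨g₁, hg₁, h1⟩ := exists_kregLoc_powers_of_atPrime l Q hl
  obtain ⟨g₂, hg₂, h2⟩ := exists_locEq_powers_of_atPrime I (Ideal.ofList l)
    (IsNoetherian.noetherian I) (ofList_fg l) Q hI
  refine ⟨g₁ * g₂, fun hmem => (‹Q.IsPrime›.mem_or_mem hmem).elim hg₁ hg₂, l, h1.mul_right g₂, ?_⟩
  rw [mul_comm]
  exact h2.mul_right g₁

theorem KR.of_not_le {I Q : Ideal R} (h : ¬ I ≤ Q) : KR I Q := by
  obtain ⟨a, haI, haQ⟩ := SetLike.not_le_iff_exists.mp h
  have hal : a ∈ Ideal.ofList [a] := by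
    rw [Ideal.ofList]
    exact Ideal.subset_span (by simp)
  refine ⟨a, haQ, [a], ?_, ?_, ?_⟩
  · intro i _ y
    exact ⟨a, Submonoid.mem_powers a, smul_koszul_homology_eq_zero [a] hal i y⟩
  · intro x hx
    exact ⟨a, Submonoid.mem_powers a, by rw [mul_comm]; exact Ideal.mul_mem_left _ _ hal⟩
  · intro x hx
    refine ⟨1, one_mem _, ?_⟩
    rw [one_mul]
    have hle : Ideal.ofList [a] ≤ I := by
      rw [Ideal.ofList, Ideal.span_le]
      intro y hy
      have : y = a := by simpa using hy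
      rw [this]
      exact haI
    exact hle hx

theorem isKoszulRegularIdeal_iff_forall_kr (J : Ideal R) :
    LCI.IsKoszulRegularIdeal J ↔ ∀ 𝔭 : PrimeSpectrum R, J ≤ 𝔭.asIdeal → KR J 𝔭.asIdeal :=
  isKoszulRegularIdeal_iff J

lemma ofList_map {R' : Type u} [CommRing R'] (φ : R →+* R') (l : List R) :
    (Ideal.ofList l).map φ = Ideal.ofList (l.map φ) := by
  rw [Ideal.ofList, Ideal.ofList, Ideal.map_span]
  congr 1
  ext x
  simp [List.mem_map]

section flat

variable {R' : Type u} [CommRing R'] (φ : R →+* R')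

theorem KR.map_of_flat (hφ : φ.Flat) {I : Ideal R} (Q' : Ideal R') (h : KR I (Q'.comap φ)) :
    KR (I.map φ) Q' := by
  letI := φ.toAlgebra
  haveI : Module.Flat R R' := hφ
  obtain ⟨g, hg, l, hl, hI⟩ := h
  refine ⟨φ g, hg, l.map φ, kregLoc_map_powers (B := R') l g hl, ?_⟩
  have h1 := locEq_map φ hI
  rw [Submonoid.map_powers, ofList_map] at h1
  exact h1

theorem KRp.map_of_flat (hφ : φ.Flat) {I : Ideal R} (Q' : Ideal R') [Q'.IsPrime]
    (h : KRp I (Q'.comap φ)) : KRp (I.map φ) Q' := by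
  letI := φ.toAlgebra
  haveI : Module.Flat R R' := hφ
  obtain ⟨l, hl, hI⟩ := h
  refine ⟨l.map φ, (kregLoc_comap_iff (B := R') l Q').mpr hl, ?_⟩
  have h1 := locEq_map φ hI
  rw [ofList_map] at h1
  refine h1.mono ?_
  rintro _ ⟨x, hx, rfl⟩
  exact hx

theorem KRp.of_map_of_flat (hφ : φ.Flat) {I : Ideal R} (Q' : Ideal R') [Q'.IsPrime]
    (hIQ : I.map φ ≤ Q') (h : KRp (I.map φ) Q') : KRp I (Q'.comap φ) := by
  letI := φ.toAlgebra
  haveI : Module.Flat R R' := hφ
  obtain ⟨l', hl', hJl'⟩ := h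
  obtain ⟨m, hmGen, hmlen, hJm⟩ := exists_list_of_kregLoc_atPrime Q' hIQ hl' hJl'
    (φ '' (I : Set R)) rfl
  obtain ⟨f, hfI, hfm⟩ := exists_lift_list φ I m hmGen
  subst hfm
  have hfq : KregLoc (f.map φ) Q'.primeCompl :=
    kregLoc_atPrime_of_length_eq Q' hl' hJl' hJm hmlen
  have hfp : KregLoc f (Q'.comap φ).primeCompl := (kregLoc_comap_iff (B := R') f Q').mp hfq
  have hfle : Ideal.ofList f ≤ I := by
    rw [Ideal.ofList, Ideal.span_le]
    exact fun a ha => hfI a ha
  refine ⟨f, hfp, ?_, ?_⟩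
  · intro x hx
    obtain ⟨b, hb, hbx⟩ := hJm.1 (φ x) (Ideal.mem_map_of_mem _ hx)
    rw [← ofList_map] at hbx
    obtain ⟨s, hs, hsx⟩ := exists_mul_mem_of_mul_mem_map (B := R') (Ideal.ofList f) x Q' b hb hbx
    exact ⟨s, hs, hsx⟩
  · intro x hx
    exact ⟨1, one_mem _, by rw [one_mul]; exact hfle hx⟩

end flat

section equiv

variable {R' : Type u} [CommRing R'] (e : R ≃+* R')

theorem kr_map_ringEquiv_iff (I Q : Ideal R) :
    KR (I.map (e : R →+* R')) (Q.map (e : R →+* R')) ↔ KR I Q := by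
  have hQ : (Q.map (e : R →+* R')).comap (e : R →+* R') = Q :=
    Ideal.comap_map_of_bijective _ e.bijective
  constructor
  · intro h
    have h1 := KR.map_of_flat (e.symm : R' →+* R) (.of_bijective e.symm.bijective)
      (I := I.map (e : R →+* R')) Q (by
        have : Q.comap (e.symm : R' →+* R) = Q.map (e : R →+* R') := Ideal.comap_symm e
        rw [this]; exact h)
    rwa [Ideal.map_map, show ((e.symm : R' →+* R).comp (e : R →+* R')) = RingHom.id R from by
      ext x; simp, Ideal.map_id] at h1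
  · intro h
    exact KR.map_of_flat (e : R →+* R') (.of_bijective e.bijective) _ (by rw [hQ]; exact h)

end equiv

end Groth.Agent.Helper19.KosLoc
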