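import Mathlib
import Groth.Agent.Helper19.KosLoc1

/-!
# `KR` descends along localization away from an element (helper19)
-/

set_option autoImplicit false
set_option linter.unusedSectionVars false
set_option linter.unusedVariables false
set_option linter.style.haveILetI false
universe u

namespace Groth.Agent.Helper19.KosLoc

open Groth.Agent.Lib.Helper16.KzLoc Groth.Agent.Lib.Helper16.KzComp Groth.Agent.Lib.Helper16.QfLci

variable {R : Type u} [CommRing R]

lemma exists_list_of_isLocalization (M : Submonoid R) (T : Type u) [CommRing T] [Algebra R T]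
    [IsLocalization M T] (l : List T) :
    ∃ l₀ : List R, List.Forall₂ (fun y' y => ∃ u, IsUnit u ∧ y' = u * y)
      (l₀.map (algebraMap R T)) l := by
  induction l with
  | nil => exact ⟨[], List.Forall₂.nil⟩
  | cons y t ih =>
    obtain ⟨t₀, ht₀⟩ := ih
    obtain ⟨⟨x, s⟩, hxs⟩ := IsLocalization.surj M y
    refine ⟨x :: t₀, ?_⟩
    rw [List.map_cons]
    refine List.Forall₂.cons ⟨algebraMap R _ s, IsLocalization.map_units _ s, ?_⟩ ht₀
    rw [← hxs, mul_comm]

/-- `KregLoc` is insensitive to multiplying the entries by units. -/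
lemma kregLoc_of_forall₂_unit {l' l : List R}
    (h : List.Forall₂ (fun y' y => ∃ u, IsUnit u ∧ y' = u * y) l' l) (S : Submonoid R)
    (hl : KregLoc l S) : KregLoc l' S := by
  rw [← kreg_iff_kregLoc l S (Localization S)] at hl
  rw [← kreg_iff_kregLoc l' S (Localization S)]
  refine kreg_of_forall₂_unit ?_ hl
  rw [List.forall₂_map_left_iff, List.forall₂_map_right_iff]
  refine h.imp ?_
  rintro a b ⟨u, hu, rfl⟩
  exact ⟨algebraMap R _ u, hu.map _, map_mul _ _ _⟩

theorem KR.of_away (g : R) (T : Type u) [CommRing T] [Algebra R T] [IsLocalization.Away g T]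
    (I : Ideal R) (Q' : Ideal T) [Q'.IsPrime] (h : KR (I.map (algebraMap R T)) Q') :
    KR I (Q'.comap (algebraMap R T)) := by
  haveI : Module.Flat R T := IsLocalization.flat T (Submonoid.powers g)
  obtain ⟨g', hg', l', hl', hI'⟩ := h
  obtain ⟨l₀, hl₀⟩ := exists_list_of_isLocalization (Submonoid.powers g) T l'
  have hl1 : KregLoc (l₀.map (algebraMap R T)) (Submonoid.powers g') :=
    kregLoc_of_forall₂_unit hl₀ _ hl'
  have hof : Ideal.ofList (l₀.map (algebraMap R T)) = Ideal.ofList l' :=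
    ofList_eq_of_forall₂_unit hl₀
  rw [← hof] at hI'
  -- make `g'` come from `R`
  obtain ⟨⟨g₂, s⟩, hgs⟩ := IsLocalization.surj (Submonoid.powers g) g'
  have hsu : IsUnit (algebraMap R T s) := IsLocalization.map_units T s
  have hl2 : KregLoc (l₀.map (algebraMap R T)) (Submonoid.powers (algebraMap R T g₂)) := by
    rw [← hgs]; exact hl1.mul_right _
  have hI2 : LocEq (Submonoid.powers (algebraMap R T g₂)) (I.map (algebraMap R T))
      (Ideal.ofList (l₀.map (algebraMap R T))) := by
    rw [← hgs]; exact hI'.mul_right _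
  have hg₂Q : algebraMap R T g₂ ∉ Q' := by
    rw [← hgs]
    intro hmem
    rcases ‹Q'.IsPrime›.mem_or_mem hmem with h1 | h1
    · exact hg' h1
    · exact ‹Q'.IsPrime›.ne_top (Ideal.eq_top_of_isUnit_mem _ h1 hsu)
  have hgu : IsUnit (algebraMap R T g) := IsLocalization.Away.algebraMap_isUnit g
  have hgQ : algebraMap R T g ∉ Q' := fun h1 =>
    ‹Q'.IsPrime›.ne_top (Ideal.eq_top_of_isUnit_mem _ h1 hgu)
  -- powers of `g * g₂`
  have hpow : ∀ (J : Ideal R) (x : R) (k n : ℕ), g ^ k * (g₂ ^ n * x) ∈ J →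
      ∃ s ∈ Submonoid.powers (g * g₂), s * x ∈ J := by
    intro J x k n hx
    refine ⟨(g * g₂) ^ (k + n), ⟨_, rfl⟩, ?_⟩
    have : (g * g₂) ^ (k + n) * x = (g ^ n * g₂ ^ k) * (g ^ k * (g₂ ^ n * x)) := by ring
    rw [this]
    exact Ideal.mul_mem_left _ _ hx
  have hkey : ∀ (J₁ J₂ : Ideal R), (∀ y ∈ J₁.map (algebraMap R T),
      ∃ t ∈ Submonoid.powers (algebraMap R T g₂), t * y ∈ J₂.map (algebraMap R T)) →
      ∀ x ∈ J₁, ∃ s ∈ Submonoid.powers (g * g₂), s * x ∈ J₂ := by
    intro J₁ J₂ hJ x hx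
    obtain ⟨t, ht, hn⟩ := hJ _ (Ideal.mem_map_of_mem _ hx)
    obtain ⟨n, rfl⟩ := (Submonoid.mem_powers_iff _ _).mp ht
    rw [← map_pow, ← map_mul,
      IsLocalization.algebraMap_mem_map_algebraMap_iff (Submonoid.powers g)] at hn
    obtain ⟨s, hs, hk⟩ := hn
    obtain ⟨k, rfl⟩ := (Submonoid.mem_powers_iff _ _).mp hs
    exact hpow J₂ x k n hk
  refine ⟨g * g₂, ?_, l₀, ?_, ?_, ?_⟩
  · rw [Ideal.mem_comap, map_mul]
    intro hmem
    rcases ‹Q'.IsPrime›.mem_or_mem hmem with h1 | h1
    · exact hgQ h1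
    · exact hg₂Q h1
  · rw [kregLoc_powers_iff]
    intro p hp
    have hgp : g ∉ p.asIdeal := fun h1 => hp (Ideal.mul_mem_right _ _ h1)
    have hg₂p : g₂ ∉ p.asIdeal := fun h1 => hp (Ideal.mul_mem_left _ _ h1)
    have hd : Disjoint (Submonoid.powers g : Set R) (p.asIdeal : Set R) := by
      rw [Set.disjoint_left]
      rintro _ ⟨n, rfl⟩ hmem
      exact hgp (p.2.mem_of_pow_mem n hmem)
    haveI hp' : (p.asIdeal.map (algebraMap R T)).IsPrime :=
      IsLocalization.isPrime_of_isPrime_disjoint (Submonoid.powers g) T _ p.2 hd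
    have hcm : (p.asIdeal.map (algebraMap R T)).comap (algebraMap R T) = p.asIdeal :=
      IsLocalization.under_map_of_isPrime_disjoint (Submonoid.powers g) T p.2 hd
    have h1 : KregLoc (l₀.map (algebraMap R T)) (p.asIdeal.map (algebraMap R T)).primeCompl := by
      refine hl2.mono (powers_le_primeCompl ?_)
      intro hmem
      apply hg₂p
      rw [← hcm]
      exact hmem
    have h2 := (kregLoc_comap_iff (B := T) l₀ (p.asIdeal.map (algebraMap R T))).mp h1
    refine h2.mono ?_
    intro x hx hxp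
    apply hx
    rw [hcm]
    exact hxp
  · refine hkey I (Ideal.ofList l₀) ?_
    rw [ofList_map]
    exact hI2.1
  · refine hkey (Ideal.ofList l₀) I ?_
    rw [ofList_map]
    exact hI2.2

end Groth.Agent.Helper19.KosLoc
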