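import Mathlib
import Groth.Agent.Helper19.KosLoc2
import Groth.Agent.Lib.Helper16.KzFlat4

/-!
# Base change of `KR` for ideals with flat quotient (helper19)
-/

set_option autoImplicit false
set_option linter.unusedSectionVars false
set_option linter.unusedVariables false
set_option linter.style.haveILetI false
universe u

namespace Groth.Agent.Helper19.KosLoc

open Groth.Agent.Lib.Helper16.KzLoc Groth.Agent.Lib.Helper16.KzComp Groth.Agent.Lib.Helper16.QfLci
open TensorProduct

section tensor

variable (A P A' : Type u) [CommRing A] [CommRing P] [CommRing A'] [Algebra A P] [Algebra A A']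
  [Module.Flat A P]

theorem KR.tensor (I : Ideal P) [Module.Flat A (P ⧸ I)] (Q' : Ideal (P ⊗[A] A'))
    (h : KR I (Q'.comap (algebraMap P (P ⊗[A] A')))) :
    KR (I.map (algebraMap P (P ⊗[A] A'))) Q' := by
  obtain ⟨g, hg, l, hl, hI⟩ := h
  refine ⟨algebraMap P (P ⊗[A] A') g, hg, l.map (algebraMap P (P ⊗[A] A')),
    Groth.Agent.Lib.Helper16.KzFlat.kreg_tensor_away A P A' g l I hl hI, ?_⟩
  have h1 := locEq_map (algebraMap P (P ⊗[A] A')) hI
  rw [Submonoid.map_powers, ofList_map] at h1
  exact h1

end tensor

section pushout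

theorem KR.baseChange (A P A' P' : Type u) [CommRing A] [CommRing P] [CommRing A'] [CommRing P']
    [Algebra A P] [Algebra A A'] [Algebra A P'] [Algebra P P'] [Algebra A' P']
    [IsScalarTower A P P'] [IsScalarTower A A' P'] [Algebra.IsPushout A P A' P']
    [Module.Flat A P] (I : Ideal P) [Module.Flat A (P ⧸ I)] (Q' : Ideal P')
    (h : KR I (Q'.comap (algebraMap P P'))) : KR (I.map (algebraMap P P')) Q' := by
  let e : P ⊗[A] A' ≃ₐ[P] P' := Algebra.IsPushout.equiv A P A' P'
  have he : (e.toRingEquiv : P ⊗[A] A' →+* P').comp (algebraMap P (P ⊗[A] A')) =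
      algebraMap P P' := by
    ext x
    exact e.commutes x
  have h1 : KR (I.map (algebraMap P (P ⊗[A] A')))
      (Q'.comap (e.toRingEquiv : P ⊗[A] A' →+* P')) := by
    apply KR.tensor
    rw [Ideal.comap_comap, he]
    exact h
  have h2 := KR.map_of_flat (e.toRingEquiv : P ⊗[A] A' →+* P')
    (.of_bijective e.bijective) Q' h1
  rwa [Ideal.map_map, he] at h2

end pushout

end Groth.Agent.Helper19.KosLoc
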