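import Mathlib
import Groth.Agent.Lib27.Sch.LocalCore
import Groth.Agent.Lib.Helper23.QFFlat

/-!
# Lifting regular sequences from the fibre, non-Noetherian form (helper19)

`A → B` finitely presented, `Bq` the localization of `B` at a prime `q`.  A sequence in `Bq` which is
weakly regular on `N / p N` (`p = q ∩ A`) for a finitely presented `A`-flat `Bq`-module `N` is weakly
regular on `N` with `A`-flat quotient.  Nakayama form of "generators of the fibre ideal generate".
-/

set_option autoImplicit false
set_option linter.unusedSectionVars false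
set_option linter.unusedVariables false
set_option linter.style.haveILetI false
universe u

open TensorProduct Function Pointwise

namespace Groth.Agent.Helper19.KosLoc

open Groth.Agent.Lib27.LocalCore Groth.Agent.Lib.Helper23.QFFlat

section RS

variable {A : Type u} [CommRing A] {B : Type u} [CommRing B] [Algebra A B] (q : Ideal B) [q.IsPrime]
  (Bq : Type u) [CommRing Bq] [Algebra B Bq] [Algebra A Bq] [IsScalarTower A B Bq]
  [IsLocalization.AtPrime Bq q]
  [Algebra.FinitePresentation A B]

/-- **Regular sequences on the fibre are regular with flat quotient.** -/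
theorem isWeaklyRegular_and_flat_ofList (hs : List Bq) :
    ∀ (N : Type u) [AddCommGroup N] [Module Bq N] [Module A N] [IsScalarTower A Bq N]
      [Module.FinitePresentation Bq N] [Module.Flat A N],
      RingTheory.Sequence.IsWeaklyRegular
        (N ⧸ (fibIdeal (A := A) q Bq) • (⊤ : Submodule Bq N)) hs →
      RingTheory.Sequence.IsWeaklyRegular N hs ∧
        Module.Flat A (N ⧸ Ideal.ofList hs • (⊤ : Submodule Bq N)) := by
  induction hs with
  | nil =>
    intro N _ _ _ _ _ _ _
    have h0 : (Ideal.ofList ([] : List Bq) • (⊤ : Submodule Bq N)) = ⊥ := by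
      rw [Ideal.ofList_nil, Submodule.bot_smul]
    exact ⟨RingTheory.Sequence.IsWeaklyRegular.nil Bq N,
      Module.Flat.of_linearEquiv ((Submodule.quotEquivOfEqBot _ h0).restrictScalars A)⟩
  | cons h t ih =>
    intro N _ _ _ _ _ _ hreg
    rw [RingTheory.Sequence.isWeaklyRegular_cons_iff] at hreg
    obtain ⟨hreg1, hrest⟩ := hreg
    set I' := fibIdeal (A := A) q Bq with hI'
    obtain ⟨uu, huu⟩ : ∃ uu : N →ₗ[Bq] N, ∀ x, uu x = h • x :=
      ⟨LinearMap.lsmul Bq N h, fun x => rfl⟩
    have hrange : LinearMap.range uu = h • (⊤ : Submodule Bq N) := by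
      ext y
      rw [LinearMap.mem_range, Submodule.mem_smul_pointwise_iff_exists]
      constructor
      · rintro ⟨x, rfl⟩; exact ⟨x, trivial, (huu x).symm⟩
      · rintro ⟨x, _, rfl⟩; exact ⟨x, huu x⟩
    have key := fibInj (A := A) q Bq uu (by
      intro x hx
      rw [huu] at hx
      have h1 : (Submodule.Quotient.mk (h • x) : N ⧸ I' • (⊤ : Submodule Bq N)) = 0 :=
        (Submodule.Quotient.mk_eq_zero _).mpr hx
      rw [Submodule.Quotient.mk_smul] at h1
      have h2 : (Submodule.Quotient.mk x : N ⧸ I' • (⊤ : Submodule Bq N)) = 0 :=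
        hreg1 (show h • _ = h • (0 : N ⧸ I' • (⊤ : Submodule Bq N)) by rw [h1, smul_zero])
      exact (Submodule.Quotient.mk_eq_zero _).mp h2)
    have hsmul : IsSMulRegular N h := by
      intro x y hxy
      apply key.1
      rw [huu, huu]
      exact hxy
    haveI hflat1 : Module.Flat A (QuotSMulTop h N) := by
      haveI := key.2
      exact Module.Flat.of_linearEquiv
        ((Submodule.quotEquivOfEq _ _ hrange).restrictScalars A).symm
    haveI : Module.FinitePresentation Bq (QuotSMulTop h N) := by
      refine Module.finitePresentation_of_surjective (Submodule.mkQ _)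
        (Submodule.mkQ_surjective _) ?_
      rw [Submodule.ker_mkQ, ← hrange, LinearMap.range_eq_map]
      exact (Module.Finite.fg_top).map _
    have hrest' : RingTheory.Sequence.IsWeaklyRegular
        ((QuotSMulTop h N) ⧸ I' • (⊤ : Submodule Bq (QuotSMulTop h N))) t :=
      ((quotQuotSwap I' h N).isWeaklyRegular_congr t).mp hrest
    obtain ⟨hih1, hih2⟩ := ih (QuotSMulTop h N) hrest'
    refine ⟨(RingTheory.Sequence.isWeaklyRegular_cons_iff N h t).mpr ⟨hsmul, hih1⟩, ?_⟩
    haveI := hih2
    exact Module.Flat.of_linearEquiv
      ((Submodule.quotOfListConsSMulTopEquivQuotSMulTopInner N h t).restrictScalars A)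

end RS

end Groth.Agent.Helper19.KosLoc
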