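import Mathlib
import Groth.Agent.Helper19.KosLoc4
import Groth.Agent.Lib.Helper16.KzFlat6

/-!
# The local ring of a fibre as a quotient of the local ring of the total space (helper19)

For a prime `Qb` of the fibre `κ(p) ⊗[A] P` with contraction `Q` to `P`, the ring
`P_Q / p P_Q` is the localization of the fibre at `Qb`, compatibly with the maps from `P`.
-/

set_option autoImplicit false
set_option linter.unusedSectionVars false
set_option linter.unusedVariables false
set_option linter.style.haveILetI false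
universe u

open TensorProduct Function Pointwise

namespace Groth.Agent.Helper19.KosLoc

open Groth.Agent.Lib27.LocalCore

section nak

variable {A : Type u} [CommRing A] {B : Type u} [CommRing B] [Algebra A B] (q : Ideal B) [q.IsPrime]
  (Bq : Type u) [CommRing Bq] [Algebra B Bq] [Algebra A Bq] [IsScalarTower A B Bq]
  [IsLocalization.AtPrime Bq q]

/-- Nakayama: a finitely generated ideal with `A`-flat quotient is generated by any subideal with
the same image in the fibre. -/
theorem eq_of_map_mk_eq (I' J : Ideal Bq) (hJI : J ≤ I') (hfg : I'.FG) [Module.Flat A (Bq ⧸ I')]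
    (hmap : I'.map (Ideal.Quotient.mk (fibIdeal (A := A) q Bq)) =
      J.map (Ideal.Quotient.mk (fibIdeal (A := A) q Bq))) : I' = J := by
  haveI : IsLocalRing Bq := IsLocalization.AtPrime.isLocalRing Bq q
  refine le_antisymm ?_ hJI
  have h1 := Groth.Agent.Lib.Helper16.KzFlat.le_sup_mul_of_map_eq_of_flat
    (q.comap (algebraMap A B)) I' J hJI hmap
  refine Submodule.le_of_le_smul_of_le_jacobson_bot hfg ?_ h1
  rw [IsLocalRing.jacobson_eq_maximalIdeal ⊥ bot_ne_top]
  exact fibIdeal_le_maximalIdeal q Bq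

end nak

section fibre

variable {A : Type u} [CommRing A] {P : Type u} [CommRing P] [Algebra A P] (p : Ideal A) [p.IsPrime]
  (Qb : Ideal (p.Fiber P)) [Qb.IsPrime]

/-- the inclusion of `P` into the fibre -/
noncomputable abbrev incl : P →+* p.Fiber P :=
  (Algebra.TensorProduct.includeRight : P →ₐ[A] p.Fiber P).toRingHom

lemma incl_algebraMap (a : A) : incl p (algebraMap A P a) = algebraMap A (p.Fiber P) a := by
  exact (Algebra.TensorProduct.includeRight : P →ₐ[A] p.Fiber P).commutes a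

lemma comap_incl_comap : (Qb.comap (incl p)).comap (algebraMap A P) = p := by
  have h1 : Qb.LiesOver p := inferInstance
  rw [Ideal.comap_comap]
  have h2 : (incl (P := P) p).comp (algebraMap A P) = algebraMap A (p.Fiber P) := by
    ext a; exact incl_algebraMap p a
  rw [h2]
  exact (Ideal.over_def Qb p).symm

/-- the local ring of the total space at the contraction of `Qb` -/
abbrev Bq : Type u := Localization.AtPrime (Qb.comap (incl p))

/-- `P_Q / p P_Q` -/
abbrev FibLoc : Type u := Bq p Qb ⧸ fibIdeal (A := A) (Qb.comap (incl p)) (Bq p Qb)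

lemma algebraMap_fibLoc_eq_zero {a : A} (ha : a ∈ p) : algebraMap A (FibLoc p Qb) a = 0 := by
  change Ideal.Quotient.mk _ (algebraMap A (Bq p Qb) a) = 0
  rw [Ideal.Quotient.eq_zero_iff_mem]
  apply Ideal.mem_map_of_mem
  rw [comap_incl_comap]
  exact ha

lemma isUnit_algebraMap_bq {s : P} (hs : s ∉ Qb.comap (incl p)) :
    IsUnit (algebraMap P (Bq p Qb) s) :=
  IsLocalization.map_units (Bq p Qb) (⟨s, hs⟩ : (Qb.comap (incl p)).primeCompl)

lemma isUnit_algebraMap_fibLoc {a : A} (ha : a ∉ p) : IsUnit (algebraMap A (FibLoc p Qb) a) := by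
  change IsUnit (Ideal.Quotient.mk _ (algebraMap A (Bq p Qb) a))
  apply IsUnit.map
  rw [IsScalarTower.algebraMap_apply A P (Bq p Qb)]
  apply isUnit_algebraMap_bq
  intro h
  apply ha
  rw [← comap_incl_comap p Qb]
  exact h

/-- the residue field maps to `P_Q / p P_Q` -/
noncomputable def θ₁ : p.ResidueField →ₐ[A] FibLoc p Qb :=
  Ideal.ResidueField.liftₐ p (Algebra.ofId A (FibLoc p Qb))
    (fun a ha => algebraMap_fibLoc_eq_zero p Qb ha)
    (fun a ha => isUnit_algebraMap_fibLoc p Qb ha)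

/-- `P` maps to `P_Q / p P_Q` -/
noncomputable def θ₂ : P →ₐ[A] FibLoc p Qb :=
  (Ideal.Quotient.mkₐ A _).comp (IsScalarTower.toAlgHom A P (Bq p Qb))

/-- the fibre maps to `P_Q / p P_Q` -/
noncomputable def θ : p.Fiber P →ₐ[A] FibLoc p Qb :=
  Algebra.TensorProduct.lift (θ₁ p Qb) (θ₂ p Qb) (fun _ _ => Commute.all _ _)

lemma θ_one_tmul (s : P) :
    θ p Qb (1 ⊗ₜ s) = Ideal.Quotient.mk _ (algebraMap P (Bq p Qb) s) := by
  rw [θ, Algebra.TensorProduct.lift_tmul, map_one, one_mul]
  rfl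

lemma θ_incl (s : P) : θ p Qb (incl p s) = Ideal.Quotient.mk _ (algebraMap P (Bq p Qb) s) :=
  θ_one_tmul p Qb s

lemma one_tmul_notMem {s : P} (hs : s ∉ Qb.comap (incl p)) : (1 : p.ResidueField) ⊗ₜ[A] s ∉ Qb :=
  hs

lemma algebraMap_fiber_notMem {r : A} (hr : r ∉ p) : algebraMap A (p.Fiber P) r ∉ Qb := by
  intro h
  apply hr
  rw [Ideal.over_def Qb p]
  exact h

lemma isUnit_θ_one_tmul {s : P} (hs : s ∉ Qb.comap (incl p)) : IsUnit (θ p Qb (1 ⊗ₜ s)) := by
  rw [θ_one_tmul]
  exact (isUnit_algebraMap_bq p Qb hs).map _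

lemma one_tmul_eq_zero_of_mem {j : P} (hj : j ∈ p.map (algebraMap A P)) :
    (1 : p.ResidueField) ⊗ₜ[A] j = 0 := by
  induction hj using Submodule.span_induction with
  | mem x hx =>
    obtain ⟨a, ha, rfl⟩ := hx
    rw [Algebra.algebraMap_eq_smul_one, TensorProduct.tmul_smul, TensorProduct.smul_tmul',
      Algebra.smul_def, mul_one, Ideal.algebraMap_residueField_eq_zero.mpr ha,
      TensorProduct.zero_tmul]
  | zero => rw [TensorProduct.tmul_zero]
  | add x y _ _ hx hy => rw [TensorProduct.tmul_add, hx, hy, add_zero]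
  | smul c x _ hx =>
    rw [smul_eq_mul]
    have : (1 : p.ResidueField) ⊗ₜ[A] (c * x) = (1 ⊗ₜ c) * (1 ⊗ₜ x) := by
      rw [Algebra.TensorProduct.tmul_mul_tmul, one_mul]
    rw [this, hx, mul_zero]

theorem isLocalization_fibLoc :
    @IsLocalization.AtPrime (p.Fiber P) _ (FibLoc p Qb) _ (θ p Qb).toRingHom.toAlgebra Qb _ := by
  letI : Algebra (p.Fiber P) (FibLoc p Qb) := (θ p Qb).toRingHom.toAlgebra
  have halg : ∀ x : p.Fiber P, algebraMap (p.Fiber P) (FibLoc p Qb) x = θ p Qb x := fun _ => rfl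
  have hsm : ∀ (r : A) (x : p.Fiber P), θ p Qb (r • x) = algebraMap A (FibLoc p Qb) r * θ p Qb x := by
    intro r x
    rw [map_smul, Algebra.smul_def]
  refine ⟨?_, ?_, ?_⟩
  · rintro ⟨y, hy⟩
    rw [halg]
    obtain ⟨r, hr, s, hrs⟩ := Ideal.Fiber.exists_smul_eq_one_tmul p y
    have hs : s ∉ Qb.comap (incl p) := by
      intro hs
      have h1 : r • y ∈ Qb := by rw [hrs]; exact hs
      rw [Algebra.smul_def] at h1
      rcases ‹Qb.IsPrime›.mem_or_mem h1 with h2 | h2
      · exact algebraMap_fiber_notMem p Qb hr h2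
      · exact hy h2
    have h2 := isUnit_θ_one_tmul p Qb hs
    rw [← hrs, hsm] at h2
    exact isUnit_of_mul_isUnit_right h2
  · intro z
    obtain ⟨b, rfl⟩ := Ideal.Quotient.mk_surjective z
    obtain ⟨⟨a, s⟩, has⟩ := IsLocalization.surj (Qb.comap (incl p)).primeCompl b
    refine ⟨⟨1 ⊗ₜ a, ⟨1 ⊗ₜ (s : P), one_tmul_notMem p Qb s.2⟩⟩, ?_⟩
    rw [halg, halg]
    change _ * θ p Qb (1 ⊗ₜ (s : P)) = θ p Qb (1 ⊗ₜ a)
    rw [θ_one_tmul, θ_one_tmul, ← map_mul]
    exact congrArg _ has
  · intro x y hxy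
    rw [halg, halg] at hxy
    have hw : θ p Qb (x - y) = 0 := by rw [map_sub, hxy, sub_self]
    obtain ⟨r, hr, s, hrs⟩ := Ideal.Fiber.exists_smul_eq_one_tmul p (x - y)
    have h1 : θ p Qb (1 ⊗ₜ s) = 0 := by rw [← hrs, hsm, hw, mul_zero]
    rw [θ_one_tmul, Ideal.Quotient.eq_zero_iff_mem] at h1
    have h2 : fibIdeal (A := A) (Qb.comap (incl p)) (Bq p Qb) =
        (p.map (algebraMap A P)).map (algebraMap P (Bq p Qb)) := by
      change ((Qb.comap (incl p)).comap (algebraMap A P)).map (algebraMap A (Bq p Qb)) = _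
      rw [comap_incl_comap, Ideal.map_map, ← IsScalarTower.algebraMap_eq]
    rw [h2, IsLocalization.algebraMap_mem_map_algebraMap_iff (Qb.comap (incl p)).primeCompl] at h1
    obtain ⟨t, ht, hts⟩ := h1
    have h3 : (1 : p.ResidueField) ⊗ₜ[A] (t * s) = 0 := one_tmul_eq_zero_of_mem p hts
    refine ⟨⟨algebraMap A (p.Fiber P) r * 1 ⊗ₜ t, ?_⟩, ?_⟩
    · intro hmem
      rcases ‹Qb.IsPrime›.mem_or_mem hmem with h4 | h4
      · exact algebraMap_fiber_notMem p Qb hr h4
      · exact one_tmul_notMem p Qb ht h4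
    · rw [← sub_eq_zero, ← mul_sub]
      change algebraMap A (p.Fiber P) r * 1 ⊗ₜ t * (x - y) = 0
      rw [mul_assoc, mul_left_comm, ← Algebra.smul_def, hrs, Algebra.TensorProduct.tmul_mul_tmul,
        one_mul, h3]

end fibre

end Groth.Agent.Helper19.KosLoc
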