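import Mathlib
import Groth.Agent.Helper19.KosLoc3
import Groth.Agent.Helper19.KosLoc5
import Groth.Agent.Lib.Helper16.TorPow
import Groth.Agent.Lib.Helper16.KzComp4
import Groth.Agent.Lib.Helper23.QuasiRegReg
import Groth.Agent.Lib.Helper18.FlA

/-!
# Koszul-regularity at a point of the fibre implies Koszul-regularity at the point (helper19)

`A → P` flat of finite presentation, `I ⊆ P` finitely generated with `P / I` flat over `A`.  If the
extension of `I` to the fibre `κ(p) ⊗ P` is generated by a Koszul-regular sequence at a prime `Qb`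
then `I` is generated by a Koszul-regular sequence at the contraction of `Qb` (no Noetherian
hypotheses).
-/

set_option autoImplicit false
set_option linter.unusedSectionVars false
set_option linter.unusedVariables false
set_option linter.style.haveILetI false
universe u

open TensorProduct Function Pointwise

namespace Groth.Agent.Helper19.KosLoc

open Groth.Agent.Lib27.LocalCore Groth.Agent.Lib.Helper16.KzLoc Groth.Agent.Lib.Helper16.KzComp

section flatquot

variable {A B : Type u} [CommRing A] [CommRing B] [Algebra A B]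

/-- the localization of an `A`-flat quotient is `A`-flat. -/
theorem flat_quotient_map_of_flat (T : Submonoid B) (L : Type u) [CommRing L]
    [Algebra B L] [Algebra A L] [IsScalarTower A B L] [IsLocalization T L] (J : Ideal B)
    [Module.Flat A (B ⧸ J)] : Module.Flat A (L ⧸ J.map (algebraMap B L)) := by
  haveI : IsLocalizedModule T (Algebra.linearMap B L) := inferInstance
  have hN : (J : Submodule B B).localized' L T (Algebra.linearMap B L) =
      J.map (algebraMap B L) := Ideal.localized'_eq_map L T J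
  have e := (IsLocalizedModule.iso T
    ((J : Submodule B B).toLocalizedQuotient' L T (Algebra.linearMap B L)))
  have e2 := e.restrictScalars A
  have e3 : (L ⧸ (J : Submodule B B).localized' L T (Algebra.linearMap B L))
      ≃ₗ[A] (L ⧸ J.map (algebraMap B L)) :=
    (Submodule.quotEquivOfEq _ _ hN).restrictScalars A
  haveI : Module.Flat A (LocalizedModule T (B ⧸ J)) :=
    Groth.Agent.Lib.Helper18.Fl.flat_localizedModule T
  exact Module.Flat.of_linearEquiv (e2.trans e3).symm

end flatquot

section main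

variable {A : Type u} [CommRing A] {P : Type u} [CommRing P] [Algebra A P]
  [Algebra.FinitePresentation A P] [Module.Flat A P] (p : Ideal A) [p.IsPrime]
  (Qb : Ideal (p.Fiber P)) [Qb.IsPrime]

set_option maxHeartbeats 800000 in
theorem KRp.of_fiber (I : Ideal P) (hI : I.FG) [Module.Flat A (P ⧸ I)]
    (hIQ : I ≤ Qb.comap (incl p)) (h : KRp (I.map (incl p)) Qb) : KRp I (Qb.comap (incl p)) := by
  classical
  letI algF : Algebra (p.Fiber P) (FibLoc p Qb) := (θ p Qb).toRingHom.toAlgebra
  haveI hloc : IsLocalization.AtPrime (FibLoc p Qb) Qb := isLocalization_fibLoc p Qb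
  have halg : ∀ x : p.Fiber P, algebraMap (p.Fiber P) (FibLoc p Qb) x = θ p Qb x := fun _ => rfl
  set Q : Ideal P := Qb.comap (incl p) with hQ
  set fI := fibIdeal (A := A) Q (Bq p Qb) with hfI
  obtain ⟨l', hl', hJl'⟩ := h
  have hIQb : I.map (incl p) ≤ Qb := Ideal.map_le_iff_le_comap.mpr hIQ
  obtain ⟨m, hmGen, hmlen, hJm⟩ := exists_list_of_kregLoc_atPrime Qb hIQb hl' hJl'
    (incl p '' (I : Set P)) rfl
  obtain ⟨f, hfI', hfm⟩ := exists_lift_list (incl p) I m hmGen
  subst hfm
  have hfq : KregLoc (f.map (incl p)) Qb.primeCompl :=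
    kregLoc_atPrime_of_length_eq Qb hl' hJl' hJm hmlen
  have hfle : Ideal.ofList f ≤ I := by
    rw [Ideal.ofList, Ideal.span_le]
    exact fun a ha => hfI' a ha
  -- the sequence in `P_Q` and in `P_Q / p P_Q`
  set lB : List (Bq p Qb) := f.map (algebraMap P (Bq p Qb)) with hlB
  set lF : List (FibLoc p Qb) := lB.map (Ideal.Quotient.mk fI) with hlF
  have hlF' : (f.map (incl p)).map (algebraMap (p.Fiber P) (FibLoc p Qb)) = lF := by
    rw [hlF, hlB, List.map_map, List.map_map]
    refine List.map_congr_left fun s _ => ?_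
    exact θ_incl p Qb s
  have hkF : LCI.IsKoszulRegularSeq (FibLoc p Qb) lF := by
    rw [← hlF']
    exact (kreg_iff_kregLoc (f.map (incl p)) Qb.primeCompl (FibLoc p Qb)).mpr hfq
  -- `P_Q / p P_Q` is a Noetherian local ring
  haveI : IsLocalRing (FibLoc p Qb) := IsLocalization.AtPrime.isLocalRing (FibLoc p Qb) Qb
  haveI : IsNoetherianRing (p.Fiber P) :=
    Algebra.FiniteType.isNoetherianRing p.ResidueField (p.Fiber P)
  haveI : IsNoetherianRing (FibLoc p Qb) :=
    IsLocalization.isNoetherianRing Qb.primeCompl (FibLoc p Qb) inferInstance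
  have hmemF : ∀ x ∈ lF, x ∈ IsLocalRing.maximalIdeal (FibLoc p Qb) := by
    intro x hx
    rw [← hlF', List.map_map] at hx
    obtain ⟨s, hs, rfl⟩ := List.mem_map.mp hx
    rw [Function.comp_apply, IsLocalization.AtPrime.to_map_mem_maximal_iff (FibLoc p Qb) Qb]
    exact hIQ (hfI' s hs)
  have hqF := Groth.Agent.Lib.Helper16.TorPow.isQuasiRegular_of_kreg lF hkF
  have hwF : RingTheory.Sequence.IsWeaklyRegular (FibLoc p Qb) lF := by
    have := Groth.Agent.Lib.Helper23.QRR.isWeaklyRegular_of_isQuasiRegular lF.length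
      (FibLoc p Qb) lF.get (fun i => hmemF _ (List.get_mem lF i)) hqF
    rwa [List.ofFn_get] at this
  -- as a module over `P_Q`
  have hwB : RingTheory.Sequence.IsWeaklyRegular (FibLoc p Qb) lB := by
    rw [← RingTheory.Sequence.isWeaklyRegular_map_algebraMap_iff (FibLoc p Qb) (FibLoc p Qb) lB]
    exact hwF
  have htop : fI • (⊤ : Submodule (Bq p Qb) (Bq p Qb)) = fI := by
    rw [smul_eq_mul, Ideal.mul_top]
  have hwB' : RingTheory.Sequence.IsWeaklyRegular
      ((Bq p Qb) ⧸ fI • (⊤ : Submodule (Bq p Qb) (Bq p Qb))) lB :=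
    ((Submodule.quotEquivOfEq _ _ htop).isWeaklyRegular_congr lB).mpr hwB
  haveI : Module.Flat A (Bq p Qb) := by
    haveI : Module.Flat P (Bq p Qb) := IsLocalization.flat (Bq p Qb) Q.primeCompl
    exact Module.Flat.trans A P (Bq p Qb)
  obtain ⟨hreg, -⟩ := isWeaklyRegular_and_flat_ofList (A := A) Q (Bq p Qb) lB (Bq p Qb) hwB'
  have hkB : LCI.IsKoszulRegularSeq (Bq p Qb) lB := kreg_of_isWeaklyRegular lB hreg
  refine ⟨f, (kreg_iff_kregLoc f Q.primeCompl (Bq p Qb)).mp hkB, ?_⟩
  -- the ideals
  rw [← map_eq_map_iff Q.primeCompl (Bq p Qb)]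
  haveI : Module.Flat A ((Bq p Qb) ⧸ I.map (algebraMap P (Bq p Qb))) :=
    flat_quotient_map_of_flat Q.primeCompl (Bq p Qb) I
  refine eq_of_map_mk_eq (A := A) Q (Bq p Qb) _ _ (Ideal.map_mono hfle) (hI.map _) ?_
  -- equality in the fibre
  have h1 := (map_eq_map_iff Qb.primeCompl (FibLoc p Qb) _ _).mpr hJm
  have hcomp : (algebraMap (p.Fiber P) (FibLoc p Qb)).comp (incl p) =
      (Ideal.Quotient.mk fI).comp (algebraMap P (Bq p Qb)) := by
    ext s
    exact θ_incl p Qb s
  rw [← ofList_map, Ideal.map_map, Ideal.map_map, hcomp] at h1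
  rw [Ideal.map_map, Ideal.map_map]
  exact h1

end main

end Groth.Agent.Helper19.KosLoc
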