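import Mathlib
import Groth.Agent.Helper19.KosLoc6

/-!
# Koszul-regularity at a point of a geometric fibre (helper19)
-/

set_option autoImplicit false
set_option linter.unusedSectionVars false
set_option linter.unusedVariables false
set_option linter.style.haveILetI false
universe u

open TensorProduct Function Pointwise

namespace Groth.Agent.Helper19.KosLoc

theorem KRp.congr_prime {R : Type u} [CommRing R] {I Q Q' : Ideal R} [Q.IsPrime] [Q'.IsPrime]
    (h : Q = Q') (hk : KRp I Q) : KRp I Q' := by
  subst h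
  exact hk

theorem KR.congr_prime {R : Type u} [CommRing R] {I Q Q' : Ideal R}
    (h : Q = Q') (hk : KR I Q) : KR I Q' := by
  subst h
  exact hk

section field

variable {A : Type u} [CommRing A] {P : Type u} [CommRing P] [Algebra A P]
  [Algebra.FinitePresentation A P] [Module.Flat A P]
  (K : Type u) [Field K] [Algebra A K]

/-- the inclusion of `P` into `K ⊗[A] P` -/
noncomputable abbrev inclK : P →+* K ⊗[A] P :=
  (Algebra.TensorProduct.includeRight : P →ₐ[A] K ⊗[A] P).toRingHom

theorem KRp.of_field_fiber (QK : Ideal (K ⊗[A] P)) [QK.IsPrime] (I : Ideal P) (hI : I.FG)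
    [Module.Flat A (P ⧸ I)] (hIQ : I ≤ QK.comap (inclK K))
    (h : KRp (I.map (inclK K)) QK) : KRp I (QK.comap (inclK K)) := by
  set p : Ideal A := RingHom.ker (algebraMap A K) with hp
  haveI : p.IsPrime := RingHom.ker_isPrime _
  let ρ : p.ResidueField →ₐ[A] K := Ideal.ResidueField.liftₐ p (Algebra.ofId A K)
    (fun a ha => ha)
    (fun a ha => by
      rw [Submonoid.mem_comap]
      exact (isUnit_iff_ne_zero.mpr fun h0 => ha h0))
  let Φ : p.Fiber P →ₐ[A] K ⊗[A] P := Algebra.TensorProduct.map ρ (AlgHom.id A P)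
  have hρ : ρ.toRingHom.Flat := RingHom.Flat.of_isField (Field.toIsField _) _
  have hΦ : Φ.toRingHom.Flat :=
    RingHom.Flat.tensorProductMap (f := ρ) (g := AlgHom.id A P) hρ (RingHom.Flat.id P)
  have hcomp : Φ.toRingHom.comp (incl p) = inclK K := by
    ext s
    change Φ (1 ⊗ₜ s) = 1 ⊗ₜ s
    rw [Algebra.TensorProduct.map_tmul, map_one]
    rfl
  have hQ : (QK.comap Φ.toRingHom).comap (incl p) = QK.comap (inclK K) := by
    rw [Ideal.comap_comap, hcomp]
  have h1 : KRp (I.map (incl p)) (QK.comap Φ.toRingHom) := by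
    apply KRp.of_map_of_flat Φ.toRingHom hΦ QK
    · rw [Ideal.map_map, hcomp]
      exact Ideal.map_le_iff_le_comap.mpr hIQ
    · rw [Ideal.map_map, hcomp]
      exact h
  have h2 := KRp.of_fiber p (QK.comap Φ.toRingHom) I hI (by rw [hQ]; exact hIQ) h1
  exact KRp.congr_prime hQ h2

end field

end Groth.Agent.Helper19.KosLoc
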