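import Mathlib
import Groth.Agent.Lib.Helper1.FlatStage2

/-!
# Descending flatness of a presented algebra and of a quotient of it to a finitely generated
subring of coefficients (helper19)
-/

set_option autoImplicit false
set_option linter.unusedSectionVars false
set_option linter.unusedVariables false
set_option linter.style.haveILetI false
universe u

open TensorProduct Function MvPolynomial

namespace Groth.Agent.Helper19.KosLoc

open Groth.Agent.Lib.Helper18.Fl Groth.Agent.Lib27.BCPres Groth.Agent.Lib.Helper1.FlatStage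

lemma range_append {α : Type*} {m n : ℕ} (a : Fin m → α) (b : Fin n → α) :
    Set.range (Fin.append a b) = Set.range a ∪ Set.range b := by
  ext x
  constructor
  · rintro ⟨i, rfl⟩
    refine Fin.addCases (fun i => ?_) (fun i => ?_) i
    · rw [Fin.append_left]; exact Or.inl ⟨i, rfl⟩
    · rw [Fin.append_right]; exact Or.inr ⟨i, rfl⟩
  · rintro (⟨i, rfl⟩ | ⟨i, rfl⟩)
    · exact ⟨Fin.castAdd n i, Fin.append_left a b i⟩
    · exact ⟨Fin.natAdd m i, Fin.append_right a b i⟩

section pres

variable {A₀ : Type u} [CommRing A₀] {n m : ℕ}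

/-- the presented module of length-one vectors is the quotient ring -/
noncomputable def presEquivQuot (gen : Fin m → MvPolynomial (Fin n) A₀) :
    ((Fin 1 → MvPolynomial (Fin n) A₀) ⧸ Kspan (gen1 gen)) ≃ₗ[A₀]
      (MvPolynomial (Fin n) A₀ ⧸ Ideal.span (Set.range gen)) :=
  presLinearEquiv (Ideal.Quotient.mkₐ A₀ (Ideal.span (Set.range gen)))
    (Ideal.Quotient.mkₐ_surjective A₀ _) gen (Ideal.mk_ker).symm

lemma flat_quot_iff_flat_pres (gen : Fin m → MvPolynomial (Fin n) A₀) :
    Module.Flat A₀ (MvPolynomial (Fin n) A₀ ⧸ Ideal.span (Set.range gen)) ↔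
      Module.Flat A₀ ((Fin 1 → MvPolynomial (Fin n) A₀) ⧸ Kspan (gen1 gen)) :=
  ⟨fun _ => Module.Flat.of_linearEquiv (presEquivQuot gen),
    fun _ => Module.Flat.of_linearEquiv (presEquivQuot gen).symm⟩

end pres

section main

variable {A : Type u} [CommRing A] {n m k : ℕ}

lemma map_append {R R' : Type u} [CommRing R] [CommRing R'] (φ : R →+* R') {m k : ℕ}
    (a : Fin m → MvPolynomial (Fin n) R) (b : Fin k → MvPolynomial (Fin n) R) (i : Fin (m + k)) :
    MvPolynomial.map φ (Fin.append a b i) =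
      Fin.append (fun i => MvPolynomial.map φ (a i)) (fun j => MvPolynomial.map φ (b j)) i := by
  refine Fin.addCases (fun i => ?_) (fun i => ?_) i
  · rw [Fin.append_left, Fin.append_left]
  · rw [Fin.append_right, Fin.append_right]

theorem exists_flat_level_pair (rel : Fin m → MvPolynomial (Fin n) A)
    (h : Fin k → MvPolynomial (Fin n) A)
    [Module.Flat A (MvPolynomial (Fin n) A ⧸ Ideal.span (Set.range rel))]
    [Module.Flat A (MvPolynomial (Fin n) A ⧸ Ideal.span (Set.range (Fin.append rel h)))]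
    (S₀ : Subalgebra ℤ A) (hS₀ : S₀.FG)
    (hrel : ∀ i, ((rel i).coeffs : Set A) ⊆ S₀) (hh : ∀ j, ((h j).coeffs : Set A) ⊆ S₀) :
    ∃ (S : Subalgebra ℤ A) (_ : S₀ ≤ S) (_ : S.FG) (rel' : Fin m → MvPolynomial (Fin n) S)
      (h' : Fin k → MvPolynomial (Fin n) S),
      (∀ i, MvPolynomial.map (inc S) (rel' i) = rel i) ∧
      (∀ j, MvPolynomial.map (inc S) (h' j) = h j) ∧
      Module.Flat S (MvPolynomial (Fin n) S ⧸ Ideal.span (Set.range rel')) ∧
      Module.Flat S (MvPolynomial (Fin n) S ⧸ Ideal.span (Set.range (Fin.append rel' h'))) := by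
  classical
  choose rel₀ hrel₀ using fun i => exists_map_eq_of_coeffs_subset S₀ (rel i) (hrel i)
  choose h₀ hh₀ using fun j => exists_map_eq_of_coeffs_subset S₀ (h j) (hh j)
  -- first level: flatness of the algebra
  haveI : Module.Flat A ((Fin 1 → MvPolynomial (Fin n) A) ⧸ Kspan (gen1 rel)) :=
    (flat_quot_iff_flat_pres rel).mp inferInstance
  obtain ⟨S₁, h01, hS₁, hfl₁⟩ := exists_flat_level_global (gen1 rel) S₀ hS₀ (gen1 rel₀)
    (fun i => funext fun _ => hrel₀ i)
  -- second level: flatness of the quotient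
  haveI : Module.Flat A ((Fin 1 → MvPolynomial (Fin n) A) ⧸ Kspan (gen1 (Fin.append rel h))) :=
    (flat_quot_iff_flat_pres (Fin.append rel h)).mp inferInstance
  let rel₁ : Fin m → MvPolynomial (Fin n) S₁ := fun i => MvPolynomial.map (incl h01) (rel₀ i)
  let h₁ : Fin k → MvPolynomial (Fin n) S₁ := fun j => MvPolynomial.map (incl h01) (h₀ j)
  have hrel₁ : ∀ i, MvPolynomial.map (inc S₁) (rel₁ i) = rel i := fun i => by
    change MvPolynomial.map (inc S₁) (MvPolynomial.map (incl h01) (rel₀ i)) = rel i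
    rw [MvPolynomial.map_map, inc_comp_incl, hrel₀]
  have hh₁ : ∀ j, MvPolynomial.map (inc S₁) (h₁ j) = h j := fun j => by
    change MvPolynomial.map (inc S₁) (MvPolynomial.map (incl h01) (h₀ j)) = h j
    rw [MvPolynomial.map_map, inc_comp_incl, hh₀]
  obtain ⟨S₂, h12, hS₂, hfl₂⟩ := exists_flat_level_global (gen1 (Fin.append rel h)) S₁ hS₁
    (gen1 (Fin.append rel₁ h₁)) (fun i => funext fun _ => by
      change MvPolynomial.map (inc S₁) (Fin.append rel₁ h₁ i) = Fin.append rel h i
      rw [map_append]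
      congr 1
      · funext i; exact hrel₁ i
      · funext j; exact hh₁ j)
  let rel₂ : Fin m → MvPolynomial (Fin n) S₂ := fun i => MvPolynomial.map (incl h12) (rel₁ i)
  let h₂ : Fin k → MvPolynomial (Fin n) S₂ := fun j => MvPolynomial.map (incl h12) (h₁ j)
  refine ⟨S₂, h01.trans h12, hS₂, rel₂, h₂, ?_, ?_, ?_, ?_⟩
  · intro i
    change MvPolynomial.map (inc S₂) (MvPolynomial.map (incl h12) (rel₁ i)) = rel i
    rw [MvPolynomial.map_map, inc_comp_incl, hrel₁]
  · intro j
    change MvPolynomial.map (inc S₂) (MvPolynomial.map (incl h12) (h₁ j)) = h j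
    rw [MvPolynomial.map_map, inc_comp_incl, hh₁]
  · rw [flat_quot_iff_flat_pres]
    letI : Algebra S₁ S₂ := (incl h12).toAlgebra
    haveI := hfl₁
    have key := flat_pres_of_flat (R₀ := ↥S₁) (R₁ := ↥S₂)
      (fun i => mapVec (incl h01) (gen1 rel₀ i))
    exact key
  · rw [flat_quot_iff_flat_pres]
    have heq : (fun i => mapVec (incl h12) (gen1 (Fin.append rel₁ h₁) i)) =
        gen1 (Fin.append rel₂ h₂) := by
      funext i _
      change MvPolynomial.map (incl h12) (Fin.append rel₁ h₁ i) = Fin.append rel₂ h₂ i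
      rw [map_append]
    rw [← heq]
    exact hfl₂

end main

end Groth.Agent.Helper19.KosLoc
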