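import Mathlib
import Groth.Agent.Helper19.KosLoc8

/-!
# A Noetherian model of a flat finitely presented algebra together with a flat quotient
(helper19)
-/

set_option autoImplicit false
set_option linter.unusedSectionVars false
set_option linter.unusedVariables false
set_option linter.style.haveILetI false
universe u

open TensorProduct Function MvPolynomial

namespace Groth.Agent.Helper19.KosLoc

open Groth.Agent.Lib.Helper18.Fl

set_option maxHeartbeats 1000000 in
set_option synthInstance.maxHeartbeats 200000 in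
theorem exists_noeth_model (A P : Type u) [CommRing A] [CommRing P] [Algebra A P]
    [Algebra.FinitePresentation A P] [Module.Flat A P] (I : Ideal P) (hI : I.FG)
    [Module.Flat A (P ⧸ I)] :
    ∃ (A₀ : Subalgebra ℤ A) (_ : A₀.FG) (P₀ : Type u) (_ : CommRing P₀) (_ : Algebra A₀ P₀)
      (_ : Algebra.FinitePresentation A₀ P₀) (_ : Module.Flat A₀ P₀) (I₀ : Ideal P₀)
      (_ : Module.Flat A₀ (P₀ ⧸ I₀)) (e : A ⊗[A₀] P₀ ≃ₐ[A] P),
      (I₀.map (Algebra.TensorProduct.includeRight : P₀ →ₐ[A₀] A ⊗[A₀] P₀).toRingHom).map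
        (e : A ⊗[A₀] P₀ →+* P) = I := by
  classical
  let n := Algebra.Presentation.ofFinitePresentationVars A P
  let m := Algebra.Presentation.ofFinitePresentationRels A P
  let PA : Algebra.Presentation A P (Fin n) (Fin m) := Algebra.Presentation.ofFinitePresentation A P
  let f : MvPolynomial (Fin n) A →ₐ[A] P := aeval PA.val
  have hf : Surjective f := PA.aeval_val_surjective
  have hker : Ideal.span (Set.range PA.relation) = RingHom.ker f.toRingHom := by
    rw [PA.span_range_relation_eq_ker, PA.ker_eq_ker_aeval_val]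
    rfl
  obtain ⟨k, v, hv⟩ := Submodule.fg_iff_exists_fin_generating_family.mp hI
  choose h hh using fun j => hf (v j)
  -- flatness over `A` in quotient form
  haveI hfl1 : Module.Flat A (MvPolynomial (Fin n) A ⧸ Ideal.span (Set.range PA.relation)) := by
    have e1 : (MvPolynomial (Fin n) A ⧸ Ideal.span (Set.range PA.relation)) ≃ₐ[A] P :=
      (Ideal.quotientEquivAlgOfEq A hker).trans (Ideal.quotientKerAlgEquivOfSurjective hf)
    exact Module.Flat.of_linearEquiv e1.toLinearEquiv
  let f' : MvPolynomial (Fin n) A →ₐ[A] P ⧸ I := (Ideal.Quotient.mkₐ A I).comp f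
  have hf' : Surjective f' := (Ideal.Quotient.mkₐ_surjective A I).comp hf
  have hIv : I = (Ideal.span (Set.range h)).map f.toRingHom := by
    rw [Ideal.map_span, ← Set.range_comp]
    have : (f.toRingHom : MvPolynomial (Fin n) A → P) ∘ h = v := funext hh
    rw [this]
    exact hv.symm
  have hker' : Ideal.span (Set.range (Fin.append PA.relation h)) = RingHom.ker f'.toRingHom := by
    rw [range_append, Ideal.span_union, hker]
    ext x
    rw [RingHom.mem_ker]
    change _ ↔ Ideal.Quotient.mk I (f x) = 0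
    rw [Ideal.Quotient.eq_zero_iff_mem, hIv]
    have h1 : f x ∈ Ideal.map f.toRingHom (Ideal.span (Set.range h)) ↔
        x ∈ Ideal.comap f.toRingHom (Ideal.map f.toRingHom (Ideal.span (Set.range h))) := Iff.rfl
    rw [h1, Ideal.comap_map_of_surjective f.toRingHom hf, sup_comm]
    rfl
  haveI hfl2 : Module.Flat A (MvPolynomial (Fin n) A ⧸
      Ideal.span (Set.range (Fin.append PA.relation h))) := by
    have e1 : (MvPolynomial (Fin n) A ⧸ Ideal.span (Set.range (Fin.append PA.relation h)))
        ≃ₐ[A] P ⧸ I :=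
      (Ideal.quotientEquivAlgOfEq A hker').trans (Ideal.quotientKerAlgEquivOfSurjective hf')
    exact Module.Flat.of_linearEquiv e1.toLinearEquiv
  -- the subring of coefficients
  let T : Set A := (⋃ i, ((PA.relation i).coeffs : Set A)) ∪ ⋃ j, ((h j).coeffs : Set A)
  have hT : T.Finite :=
    (Set.finite_iUnion fun _ => Finset.finite_toSet _).union
      (Set.finite_iUnion fun _ => Finset.finite_toSet _)
  let S₀ : Subalgebra ℤ A := Algebra.adjoin ℤ T
  have hS₀ : S₀.FG := ⟨hT.toFinset, by simp [S₀]⟩
  have hTS : T ⊆ S₀ := Algebra.subset_adjoin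
  obtain ⟨S, h0S, hS, rel', h', hrel', hh', hflS1, hflS2⟩ :=
    exists_flat_level_pair PA.relation h S₀ hS₀
      (fun i x hx => hTS (Or.inl (Set.mem_iUnion.mpr ⟨i, hx⟩)))
      (fun j x hx => hTS (Or.inr (Set.mem_iUnion.mpr ⟨j, hx⟩)))
  haveI : PA.HasCoeffs S := ⟨by
    intro x hx
    obtain ⟨i, hi⟩ := Set.mem_iUnion.mp hx
    exact ⟨⟨x, h0S (hTS (Or.inl (Set.mem_iUnion.mpr ⟨i, hi⟩)))⟩, rfl⟩⟩
  have hinj : Injective (MvPolynomial.map (σ := Fin n) (algebraMap S A)) :=
    MvPolynomial.map_injective _ (inc_injective S)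
  have hrelEq : PA.relationOfHasCoeffs S = rel' := by
    funext i
    apply hinj
    rw [PA.map_relationOfHasCoeffs S i]
    exact (hrel' i).symm
  haveI hflP₀ : Module.Flat S (PA.ModelOfHasCoeffs S) := by
    change Module.Flat S (MvPolynomial (Fin n) S ⧸
      Ideal.span (Set.range (PA.relationOfHasCoeffs S)))
    rw [hrelEq]
    exact hflS1
  let I₀ : Ideal (PA.ModelOfHasCoeffs S) :=
    (Ideal.span (Set.range h')).map (Ideal.Quotient.mk _)
  have hflI₀ : Module.Flat S (PA.ModelOfHasCoeffs S ⧸ I₀) := by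
    have e1 := DoubleQuot.quotQuotEquivQuotSupₐ S
      (Ideal.span (Set.range (PA.relationOfHasCoeffs S))) (Ideal.span (Set.range h'))
    have hsup : Ideal.span (Set.range (PA.relationOfHasCoeffs S)) ⊔ Ideal.span (Set.range h') =
        Ideal.span (Set.range (Fin.append rel' h')) := by
      rw [hrelEq, range_append, Ideal.span_union]
    have e2 := Ideal.quotientEquivAlgOfEq S hsup
    haveI := hflS2
    exact Module.Flat.of_linearEquiv (e1.trans e2).toLinearEquiv
  refine ⟨S, hS, PA.ModelOfHasCoeffs S, inferInstance, inferInstance, inferInstance, hflP₀, I₀,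
    hflI₀, PA.tensorModelOfHasCoeffsEquiv S, ?_⟩
  -- the ideals correspond
  rw [Ideal.map_map, Ideal.map_map, Ideal.map_span, ← Set.range_comp, ← hv]
  congr 1
  congr 1
  funext j
  change PA.tensorModelOfHasCoeffsEquiv S (1 ⊗ₜ[S] (Ideal.Quotient.mk _ (h' j))) = v j
  have h1 := PA.tensorModelOfHasCoeffsEquiv_tmul S (1 : A) (h' j)
  rw [map_one, one_mul] at h1
  rw [← hh j, ← hh' j]
  change _ = aeval PA.val (MvPolynomial.map (inc S) (h' j))
  rw [show inc S = algebraMap S A from rfl, MvPolynomial.aeval_map_algebraMap]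
  exact h1

end Groth.Agent.Helper19.KosLoc
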