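import Mathlib
import Groth.Agent.Helper19.KosLoc7
import Groth.Agent.Helper19.KosLoc9

/-!
# Koszul-regularity at a point of a geometric fibre spreads out (helper19)

`A → P` flat of finite presentation, `I ⊆ P` finitely generated with `P / I` flat over `A`, `K` a
field over `A`.  If `I (K ⊗ P)` is Koszul-regular at a prime `QK` then `I` is Koszul-regular on a
neighbourhood of the contraction of `QK` (Noetherian approximation).
-/

set_option autoImplicit false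
set_option linter.unusedSectionVars false
set_option linter.unusedVariables false
set_option linter.style.haveILetI false
universe u

open TensorProduct Function

namespace Groth.Agent.Helper19.KosLoc

open Groth.Agent.Lib.Helper18.Fl

attribute [local instance] Algebra.TensorProduct.rightAlgebra

set_option maxHeartbeats 1000000 in
set_option synthInstance.maxHeartbeats 200000 in
theorem KR.of_field_fiber {A : Type u} [CommRing A] {P : Type u} [CommRing P] [Algebra A P]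
    [Algebra.FinitePresentation A P] [Module.Flat A P]
    (K : Type u) [Field K] [Algebra A K] (QK : Ideal (K ⊗[A] P)) [QK.IsPrime] (I : Ideal P)
    (hI : I.FG) [Module.Flat A (P ⧸ I)] (hIQ : I ≤ QK.comap (inclK K))
    (h : KRp (I.map (inclK K)) QK) : KR I (QK.comap (inclK K)) := by
  obtain ⟨A₀, hA₀, P₀, _, _, _, _, I₀, _, e, he⟩ := exists_noeth_model A P I hI
  haveI : IsNoetherianRing A₀ := isNoetherianRing_of_fg A₀ hA₀
  haveI : IsNoetherianRing P₀ := Algebra.FiniteType.isNoetherianRing A₀ P₀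
  let i₀ : P₀ →+* A ⊗[A₀] P₀ :=
    (Algebra.TensorProduct.includeRight : P₀ →ₐ[A₀] A ⊗[A₀] P₀).toRingHom
  let E₁ : K ⊗[A] P ≃ₐ[K] K ⊗[A] (A ⊗[A₀] P₀) :=
    Algebra.TensorProduct.congr AlgEquiv.refl e.symm
  let E₂ : K ⊗[A] (A ⊗[A₀] P₀) ≃ₐ[K] K ⊗[A₀] P₀ :=
    Algebra.TensorProduct.cancelBaseChange A₀ A K K P₀
  let E : K ⊗[A] P ≃+* K ⊗[A₀] P₀ := (E₁.trans E₂).toRingEquiv
  have hE : ∀ x₀ : P₀, E (inclK K (e (i₀ x₀))) = inclK (A := A₀) K x₀ := by
    intro x₀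
    change E₂ (E₁ (1 ⊗ₜ e (1 ⊗ₜ x₀))) = 1 ⊗ₜ x₀
    have h1 : E₁ (1 ⊗ₜ e (1 ⊗ₜ x₀)) = 1 ⊗ₜ (1 ⊗ₜ x₀) := by
      change Algebra.TensorProduct.congr AlgEquiv.refl e.symm (1 ⊗ₜ e (1 ⊗ₜ x₀)) = _
      rw [Algebra.TensorProduct.congr_apply, Algebra.TensorProduct.map_tmul]
      simp
    rw [h1]
    change Algebra.TensorProduct.cancelBaseChange A₀ A K K P₀ (1 ⊗ₜ (1 ⊗ₜ x₀)) = _
    rw [Algebra.TensorProduct.cancelBaseChange_tmul, one_smul]
  have hEcomp : (E : K ⊗[A] P →+* K ⊗[A₀] P₀).comp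
      ((inclK K).comp ((e : A ⊗[A₀] P₀ →+* P).comp i₀)) = inclK (A := A₀) K := by
    ext x₀
    exact hE x₀
  -- transport to the model
  set QK₀ : Ideal (K ⊗[A₀] P₀) := QK.comap (E.symm : K ⊗[A₀] P₀ →+* K ⊗[A] P) with hQK₀
  haveI : QK₀.IsPrime := Ideal.comap_isPrime _ _
  have hQKE : QK₀.comap (E : K ⊗[A] P →+* K ⊗[A₀] P₀) = QK := by
    rw [hQK₀, Ideal.comap_comap]
    have : (E.symm : K ⊗[A₀] P₀ →+* K ⊗[A] P).comp (E : K ⊗[A] P →+* K ⊗[A₀] P₀) =
        RingHom.id _ := RingHom.ext fun x => by simp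
    rw [this, Ideal.comap_id]
  have hImap : (I.map (inclK K)).map (E : K ⊗[A] P →+* K ⊗[A₀] P₀) =
      I₀.map (inclK (A := A₀) K) := by
    rw [← he, Ideal.map_map, Ideal.map_map, Ideal.map_map, ← hEcomp]
    rfl
  have h1 : KRp (I₀.map (inclK (A := A₀) K)) QK₀ := by
    rw [← hImap]
    refine KRp.map_of_flat (E : K ⊗[A] P →+* K ⊗[A₀] P₀) (.of_bijective E.bijective) QK₀ ?_
    exact KRp.congr_prime hQKE.symm h
  have hI₀Q : I₀ ≤ QK₀.comap (inclK (A := A₀) K) := by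
    intro x₀ hx₀
    rw [Ideal.mem_comap, ← hE x₀, hQK₀, Ideal.mem_comap]
    have h2 : e (i₀ x₀) ∈ I := by
      rw [← he]
      exact Ideal.mem_map_of_mem _ (Ideal.mem_map_of_mem _ hx₀)
    have h3 : (E.symm : K ⊗[A₀] P₀ →+* K ⊗[A] P) (E (inclK K (e (i₀ x₀)))) =
        inclK K (e (i₀ x₀)) := by simp
    rw [h3]
    exact hIQ h2
  have h2 : KR I₀ (QK₀.comap (inclK (A := A₀) K)) :=
    (KRp.of_field_fiber K QK₀ I₀ (IsNoetherian.noetherian I₀) hI₀Q h1).kr
  -- base change back to `A`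
  set Q : Ideal P := QK.comap (inclK K) with hQ
  have hQ' : (Q.comap (e : A ⊗[A₀] P₀ →+* P)).comap i₀ = QK₀.comap (inclK (A := A₀) K) := by
    ext x₀
    rw [Ideal.mem_comap, Ideal.mem_comap, hQ, Ideal.mem_comap, Ideal.mem_comap, ← hE x₀, hQK₀,
      Ideal.mem_comap]
    have h3 : (E.symm : K ⊗[A₀] P₀ →+* K ⊗[A] P) (E (inclK K (e (i₀ x₀)))) =
        inclK K (e (i₀ x₀)) := by simp
    rw [h3]
    rfl
  have h3 : KR (I₀.map i₀) (Q.comap (e : A ⊗[A₀] P₀ →+* P)) := by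
    haveI : IsScalarTower A₀ P₀ (A ⊗[A₀] P₀) := Algebra.TensorProduct.right_isScalarTower
    haveI : Algebra.IsPushout A₀ P₀ A (A ⊗[A₀] P₀) := TensorProduct.isPushout'
    have := KR.baseChange A₀ P₀ A (A ⊗[A₀] P₀) I₀ (Q.comap (e : A ⊗[A₀] P₀ →+* P))
      (KR.congr_prime hQ'.symm h2)
    exact this
  have h4 := KR.map_of_flat (e : A ⊗[A₀] P₀ →+* P) (.of_bijective e.bijective) Q h3
  rwa [he] at h4

end Groth.Agent.Helper19.KosLoc
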