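import Mathlib
import Groth.Agent.Helper19.KosLoc10

/-!
# The Koszul-regular locus of an ideal with flat quotient commutes with base change (helper19)
-/

set_option autoImplicit false
set_option linter.unusedSectionVars false
set_option linter.unusedVariables false
set_option linter.style.haveILetI false
universe u

open TensorProduct Function

namespace Groth.Agent.Helper19.KosLoc

section pushoutFlat

variable (A P A' P' : Type u) [CommRing A] [CommRing P] [CommRing A'] [CommRing P']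
  [Algebra A P] [Algebra A A'] [Algebra A P'] [Algebra P P'] [Algebra A' P']
  [IsScalarTower A P P'] [IsScalarTower A A' P'] [Algebra.IsPushout A P A' P']

/-- the `A'`-algebra isomorphism `A' ⊗[A] P ≃ P'` -/
noncomputable def pushoutEquiv : A' ⊗[A] P ≃ₐ[A'] P' :=
  haveI : Algebra.IsPushout A A' P P' := Algebra.IsPushout.symm inferInstance
  Algebra.IsPushout.equiv A A' P P'

lemma pushoutEquiv_one_tmul (x : P) : pushoutEquiv A P A' P' (1 ⊗ₜ x) = algebraMap P P' x := by
  haveI : Algebra.IsPushout A A' P P' := Algebra.IsPushout.symm inferInstance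
  change Algebra.IsPushout.equiv A A' P P' (1 ⊗ₜ x) = _
  rw [Algebra.IsPushout.equiv_tmul, map_one, one_mul]

lemma pushoutEquiv_comp_includeRight :
    ((pushoutEquiv A P A' P' : A' ⊗[A] P →+* P')).comp
      (Algebra.TensorProduct.includeRight : P →ₐ[A] A' ⊗[A] P).toRingHom = algebraMap P P' :=
  RingHom.ext fun x => pushoutEquiv_one_tmul A P A' P' x

theorem flat_of_isPushout [Module.Flat A P] : Module.Flat A' P' :=
  Module.Flat.of_linearEquiv (pushoutEquiv A P A' P').symm.toLinearEquiv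

theorem flat_quotient_of_isPushout (I : Ideal P) [Module.Flat A (P ⧸ I)] :
    Module.Flat A' (P' ⧸ I.map (algebraMap P P')) := by
  let e1 : A' ⊗[A] (P ⧸ I) ≃ₐ[A'] (A' ⊗[A] P) ⧸
      I.map (Algebra.TensorProduct.includeRight : P →ₐ[A] A' ⊗[A] P) :=
    Algebra.TensorProduct.tensorQuotientEquiv A' P A' I
  have hmap : I.map (algebraMap P P') =
      (I.map (Algebra.TensorProduct.includeRight : P →ₐ[A] A' ⊗[A] P)).map
        (pushoutEquiv A P A' P' : A' ⊗[A] P →+* P') := by
    have := pushoutEquiv_comp_includeRight A P A' P'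
    rw [← this, ← Ideal.map_map]
    rfl
  let e2 : ((A' ⊗[A] P) ⧸ I.map (Algebra.TensorProduct.includeRight : P →ₐ[A] A' ⊗[A] P))
      ≃ₐ[A'] (P' ⧸ I.map (algebraMap P P')) :=
    Ideal.quotientEquivAlg _ _ (pushoutEquiv A P A' P') hmap
  exact Module.Flat.of_linearEquiv (e1.trans e2).symm.toLinearEquiv

end pushoutFlat

attribute [local instance] Algebra.TensorProduct.rightAlgebra

set_option maxHeartbeats 1000000 in
set_option synthInstance.maxHeartbeats 200000 in
/-- descent of `KR` along an arbitrary base change, given a field-valued point at `Q'`. -/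
theorem KR.of_baseChange_aux (A P A' P' K : Type u) [CommRing A] [CommRing P] [CommRing A']
    [CommRing P'] [Algebra A P] [Algebra A A'] [Algebra A P'] [Algebra P P'] [Algebra A' P']
    [IsScalarTower A P P'] [IsScalarTower A A' P'] [Algebra.IsPushout A P A' P']
    [Algebra.FinitePresentation A P] [Module.Flat A P]
    [Field K] [Algebra A' K] [Algebra A K] [IsScalarTower A A' K] (κ : P' →ₐ[A'] K)
    (I : Ideal P) (hI : I.FG) [Module.Flat A (P ⧸ I)] (Q' : Ideal P')
    (hQ' : RingHom.ker κ.toRingHom = Q')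
    (hIQ : I ≤ Q'.comap (algebraMap P P'))
    (h : KR (I.map (algebraMap P P')) Q') : KR I (Q'.comap (algebraMap P P')) := by
  haveI : Module.Flat A' P' := flat_of_isPushout A P A' P'
  haveI : Module.Flat A' (P' ⧸ I.map (algebraMap P P')) := flat_quotient_of_isPushout A P A' P' I
  -- the `K`-point of `K ⊗[A'] P'`
  let μ : K ⊗[A'] P' →ₐ[K] K :=
    Algebra.TensorProduct.lift (AlgHom.id K K) κ (fun _ _ => Commute.all _ _)
  set Q'' : Ideal (K ⊗[A'] P') := RingHom.ker μ.toRingHom with hQ''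
  haveI : Q''.IsPrime := RingHom.ker_isPrime _
  have hμ : ∀ x' : P', μ (1 ⊗ₜ x') = κ x' := by
    intro x'
    change Algebra.TensorProduct.lift _ _ _ (1 ⊗ₜ x') = _
    rw [Algebra.TensorProduct.lift_tmul, map_one, one_mul]
  have hQ''c : Q''.comap (algebraMap P' (K ⊗[A'] P')) = Q' := by
    ext x'
    rw [Ideal.mem_comap, hQ'', RingHom.mem_ker, ← hQ', RingHom.mem_ker]
    change μ (1 ⊗ₜ x') = 0 ↔ _
    rw [hμ]
    rfl
  haveI : IsScalarTower A' P' (K ⊗[A'] P') := Algebra.TensorProduct.right_isScalarTower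
  haveI : Algebra.IsPushout A' P' K (K ⊗[A'] P') := TensorProduct.isPushout'
  have h1 : KR ((I.map (algebraMap P P')).map (algebraMap P' (K ⊗[A'] P'))) Q'' :=
    KR.baseChange A' P' K (K ⊗[A'] P') (I.map (algebraMap P P')) Q''
      (KR.congr_prime hQ''c.symm h)
  -- the isomorphism `K ⊗[A'] P' ≃ K ⊗[A] P`
  let c₁ : K ⊗[A'] P' ≃ₐ[K] K ⊗[A'] (A' ⊗[A] P) :=
    Algebra.TensorProduct.congr AlgEquiv.refl (pushoutEquiv A P A' P').symm
  let c₂ : K ⊗[A'] (A' ⊗[A] P) ≃ₐ[K] K ⊗[A] P :=
    Algebra.TensorProduct.cancelBaseChange A A' K K P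
  let c : K ⊗[A'] P' ≃+* K ⊗[A] P := (c₁.trans c₂).toRingEquiv
  have hc : ∀ x : P, c (algebraMap P' (K ⊗[A'] P') (algebraMap P P' x)) = inclK K x := by
    intro x
    change c₂ (c₁ (1 ⊗ₜ algebraMap P P' x)) = 1 ⊗ₜ x
    have h2 : c₁ (1 ⊗ₜ algebraMap P P' x) = 1 ⊗ₜ (1 ⊗ₜ x) := by
      change Algebra.TensorProduct.congr AlgEquiv.refl (pushoutEquiv A P A' P').symm
        (1 ⊗ₜ algebraMap P P' x) = _
      rw [Algebra.TensorProduct.congr_apply, Algebra.TensorProduct.map_tmul,
        ← pushoutEquiv_one_tmul A P A' P' x]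
      simp
    rw [h2]
    change Algebra.TensorProduct.cancelBaseChange A A' K K P (1 ⊗ₜ (1 ⊗ₜ x)) = _
    rw [Algebra.TensorProduct.cancelBaseChange_tmul, one_smul]
  have hccomp : (c : K ⊗[A'] P' →+* K ⊗[A] P).comp
      ((algebraMap P' (K ⊗[A'] P')).comp (algebraMap P P')) = inclK K :=
    RingHom.ext fun x => hc x
  set QK : Ideal (K ⊗[A] P) := Q''.comap (c.symm : K ⊗[A] P →+* K ⊗[A'] P') with hQK
  haveI : QK.IsPrime := Ideal.comap_isPrime _ _
  have hQKc : QK.comap (c : K ⊗[A'] P' →+* K ⊗[A] P) = Q'' := by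
    rw [hQK, Ideal.comap_comap]
    have : (c.symm : K ⊗[A] P →+* K ⊗[A'] P').comp (c : K ⊗[A'] P' →+* K ⊗[A] P) =
        RingHom.id _ := RingHom.ext fun x => by simp
    rw [this, Ideal.comap_id]
  have hQKincl : QK.comap (inclK K) = Q'.comap (algebraMap P P') := by
    rw [← hccomp, ← Ideal.comap_comap, ← Ideal.comap_comap, hQKc, hQ''c]
  have h2 : KRp (I.map (inclK K)) QK := by
    have h3 := KRp.map_of_flat (c : K ⊗[A'] P' →+* K ⊗[A] P) (.of_bijective c.bijective) QK
      (KRp.congr_prime hQKc.symm h1.krp)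
    rwa [Ideal.map_map, Ideal.map_map, RingHom.comp_assoc, hccomp] at h3
  have h3 := KR.of_field_fiber K QK I hI (by rw [hQKincl]; exact hIQ) h2
  exact KR.congr_prime hQKincl h3

end Groth.Agent.Helper19.KosLoc
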