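import Mathlib
import Groth.Agent.Helper19.KosLoc11

/-!
# The Koszul-regular locus of an ideal with flat quotient commutes with base change: iff (helper19)
-/

set_option autoImplicit false
set_option linter.unusedSectionVars false
set_option linter.unusedVariables false
set_option linter.style.haveILetI false
universe u

open TensorProduct Function

namespace Groth.Agent.Helper19.KosLoc

set_option maxHeartbeats 1000000 in
set_option synthInstance.maxHeartbeats 200000 in
/-- For `P` flat of finite presentation over `A`, `I ⊆ P` finitely generated with `P/I` flat
over `A`, and any base change `A → A'`: `I P'` is Koszul-regular near a prime `Q'` of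
`P' = A' ⊗ P` iff `I` is Koszul-regular near the contraction of `Q'`. -/
theorem KR.baseChange_iff (A P A' P' : Type u) [CommRing A] [CommRing P] [CommRing A']
    [CommRing P'] [Algebra A P] [Algebra A A'] [Algebra A P'] [Algebra P P'] [Algebra A' P']
    [IsScalarTower A P P'] [IsScalarTower A A' P'] [Algebra.IsPushout A P A' P']
    [Algebra.FinitePresentation A P] [Module.Flat A P]
    (I : Ideal P) (hI : I.FG) [Module.Flat A (P ⧸ I)] (Q' : Ideal P') [Q'.IsPrime] :
    KR (I.map (algebraMap P P')) Q' ↔ KR I (Q'.comap (algebraMap P P')) := by
  constructor
  · intro h
    by_cases hIQ : I ≤ Q'.comap (algebraMap P P')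
    · haveI i3 : IsScalarTower A A' (IsLocalRing.ResidueField (Localization.AtPrime Q')) :=
        inferInstance
      haveI i3' : IsScalarTower A A' Q'.ResidueField := i3
      haveI i4 : IsScalarTower A' P' (IsLocalRing.ResidueField (Localization.AtPrime Q')) :=
        inferInstance
      haveI i4' : IsScalarTower A' P' Q'.ResidueField := i4
      refine KR.of_baseChange_aux A P A' P' Q'.ResidueField
        (IsScalarTower.toAlgHom A' P' Q'.ResidueField) I hI Q' ?_ hIQ h
      exact Ideal.ker_algebraMap_residueField Q'
    · exact KR.of_not_le hIQ
  · exact KR.baseChange A P A' P' I Q'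

end Groth.Agent.Helper19.KosLoc
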