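import Mathlib
import Groth.Agent.Helper19.KosLoc12
import Groth.Agent.Helper19.LciCancel

/-!
# Dictionary: `B → C` is lci near a prime iff the kernel of a smooth presentation is
Koszul-regular near that prime (helper19)
-/

set_option autoImplicit false
set_option linter.unusedSectionVars false
set_option linter.unusedVariables false
set_option linter.style.haveILetI false
universe u

open TensorProduct Function

namespace Groth.Agent.Helper19.KosLoc

open Groth.Agent.Lib.Helper16.KzLoc Groth.Agent.Lib.Helper16.KzComp Groth.Agent.Lib.Helper16.QfLci
open Groth.Agent.Helper19.LciRing Groth.Agent.Helper19.LciCancel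

/-- `ψ : B → C` is a local complete intersection homomorphism on a basic open neighbourhood of the
prime `q` of `C`. -/
def LciNear {B C : Type u} [CommRing B] [CommRing C] (ψ : B →+* C) (q : Ideal C) : Prop :=
  ∃ g : C, g ∉ q ∧ IsLCIHom ((algebraMap C (Localization.Away g)).comp ψ)

section dict

variable {B P C : Type u} [CommRing B] [CommRing P] [CommRing C]

/-- the localized presentation `P_G → C_{α G}` -/
noncomputable abbrev awayMap (α : P →+* C) (G : P) :
    Localization.Away G →+* Localization.Away (α G) :=
  IsLocalization.Away.map (Localization.Away G) (Localization.Away (α G)) α G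

lemma awayMap_comp (α : P →+* C) (G : P) :
    (awayMap α G).comp (algebraMap P (Localization.Away G)) =
      (algebraMap C (Localization.Away (α G))).comp α :=
  IsLocalization.map_comp _

lemma awayMap_surjective (α : P →+* C) (hα : Surjective α) (G : P) :
    Surjective (awayMap α G) := by
  haveI : IsLocalization ((Submonoid.powers G).map α) (Localization.Away (α G)) := by
    rw [Submonoid.map_powers]; infer_instance
  exact IsLocalization.map_surjective_of_surjective (Submonoid.powers G)
    (Localization.Away G) (Localization.Away (α G)) hα

lemma ker_awayMap (α : P →+* C) (G : P) :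
    RingHom.ker (awayMap α G) = (RingHom.ker α).map (algebraMap P (Localization.Away G)) :=
  IsLocalization.ker_map (Localization.Away (α G)) α (Submonoid.map_powers α G)

lemma smooth_away_comp (φ : B →+* P) (hφ : φ.Smooth) (G : P) :
    ((algebraMap P (Localization.Away G)).comp φ).Smooth :=
  hφ.comp (RingHom.Smooth.holdsForLocalizationAway (Localization.Away G) G)

theorem lciNear_iff_kr (φ : B →+* P) (hφ : φ.Smooth) (α : P →+* C) (hα : Surjective α)
    (q : Ideal C) [q.IsPrime] :
    LciNear (α.comp φ) q ↔ KR (RingHom.ker α) (q.comap α) := by
  constructor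
  · rintro ⟨g, hg, h⟩
    obtain ⟨G, rfl⟩ := hα g
    have hcomp : (algebraMap C (Localization.Away (α G))).comp (α.comp φ) =
        (awayMap α G).comp ((algebraMap P (Localization.Away G)).comp φ) := by
      rw [← RingHom.comp_assoc, ← awayMap_comp, RingHom.comp_assoc]
    rw [hcomp] at h
    have h1 : IsLCIHom (awayMap α G) :=
      isLCIHom_of_comp_smooth _ (smooth_away_comp φ hφ G) _ h
    rw [isLCIHom_iff_of_surjective _ (awayMap_surjective α hα G), ker_awayMap,
      isKoszulRegularIdeal_iff_forall_kr] at h1
    have hGQ : Disjoint (Submonoid.powers G : Set P) (q.comap α : Ideal P) := by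
      rw [Set.disjoint_left]
      rintro x ⟨n, rfl⟩ hx
      rw [SetLike.mem_coe, Ideal.mem_comap, map_pow] at hx
      exact hg (‹q.IsPrime›.mem_of_pow_mem n hx)
    have hprime : ((q.comap α).map (algebraMap P (Localization.Away G))).IsPrime :=
      IsLocalization.isPrime_of_isPrime_disjoint (Submonoid.powers G) _ _ inferInstance hGQ
    have hcm : ((q.comap α).map (algebraMap P (Localization.Away G))).comap
        (algebraMap P (Localization.Away G)) = q.comap α :=
      IsLocalization.comap_map_of_isPrime_disjoint (Submonoid.powers G) _ inferInstance hGQ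
    have hle : RingHom.ker α ≤ q.comap α := fun x hx => by
      rw [Ideal.mem_comap, RingHom.mem_ker.mp hx]; exact zero_mem _
    have h2 := h1 ⟨_, hprime⟩ (Ideal.map_mono hle)
    have h3 := KR.of_away G (Localization.Away G) (RingHom.ker α) _ h2
    exact KR.congr_prime hcm h3
  · rintro ⟨G, hG, l, hl, hI⟩
    refine ⟨α G, hG, ?_⟩
    have hcomp : (algebraMap C (Localization.Away (α G))).comp (α.comp φ) =
        (awayMap α G).comp ((algebraMap P (Localization.Away G)).comp φ) := by
      rw [← RingHom.comp_assoc, ← awayMap_comp, RingHom.comp_assoc]
    rw [hcomp]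
    refine isLCIHom_stableUnderComposition _ _
      (isLCIHom_of_smooth _ (smooth_away_comp φ hφ G)) ?_
    rw [isLCIHom_iff_of_surjective _ (awayMap_surjective α hα G), ker_awayMap,
      (map_eq_map_iff (Submonoid.powers G) (Localization.Away G) _ _).mpr hI, ofList_map]
    exact isKoszulRegularIdeal_ofList _
      ((kreg_iff_kregLoc l (Submonoid.powers G) (Localization.Away G)).mpr hl)

end dict

end Groth.Agent.Helper19.KosLoc
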