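import Mathlib
import Groth.Agent.Helper19.KosLoc13

/-!
# The lci locus of a morphism of flat finitely presented algebras commutes with base change:
ring-level statement (helper19)
-/

set_option autoImplicit false
set_option linter.unusedSectionVars false
set_option linter.unusedVariables false
set_option linter.style.haveILetI false
universe u

open TensorProduct Function

namespace Groth.Agent.Helper19.KosLoc

section pushoutSurj

variable (A P A' P' C C' : Type u) [CommRing A] [CommRing P] [CommRing A'] [CommRing P']
  [CommRing C] [CommRing C']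
  [Algebra A P] [Algebra A A'] [Algebra A P'] [Algebra P P'] [Algebra A' P']
  [IsScalarTower A P P'] [IsScalarTower A A' P'] [Algebra.IsPushout A P A' P']
  [Algebra A C] [Algebra A C'] [Algebra C C'] [Algebra A' C']
  [IsScalarTower A C C'] [IsScalarTower A A' C'] [Algebra.IsPushout A C A' C']

/-- the base change of a surjection of `A`-algebras along `A → A'` is surjective with kernel the
extension of the kernel. -/
theorem pushout_surjective_and_ker (α : P →ₐ[A] C) (hα : Surjective α) (α' : P' →ₐ[A'] C')
    (hcomp : ∀ x : P, α' (algebraMap P P' x) = algebraMap C C' (α x)) :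
    Surjective α' ∧ RingHom.ker α'.toRingHom = (RingHom.ker α.toRingHom).map (algebraMap P P') := by
  let eP := pushoutEquiv A P A' P'
  let eC := pushoutEquiv A C A' C'
  let m : A' ⊗[A] P →ₐ[A'] A' ⊗[A] C := Algebra.TensorProduct.map (AlgHom.id A' A') α
  have hm : ∀ z : A' ⊗[A] P, α' (eP z) = eC (m z) := by
    intro z
    induction z using TensorProduct.induction_on with
    | zero => simp
    | add x y hx hy => rw [map_add, map_add, hx, hy, map_add, map_add]
    | tmul a x =>
      have h1 : (a ⊗ₜ[A] x : A' ⊗[A] P) = a • (1 ⊗ₜ[A] x) := by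
        rw [TensorProduct.smul_tmul', smul_eq_mul, mul_one]
      have h2 : m (1 ⊗ₜ[A] x) = 1 ⊗ₜ[A] α x := by
        change Algebra.TensorProduct.map (AlgHom.id A' A') α (1 ⊗ₜ[A] x) = _
        rw [Algebra.TensorProduct.map_tmul]
        rfl
      rw [h1, map_smul, map_smul, map_smul, map_smul, h2, pushoutEquiv_one_tmul,
        pushoutEquiv_one_tmul, hcomp]
  have hmsurj : Surjective m := Algebra.TensorProduct.map_surjective (AlgHom.id A' A') α
    (fun x => ⟨x, rfl⟩) hα
  have hmker : RingHom.ker m =
      (RingHom.ker α).map (Algebra.TensorProduct.includeRight : P →ₐ[A] A' ⊗[A] P) :=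
    Algebra.TensorProduct.lTensor_ker (A := A') α hα
  refine ⟨?_, ?_⟩
  · intro c
    obtain ⟨z, hz⟩ := hmsurj (eC.symm c)
    refine ⟨eP z, ?_⟩
    rw [hm, hz, AlgEquiv.apply_symm_apply]
  · apply le_antisymm
    · intro y hy
      rw [RingHom.mem_ker] at hy
      obtain ⟨z, rfl⟩ := eP.surjective y
      change α' (eP z) = 0 at hy
      rw [hm, map_eq_zero_iff _ eC.injective] at hy
      have hz : z ∈ RingHom.ker m := hy
      rw [hmker] at hz
      have h3 := Ideal.mem_map_of_mem (eP : A' ⊗[A] P →+* P') hz
      have h4 : Ideal.map (eP : A' ⊗[A] P →+* P')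
          ((RingHom.ker α).map (Algebra.TensorProduct.includeRight : P →ₐ[A] A' ⊗[A] P)) =
          (RingHom.ker α.toRingHom).map (algebraMap P P') := by
        rw [← pushoutEquiv_comp_includeRight A P A' P', ← Ideal.map_map]
        rfl
      rw [h4] at h3
      exact h3
    · rw [Ideal.map_le_iff_le_comap]
      intro x hx
      rw [Ideal.mem_comap, RingHom.mem_ker]
      change α' (algebraMap P P' x) = 0
      rw [hcomp]
      have : α x = 0 := hx
      rw [this, map_zero]

end pushoutSurj

section main

attribute [local instance] MvPolynomial.algebraMvPolynomial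

set_option maxHeartbeats 1000000 in
set_option synthInstance.maxHeartbeats 200000 in
/-- **Base change of the lci locus** (ring level). `B`, `C` flat of finite presentation over `A`,
`B' = A' ⊗ B`, `C' = A' ⊗ C`: the map `B' → C'` is lci near a prime `q'` iff `B → C` is lci near
the contraction of `q'`. -/
theorem lciNear_baseChange (A A' B B' C C' : Type u) [CommRing A] [CommRing A'] [CommRing B]
    [CommRing B'] [CommRing C] [CommRing C']
    [Algebra A A'] [Algebra A B] [Algebra A B'] [Algebra A' B'] [Algebra B B']
    [IsScalarTower A A' B'] [IsScalarTower A B B'] [Algebra.IsPushout A B A' B']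
    [Algebra A C] [Algebra A C'] [Algebra A' C'] [Algebra C C']
    [IsScalarTower A A' C'] [IsScalarTower A C C'] [Algebra.IsPushout A C A' C']
    [Algebra B C] [Algebra B' C'] [IsScalarTower A B C] [IsScalarTower A' B' C']
    [Algebra B C'] [IsScalarTower B B' C'] [IsScalarTower B C C']
    [Module.Flat A B] [Algebra.FinitePresentation A B]
    [Module.Flat A C] [Algebra.FinitePresentation A C] (q' : Ideal C') [q'.IsPrime] :
    LciNear (algebraMap B' C') q' ↔ LciNear (algebraMap B C) (q'.comap (algebraMap C C')) := by
  classical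
  haveI hft : Algebra.FiniteType B C := Algebra.FiniteType.of_restrictScalars_finiteType A B C
  obtain ⟨n, α, hα⟩ := Algebra.FiniteType.iff_quotient_mvPolynomial''.mp hft
  haveI tw1 : IsScalarTower A (MvPolynomial (Fin n) B) (MvPolynomial (Fin n) B') := by
    refine IsScalarTower.of_algebraMap_eq fun a => ?_
    rw [MvPolynomial.algebraMap_def, MvPolynomial.algebraMap_apply, MvPolynomial.algebraMap_apply,
      MvPolynomial.map_C, ← IsScalarTower.algebraMap_apply A B B']
  haveI po : Algebra.IsPushout A (MvPolynomial (Fin n) B) A' (MvPolynomial (Fin n) B') :=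
    (Algebra.IsPushout.comp_iff A B A' B').mpr inferInstance
  haveI fl : Module.Flat A (MvPolynomial (Fin n) B) := Module.Flat.trans A B _
  haveI fp : Algebra.FinitePresentation A (MvPolynomial (Fin n) B) :=
    Algebra.FinitePresentation.trans A B _
  let αA : MvPolynomial (Fin n) B →ₐ[A] C := α.restrictScalars A
  have hαA : Surjective αA := hα
  let α' : MvPolynomial (Fin n) B' →ₐ[B'] C' :=
    MvPolynomial.aeval (fun i => algebraMap C C' (α (MvPolynomial.X i)))
  let α'A : MvPolynomial (Fin n) B' →ₐ[A'] C' := α'.restrictScalars A'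
  have hcomp : ∀ x : MvPolynomial (Fin n) B,
      α'A (algebraMap (MvPolynomial (Fin n) B) (MvPolynomial (Fin n) B') x) =
        algebraMap C C' (αA x) := by
    intro x
    change α' (MvPolynomial.map (algebraMap B B') x) = algebraMap C C' (α x)
    have : (α'.toRingHom.comp (MvPolynomial.map (algebraMap B B'))) =
        (algebraMap C C').comp α.toRingHom := by
      apply MvPolynomial.ringHom_ext
      · intro b
        change α' (MvPolynomial.map (algebraMap B B') (MvPolynomial.C b)) =
          algebraMap C C' (α (MvPolynomial.C b))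
        rw [MvPolynomial.map_C, ← MvPolynomial.algebraMap_eq, ← MvPolynomial.algebraMap_eq,
          AlgHom.commutes, AlgHom.commutes, ← IsScalarTower.algebraMap_apply,
          ← IsScalarTower.algebraMap_apply]
      · intro i
        change α' (MvPolynomial.map (algebraMap B B') (MvPolynomial.X i)) =
          algebraMap C C' (α (MvPolynomial.X i))
        rw [MvPolynomial.map_X]
        exact MvPolynomial.aeval_X _ i
    exact congr($this x)
  obtain ⟨hα'surj, hker⟩ := pushout_surjective_and_ker A (MvPolynomial (Fin n) B) A'
    (MvPolynomial (Fin n) B') C C' αA hαA α'A hcomp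
  have hIfg : (RingHom.ker αA.toRingHom).FG :=
    Algebra.FinitePresentation.ker_fG_of_surjective αA hαA
  haveI hflq : Module.Flat A (MvPolynomial (Fin n) B ⧸ RingHom.ker αA.toRingHom) :=
    Module.Flat.of_linearEquiv (Ideal.quotientKerAlgEquivOfSurjective hαA).toLinearEquiv
  have h1 : algebraMap B C = (αA.toRingHom).comp (algebraMap B (MvPolynomial (Fin n) B)) := by
    ext b
    exact (α.commutes b).symm
  have h2 : algebraMap B' C' = (α'A.toRingHom).comp (algebraMap B' (MvPolynomial (Fin n) B')) := by
    ext b
    exact (α'.commutes b).symm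
  have hs1 : (algebraMap B (MvPolynomial (Fin n) B)).Smooth :=
    RingHom.smooth_algebraMap.mpr ⟨inferInstance, inferInstance⟩
  have hs2 : (algebraMap B' (MvPolynomial (Fin n) B')).Smooth :=
    RingHom.smooth_algebraMap.mpr ⟨inferInstance, inferInstance⟩
  rw [h1, h2, lciNear_iff_kr _ hs1 _ hαA, lciNear_iff_kr _ hs2 _ hα'surj, hker,
    KR.baseChange_iff A (MvPolynomial (Fin n) B) A' (MvPolynomial (Fin n) B') _ hIfg]
  have hprime : Ideal.comap (algebraMap (MvPolynomial (Fin n) B) (MvPolynomial (Fin n) B'))
      (Ideal.comap α'A.toRingHom q') =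
      Ideal.comap αA.toRingHom (Ideal.comap (algebraMap C C') q') := by
    rw [Ideal.comap_comap, Ideal.comap_comap]
    congr 1
    exact RingHom.ext hcomp
  exact ⟨fun h => KR.congr_prime hprime h, fun h => KR.congr_prime hprime.symm h⟩

end main

end Groth.Agent.Helper19.KosLoc
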