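import Mathlib
import Groth.Agent.Helper19.KosLoc14

/-!
# Base change of the lci locus: categorical ring-level form, and independence of the model of
the localization (helper19)
-/

set_option autoImplicit false
set_option linter.unusedSectionVars false
set_option linter.unusedVariables false
set_option linter.style.haveILetI false
universe u

open TensorProduct Function CategoryTheory CategoryTheory.Limits

namespace Groth.Agent.Helper19.KosLoc

open Groth.Agent.Lib.Helper16.KzComp

/-- `LciNear` may be tested on any model of the localization away from an element. -/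
theorem lciNear_iff_exists_away {B C : Type u} [CommRing B] [CommRing C] (ψ : B →+* C)
    (q : Ideal C) :
    LciNear ψ q ↔ ∃ g : C, g ∉ q ∧ ∃ (T : Type u) (_ : CommRing T) (_ : Algebra C T)
      (_ : IsLocalization.Away g T), IsLCIHom ((algebraMap C T).comp ψ) := by
  constructor
  · rintro ⟨g, hg, h⟩
    exact ⟨g, hg, Localization.Away g, inferInstance, inferInstance, inferInstance, h⟩
  · rintro ⟨g, hg, T, _, _, _, h⟩
    refine ⟨g, hg, ?_⟩
    let e : T ≃ₐ[C] Localization.Away g := IsLocalization.algEquiv (Submonoid.powers g) _ _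
    have h1 := isLCIHom_respectsIso.left ((algebraMap C T).comp ψ) e.toRingEquiv h
    convert h1 using 1
    refine RingHom.ext fun x => ?_
    change algebraMap C (Localization.Away g) (ψ x) = e (algebraMap C T (ψ x))
    rw [e.commutes]

set_option maxHeartbeats 1000000 in
set_option synthInstance.maxHeartbeats 200000 in
/-- **Base change of the lci locus**, for a diagram of commutative rings with two pushout
squares. -/
theorem lciNear_baseChange_cat {A A' B B' C C' : CommRingCat.{u}}
    (β : A ⟶ B) (a : A ⟶ A') (b : B ⟶ B') (β' : A' ⟶ B')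
    (ψ : B ⟶ C) (ψ' : B' ⟶ C') (c : C ⟶ C')
    (hB : IsPushout β a b β') (hC : IsPushout (β ≫ ψ) a c (β' ≫ ψ')) (hw : ψ ≫ c = b ≫ ψ')
    (hβ : β.hom.Flat) (hβ' : β.hom.FinitePresentation)
    (hγ : (β ≫ ψ).hom.Flat) (hγ' : (β ≫ ψ).hom.FinitePresentation)
    (q' : Ideal C') [q'.IsPrime] :
    LciNear ψ'.hom q' ↔ LciNear ψ.hom (q'.comap c.hom) := by
  letI : Algebra A A' := a.hom.toAlgebra
  letI : Algebra A B := β.hom.toAlgebra
  letI : Algebra A' B' := β'.hom.toAlgebra
  letI : Algebra B B' := b.hom.toAlgebra
  letI : Algebra A B' := (β ≫ b).hom.toAlgebra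
  haveI : IsScalarTower A B B' := .of_algebraMap_eq fun _ => rfl
  haveI : IsScalarTower A A' B' := .of_algebraMap_eq fun x => congr($(hB.w).hom x)
  letI : Algebra B C := ψ.hom.toAlgebra
  letI : Algebra B' C' := ψ'.hom.toAlgebra
  letI : Algebra C C' := c.hom.toAlgebra
  letI : Algebra A C := (β ≫ ψ).hom.toAlgebra
  letI : Algebra A' C' := (β' ≫ ψ').hom.toAlgebra
  letI : Algebra A C' := ((β ≫ ψ) ≫ c).hom.toAlgebra
  letI : Algebra B C' := (ψ ≫ c).hom.toAlgebra
  haveI : IsScalarTower A C C' := .of_algebraMap_eq fun _ => rfl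
  haveI : IsScalarTower A A' C' := .of_algebraMap_eq fun x => congr($(hC.w).hom x)
  haveI : IsScalarTower A B C := .of_algebraMap_eq fun _ => rfl
  haveI : IsScalarTower A' B' C' := .of_algebraMap_eq fun _ => rfl
  haveI : IsScalarTower B C C' := .of_algebraMap_eq fun _ => rfl
  haveI : IsScalarTower B B' C' := .of_algebraMap_eq fun x => congr($(hw).hom x)
  haveI : Algebra.IsPushout A B A' B' := CommRingCat.isPushout_iff_isPushout.mp hB
  haveI : Algebra.IsPushout A C A' C' := CommRingCat.isPushout_iff_isPushout.mp hC
  haveI : Module.Flat A B := hβ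
  haveI : Algebra.FinitePresentation A B := hβ'
  haveI : Module.Flat A C := hγ
  haveI : Algebra.FinitePresentation A C := hγ'
  exact lciNear_baseChange A A' B B' C C' q'

end Groth.Agent.Helper19.KosLoc
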