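import Mathlib
import Groth.Agent.Helper19.KosLoc15
import Groth.Agent.Helper19.LciMor

/-!
# The Koszul (lci) locus of a morphism of schemes: dictionary with rings (helper19)
-/

set_option autoImplicit false
set_option linter.unusedSectionVars false
set_option linter.unusedVariables false
set_option linter.style.haveILetI false
universe u

open AlgebraicGeometry CategoryTheory CategoryTheory.Limits Opposite

namespace Groth.Agent.Helper19.KosLoc

open Groth.Agent.Lib.Helper16.KzComp Groth.Agent.Helper19.LciMor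

variable {X Y : Scheme.{u}}

/-- the prime ideal of the point `x` in the ring of sections over an open `U ∋ x` -/
noncomputable def ptIdeal (U : X.Opens) (x : X) (hx : x ∈ U) : Ideal Γ(X, U) :=
  (IsLocalRing.maximalIdeal (X.presheaf.stalk x)).comap (X.presheaf.germ U x hx).hom

instance (U : X.Opens) (x : X) (hx : x ∈ U) : (ptIdeal U x hx).IsPrime :=
  Ideal.comap_isPrime _ _

lemma not_mem_ptIdeal_iff (U : X.Opens) (x : X) (hx : x ∈ U) (g : Γ(X, U)) :
    g ∉ ptIdeal U x hx ↔ x ∈ X.basicOpen g := by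
  rw [Scheme.mem_basicOpen _ _ x hx, ptIdeal, Ideal.mem_comap, IsLocalRing.mem_maximalIdeal,
    mem_nonunits_iff, not_not]

lemma ptIdeal_comap (f : X ⟶ Y) (V : Y.Opens) (U : X.Opens) (e : U ≤ f ⁻¹ᵁ V) (x : X)
    (hx : x ∈ U) :
    (ptIdeal U x hx).comap (f.appLE V U e).hom = ptIdeal V (f x) (e hx) := by
  have hcomm : f.appLE V U e ≫ X.presheaf.germ U x hx =
      Y.presheaf.germ V (f x) (e hx) ≫ f.stalkMap x := by
    rw [Scheme.Hom.germ_stalkMap, Scheme.Hom.appLE, Category.assoc, X.presheaf.germ_res]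
  ext a
  simp only [ptIdeal, Ideal.mem_comap, IsLocalRing.mem_maximalIdeal, mem_nonunits_iff]
  have h1 : (X.presheaf.germ U x hx).hom ((f.appLE V U e).hom a) =
      (f.stalkMap x).hom ((Y.presheaf.germ V (f x) (e hx)).hom a) := congr($(hcomm).hom a)
  rw [h1, isUnit_map_iff]

/-- the Koszul locus of a morphism -/
def KLoc (f : X ⟶ Y) : Set X :=
  {x | ∃ (U : X.Opens) (V : Y.Opens) (_ : IsAffineOpen U) (_ : IsAffineOpen V)
    (hUV : U ≤ f ⁻¹ᵁ V), x ∈ U ∧ IsLCIHom (f.appLE V U hUV).hom}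

theorem isOpen_kLoc (f : X ⟶ Y) : IsOpen (KLoc f) := by
  rw [isOpen_iff_forall_mem_open]
  rintro x ⟨U, V, hU, hV, hUV, hx, h⟩
  exact ⟨U, fun y hy => ⟨U, V, hU, hV, hUV, hy, h⟩, U.2, hx⟩

theorem mem_kLoc_iff (f : X ⟶ Y) {U : X.Opens} {V : Y.Opens} (hU : IsAffineOpen U)
    (hV : IsAffineOpen V) (e : U ≤ f ⁻¹ᵁ V) (x : X) (hx : x ∈ U) :
    x ∈ KLoc f ↔ LciNear (f.appLE V U e).hom (ptIdeal U x hx) := by
  rw [lciNear_iff_exists_away]
  constructor
  · rintro ⟨U₂, V₂, hU₂, hV₂, e₂, hx₂, h₂⟩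
    obtain ⟨r, s, hxs, e', hq⟩ := exists_basicOpen_le_appLE_of_appLE_of_isAffine (P := @IsLCIHom)
      isLCIHom_propertyIsLocal.StableUnderCompositionWithLocalizationAwayTarget
      isLCIHom_propertyIsLocal.localizationAwayPreserves
      x ⟨V, hV⟩ ⟨V₂, hV₂⟩ ⟨U, hU⟩ ⟨U₂, hU₂⟩ hx hx₂ e₂ h₂ (e hx)
    have e₃ : X.basicOpen s ≤ f ⁻¹ᵁ V := e'.trans (f.preimage_mono (Y.basicOpen_le r))
    have hq₃ : IsLCIHom (f.appLE V (X.basicOpen s) e₃).hom := by
      rw [← f.map_appLE e' (homOfLE (Y.basicOpen_le r)).op, CommRingCat.hom_comp]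
      have : IsLocalization.Away r Γ(Y, Y.basicOpen r) := hV.isLocalization_basicOpen r
      exact isLCIHom_stableSource _ r _ hq
    refine ⟨s, (not_mem_ptIdeal_iff U x hx s).mpr hxs, Γ(X, X.basicOpen s), inferInstance,
      inferInstance, hU.isLocalization_basicOpen s, ?_⟩
    rw [← f.appLE_map e (homOfLE (X.basicOpen_le s)).op, CommRingCat.hom_comp] at hq₃
    exact hq₃
  · rintro ⟨g, hg, T, _, _, _, h⟩
    have hxg : x ∈ X.basicOpen g := (not_mem_ptIdeal_iff U x hx g).mp hg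
    have e₁ : X.basicOpen g ≤ f ⁻¹ᵁ V := (X.basicOpen_le g).trans e
    refine ⟨X.basicOpen g, V, hU.basicOpen g, hV, e₁, hxg, ?_⟩
    haveI : IsLocalization.Away g Γ(X, X.basicOpen g) := hU.isLocalization_basicOpen g
    let el : T ≃ₐ[Γ(X, U)] Γ(X, X.basicOpen g) := IsLocalization.algEquiv (Submonoid.powers g) _ _
    have h1 := isLCIHom_respectsIso.left _ el.toRingEquiv h
    convert h1 using 1
    rw [← f.appLE_map e (homOfLE (X.basicOpen_le g)).op, CommRingCat.hom_comp]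
    refine RingHom.ext fun a => ?_
    change algebraMap Γ(X, U) Γ(X, X.basicOpen g) ((f.appLE V U e).hom a) =
      el (algebraMap Γ(X, U) T ((f.appLE V U e).hom a))
    rw [el.commutes]

end Groth.Agent.Helper19.KosLoc
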