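import Mathlib
import Groth.Agent.Helper19.KosLoc16
import Groth.Agent.Lib.Helper18.GFl5

/-!
# The Koszul (lci) locus of a morphism of flat, locally finitely presented schemes commutes
with base change (helper19)
-/

set_option autoImplicit false
set_option linter.unusedSectionVars false
set_option linter.unusedVariables false
set_option linter.style.haveILetI false
universe u

open AlgebraicGeometry CategoryTheory CategoryTheory.Limits Opposite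

namespace Groth.Agent.Helper19.KosLoc

open Groth.Agent.Lib.Helper16.KzComp Groth.Agent.Helper19.LciMor Groth.Agent.Lib.Helper18.GFl

lemma exists_affine_nhds_le {X : Scheme.{u}} (O : X.Opens) (x : X) (hx : x ∈ O) :
    ∃ U : X.Opens, IsAffineOpen U ∧ x ∈ U ∧ U ≤ O := by
  obtain ⟨U, hU, hxU, hUO⟩ := TopologicalSpace.Opens.isBasis_iff_nbhd.mp X.isBasis_affineOpens hx
  exact ⟨U, hU, hxU, hUO⟩

lemma appLE_congr_hom {X Y : Scheme.{u}} {k k' : X ⟶ Y} (hk : k = k') (V : Y.Opens) (U : X.Opens)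
    (e : U ≤ k ⁻¹ᵁ V) : k.appLE V U e = k'.appLE V U (hk ▸ e) := by
  subst hk; rfl

set_option maxHeartbeats 1000000 in
theorem kLoc_baseChange {X Y S X' Y' S' : Scheme.{u}} (f : X ⟶ Y) (g : Y ⟶ S)
    [Flat (f ≫ g)] [LocallyOfFinitePresentation (f ≫ g)] [Flat g] [LocallyOfFinitePresentation g]
    (h : S' ⟶ S) (gY : Y' ⟶ Y) (g' : Y' ⟶ S') (hY : IsPullback gY g' g h)
    (gX : X' ⟶ X) (f' : X' ⟶ Y') (hX : IsPullback gX (f' ≫ g') (f ≫ g) h)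
    (w : gX ≫ f = f' ≫ gY) : KLoc f' = gX ⁻¹' KLoc f := by
  ext x'
  rw [Set.mem_preimage]
  -- the points
  have hpt : h (g' (f' x')) = g (f (gX x')) := by
    have := congr($(hX.w) x')
    simpa using this.symm
  have hpt2 : gY (f' x') = f (gX x') := by
    have := congr($(w) x')
    simpa using this.symm
  -- choose affines
  obtain ⟨W, hW, hsW, -⟩ := exists_affine_nhds_le (⊤ : S.Opens) (g (f (gX x'))) trivial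
  obtain ⟨W', hW', hs'W', hW'W⟩ := exists_affine_nhds_le (h ⁻¹ᵁ W) (g' (f' x'))
    (by change h (g' (f' x')) ∈ W; rw [hpt]; exact hsW)
  obtain ⟨V, hV, hyV, hVW⟩ := exists_affine_nhds_le (g ⁻¹ᵁ W) (f (gX x')) hsW
  obtain ⟨U, hU, hxU, hUV⟩ := exists_affine_nhds_le (f ⁻¹ᵁ V) (gX x') hyV
  have hUW : U ≤ (f ≫ g) ⁻¹ᵁ W := fun z hz => hVW (hUV hz)
  have hV' : IsAffineOpen (gY ⁻¹ᵁ V ⊓ g' ⁻¹ᵁ W') :=
    isAffineOpen_of_isPullback hY hW hW' hV hW'W hVW rfl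
  have hU' : IsAffineOpen (gX ⁻¹ᵁ U ⊓ (f' ≫ g') ⁻¹ᵁ W') :=
    isAffineOpen_of_isPullback hX hW hW' hU hW'W hUW rfl
  have hpoY := isPushout_appLE_of_isPullback hY hW hW' hV hW'W hVW
    (UY := gY ⁻¹ᵁ V ⊓ g' ⁻¹ᵁ W') rfl
  have hpoX := isPushout_appLE_of_isPullback hX hW hW' hU hW'W hUW
    (UY := gX ⁻¹ᵁ U ⊓ (f' ≫ g') ⁻¹ᵁ W') rfl
  have e' : gX ⁻¹ᵁ U ⊓ (f' ≫ g') ⁻¹ᵁ W' ≤ f' ⁻¹ᵁ (gY ⁻¹ᵁ V ⊓ g' ⁻¹ᵁ W') := by
    rintro z ⟨hz1, hz2⟩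
    refine ⟨?_, hz2⟩
    change gY (f' z) ∈ V
    have : gY (f' z) = f (gX z) := by
      have := congr($(w) z)
      simpa using this.symm
    rw [this]
    exact hUV hz1
  have hx' : x' ∈ gX ⁻¹ᵁ U ⊓ (f' ≫ g') ⁻¹ᵁ W' := ⟨hxU, hs'W'⟩
  rw [mem_kLoc_iff f' hU' hV' e' x' hx', mem_kLoc_iff f hU hV hUV (gX x') hxU]
  have hcomp1 : g.appLE W V hVW ≫ f.appLE V U hUV = (f ≫ g).appLE W U hUW :=
    Scheme.Hom.appLE_comp_appLE _ _ _ _ _ _ _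
  have hcomp2 : g'.appLE W' (gY ⁻¹ᵁ V ⊓ g' ⁻¹ᵁ W') inf_le_right ≫
      f'.appLE (gY ⁻¹ᵁ V ⊓ g' ⁻¹ᵁ W') (gX ⁻¹ᵁ U ⊓ (f' ≫ g') ⁻¹ᵁ W') e' =
      (f' ≫ g').appLE W' (gX ⁻¹ᵁ U ⊓ (f' ≫ g') ⁻¹ᵁ W') inf_le_right :=
    Scheme.Hom.appLE_comp_appLE _ _ _ _ _ _ _
  have hw : f.appLE V U hUV ≫ gX.appLE U (gX ⁻¹ᵁ U ⊓ (f' ≫ g') ⁻¹ᵁ W') inf_le_left =
      gY.appLE V (gY ⁻¹ᵁ V ⊓ g' ⁻¹ᵁ W') inf_le_left ≫
        f'.appLE (gY ⁻¹ᵁ V ⊓ g' ⁻¹ᵁ W') (gX ⁻¹ᵁ U ⊓ (f' ≫ g') ⁻¹ᵁ W') e' := by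
    rw [Scheme.Hom.appLE_comp_appLE, Scheme.Hom.appLE_comp_appLE]
    exact appLE_congr_hom w _ _ _
  rw [← hcomp1, ← hcomp2] at hpoX
  have hβ : (g.appLE W V hVW).hom.Flat :=
    HasRingHomProperty.appLE (P := @Flat) g inferInstance ⟨W, hW⟩ ⟨V, hV⟩ hVW
  have hβ' : (g.appLE W V hVW).hom.FinitePresentation :=
    HasRingHomProperty.appLE (P := @LocallyOfFinitePresentation) g inferInstance
      ⟨W, hW⟩ ⟨V, hV⟩ hVW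
  have hγ : (g.appLE W V hVW ≫ f.appLE V U hUV).hom.Flat := by
    rw [hcomp1]
    exact HasRingHomProperty.appLE (P := @Flat) (f ≫ g) inferInstance ⟨W, hW⟩ ⟨U, hU⟩ hUW
  have hγ' : (g.appLE W V hVW ≫ f.appLE V U hUV).hom.FinitePresentation := by
    rw [hcomp1]
    exact HasRingHomProperty.appLE (P := @LocallyOfFinitePresentation) (f ≫ g) inferInstance
      ⟨W, hW⟩ ⟨U, hU⟩ hUW
  have key := lciNear_baseChange_cat (g.appLE W V hVW) (h.appLE W W' hW'W)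
    (gY.appLE V (gY ⁻¹ᵁ V ⊓ g' ⁻¹ᵁ W') inf_le_left)
    (g'.appLE W' (gY ⁻¹ᵁ V ⊓ g' ⁻¹ᵁ W') inf_le_right)
    (f.appLE V U hUV) (f'.appLE (gY ⁻¹ᵁ V ⊓ g' ⁻¹ᵁ W') (gX ⁻¹ᵁ U ⊓ (f' ≫ g') ⁻¹ᵁ W') e')
    (gX.appLE U (gX ⁻¹ᵁ U ⊓ (f' ≫ g') ⁻¹ᵁ W') inf_le_left)
    hpoY hpoX hw hβ hβ' hγ hγ' (ptIdeal _ x' hx')
  rw [key, ptIdeal_comap]

end Groth.Agent.Helper19.KosLoc
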