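import Mathlib
import Groth.Agent.S9368
import Groth.Agent.S9287
import Groth.Agent.Helper19.KosLoc17

set_option autoImplicit false
set_option linter.style.haveILetI false
universe u

namespace Groth.Agent.Helper19.CIFib

open AlgebraicGeometry CategoryTheory Groth.Agent.Helper19.KosLoc
open Groth.Agent.Lib.Helper16.KzComp Groth.Agent.Lib.Helper23.SyntF

theorem finiteType_algU (k : Type u) [Field k] (X : Scheme.{u}) (p : X ⟶ Spec (CommRingCat.of k))
    [LocallyOfFiniteType p] (U : X.Opens) (hU : IsAffineOpen U) :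
    @Algebra.FiniteType k Γ(X, U) _ _ (Groth.Agent.S9368.algU k X p U) := by
  have h1 : (p.appLE ⊤ U le_top).hom.FiniteType :=
    HasRingHomProperty.appLE (P := @LocallyOfFiniteType) p inferInstance
      ⟨⊤, isAffineOpen_top _⟩ ⟨U, hU⟩ le_top
  have h2 : ((Scheme.ΓSpecIso (CommRingCat.of k)).inv).hom.FiniteType :=
    RingHom.FiniteType.of_surjective _ (Groth.Agent.S9368.bijective_ΓSpecIso_inv k).2
  exact h1.comp h2

theorem isCIOver_stalk_iff_mem_kLoc (k : Type u) [Field k] (X : Scheme.{u})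
    (p : X ⟶ Spec (CommRingCat.of k)) [LocallyOfFiniteType p] (x : X) :
    (letI := ((Scheme.ΓSpecIso (CommRingCat.of k)).inv ≫ p.appLE ⊤ ⊤ le_top ≫
        X.presheaf.germ ⊤ x trivial).hom.toAlgebra
     Synt.IsCIOver k (X.presheaf.stalk x)) ↔ x ∈ KLoc p := by
  constructor
  · intro h
    obtain ⟨U, hU, hxU, -⟩ := TopologicalSpace.Opens.isBasis_iff_nbhd.mp X.isBasis_affineOpens
      (TopologicalSpace.Opens.mem_top x)
    letI : Algebra k Γ(X, U) := Groth.Agent.S9368.algU k X p U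
    letI : Algebra k (X.presheaf.stalk x) := Groth.Agent.S9368.algStalk k X p x
    obtain ⟨e⟩ := Groth.Agent.S9368.nonempty_stalk_algEquiv k X p hU x hxU
    have h1 : Synt.IsCIOver k (Localization.AtPrime (hU.primeIdealOf ⟨x, hxU⟩).asIdeal) :=
      isCIOver_of_algEquiv e h
    haveI : Algebra.FiniteType k Γ(X, U) := finiteType_algU k X p U hU
    obtain ⟨g, hg, hCI⟩ := (t9144 (k := k) (hU.primeIdealOf ⟨x, hxU⟩).asIdeal).2.mp h1
    have h2 := Groth.Agent.S9368.isGlobalCI_basicOpen k X p hU g hCI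
    have hUg : IsAffineOpen (X.basicOpen g) := hU.basicOpen g
    letI : Algebra k Γ(X, X.basicOpen g) := Groth.Agent.S9368.algU k X p (X.basicOpen g)
    haveI : Algebra.FiniteType k Γ(X, X.basicOpen g) := finiteType_algU k X p _ hUg
    have h3 : Synt.IsLCIOver k Γ(X, X.basicOpen g) := isLCIOver_of_isGlobalCI h2
    have h4 := (Groth.Agent.S9368.isSyntomic_iff_isLCIOver k X p (X.basicOpen g)).mpr h3
    have h5 := ((@Groth.Agent.S9287.result Γ(Spec (CommRingCat.of k), ⊤) Γ(X, X.basicOpen g) _ _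
      (p.appLE ⊤ (X.basicOpen g) le_top).hom.toAlgebra).mp h4).2
    exact ⟨X.basicOpen g, ⊤, hUg, isAffineOpen_top _, le_top,
      (Groth.Agent.S9368.mem_basicOpen_iff X hU x hxU g).mpr hg, h5⟩
  · rintro ⟨U, V, hU, hV, hUV, hx, h⟩
    have hVtop : V = ⊤ := by
      ext y
      simp only [TopologicalSpace.Opens.coe_top, Set.mem_univ, iff_true]
      have : y = p x := Subsingleton.elim _ _
      rw [this]
      exact hUV hx
    subst hVtop
    have hfl : (p.appLE ⊤ U hUV).hom.Flat :=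
      HasRingHomProperty.appLE (P := @Flat) p inferInstance ⟨⊤, isAffineOpen_top _⟩ ⟨U, hU⟩ hUV
    have h4 : (letI := (p.appLE ⊤ U le_top).hom.toAlgebra
        Synt.IsSyntomic Γ(Spec (CommRingCat.of k), ⊤) Γ(X, U)) :=
      (@Groth.Agent.S9287.result Γ(Spec (CommRingCat.of k), ⊤) Γ(X, U) _ _
        (p.appLE ⊤ U le_top).hom.toAlgebra).mpr ⟨hfl, h⟩
    letI : Algebra k Γ(X, U) := Groth.Agent.S9368.algU k X p U
    letI : Algebra k (X.presheaf.stalk x) := Groth.Agent.S9368.algStalk k X p x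
    have h3 := (Groth.Agent.S9368.isSyntomic_iff_isLCIOver k X p U).mp h4
    obtain ⟨e⟩ := Groth.Agent.S9368.nonempty_stalk_algEquiv k X p hU x hx
    exact isCIOver_of_algEquiv e.symm
      (isCIOver_atPrime_of_isLCIOver h3 (hU.primeIdealOf ⟨x, hx⟩).asIdeal)

end Groth.Agent.Helper19.CIFib
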