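import Mathlib
import Groth.Agent.Helper19.CIFib1

set_option autoImplicit false
set_option linter.style.haveILetI false
universe u

namespace Groth.Agent.Helper19.CIFib

open AlgebraicGeometry CategoryTheory CategoryTheory.Limits Groth.Agent.Helper19.KosLoc

/-- the CI condition on the local ring of the fibre at a point -/
def CIpt {X S : Scheme.{u}} (f : X ⟶ S) (x : X) : Prop :=
  letI := ((Scheme.ΓSpecIso (S.residueField (f.base x))).inv ≫
      (f.fiberToSpecResidueField (f.base x)).appLE ⊤ ⊤ le_top ≫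
        (f.fiber (f.base x)).presheaf.germ ⊤ (f.asFiber x) trivial).hom.toAlgebra
  Synt.IsCIOver (S.residueField (f.base x)) ((f.fiber (f.base x)).presheaf.stalk (f.asFiber x))

theorem cipt_iff_mem_kLoc {X S : Scheme.{u}} (f : X ⟶ S) [LocallyOfFiniteType f] (x : X) :
    CIpt f x ↔ f.asFiber x ∈ KLoc (f.fiberToSpecResidueField (f x)) := by
  haveI : LocallyOfFiniteType (f.fiberToSpecResidueField (f x)) :=
    inferInstanceAs (LocallyOfFiniteType (pullback.snd f (S.fromSpecResidueField (f x))))
  exact isCIOver_stalk_iff_mem_kLoc (S.residueField (f x)) (f.fiber (f x))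
    (f.fiberToSpecResidueField (f x)) (f.asFiber x)

theorem mem_kLoc_fiber_transport {X S : Scheme.{u}} (f : X ⟶ S) (x : X) (s : S) (hs : f x = s)
    (y : f.fiber s) (hy : f.fiberι s y = x) :
    y ∈ KLoc (f.fiberToSpecResidueField s) ↔
      f.asFiber x ∈ KLoc (f.fiberToSpecResidueField (f x)) := by
  subst hs
  have : y = f.asFiber x :=
    (f.fiberι (f x)).isEmbedding.injective (by rw [hy, f.fiberι_asFiber])
  rw [this]

theorem kLoc_fiber_baseChange {X S X' S' : Scheme.{u}} (f : X ⟶ S) [LocallyOfFiniteType f]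
    (g : S' ⟶ S) (g' : X' ⟶ X) (f' : X' ⟶ S') (hsq : IsPullback g' f' f g) (s' : S')
    (Fmap : f'.fiber s' ⟶ f.fiber (g s'))
    (hpb : IsPullback Fmap (f'.fiberToSpecResidueField s') (f.fiberToSpecResidueField (g s'))
      (Spec.map (g.residueFieldMap s'))) :
    KLoc (f'.fiberToSpecResidueField s') = Fmap ⁻¹' KLoc (f.fiberToSpecResidueField (g s')) := by
  haveI : LocallyOfFiniteType (f.fiberToSpecResidueField (g s')) :=
    inferInstanceAs (LocallyOfFiniteType (pullback.snd f (S.fromSpecResidueField (g s'))))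
  haveI : LocallyOfFinitePresentation (f.fiberToSpecResidueField (g s')) :=
    LocallyOfFinitePresentation.iff_locallyOfFiniteType.mpr inferInstance
  haveI : Flat (f.fiberToSpecResidueField (g s') ≫ 𝟙 _) := by
    rw [Category.comp_id]; infer_instance
  haveI : LocallyOfFinitePresentation (f.fiberToSpecResidueField (g s') ≫ 𝟙 _) := by
    rw [Category.comp_id]; infer_instance
  have hY : IsPullback (Spec.map (g.residueFieldMap s')) (𝟙 (Spec (S'.residueField s')))
      (𝟙 (Spec (S.residueField (g s')))) (Spec.map (g.residueFieldMap s')) :=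
    IsPullback.of_vert_isIso ⟨by simp⟩
  have hX : IsPullback Fmap (f'.fiberToSpecResidueField s' ≫ 𝟙 _)
      (f.fiberToSpecResidueField (g s') ≫ 𝟙 _) (Spec.map (g.residueFieldMap s')) := by
    rw [Category.comp_id, Category.comp_id]; exact hpb
  exact kLoc_baseChange (f.fiberToSpecResidueField (g s')) (𝟙 _) (Spec.map (g.residueFieldMap s'))
    (Spec.map (g.residueFieldMap s')) (𝟙 _) hY Fmap (f'.fiberToSpecResidueField s') hX hpb.w

theorem cipt_baseChange {X S X' S' : Scheme.{u}} (f : X ⟶ S) [LocallyOfFiniteType f]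
    (g : S' ⟶ S) (g' : X' ⟶ X) (f' : X' ⟶ S') (hsq : IsPullback g' f' f g) (x' : X') :
    CIpt f' x' ↔ CIpt f (g' x') := by
  haveI : LocallyOfFiniteType f' :=
    MorphismProperty.of_isPullback (P := @LocallyOfFiniteType) hsq inferInstance
  rw [cipt_iff_mem_kLoc, cipt_iff_mem_kLoc]
  obtain ⟨Fmap, hFmap, hpb⟩ : ∃ Fmap : f'.fiber (f' x') ⟶ f.fiber (g (f' x')),
      Fmap ≫ f.fiberι (g (f' x')) = f'.fiberι (f' x') ≫ g' ∧
      IsPullback Fmap (f'.fiberToSpecResidueField (f' x'))
        (f.fiberToSpecResidueField (g (f' x'))) (Spec.map (g.residueFieldMap (f' x'))) :=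
    ⟨_, pullback.lift_fst _ _ _, isPullback_fiberToSpecResidueField_of_isPullback hsq (f' x')⟩
  rw [kLoc_fiber_baseChange f g g' f' hsq (f' x') Fmap hpb, Set.mem_preimage]
  have hs : f (g' x') = g (f' x') := by
    have := congr($(hsq.w) x')
    simpa using this
  refine mem_kLoc_fiber_transport f (g' x') (g (f' x')) hs _ ?_
  have h2 := congr($(hFmap) (f'.asFiber x'))
  simp only [Scheme.Hom.comp_apply] at h2
  rw [h2, f'.fiberι_asFiber]

end Groth.Agent.Helper19.CIFib
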