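import Mathlib
import Groth.Agent.Helper19.CIBridge1
import Groth.Agent.Helper19.CIFib2
import Groth.Prelude.Def_CInt

set_option autoImplicit false
set_option linter.style.haveILetI false
universe u

namespace Groth.Agent.Helper19.CIBridge

open AlgebraicGeometry CategoryTheory CategoryTheory.Limits Groth.Agent.Helper19.KosLoc
open Groth.Agent.Helper19.CIFib

theorem essFiniteType_algStalk (k : Type u) [Field k] (X : Scheme.{u})
    (p : X ⟶ Spec (CommRingCat.of k)) [LocallyOfFiniteType p] (x : X) :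
    @Algebra.EssFiniteType k (X.presheaf.stalk x) _ _ (Groth.Agent.S9368.algStalk k X p x) := by
  obtain ⟨U, hU, hxU, -⟩ := TopologicalSpace.Opens.isBasis_iff_nbhd.mp X.isBasis_affineOpens
    (TopologicalSpace.Opens.mem_top x)
  letI : Algebra k Γ(X, U) := Groth.Agent.S9368.algU k X p U
  letI : Algebra k (X.presheaf.stalk x) := Groth.Agent.S9368.algStalk k X p x
  obtain ⟨e⟩ := Groth.Agent.S9368.nonempty_stalk_algEquiv k X p hU x hxU
  haveI : Algebra.FiniteType k Γ(X, U) := finiteType_algU k X p U hU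
  haveI : Algebra.EssFiniteType k (Localization.AtPrime (hU.primeIdealOf ⟨x, hxU⟩).asIdeal) :=
    Algebra.EssFiniteType.comp k Γ(X, U) _
  exact (Algebra.EssFiniteType.iff_of_algEquiv e).mpr inferInstance

theorem pi1CI_stalk_iff_mem_kLoc (k : Type u) [Field k] (X : Scheme.{u})
    (p : X ⟶ Spec (CommRingCat.of k)) [LocallyOfFiniteType p] (x : X) :
    Pi1.IsCompleteIntersection (X.presheaf.stalk x) ↔ x ∈ KLoc p := by
  rw [← isCIOver_stalk_iff_mem_kLoc k X p x]
  letI : Algebra k (X.presheaf.stalk x) := Groth.Agent.S9368.algStalk k X p x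
  haveI := essFiniteType_algStalk k X p x
  exact pi1CI_iff_isCIOver k (X.presheaf.stalk x)

theorem pi1CI_fiberStalk_iff {X S : Scheme.{u}} (f : X ⟶ S) [LocallyOfFiniteType f] (x : X) :
    Pi1.IsCompleteIntersection (CInt.fiberStalk f x) ↔
      f.asFiber x ∈ KLoc (f.fiberToSpecResidueField (f x)) := by
  haveI : LocallyOfFiniteType (f.fiberToSpecResidueField (f x)) :=
    inferInstanceAs (LocallyOfFiniteType (pullback.snd f (S.fromSpecResidueField (f x))))
  exact pi1CI_stalk_iff_mem_kLoc (S.residueField (f x)) (f.fiber (f x))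
    (f.fiberToSpecResidueField (f x)) (f.asFiber x)

theorem pi1CI_fiberStalk_iff_cipt {X S : Scheme.{u}} (f : X ⟶ S) [LocallyOfFiniteType f] (x : X) :
    Pi1.IsCompleteIntersection (CInt.fiberStalk f x) ↔ CIpt f x := by
  rw [pi1CI_fiberStalk_iff, cipt_iff_mem_kLoc]

/-- base change invariance of the CI property of fibre local rings -/
theorem pi1CI_fiberStalk_baseChange {X S X' S' : Scheme.{u}} (f : X ⟶ S) [LocallyOfFiniteType f]
    (g : S' ⟶ S) (g' : X' ⟶ X) (f' : X' ⟶ S') (hsq : IsPullback g' f' f g) (x' : X') :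
    Pi1.IsCompleteIntersection (CInt.fiberStalk f' x') ↔
      Pi1.IsCompleteIntersection (CInt.fiberStalk f (g' x')) := by
  haveI : LocallyOfFiniteType f' :=
    MorphismProperty.of_isPullback (P := @LocallyOfFiniteType) hsq inferInstance
  rw [pi1CI_fiberStalk_iff_cipt, pi1CI_fiberStalk_iff_cipt]
  exact cipt_baseChange f g g' f' hsq x'

/-- **fibre criterion**: for a flat morphism locally of finite presentation, the Koszul (lci)
locus is detected on fibres. -/
theorem mem_kLoc_fiber_iff {X S : Scheme.{u}} (f : X ⟶ S) [Flat f] [LocallyOfFinitePresentation f]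
    (x : X) :
    f.asFiber x ∈ KLoc (f.fiberToSpecResidueField (f x)) ↔ x ∈ KLoc f := by
  haveI : Flat (f ≫ 𝟙 S) := by rw [Category.comp_id]; infer_instance
  haveI : LocallyOfFinitePresentation (f ≫ 𝟙 S) := by rw [Category.comp_id]; infer_instance
  have hY : IsPullback (S.fromSpecResidueField (f x)) (𝟙 (Spec (S.residueField (f x))))
      (𝟙 S) (S.fromSpecResidueField (f x)) := IsPullback.of_vert_isIso ⟨by simp⟩
  have hX : IsPullback (f.fiberι (f x)) (f.fiberToSpecResidueField (f x) ≫ 𝟙 _) (f ≫ 𝟙 S)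
      (S.fromSpecResidueField (f x)) := by
    rw [Category.comp_id, Category.comp_id]
    exact IsPullback.of_hasPullback f (S.fromSpecResidueField (f x))
  have h := kLoc_baseChange f (𝟙 S) (S.fromSpecResidueField (f x)) (S.fromSpecResidueField (f x))
    (𝟙 _) hY (f.fiberι (f x)) (f.fiberToSpecResidueField (f x)) hX (f.fiber_fac (f x))
  rw [h, Set.mem_preimage, f.fiberι_asFiber]

theorem pi1CI_fiberStalk_iff_mem_kLoc {X S : Scheme.{u}} (f : X ⟶ S) [Flat f]
    [LocallyOfFinitePresentation f] (x : X) :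
    Pi1.IsCompleteIntersection (CInt.fiberStalk f x) ↔ x ∈ KLoc f := by
  rw [pi1CI_fiberStalk_iff, mem_kLoc_fiber_iff]

end Groth.Agent.Helper19.CIBridge
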