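import Mathlib
import Groth.Prelude.Def_AlgSpMor6
import Groth.Agent.Helper19.AlgSpLci3
import Groth.Agent.Helper19.CIBridge3
import Groth.Agent.Lib.Helper14.HasAtMorChart

/-!
# The Koszul locus is invariant under étale squares (helper19)
-/

set_option autoImplicit false
set_option linter.style.haveILetI false
set_option linter.unusedSectionVars false
set_option linter.unusedVariables false
universe u

open CategoryTheory CategoryTheory.Limits AlgebraicGeometry Opposite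

namespace Groth.Agent.Helper19.AlgSpLci

open AlgSp Groth.Agent.Lib.Helper14.AS Groth.Agent.Lib.Helper14.ESL
open Groth.Agent.Lib.Helper16.KzComp Groth.Agent.Helper19.LciMor Groth.Agent.Helper19.LciCancel
open Groth.Agent.Helper19.KosLoc Groth.Agent.Helper19.CIBridge

variable {X Y Z : Scheme.{u}}

lemma isLCIHom_appLE_congr (f : X ⟶ Y) (V : Y.Opens) {U₁ U₂ : X.Opens} (h : U₁ = U₂)
    (e₁ : U₁ ≤ f ⁻¹ᵁ V) (e₂ : U₂ ≤ f ⁻¹ᵁ V) :
    IsLCIHom (f.appLE V U₁ e₁).hom ↔ IsLCIHom (f.appLE V U₂ e₂).hom := by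
  subst h
  rfl

/-- sections of the restriction to an open subscheme -/
lemma isLCIHom_appLE_ι_comp_iff (f : X ⟶ Y) (O : X.Opens) (V : Y.Opens)
    (U' : (O : Scheme.{u}).Opens) (e' : U' ≤ (O.ι ≫ f) ⁻¹ᵁ V) (e : O.ι ''ᵁ U' ≤ f ⁻¹ᵁ V) :
    IsLCIHom ((O.ι ≫ f).appLE V U' e').hom ↔ IsLCIHom (f.appLE V (O.ι ''ᵁ U') e).hom := by
  have hle : U' ≤ O.ι ⁻¹ᵁ (O.ι ''ᵁ U') := (O.ι.preimage_image_eq U').ge
  have h1 : f.appLE V (O.ι ''ᵁ U') e ≫ O.ι.appLE (O.ι ''ᵁ U') U' hle =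
      (O.ι ≫ f).appLE V U' e' := Scheme.Hom.appLE_comp_appLE _ _ _ _ _ _ _
  have h2 : O.ι.appLE (O.ι ''ᵁ U') U' hle = (O.ι.appIso U').hom := (O.ι.appIso_hom' U').symm
  let ε : Γ(X, O.ι ''ᵁ U') ≃+* Γ((O : Scheme.{u}), U') := (O.ι.appIso U').commRingCatIsoToRingEquiv
  have h3 : ((O.ι ≫ f).appLE V U' e').hom = ε.toRingHom.comp (f.appLE V (O.ι ''ᵁ U') e).hom := by
    rw [← h1, h2, CommRingCat.hom_comp]
    rfl
  rw [h3]
  constructor
  · intro h
    have h4 := isLCIHom_respectsIso.1 _ ε.symm h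
    convert h4 using 1
    refine RingHom.ext fun a => ?_
    simp
  · intro h
    exact isLCIHom_respectsIso.1 _ ε h

/-- a point is in the Koszul locus iff the morphism is lci on an open neighbourhood -/
theorem mem_kLoc_iff_exists_open (f : X ⟶ Y) (x : X) :
    x ∈ KLoc f ↔ ∃ O : X.Opens, x ∈ O ∧ LCIMor (O.ι ≫ f) := by
  constructor
  · rintro ⟨U, V, hU, hV, e, hx, hq⟩
    refine ⟨U, hx, ?_⟩
    rw [lciMor_iff_forall_mem_kLoc]
    intro y
    haveI : IsAffine (U : Scheme.{u}) := hU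
    have e' : (⊤ : (U : Scheme.{u}).Opens) ≤ (U.ι ≫ f) ⁻¹ᵁ V := fun z _ => e z.2
    have e₁ : U.ι ''ᵁ (⊤ : (U : Scheme.{u}).Opens) ≤ f ⁻¹ᵁ V := by
      rw [Scheme.Opens.ι_image_top]; exact e
    refine ⟨⊤, V, isAffineOpen_top _, hV, e', trivial, ?_⟩
    rw [isLCIHom_appLE_ι_comp_iff f U V ⊤ e' e₁,
      isLCIHom_appLE_congr f V (Scheme.Opens.ι_image_top U) e₁ e]
    exact hq
  · rintro ⟨O, hx, h⟩
    obtain ⟨U', V, hU', hV, e', hxU', hq⟩ := (lciMor_iff_forall_mem_kLoc _).mp h ⟨x, hx⟩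
    have e : O.ι ''ᵁ U' ≤ f ⁻¹ᵁ V := by
      rintro _ ⟨y, hy, rfl⟩
      exact e' hy
    refine ⟨O.ι ''ᵁ U', V, hU'.image_of_isOpenImmersion O.ι, hV, e, ⟨⟨x, hx⟩, hxU', rfl⟩, ?_⟩
    exact (isLCIHom_appLE_ι_comp_iff f O V U' e' e).mp hq

/-- postcomposition with an étale (smooth) morphism does not change the Koszul locus -/
theorem kLoc_comp_smooth (f : X ⟶ Y) (g : Y ⟶ Z) [Smooth g] : KLoc (f ≫ g) = KLoc f := by
  ext x
  rw [mem_kLoc_iff_exists_open, mem_kLoc_iff_exists_open]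
  constructor
  · rintro ⟨O, hx, h⟩
    refine ⟨O, hx, lciMor_of_comp_smooth (O.ι ≫ f) g ?_⟩
    rwa [Category.assoc]
  · rintro ⟨O, hx, h⟩
    refine ⟨O, hx, ?_⟩
    rw [← Category.assoc]
    exact MorphismProperty.comp_mem _ _ _ h (lciMor_of_smooth g)

/-- precomposition with an étale (smooth) morphism pulls back the Koszul locus -/
theorem kLoc_smooth_comp (a : X ⟶ Y) (h : Y ⟶ Z) [Smooth a] : KLoc (a ≫ h) = a ⁻¹' KLoc h := by
  ext x
  rw [Set.mem_preimage, mem_kLoc_iff_exists_open, mem_kLoc_iff_exists_open]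
  constructor
  · rintro ⟨O', hx, hO'⟩
    have hopen : IsOpen (a '' (O' : Set X)) := a.isOpenMap _ O'.2
    let O : Y.Opens := ⟨a '' (O' : Set X), hopen⟩
    refine ⟨O, ⟨x, hx, rfl⟩, ?_⟩
    have hrange : Set.range (O'.ι ≫ a) ⊆ Set.range O.ι := by
      rintro _ ⟨y, rfl⟩
      rw [Scheme.Opens.range_ι]
      exact ⟨y.1, y.2, rfl⟩
    let a' : (O' : Scheme.{u}) ⟶ (O : Scheme.{u}) := IsOpenImmersion.lift O.ι (O'.ι ≫ a) hrange
    have ha' : a' ≫ O.ι = O'.ι ≫ a := IsOpenImmersion.lift_fac _ _ _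
    have hsm : Smooth a' := by
      have : Smooth (a' ≫ O.ι) := by rw [ha']; infer_instance
      exact MorphismProperty.of_postcomp (W := @Smooth) (W' := @IsOpenImmersion) a' O.ι
        inferInstance this
    have hsurj : Surjective a' := by
      refine ⟨fun y => ?_⟩
      obtain ⟨z, hz, hzy⟩ := y.2
      refine ⟨⟨z, hz⟩, O.ι.injective ?_⟩
      rw [← Scheme.Hom.comp_apply, ha']
      exact hzy
    have h1 : LCIMor (a' ≫ O.ι ≫ h) := by
      rw [← Category.assoc, ha', Category.assoc]; exact hO'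
    exact (lci_iff _).mp (lci_of_smooth_comp a' (O.ι ≫ h) hsm hsurj ((lci_iff _).mpr h1))
  · rintro ⟨O, hx, hO⟩
    refine ⟨a ⁻¹ᵁ O, hx, ?_⟩
    have h1 : (a ⁻¹ᵁ O).ι ≫ a ≫ h = (a ∣_ O) ≫ O.ι ≫ h := by
      rw [← Category.assoc, ← morphismRestrict_ι, Category.assoc]
    rw [h1]
    haveI : Smooth (a ∣_ O) := IsZariskiLocalAtTarget.restrict (P := @Smooth) inferInstance O
    exact MorphismProperty.comp_mem _ _ _ (lciMor_of_smooth _) hO

/-- membership in the Koszul locus is invariant under étale squares -/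
theorem etSqInv_kLoc : EtSqInv.{u} (fun _ _ h u => u ∈ KLoc h) := by
  intro U U' V V' h h' a b ha hb comm u'
  haveI := ha
  haveI := hb
  have h1 : KLoc (h' ≫ b) = KLoc h' := kLoc_comp_smooth h' b
  have h2 : KLoc (a ≫ h) = a ⁻¹' KLoc h := kLoc_smooth_comp a h
  rw [comm, h2] at h1
  change a u' ∈ KLoc h ↔ u' ∈ KLoc h'
  rw [← h1]
  rfl

end Groth.Agent.Helper19.AlgSpLci
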