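import Mathlib
import Groth.Prelude.Def_AlgSpMor6
import Groth.Agent.Helper19.AlgSpLci4
import Groth.Agent.Helper19.KosLoc17
import Groth.Agent.Lib.Helper14.FlatLoc5

/-!
# The Koszul locus of a morphism of algebraic spaces (helper19)
-/

set_option autoImplicit false
set_option linter.style.haveILetI false
set_option linter.unusedSectionVars false
set_option linter.unusedVariables false
universe u

open CategoryTheory CategoryTheory.Limits AlgebraicGeometry Opposite Topology

namespace Groth.Agent.Helper19.AlgSpLci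

open AlgSp Groth.Agent.Lib.Helper14.AS Groth.Agent.Lib.Helper14.ESL
open Groth.Agent.Lib.Helper16.KzComp Groth.Agent.Helper19.LciMor Groth.Agent.Helper19.LciCancel
open Groth.Agent.Helper19.KosLoc Groth.Agent.Helper19.CIBridge

variable {S : Scheme.{u}}

/-- `f` is Koszul at the point `x`: in every chart diagram through `x` the point lies in the Koszul
locus of the top arrow. -/
def IsLciAt {X Y : Sp S} (f : X ⟶ Y) (x : Points X) : Prop :=
  LocPAt (fun h u => u ∈ KLoc h) f x

set_option backward.isDefEq.respectTransparency.types false in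
/-- being Koszul at a point can be tested on one chart diagram -/
theorem isLciAt_ofPt_iff {X Y : Sp S} (f : X ⟶ Y) {U V : Over S}
    (a : (yon S).obj U ⟶ X) (b : (yon S).obj V ⟶ Y) (h : U ⟶ V)
    (ha : RepWith @Etale a) (hb : RepWith @Etale b) (comm : a ≫ f = (yon S).map h ≫ b)
    (u : ↥U.left) :
    IsLciAt f (Points.ofPt a u) ↔ u ∈ KLoc h.left := by
  constructor
  · intro H
    exact H a b h u ha hb comm rfl
  · intro H U₁ V₁ a₁ b₁ h₁ u₁ ha₁ hb₁ comm₁ hu₁
    exact (Q_chart_indep etSqInv_kLoc f a b h ha hb comm a₁ b₁ h₁ ha₁ hb₁ comm₁ u u₁ hu₁.symm).1 H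

set_option backward.isDefEq.respectTransparency.types false in
theorem isLCIMor_iff_forall_isLciAt {X Y : Sp S} (f : X ⟶ Y) :
    AlgSp.IsLCIMor f ↔ ∀ x, IsLciAt f x := by
  constructor
  · intro hf x U V a b h u ha hb comm _
    have h1 : AlgSp.lci h.left := hf a b h ha hb comm
    exact (lciMor_iff_forall_mem_kLoc _).mp ((lci_iff _).mp h1) u
  · intro H U V a b h ha hb comm
    exact (lci_iff _).mpr ((lciMor_iff_forall_mem_kLoc _).mpr
      fun u => H (Points.ofPt a u) a b h u ha hb comm rfl)

set_option backward.isDefEq.respectTransparency.types false in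
/-- openness of the Koszul locus -/
theorem isOpen_isLciAt {X Y : Sp S} (hXa : IsAlgSpace X) (hYa : IsAlgSpace Y) (f : X ⟶ Y) :
    IsOpen {x : Points X | IsLciAt f x} := by
  obtain ⟨V, b, hbe, hbs⟩ := hYa.atlas
  obtain ⟨U, a, hU, hae, has, comm_a⟩ := exists_chart_diagram hXa f b hbe hbs
  rw [← (isQuotientMap_ofPt a hae has).isOpen_preimage]
  have : Points.ofPt a ⁻¹' {x : Points X | IsLciAt f x} = KLoc hU.left := by
    ext u
    exact isLciAt_ofPt_iff f a b hU hae hbe comm_a u
  rw [this]
  exact isOpen_kLoc hU.left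

set_option backward.isDefEq.respectTransparency.types false in
set_option maxHeartbeats 1000000 in
/-- the Koszul locus of `f : X ⟶ Y` commutes with base change along `Z' ⟶ Z` when `X` and `Y` are
flat and locally of finite presentation over `Z` -/
theorem isLciAt_baseChange_iff {X Y Z X' Y' Z' : Sp S} (hXa : IsAlgSpace X)
    (hYa : IsAlgSpace Y) (hZa : IsAlgSpace Z) (hZ'a : IsAlgSpace Z')
    (f : X ⟶ Y) (h : Y ⟶ Z) (g : Z' ⟶ Z) (f' : X' ⟶ Y') (h' : Y' ⟶ Z') (pX : X' ⟶ X) (pY : Y' ⟶ Y)
    (hfp : LocP @LocallyOfFinitePresentation (f ≫ h)) (hfl : LocP @Flat (f ≫ h))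
    (hhp : LocP @LocallyOfFinitePresentation h) (hhl : LocP @Flat h)
    (sq1 : IsPullback pY h' h g) (sq2 : IsPullback pX f' f pY) (x' : Points X') :
    IsLciAt f' x' ↔ IsLciAt f (Points.map pX x') := by
  obtain ⟨V, W, V', W', b, c, b', c', hV, hV', βV, γ, hbe, hbs, hce, hcs, hb'e, hb's, hc'e, hc's,
    comm_b, comm_b', comm_β, comm_γ, sqV⟩ := exists_bc_chart hYa hZa hZ'a h g pY h' sq1
  obtain ⟨U, U', a, a', hU, hU', α, hae, has, ha'e, ha's, comm_a, comm_a', comm_α, sqU⟩ :=
    exists_bc_chart_over hXa hYa f pY pX f' sq2 b b' βV hbe hbs hb'e hb's comm_β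
  obtain ⟨u', rfl⟩ := ofPt_surjective_of_repWith ha's x'
  have hpt : Points.map pX (Points.ofPt a' u') = Points.ofPt a (α.left u') := by
    rw [Points.map_ofPt, comm_α, ofPt_yon_map_comp]
  rw [hpt, isLciAt_ofPt_iff f' a' b' hU' ha'e hb'e comm_a' u',
    isLciAt_ofPt_iff f a b hU hae hbe comm_a (α.left u')]
  haveI : LocallyOfFinitePresentation hV.left := hhp b c hV hbe hce comm_b
  haveI : Flat hV.left := hhl b c hV hbe hce comm_b
  have comm_ac : a ≫ (f ≫ h) = (yon S).map (hU ≫ hV) ≫ c := by
    rw [← Category.assoc, comm_a, Category.assoc, comm_b, ← Category.assoc, ← Functor.map_comp]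
  haveI : LocallyOfFinitePresentation (hU.left ≫ hV.left) :=
    hfp a c (hU ≫ hV) hae hce comm_ac
  haveI : Flat (hU.left ≫ hV.left) := hfl a c (hU ≫ hV) hae hce comm_ac
  have sqV' : IsPullback βV.left hV'.left hV.left γ.left := sqV.map (Over.forget S)
  have sqU' : IsPullback α.left hU'.left hU.left βV.left := sqU.map (Over.forget S)
  have hk := kLoc_baseChange hU.left hV.left γ.left βV.left hV'.left sqV' α.left hU'.left
    (sqU'.paste_vert sqV') sqU'.w
  rw [hk]
  rfl

end Groth.Agent.Helper19.AlgSpLci
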