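import Mathlib
import Groth.Prelude.Def_AlgSpMor6
import Groth.Agent.Helper19.AlgSpLci5
import Groth.Agent.Lib.Helper14.LqfLocus
import Groth.Agent.Lib.Helper14.AlgSpRepTo
import Groth.Agent.Lib.Helper8.AlgSpOpenSub

/-!
# Koszul near a point, for morphisms of algebraic spaces (helper19)
-/

set_option autoImplicit false
set_option linter.style.haveILetI false
set_option linter.unusedSectionVars false
set_option linter.unusedVariables false
universe u

open CategoryTheory CategoryTheory.Limits AlgebraicGeometry Opposite Topology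

namespace Groth.Agent.Helper19.AlgSpLci

open AlgSp Groth.Agent.Lib.Helper14.AS Groth.Agent.Lib.Helper14.ESL
open Groth.Agent.Lib.Helper16.KzComp Groth.Agent.Helper19.LciMor Groth.Agent.Helper19.LciCancel
open Groth.Agent.Helper19.KosLoc Groth.Agent.Helper19.CIBridge

variable {S : Scheme.{u}}

set_option backward.isDefEq.respectTransparency.types false in
/-- restriction to an open subspace does not change being Koszul at a point -/
theorem isLciAt_open_comp_iff {W X Y : Sp S} (hWa : IsAlgSpace W) (hYa : IsAlgSpace Y)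
    (j : W ⟶ X) (hj : RepWith @IsOpenImmersion j) (f : X ⟶ Y) (w : Points W) :
    IsLciAt (j ≫ f) w ↔ IsLciAt f (Points.map j w) := by
  obtain ⟨V, b, hbe, hbs⟩ := hYa.atlas
  obtain ⟨U, a, h, hae, has, comm⟩ := exists_chart_diagram hWa (j ≫ f) b hbe hbs
  obtain ⟨u, rfl⟩ := ofPt_surjective_of_repWith has w
  have haj : RepWith @Etale (a ≫ j) := isEtaleMor_of_repWith_isOpenImmersion hj a hae
  have comm' : (a ≫ j) ≫ f = (yon S).map h ≫ b := by rw [Category.assoc]; exact comm
  rw [Points.map_ofPt, isLciAt_ofPt_iff (j ≫ f) a b h hae hbe comm u,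
    isLciAt_ofPt_iff f (a ≫ j) b h haj hbe comm' u]

set_option backward.isDefEq.respectTransparency.types false in
/-- "Koszul on an open neighbourhood of `x`" is "Koszul at `x`" -/
theorem locPNear_lci_iff_isLciAt (X Y : Space S) (f : X ⟶ Y) (x : Points X.obj) :
    LocPNear AlgSp.lci f.hom x ↔ IsLciAt f.hom x := by
  constructor
  · rintro ⟨W, j, hj, ⟨w, rfl⟩, hjf⟩
    have hWa : IsAlgSpace W := isAlgSpace_of_representable_to X.property j hj.1
    rw [← isLciAt_open_comp_iff hWa Y.property j hj f.hom w]
    exact (isLCIMor_iff_forall_isLciAt _).mp hjf w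
  · intro hx
    have hO : IsOpen {x : Points X.obj | IsLciAt f.hom x} :=
      isOpen_isLciAt X.property Y.property f.hom
    obtain ⟨W, j, hj, hrange⟩ :=
      Groth.Agent.Lib.Helper8.AlgSpOpenSub.exists_openSubspace X _ hO
    refine ⟨W.obj, j.hom, hj, ?_, ?_⟩
    · rw [hrange]; exact hx
    · change AlgSp.IsLCIMor (j.hom ≫ f.hom)
      rw [isLCIMor_iff_forall_isLciAt]
      intro w
      rw [isLciAt_open_comp_iff W.property Y.property j.hom hj f.hom w]
      have : Points.map j.hom w ∈ Set.range (Points.map j.hom) := ⟨w, rfl⟩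
      rw [hrange] at this
      exact this

end Groth.Agent.Helper19.AlgSpLci
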