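import Groth.Agent.Lib.Helper24.AlgStLocQ9
import Groth.Agent.Helper19.AlgSpLci8
set_option autoImplicit false
open CategoryTheory AlgebraicGeometry Opposite
universe w₁ v₁ w₂ v₂ w₃ v₃ w₄ v₄ u
set_option backward.isDefEq.respectTransparency false
set_option backward.isDefEq.respectTransparency.types false

/-! Cancellation of local complete intersection morphisms of algebraic stacks against smooth
morphisms (helper19, following helper24's `AlgStLocQ9` rows). -/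

namespace Groth.Agent.Helper19.AlgStLci
open Groth.Agent.Lib.Helper24.FibCatFpMap
open Groth.Agent.Lib.Helper24.FibCatEquiv Groth.Agent.Lib.Helper24.FibCatFpGen
open Groth.Agent.Lib.Helper24.AlgStRep
open Groth.Agent.Lib.Helper24.AlgStBridge Groth.Agent.Lib.Helper24.AlgStBoot
open Groth.Agent.Lib.Helper24.AlgStRepS
open Groth.Agent.Lib.Helper24.AlgStSchLocal
open Groth.Agent.Lib.Helper24.AlgStGC
open Groth.Agent.Lib.Helper24.AlgStProps Groth.Agent.Lib.Helper24.AlgStSmooth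
open Groth.Agent.Lib.Helper24.AlgStFpAlg Groth.Agent.Lib.Helper24.AlgStSmLoc
open Groth.Agent.Lib.Helper24.AlgStEqv Groth.Agent.Lib.Helper24.PshBridge
open Groth.Agent.Lib.Helper24.AlgStLocQ1 Groth.Agent.Lib.Helper24.FibCatFpMapL
open Groth.Agent.Lib.Helper24.AlgStLocQ2 Groth.Agent.Lib.Helper24.FibCatFpLiftIso
open Groth.Agent.Lib.Helper24.AlgStLocQ3 Groth.Agent.Lib.Helper24.AlgStProdAlg
open Groth.Agent.Lib.Helper24.AlgStLocQ4 Groth.Agent.Lib.Helper24.AlgStLocQ5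
open Groth.Agent.Lib.Helper24.AlgStLocQ6 Groth.Agent.Lib.Helper24.AlgStLocQ7
open Groth.Agent.Lib.Helper24.AlgStLocQ8 Groth.Agent.Lib.Helper24.AlgStLocQ9
open Groth.Agent.Lib.Helper24.AlgStCalc Groth.Agent.Lib.Helper24.AlgStDiag
open Groth.Agent.Lib.Helper24.AlgStCalc2 Groth.Agent.Lib.Helper24.AlgStDescent
open Groth.Agent.Lib.Helper24.FibCatOverMap Groth.Agent.Lib.Helper24.AlgStAtlas
open Groth.Agent.Lib.Helper24.FibCatGraph Groth.Agent.Lib.Helper24.AlgStDiagLft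
open Groth.Agent.Lib.Helper24.FibCatFpSwap Groth.Agent.Lib.Helper24.AlgStProd
open Groth.Agent.Lib.Helper24.AlgSpSmLocal
open Groth.Agent.Helper19.AlgSpLci
open CategoryTheory.Limits

variable {S : Scheme.{u}}

section Rows
variable {𝒳 𝒴 𝒵 : AlgSt.Cat S} (h𝒳 : AlgSt.IsAlgStack Scheme.fppfPrecoverage 𝒳)
  (h𝒴 : AlgSt.IsAlgStack Scheme.fppfPrecoverage 𝒴)
  (h𝒵 : AlgSt.IsAlgStack Scheme.fppfPrecoverage 𝒵) (f : 𝒳 ⥤ᵇ 𝒴) (g : 𝒴 ⥤ᵇ 𝒵)
open Groth.Agent.Lib.Helper14.AS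

include h𝒳 h𝒴 h𝒵 in
/-- S19901 (without the 2-isomorphism) -/
theorem locQ_lci_of_comp_smooth
    (H : AlgSt.LocQ AlgSp.IsLCIMor (BasedFunctor.comp f g))
    (Hg : AlgSt.LocQ (AlgSp.LocP @Smooth) g) :
    AlgSt.LocQ AlgSp.IsLCIMor f := by
  obtain ⟨U, V, W, x, y, z, h, k, α, β, ⟨hx, hx'⟩, ⟨hy, -⟩, ⟨hz, -⟩, ⟨hℓf, -⟩, ⟨hℓg, -⟩⟩ :=
    exists_two_squares h𝒳 h𝒴 h𝒵 f g
  have h1 := P_comp_of_locQ h𝒳 h𝒴 h𝒵 f g isSmoothLocalST_lci H x y z h k α β hz hℓf hℓg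
  have h2 : AlgSp.lci (h ≫ k).left := AlgSp.locP_yon_map h1
  rw [Over.comp_left] at h2
  have h3 : Smooth k.left := AlgSp.locP_yon_map
    ((locQ_iff_forall h𝒴 h𝒵 g isSmoothLocalST_smooth).1 Hg V W y z k β hy hz hℓg)
  have h4 : AlgSp.lci h.left := lci_of_comp_smooth h.left k.left h2 h3
  exact ⟨U, V, x, y, h, α, hx, hx', hy, locP_yon_map_of etLocal_lci h4⟩

include h𝒳 h𝒴 h𝒵 in
/-- S19901 -/
theorem locQ_lci_of_comp_iso_smooth (p : 𝒳 ⥤ᵇ 𝒵) (e : BasedFunctor.comp f g ≅ p)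
    (Hg : AlgSt.LocQ (AlgSp.LocP @Smooth) g) (hp : AlgSt.LocQ AlgSp.IsLCIMor p) :
    AlgSt.LocQ AlgSp.IsLCIMor f :=
  locQ_lci_of_comp_smooth h𝒳 h𝒴 h𝒵 f g (locQ_of_iso e.symm hp) Hg

end Rows

end Groth.Agent.Helper19.AlgStLci
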