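import Mathlib

/-!
# Annihilators of finitely generated modules commute with flat base change
-/

set_option autoImplicit false

namespace Groth.Agent.Helper19.AnnBC

open TensorProduct

universe u v w

theorem mem_map_annihilator_of_flat {A : Type u} {B : Type v} {M : Type w} [CommRing A] [CommRing B]
    [Algebra A B] [Module.Flat A B] [AddCommGroup M] [Module A M] {n : ℕ} (s : Fin n → M)
    (hs : Submodule.span A (Set.range s) = ⊤) (b : B)
    (hb : ∀ i, b ⊗ₜ[A] s i = (0 : B ⊗[A] M)) :
    b ∈ (Module.annihilator A M).map (algebraMap A B) := by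
  classical
  let g : A →ₗ[A] (Fin n → M) := LinearMap.pi (fun i => LinearMap.toSpanSingleton A M (s i))
  let C : Ideal A := LinearMap.ker g
  have hC : C ≤ Module.annihilator A M := by
    intro c hc
    rw [Module.mem_annihilator]
    intro m
    have hm : m ∈ Submodule.span A (Set.range s) := hs ▸ Submodule.mem_top
    have hci : ∀ i, c • s i = 0 := by
      intro i
      have : g c i = 0 := by rw [LinearMap.mem_ker.mp hc]; rfl
      exact this
    induction hm using Submodule.span_induction with
    | mem m hm => obtain ⟨i, rfl⟩ := hm; exact hci i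
    | zero => rw [smul_zero]
    | add a' b' _ _ ha hb' => rw [smul_add, ha, hb', add_zero]
    | smul r a' _ ha => rw [smul_comm, ha, smul_zero]
  have hex : Function.Exact (C.subtype.lTensor B) (g.lTensor B) :=
    Module.Flat.lTensor_exact B (LinearMap.exact_subtype_ker_map g)
  have h0 : (g.lTensor B) (b ⊗ₜ[A] (1 : A)) = 0 := by
    rw [LinearMap.lTensor_tmul]
    have : g 1 = ∑ i, (Pi.single i (s i) : Fin n → M) := by
      ext j
      simp [g, Finset.sum_apply, Pi.single_apply]
    rw [this, TensorProduct.tmul_sum]
    refine Finset.sum_eq_zero (fun i _ => ?_)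
    have h1 : (Pi.single i (s i) : Fin n → M) = LinearMap.single A (fun _ => M) i (s i) := rfl
    rw [h1]
    have h2 : b ⊗ₜ[A] (LinearMap.single A (fun _ => M) i (s i)) =
        (LinearMap.single A (fun _ => M) i).lTensor B (b ⊗ₜ[A] s i) := by
      rw [LinearMap.lTensor_tmul]
    rw [h2, hb i, map_zero]
  obtain ⟨z, hz⟩ := (hex _).1 h0
  have key : ∀ z : B ⊗[A] C, TensorProduct.rid A B ((C.subtype.lTensor B) z) ∈
      C • (⊤ : Submodule A B) := by
    intro z
    induction z using TensorProduct.induction_on with
    | zero => simp
    | tmul x c =>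
      rw [LinearMap.lTensor_tmul, TensorProduct.rid_tmul]
      exact Submodule.smul_mem_smul c.2 trivial
    | add a b ha hb =>
      rw [map_add, map_add]
      exact Submodule.add_mem _ ha hb
  have := key z
  rw [hz, TensorProduct.rid_tmul, one_smul] at this
  have h3 := Submodule.smul_mono_left (N := (⊤ : Submodule A B)) hC this
  rw [Ideal.smul_top_eq_map] at h3
  exact h3

/-- The annihilator of a finitely generated module commutes with flat base change. -/
theorem annihilator_tensor_of_flat (A : Type u) (B : Type v) (M : Type w) [CommRing A] [CommRing B]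
    [Algebra A B] [Module.Flat A B] [AddCommGroup M] [Module A M] [Module.Finite A M] :
    Module.annihilator B (B ⊗[A] M) = (Module.annihilator A M).map (algebraMap A B) := by
  apply le_antisymm
  · intro b hb
    obtain ⟨n, s, hs⟩ := Module.Finite.exists_fin (R := A) (M := M)
    refine mem_map_annihilator_of_flat s hs b (fun i => ?_)
    have := Module.mem_annihilator.mp hb ((1 : B) ⊗ₜ[A] s i)
    rwa [TensorProduct.smul_tmul', smul_eq_mul, mul_one] at this
  · rw [Ideal.map_le_iff_le_comap]
    intro a ha
    rw [Ideal.mem_comap, Module.mem_annihilator]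
    intro x
    induction x using TensorProduct.induction_on with
    | zero => rw [smul_zero]
    | tmul b m =>
      rw [TensorProduct.smul_tmul', smul_eq_mul]
      have h1 : algebraMap A B a * b = a • b := by rw [Algebra.smul_def]
      rw [h1, TensorProduct.smul_tmul, Module.mem_annihilator.mp ha m, TensorProduct.tmul_zero]
    | add x y hx hy => rw [smul_add, hx, hy, add_zero]

end Groth.Agent.Helper19.AnnBC
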