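import Mathlib
set_option autoImplicit false
set_option linter.style.haveILetI false
set_option linter.unusedSectionVars false
universe u

/-! # Infinitesimal automorphisms of deformations: commutative algebra core (helper19) -/

namespace Groth.Agent.Helper19.AutDef

section Alg

variable {A B : Type u} [CommRing A] [CommRing B] [Algebra A B]

/-- Flatness: if `t ∉ 𝔞'` and `t • c ∈ 𝔞' B` then `c ∈ 𝔪 B`. -/
theorem mem_map_maximalIdeal_of_smul_mem [IsLocalRing A] [Module.Flat A B] (𝔞' : Ideal A) (t : A)
    (ht : t ∉ 𝔞') (c : B) (h : t • c ∈ Ideal.map (algebraMap A B) 𝔞') :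
    c ∈ Ideal.map (algebraMap A B) (IsLocalRing.maximalIdeal A) := by
  rw [Ideal.map, Ideal.span, Submodule.mem_span_set'] at h
  obtain ⟨n, f, g, hfg⟩ := h
  have hg : ∀ i : Fin n, ∃ a : A, a ∈ 𝔞' ∧ algebraMap A B a = (g i : B) := fun i => by
    obtain ⟨a, ha, hag⟩ := (g i).2
    exact ⟨a, ha, hag⟩
  choose a ha hag using hg
  let F : Option (Fin n) → A := fun o => Option.elim o t (fun i => - a i)
  let x : Option (Fin n) → B := fun o => Option.elim o c (fun i => f i)
  have hrel : ∑ o, F o • x o = 0 := by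
    rw [Fintype.sum_option]
    change t • c + ∑ i, (- a i) • f i = 0
    rw [← hfg]
    simp only [neg_smul, Finset.sum_neg_distrib]
    rw [add_neg_eq_zero]
    refine Finset.sum_congr rfl (fun i _ => ?_)
    rw [← hag i, smul_eq_mul, Algebra.smul_def, mul_comm]
  obtain ⟨k, α, y, hx, hα⟩ := Module.Flat.isTrivialRelation_of_sum_smul_eq_zero (R := A) (M := B)
    (f := F) (x := x) hrel
  have hc : c = ∑ j, α none j • y j := hx none
  have hmem : ∀ j, α none j ∈ IsLocalRing.maximalIdeal A := by
    intro j
    rw [IsLocalRing.mem_maximalIdeal, mem_nonunits_iff]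
    intro hu
    apply ht
    have h1 := hα j
    rw [Fintype.sum_option] at h1
    change t * α none j + ∑ i, (- a i) * α (some i) j = 0 at h1
    have h2 : t * α none j = ∑ i, a i * α (some i) j := by
      rw [← sub_eq_zero, ← h1]
      simp only [neg_mul, Finset.sum_neg_distrib]
      ring
    have h3 : t * α none j ∈ 𝔞' := by
      rw [h2]
      exact Ideal.sum_mem _ (fun i _ => Ideal.mul_mem_right _ _ (ha i))
    obtain ⟨u, hu'⟩ := hu
    have : t = (t * α none j) * (↑u⁻¹ : A) := by
      rw [← hu', mul_assoc, Units.mul_inv, mul_one]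
    rw [this]
    exact Ideal.mul_mem_right _ _ h3
  rw [hc]
  refine Ideal.sum_mem _ (fun j _ => ?_)
  rw [Algebra.smul_def]
  exact Ideal.mul_mem_right _ _ (Ideal.mem_map_of_mem _ (hmem j))

end Alg

end Groth.Agent.Helper19.AutDef
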