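import Mathlib
import Groth.Agent.Helper19.AutDef1
set_option autoImplicit false
set_option linter.style.haveILetI false
set_option linter.unusedSectionVars false
universe u

/-! # Infinitesimal automorphisms of deformations: the local derivation (helper19) -/

namespace Groth.Agent.Helper19.AutDef

/-- ring-hom form of the flat colon lemma -/
theorem colon_flat {A B : Type u} [CommRing A] [CommRing B] [IsLocalRing A] (ψ : A →+* B)
    (hψ : ψ.Flat) (𝔞' : Ideal A) (t : A) (ht : t ∉ 𝔞') (c : B)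
    (h : ψ t * c ∈ Ideal.map ψ 𝔞') : c ∈ Ideal.map ψ (IsLocalRing.maximalIdeal A) := by
  letI := ψ.toAlgebra
  haveI : Module.Flat A B := hψ
  have h' : t • c ∈ Ideal.map (algebraMap A B) 𝔞' := by
    rw [Algebra.smul_def]; exact h
  exact mem_map_maximalIdeal_of_smul_mem 𝔞' t ht c h'

/-- The ideal-theoretic data of one step: `𝔞 = 𝔞' + (t)`, `𝔪 𝔞 ⊆ 𝔞'`, `t ∈ 𝔪 \ 𝔞'`. -/
structure IdealStep {A : Type u} [CommRing A] [IsLocalRing A] (𝔞 𝔞' : Ideal A) (t : A) : Prop where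
  sup : 𝔞 = 𝔞' ⊔ Ideal.span {t}
  mul_le : IsLocalRing.maximalIdeal A * 𝔞 ≤ 𝔞'
  t_mem : t ∈ IsLocalRing.maximalIdeal A
  t_not_mem : t ∉ 𝔞'

/-- The local data of one step on a chart. -/
structure Step {A B B₀ : Type u} [CommRing A] [IsLocalRing A] [CommRing B] [CommRing B₀]
    (𝔞 : Ideal A) (ψ : A →+* B) (φ : B →+* B) (π : B →+* B₀) : Prop where
  flat : ψ.Flat
  phi_psi : ∀ a, φ (ψ a) = ψ a
  surj : Function.Surjective π
  ker : RingHom.ker π = Ideal.map ψ (IsLocalRing.maximalIdeal A)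
  hP : ∀ b, φ b - b ∈ Ideal.map ψ 𝔞

section

variable {A B B₀ : Type u} [CommRing A] [IsLocalRing A] [CommRing B] [CommRing B₀]
  {𝔞 𝔞' : Ideal A} {t : A} {ψ : A →+* B} {φ : B →+* B} {π : B →+* B₀}

theorem IdealStep.t_mem_a (I : IdealStep 𝔞 𝔞' t) : t ∈ 𝔞 := by
  rw [I.sup]
  exact Ideal.mem_sup_right (Ideal.subset_span rfl)

theorem IdealStep.le (I : IdealStep 𝔞 𝔞' t) : 𝔞' ≤ 𝔞 := by
  rw [I.sup]
  exact le_sup_left

theorem Step.exists_c (I : IdealStep 𝔞 𝔞' t) (S : Step 𝔞 ψ φ π) (b : B) :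
    ∃ c : B, φ b - b - ψ t * c ∈ Ideal.map ψ 𝔞' := by
  have h := S.hP b
  rw [I.sup, Ideal.map_sup, Ideal.map_span, Set.image_singleton] at h
  obtain ⟨y, hy, z, hz, hyz⟩ := Submodule.mem_sup.mp h
  obtain ⟨c, hc⟩ := Ideal.mem_span_singleton'.mp hz
  refine ⟨c, ?_⟩
  have : φ b - b - ψ t * c = y := by
    rw [← hyz, ← hc]; ring
  rw [this]
  exact hy

theorem map_mul_le (I : IdealStep 𝔞 𝔞' t) (ψ : A →+* B) :
    Ideal.map ψ (IsLocalRing.maximalIdeal A) * Ideal.map ψ 𝔞 ≤ Ideal.map ψ 𝔞' := by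
  rw [← Ideal.map_mul]
  exact Ideal.map_mono I.mul_le

theorem Step.sub_mem_of_mem (I : IdealStep 𝔞 𝔞' t) (S : Step 𝔞 ψ φ π) (b : B)
    (hb : b ∈ Ideal.map ψ (IsLocalRing.maximalIdeal A)) : φ b - b ∈ Ideal.map ψ 𝔞' := by
  rw [Ideal.map, Ideal.span] at hb
  induction hb using Submodule.span_induction with
  | mem x hx =>
    obtain ⟨a, ha, rfl⟩ := hx
    rw [S.phi_psi, sub_self]
    exact Ideal.zero_mem _
  | zero => rw [map_zero, sub_zero]; exact Ideal.zero_mem _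
  | add x y _ _ hx hy =>
    have : φ (x + y) - (x + y) = (φ x - x) + (φ y - y) := by rw [map_add]; ring
    rw [this]
    exact Ideal.add_mem _ hx hy
  | smul r x hx' hx =>
    -- `x ∈ 𝔪B`, so `φ (r x) - r x = φ r (φ x - x) + (φ r - r) x`
    have hxm : x ∈ Ideal.map ψ (IsLocalRing.maximalIdeal A) := by
      rw [Ideal.map, Ideal.span]; exact hx'
    have : φ (r • x) - r • x = φ r * (φ x - x) + x * (φ r - r) := by
      rw [smul_eq_mul, map_mul]; ring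
    rw [this]
    refine Ideal.add_mem _ (Ideal.mul_mem_left _ _ hx) ?_
    exact map_mul_le I ψ (Ideal.mul_mem_mul hxm (S.hP r))

theorem Step.t_mul_mem (I : IdealStep 𝔞 𝔞' t) (S : Step 𝔞 ψ φ π) (c : B)
    (hc : c ∈ Ideal.map ψ 𝔞) : ψ t * c ∈ Ideal.map ψ 𝔞' :=
  map_mul_le I ψ (Ideal.mul_mem_mul (Ideal.mem_map_of_mem _ I.t_mem) hc)

theorem Step.t_mul_mem' (I : IdealStep 𝔞 𝔞' t) (S : Step 𝔞 ψ φ π) (c : B)
    (hc : c ∈ Ideal.map ψ (IsLocalRing.maximalIdeal A)) : ψ t * c ∈ Ideal.map ψ 𝔞' := by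
  rw [mul_comm]
  exact map_mul_le I ψ (Ideal.mul_mem_mul hc (Ideal.mem_map_of_mem _ I.t_mem_a))

theorem Step.unique (I : IdealStep 𝔞 𝔞' t) (S : Step 𝔞 ψ φ π) {b b' c c' : B}
    (h : φ b - b - ψ t * c ∈ Ideal.map ψ 𝔞') (h' : φ b' - b' - ψ t * c' ∈ Ideal.map ψ 𝔞')
    (hb : π b = π b') : π c = π c' := by
  have h1 : b - b' ∈ Ideal.map ψ (IsLocalRing.maximalIdeal A) := by
    rw [← S.ker, RingHom.mem_ker, map_sub, hb, sub_self]
  have h2 := S.sub_mem_of_mem I (b - b') h1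
  have h3 : ψ t * (c - c') ∈ Ideal.map ψ 𝔞' := by
    have : ψ t * (c - c') = (φ (b - b') - (b - b')) - (φ b - b - ψ t * c) +
        (φ b' - b' - ψ t * c') := by
      rw [map_sub]; ring
    rw [this]
    exact Ideal.add_mem _ (Ideal.sub_mem _ h2 h) h'
  have h4 := colon_flat ψ S.flat 𝔞' t I.t_not_mem (c - c') h3
  rw [← S.ker, RingHom.mem_ker, map_sub, sub_eq_zero] at h4
  exact h4

/-- The derivation `B₀ → B₀` "`(φ - 1)/t` mod `𝔪`". -/
noncomputable def Step.D (I : IdealStep 𝔞 𝔞' t) (S : Step 𝔞 ψ φ π) (s : B₀) : B₀ :=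
  π (S.exists_c I (S.surj s).choose).choose

theorem Step.D_spec (I : IdealStep 𝔞 𝔞' t) (S : Step 𝔞 ψ φ π) {b c : B}
    (h : φ b - b - ψ t * c ∈ Ideal.map ψ 𝔞') : S.D I (π b) = π c :=
  S.unique I (S.exists_c I (S.surj (π b)).choose).choose_spec h (S.surj (π b)).choose_spec

theorem Step.D_add (I : IdealStep 𝔞 𝔞' t) (S : Step 𝔞 ψ φ π) (s s' : B₀) :
    S.D I (s + s') = S.D I s + S.D I s' := by
  obtain ⟨b, rfl⟩ := S.surj s
  obtain ⟨b', rfl⟩ := S.surj s'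
  obtain ⟨c, hc⟩ := S.exists_c I b
  obtain ⟨c', hc'⟩ := S.exists_c I b'
  rw [S.D_spec I hc, S.D_spec I hc', ← map_add, ← map_add]
  apply S.D_spec I
  have : φ (b + b') - (b + b') - ψ t * (c + c') =
      (φ b - b - ψ t * c) + (φ b' - b' - ψ t * c') := by rw [map_add]; ring
  rw [this]
  exact Ideal.add_mem _ hc hc'

theorem Step.D_mul (I : IdealStep 𝔞 𝔞' t) (S : Step 𝔞 ψ φ π) (s s' : B₀) :
    S.D I (s * s') = s * S.D I s' + s' * S.D I s := by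
  obtain ⟨b, rfl⟩ := S.surj s
  obtain ⟨b', rfl⟩ := S.surj s'
  obtain ⟨c, hc⟩ := S.exists_c I b
  obtain ⟨c', hc'⟩ := S.exists_c I b'
  rw [S.D_spec I hc, S.D_spec I hc', ← map_mul, ← map_mul, ← map_mul, ← map_add]
  apply S.D_spec I
  have : φ (b * b') - b * b' - ψ t * (b * c' + b' * c) =
      (φ b - b - ψ t * c) * φ b' + ψ t * (c * (φ b' - b')) + b * (φ b' - b' - ψ t * c') := by
    rw [map_mul]; ring
  rw [this]
  refine Ideal.add_mem _ (Ideal.add_mem _ (Ideal.mul_mem_right _ _ hc) ?_)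
    (Ideal.mul_mem_left _ _ hc')
  exact S.t_mul_mem I _ (Ideal.mul_mem_left _ _ (S.hP b'))

theorem Step.D_const (I : IdealStep 𝔞 𝔞' t) (S : Step 𝔞 ψ φ π) (a : A) :
    S.D I (π (ψ a)) = 0 := by
  rw [← map_zero π]
  apply S.D_spec I
  rw [S.phi_psi, sub_self, mul_zero, sub_zero]
  exact Ideal.zero_mem _

theorem Step.sub_mem_of_D_eq_zero (I : IdealStep 𝔞 𝔞' t) (S : Step 𝔞 ψ φ π) (b : B)
    (h : S.D I (π b) = 0) : φ b - b ∈ Ideal.map ψ 𝔞' := by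
  obtain ⟨c, hc⟩ := S.exists_c I b
  rw [S.D_spec I hc] at h
  have hc' : c ∈ Ideal.map ψ (IsLocalRing.maximalIdeal A) := by
    rw [← S.ker, RingHom.mem_ker]; exact h
  have := S.t_mul_mem' I c hc'
  have e : φ b - b = (φ b - b - ψ t * c) + ψ t * c := by ring
  rw [e]
  exact Ideal.add_mem _ hc this

end

section nat

variable {A B B₀ B' B₀' : Type u} [CommRing A] [IsLocalRing A] [CommRing B] [CommRing B₀]
  [CommRing B'] [CommRing B₀']
  {𝔞 𝔞' : Ideal A} {t : A} {ψ : A →+* B} {φ : B →+* B} {π : B →+* B₀}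
  {ψ' : A →+* B'} {φ' : B' →+* B'} {π' : B' →+* B₀'}

/-- Naturality of the local derivation under restriction. -/
theorem Step.D_nat (I : IdealStep 𝔞 𝔞' t) (S : Step 𝔞 ψ φ π) (S' : Step 𝔞 ψ' φ' π')
    (r : B →+* B') (r₀ : B₀ →+* B₀') (hψ : ∀ a, r (ψ a) = ψ' a) (hφ : ∀ b, r (φ b) = φ' (r b))
    (hπ : ∀ b, r₀ (π b) = π' (r b)) (s : B₀) :
    S'.D I (r₀ s) = r₀ (S.D I s) := by
  obtain ⟨b, rfl⟩ := S.surj s
  obtain ⟨c, hc⟩ := S.exists_c I b
  rw [S.D_spec I hc, hπ, hπ]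
  apply S'.D_spec I
  have h1 : r (φ b - b - ψ t * c) ∈ Ideal.map r (Ideal.map ψ 𝔞') := Ideal.mem_map_of_mem _ hc
  rw [Ideal.map_map] at h1
  have h2 : r.comp ψ = ψ' := RingHom.ext hψ
  rw [h2, map_sub, map_sub, map_mul, hφ, hψ] at h1
  exact h1

end nat

end Groth.Agent.Helper19.AutDef
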