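import Mathlib
import Groth.Agent.Helper19.AutDef2
set_option autoImplicit false
set_option linter.style.haveILetI false
set_option linter.unusedSectionVars false
universe u

/-! # Infinitesimal automorphisms of deformations: induction along a chain of ideals (helper19) -/

namespace Groth.Agent.Helper19.AutDef

variable {A : Type u} [CommRing A] [IsLocalRing A]

theorem exists_idealStep [IsNoetherianRing A] (𝔞 : Ideal A) (h𝔞 : 𝔞 ≠ ⊥)
    (hle : 𝔞 ≤ IsLocalRing.maximalIdeal A) : ∃ (𝔞' : Ideal A) (t : A), IdealStep 𝔞 𝔞' t := by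
  set 𝔪 := IsLocalRing.maximalIdeal A with h𝔪
  have hne : 𝔪 * 𝔞 ≠ 𝔞 := by
    intro h
    apply h𝔞
    have hfg : (𝔞 : Submodule A A).FG := IsNoetherian.noetherian 𝔞
    refine Submodule.eq_bot_of_le_smul_of_le_jacobson_bot 𝔪 𝔞 hfg ?_ ?_
    · rw [smul_eq_mul, h]
    · rw [IsLocalRing.jacobson_eq_maximalIdeal ⊥ bot_ne_top]
  have hlt : 𝔪 * 𝔞 < 𝔞 := lt_of_le_of_ne Ideal.mul_le_right hne
  obtain ⟨t, ht𝔞, htn⟩ := Set.exists_of_ssubset hlt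
  let 𝒮 : Set (Ideal A) := {J | 𝔪 * 𝔞 ≤ J ∧ J ≤ 𝔞 ∧ t ∉ J}
  have h𝒮 : 𝒮.Nonempty := ⟨𝔪 * 𝔞, le_refl _, Ideal.mul_le_right, htn⟩
  obtain ⟨𝔞', ⟨h1, h2, h3⟩, hmax⟩ := set_has_maximal_iff_noetherian.mpr
    (inferInstance : IsNoetherian A A) 𝒮 h𝒮
  refine ⟨𝔞', t, ⟨?_, h1, hle ht𝔞, h3⟩⟩
  apply le_antisymm
  · intro s hs
    by_contra hcon
    have hs' : s ∉ 𝔞' := fun h => hcon (Ideal.mem_sup_left h)
    let J := 𝔞' ⊔ Ideal.span {s}
    have hJ1 : 𝔞' < J := by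
      refine lt_of_le_of_ne le_sup_left (fun h => hs' ?_)
      rw [h]
      exact Ideal.mem_sup_right (Ideal.subset_span rfl)
    have hJ2 : J ≤ 𝔞 := sup_le h2 ((Ideal.span_singleton_le_iff_mem _).mpr hs)
    have htJ : t ∈ J := by
      by_contra htJ
      exact hmax J ⟨h1.trans le_sup_left, hJ2, htJ⟩ hJ1
    obtain ⟨y, hy, z, hz, hyz⟩ := Submodule.mem_sup.mp htJ
    obtain ⟨l, hl⟩ := Ideal.mem_span_singleton'.mp hz
    by_cases hlu : IsUnit l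
    · obtain ⟨u, rfl⟩ := hlu
      apply hcon
      have : s = (↑u⁻¹ : A) * t - (↑u⁻¹ : A) * y := by
        rw [← hyz, ← hl]
        rw [mul_add, ← mul_assoc, Units.inv_mul, one_mul]
        ring
      rw [this]
      exact Ideal.sub_mem _ (Ideal.mem_sup_right (Ideal.mul_mem_left _ _ (Ideal.subset_span rfl)))
        (Ideal.mem_sup_left (Ideal.mul_mem_left _ _ hy))
    · have hlm : l ∈ 𝔪 := (IsLocalRing.mem_maximalIdeal l).mpr hlu
      apply h3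
      rw [← hyz, ← hl]
      exact Ideal.add_mem _ hy (h1 (Ideal.mul_mem_mul hlm hs))
  · exact sup_le h2 ((Ideal.span_singleton_le_iff_mem _).mpr ht𝔞)

theorem IdealStep.lt {𝔞 𝔞' : Ideal A} {t : A} (I : IdealStep 𝔞 𝔞' t) : 𝔞' < 𝔞 :=
  lt_of_le_of_ne I.le (fun h => I.t_not_mem (h ▸ I.t_mem_a))

/-- Induction along a composition series of a local Artinian ring. -/
theorem induction_ideal [IsArtinianRing A] (P : Ideal A → Prop)
    (h0 : P (IsLocalRing.maximalIdeal A))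
    (hstep : ∀ (𝔞 𝔞' : Ideal A) (t : A), IdealStep 𝔞 𝔞' t → P 𝔞 → P 𝔞') : P ⊥ := by
  let 𝒮 : Set (Ideal A) := {J | J ≤ IsLocalRing.maximalIdeal A ∧ P J}
  have h𝒮 : 𝒮.Nonempty := ⟨_, le_refl _, h0⟩
  obtain ⟨𝔞, ⟨h1, h2⟩, hmin⟩ := IsArtinian.set_has_minimal 𝒮 h𝒮
  by_cases h𝔞 : 𝔞 = ⊥
  · rw [← h𝔞]; exact h2
  · obtain ⟨𝔞', t, I⟩ := exists_idealStep 𝔞 h𝔞 h1
    exact absurd I.lt (hmin 𝔞' ⟨I.le.trans h1, hstep 𝔞 𝔞' t I h2⟩)

end Groth.Agent.Helper19.AutDef
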