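import Mathlib
set_option autoImplicit false
set_option linter.unusedSectionVars false
universe u

/-! # Lifting ring maps through a square-zero extension presented by differentials (helper19)

`π : A → B` surjective; `δ₁ : A → M` a "derivation over π" into a `B`-module; `c : M → Q`,
`d₂ : B → Q` with `c ∘ δ₁ = d₂ ∘ π`; the pair `(π, δ₁)` is injective and surjects onto the fibre
product `B ×_Q M`.  Then ring maps `ψ : R → B` with a derivation `Δ : R → M` over `ψ` lifting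
`d₂ ∘ ψ` lift uniquely to `ρ : R → A`. -/

namespace Groth.Agent.Helper19.Ribbon

section lift

variable {R A B M Q : Type*} [CommRing R] [CommRing A] [CommRing B] [AddCommGroup M] [Module B M]
  [AddCommGroup Q]
  (π : A →+* B) (ψ : R →+* B) (δ₁ : A →+ M) (Δ : R →+ M) (cM : M →+ Q) (d₂ : B →+ Q)
  (hπ : Function.Surjective π)
  (h1 : ∀ a b, δ₁ (a * b) = π a • δ₁ b + π b • δ₁ a)
  (h2 : ∀ r r', Δ (r * r') = ψ r • Δ r' + ψ r' • Δ r)
  (h3 : ∀ a, cM (δ₁ a) = d₂ (π a)) (h4 : ∀ r, cM (Δ r) = d₂ (ψ r))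
  (h5 : ∀ a, π a = 0 → δ₁ a = 0 → a = 0)
  (h6 : ∀ m, cM m = 0 → ∃ a, π a = 0 ∧ δ₁ a = m)

include h5 in
theorem lift_unique (a a' : A) (hp : π a = π a') (hd : δ₁ a = δ₁ a') : a = a' := by
  have := h5 (a - a') (by rw [map_sub, hp, sub_self]) (by rw [map_sub, hd, sub_self])
  exact sub_eq_zero.mp this

include hπ h3 h4 h6 in
theorem lift_exists (r : R) : ∃ a, π a = ψ r ∧ δ₁ a = Δ r := by
  obtain ⟨a₀, ha₀⟩ := hπ (ψ r)
  have h : cM (Δ r - δ₁ a₀) = 0 := by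
    rw [map_sub, h3, h4, ha₀, sub_self]
  obtain ⟨l, hl1, hl2⟩ := h6 _ h
  refine ⟨a₀ + l, ?_, ?_⟩
  · rw [map_add, hl1, add_zero, ha₀]
  · rw [map_add, hl2]; abel

include hπ h1 h2 h3 h4 h5 h6 in
theorem exists_ringHom_lift :
    ∃ ρ : R →+* A, (∀ r, π (ρ r) = ψ r) ∧ (∀ r, δ₁ (ρ r) = Δ r) ∧
      ∀ (a : A) (r : R), π a = ψ r → δ₁ a = Δ r → a = ρ r := by
  choose ρ hρ1 hρ2 using lift_exists π ψ δ₁ Δ cM d₂ hπ h3 h4 h6
  have huniq : ∀ (a : A) (r : R), π a = ψ r → δ₁ a = Δ r → a = ρ r := fun a r ha hd =>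
    lift_unique π δ₁ h5 a (ρ r) (ha.trans (hρ1 r).symm) (hd.trans (hρ2 r).symm)
  have hδ1 : δ₁ 1 = 0 := by
    have := h1 1 1
    rw [mul_one, RingHom.map_one, one_smul] at this
    have h' : δ₁ 1 + 0 = δ₁ 1 + δ₁ 1 := by rw [add_zero]; exact this
    exact (add_left_cancel h').symm
  have hΔ1 : Δ 1 = 0 := by
    have := h2 1 1
    rw [mul_one, RingHom.map_one, one_smul] at this
    have h' : Δ 1 + 0 = Δ 1 + Δ 1 := by rw [add_zero]; exact this
    exact (add_left_cancel h').symm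
  refine ⟨{ toFun := ρ, map_one' := ?_, map_mul' := ?_, map_zero' := ?_, map_add' := ?_ },
    hρ1, hρ2, huniq⟩
  · exact (huniq 1 1 (by rw [map_one, map_one]) (by rw [hδ1, hΔ1])).symm
  · intro r r'
    refine (huniq _ _ ?_ ?_).symm
    · rw [map_mul, map_mul, hρ1, hρ1]
    · rw [h1, h2, hρ1, hρ1, hρ2, hρ2]
  · exact (huniq 0 0 (by rw [map_zero, map_zero]) (by rw [map_zero, map_zero])).symm
  · intro r r'
    refine (huniq _ _ ?_ ?_).symm
    · rw [map_add, map_add, hρ1, hρ1]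
    · rw [map_add, map_add, hρ2, hρ2]

end lift

end Groth.Agent.Helper19.Ribbon
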