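import Mathlib
import Groth.Agent.Lib.Helper10.UnivThick3

/-!
# Universal first order thickenings on affine charts (helper19)

`existsUnique_chart_lift`: for a universal first order thickening `(i, h')` of `h : Z ⟶ X`, an affine
open `V` of `X` and an affine open `U'` of `Z'` over `V`, the ring map `Γ(Z', U') → Γ(Z, i⁻¹U')` is a
ring-level universal first order thickening over `Γ(X, V)` (unbundled lifting form).
-/

set_option autoImplicit false
universe u
open CategoryTheory CategoryTheory.Limits AlgebraicGeometry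

namespace Groth.Agent.Helper19.UnivChart

open Groth.Agent.Lib.Helper10.UnivThick

variable {Z Z' X : Scheme.{u}}

theorem isAffineOpen_preimage_of_fot {i : Z ⟶ Z'} (hi : MoreMor.IsFirstOrderThickening i)
    {U' : Z'.Opens} (hU' : IsAffineOpen U') : IsAffineOpen (i ⁻¹ᵁ U') := by
  haveI : IsClosedImmersion i := hi.1.1
  exact hU'.preimage i

theorem existsUnique_chart_lift (h : Z ⟶ X) (i : Z ⟶ Z') (h' : Z' ⟶ X)
    (hu : OmegaSh.IsUnivThickening h i h')
    {V : X.Opens} (hV : IsAffineOpen V) {U' : Z'.Opens} (hU' : IsAffineOpen U')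
    (e' : U' ≤ h' ⁻¹ᵁ V) (e : i ⁻¹ᵁ U' ≤ h ⁻¹ᵁ V)
    {A B : CommRingCat.{u}} (ρ : A ⟶ B) (hρ : Function.Surjective ρ.hom)
    (hk : RingHom.ker ρ.hom ^ 2 = ⊥)
    (β : Γ(X, V) ⟶ A) (α : Γ(Z, i ⁻¹ᵁ U') ⟶ B) (hc : β ≫ ρ = h.appLE V (i ⁻¹ᵁ U') e ≫ α) :
    ∃! α' : Γ(Z', U') ⟶ A, α' ≫ ρ = i.appLE U' (i ⁻¹ᵁ U') le_rfl ≫ α ∧
      h'.appLE V U' e' ≫ α' = β := by
  obtain ⟨hi, hih, huu⟩ := hu
  have hU : IsAffineOpen (i ⁻¹ᵁ U') := isAffineOpen_preimage_of_fot hi hU'
  have hj : MoreMor.IsFirstOrderThickening (Spec.map ρ) :=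
    Groth.Agent.Lib.Helper1.Thickening.isFirstOrderThickening_SpecMap ρ hρ hk
  have hjb : Spec.map ρ ≫ (Spec.map β ≫ hV.fromSpec) = (Spec.map α ≫ hU.fromSpec) ≫ h := by
    rw [← Category.assoc, ← Spec.map_comp, hc, Spec.map_comp, Category.assoc, Category.assoc,
      IsAffineOpen.SpecMap_appLE_fromSpec h hV hU e]
  obtain ⟨a', ⟨ha1, ha2⟩, hau⟩ := huu _ _ (Spec.map ρ) (Spec.map β ≫ hV.fromSpec)
    (Spec.map α ≫ hU.fromSpec) hj hjb
  have hr : Set.range a' ⊆ Set.range hU'.fromSpec := by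
    rw [hU'.range_fromSpec]
    rintro _ ⟨t', rfl⟩
    obtain ⟨t, rfl⟩ := fot_surjective hj t'
    have h1 : a' (Spec.map ρ t) = i ((Spec.map α ≫ hU.fromSpec) t) := by
      rw [← Scheme.Hom.comp_apply, ha1]
      rfl
    rw [h1]
    have h2 : (Spec.map α ≫ hU.fromSpec) t ∈ (i ⁻¹ᵁ U' : Set Z) := by
      rw [← hU.range_fromSpec]
      exact ⟨Spec.map α t, rfl⟩
    exact h2
  have hl : IsOpenImmersion.lift hU'.fromSpec a' hr ≫ hU'.fromSpec = a' :=
    IsOpenImmersion.lift_fac _ _ _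
  obtain ⟨α', hα'⟩ := Spec.map_surjective (IsOpenImmersion.lift hU'.fromSpec a' hr)
  rw [← hα'] at hl
  refine ⟨α', ⟨?_, ?_⟩, ?_⟩
  · apply Spec.map_injective
    rw [← cancel_mono hU'.fromSpec, Spec.map_comp, Category.assoc, hl, ha1, Spec.map_comp,
      Category.assoc, Category.assoc, IsAffineOpen.SpecMap_appLE_fromSpec i hU' hU le_rfl]
  · apply Spec.map_injective
    rw [← cancel_mono hV.fromSpec, Spec.map_comp, Category.assoc,
      IsAffineOpen.SpecMap_appLE_fromSpec h' hV hU' e', ← Category.assoc, hl, ha2]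
  · rintro α'' ⟨h1, h2⟩
    have h3 : Spec.map α'' ≫ hU'.fromSpec = a' := by
      apply hau
      refine ⟨?_, ?_⟩
      · rw [← Category.assoc, ← Spec.map_comp, h1, Spec.map_comp, Category.assoc, Category.assoc,
          IsAffineOpen.SpecMap_appLE_fromSpec i hU' hU le_rfl]
      · rw [Category.assoc, ← IsAffineOpen.SpecMap_appLE_fromSpec h' hV hU' e', ← Category.assoc,
          ← Spec.map_comp, h2]
    rw [← hl, cancel_mono] at h3
    exact Spec.map_injective h3

end Groth.Agent.Helper19.UnivChart
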