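import Mathlib

/-!
# Ring-level universal first order thickenings, unbundled (helper19)

`IsUT φ ψ π`: `π : S' → S` is a universal first order thickening of the `R`-algebra `S`
(`φ : R → S`, `ψ : R → S'`), in unbundled ring-hom form.
-/

set_option autoImplicit false
universe u

namespace Groth.Agent.Helper19.UnivRing

structure IsUT {R S S' : Type u} [CommRing R] [CommRing S] [CommRing S'] (φ : R →+* S)
    (ψ : R →+* S') (π : S' →+* S) : Prop where
  comp : π.comp ψ = φ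
  surj : Function.Surjective π
  sq : RingHom.ker π ^ 2 = ⊥
  lift : ∀ {A B : Type u} [CommRing A] [CommRing B] (ρ : A →+* B), Function.Surjective ρ →
    RingHom.ker ρ ^ 2 = ⊥ → ∀ (β : R →+* A) (α : S →+* B), ρ.comp β = α.comp φ →
      ∃! α' : S' →+* A, ρ.comp α' = α.comp π ∧ α'.comp ψ = β

section basic

variable {R S S' : Type u} [CommRing R] [CommRing S] [CommRing S'] {φ : R →+* S}
  {ψ : R →+* S'} {π : S' →+* S}

theorem IsUT.hom_ext (h : IsUT φ ψ π) {A B : Type u} [CommRing A] [CommRing B] (ρ : A →+* B)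
    (hρ : Function.Surjective ρ) (hk : RingHom.ker ρ ^ 2 = ⊥) (α : S →+* B)
    (g₁ g₂ : S' →+* A) (h1 : ρ.comp g₁ = α.comp π) (h2 : ρ.comp g₂ = α.comp π)
    (h3 : g₁.comp ψ = g₂.comp ψ) : g₁ = g₂ := by
  have hc : ρ.comp (g₂.comp ψ) = α.comp φ := by
    rw [← RingHom.comp_assoc, h2, RingHom.comp_assoc, h.comp]
  obtain ⟨g, -, hu⟩ := h.lift ρ hρ hk (g₂.comp ψ) α hc
  rw [hu g₁ ⟨h1, h3⟩, hu g₂ ⟨h2, rfl⟩]

theorem ker_sq_eq_bot_of_le {A B : Type u} [CommRing A] [CommRing B] (ρ : A →+* B)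
    (hk : ∀ x y : A, ρ x = 0 → ρ y = 0 → x * y = 0) : RingHom.ker ρ ^ 2 = ⊥ := by
  rw [pow_two, eq_bot_iff, Ideal.mul_le]
  intro x hx y hy
  rw [Ideal.mem_bot]
  exact hk x y hx hy

theorem mul_eq_zero_of_ker_sq {A B : Type u} [CommRing A] [CommRing B] (ρ : A →+* B)
    (hk : RingHom.ker ρ ^ 2 = ⊥) (x y : A) (hx : ρ x = 0) (hy : ρ y = 0) : x * y = 0 := by
  have h : x * y ∈ RingHom.ker ρ ^ 2 := by
    rw [pow_two]
    exact Ideal.mul_mem_mul hx hy
  rw [hk] at h
  exact h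

end basic

section transitivity

variable {A B C B' C' C'' : Type u} [CommRing A] [CommRing B] [CommRing C] [CommRing B']
  [CommRing C'] [CommRing C'']

/-- Transitivity: for `A → B → C`, `B'` universal for `B/A`, `C'` universal for `C/A` and `C''`
universal for `C/B`, the canonical map `n : C' → C''` is surjective with kernel generated by the
image of the kernel of `B' → B`. -/
theorem surjective_and_ker_eq (φAB : A →+* B) (φBC : B →+* C)
    (ψB : A →+* B') (πB : B' →+* B) (hB : IsUT φAB ψB πB)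
    (ψC : A →+* C') (πC : C' →+* C) (hC : IsUT (φBC.comp φAB) ψC πC)
    (ψ'' : B →+* C'') (π'' : C'' →+* C) (hC'' : IsUT φBC ψ'' π'')
    (m : B' →+* C') (hm1 : m.comp ψB = ψC) (hm2 : πC.comp m = φBC.comp πB)
    (n : C' →+* C'') (hn1 : π''.comp n = πC) (hn2 : n.comp ψC = ψ''.comp φAB) :
    Function.Surjective n ∧ RingHom.ker n = Ideal.map m (RingHom.ker πB) := by
  -- n ∘ m = ψ'' ∘ πB
  have hnm : n.comp m = ψ''.comp πB := by
    refine hB.hom_ext π'' hC''.surj hC''.sq φBC _ _ ?_ ?_ ?_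
    · rw [← RingHom.comp_assoc, hn1, hm2]
    · rw [← RingHom.comp_assoc, hC''.comp]
    · rw [RingHom.comp_assoc, hm1, hn2, RingHom.comp_assoc, hB.comp]
  set I : Ideal C' := Ideal.map m (RingHom.ker πB) with hIdef
  have hIn : I ≤ RingHom.ker n := by
    rw [hIdef, Ideal.map_le_iff_le_comap]
    intro x hx
    rw [Ideal.mem_comap, RingHom.mem_ker]
    have : n (m x) = ψ'' (πB x) := congr($hnm x)
    rw [this, RingHom.mem_ker.mp hx, map_zero]
  have hnπ : RingHom.ker n ≤ RingHom.ker πC := by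
    intro x hx
    rw [RingHom.mem_ker] at hx ⊢
    have : πC x = π'' (n x) := (congr($hn1 x)).symm
    rw [this, hx, map_zero]
  have hIπ : ∀ a ∈ I, πC a = 0 := fun a ha => hnπ (hIn ha)
  have hIn' : ∀ a ∈ I, n a = 0 := fun a ha => hIn ha
  let q : C' →+* C' ⧸ I := Ideal.Quotient.mk I
  have hq : Function.Surjective q := Ideal.Quotient.mk_surjective
  let πD : C' ⧸ I →+* C := Ideal.Quotient.lift I πC hIπ
  let nb : C' ⧸ I →+* C'' := Ideal.Quotient.lift I n hIn'
  have hπDq : πD.comp q = πC := Ideal.Quotient.lift_comp_mk I πC hIπ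
  have hnbq : nb.comp q = n := Ideal.Quotient.lift_comp_mk I n hIn'
  have hqm : RingHom.ker πB ≤ RingHom.ker (q.comp m) := by
    intro x hx
    rw [RingHom.mem_ker, RingHom.comp_apply, Ideal.Quotient.eq_zero_iff_mem]
    exact Ideal.mem_map_of_mem m hx
  let ψD : B →+* C' ⧸ I := RingHom.liftOfSurjective πB hB.surj ⟨q.comp m, hqm⟩
  have hψD : ψD.comp πB = q.comp m :=
    RingHom.liftOfRightInverse_comp _ _ _ ⟨q.comp m, hqm⟩
  have hπDs : Function.Surjective πD := by
    intro c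
    obtain ⟨x, rfl⟩ := hC.surj c
    exact ⟨q x, congr($hπDq x)⟩
  have hπDk : RingHom.ker πD ^ 2 = ⊥ := by
    apply ker_sq_eq_bot_of_le
    intro x y hx hy
    obtain ⟨x', rfl⟩ := hq x
    obtain ⟨y', rfl⟩ := hq y
    have hx' : πC x' = 0 := by rw [← hπDq]; exact hx
    have hy' : πC y' = 0 := by rw [← hπDq]; exact hy
    rw [← map_mul, mul_eq_zero_of_ker_sq πC hC.sq x' y' hx' hy', map_zero]
  have hπDψD : πD.comp ψD = φBC := by
    apply RingHom.cancel_right hB.surj |>.mp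
    rw [RingHom.comp_assoc, hψD, ← RingHom.comp_assoc, hπDq, hm2]
  -- ε : C'' → D
  obtain ⟨ε, ⟨hε1, hε2⟩, -⟩ := hC''.lift πD hπDs hπDk ψD (RingHom.id C)
    (by rw [hπDψD, RingHom.id_comp])
  rw [RingHom.id_comp] at hε1
  have hεn : ε.comp n = q := by
    refine hC.hom_ext πD hπDs hπDk (RingHom.id C) _ _ ?_ ?_ ?_
    · rw [← RingHom.comp_assoc, hε1, hn1, RingHom.id_comp]
    · rw [hπDq, RingHom.id_comp]
    · rw [RingHom.comp_assoc, hn2, ← RingHom.comp_assoc, hε2, ← hm1, ← RingHom.comp_assoc,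
        ← hψD, RingHom.comp_assoc, hB.comp]
  have hπnb : π''.comp nb = πD := by
    apply RingHom.cancel_right hq |>.mp
    rw [RingHom.comp_assoc, hnbq, hn1, hπDq]
  have hnbψD : nb.comp ψD = ψ'' := by
    apply RingHom.cancel_right hB.surj |>.mp
    rw [RingHom.comp_assoc, hψD, ← RingHom.comp_assoc, hnbq, hnm]
  have hnbε : nb.comp ε = RingHom.id C'' := by
    refine hC''.hom_ext π'' hC''.surj hC''.sq (RingHom.id C) _ _ ?_ ?_ ?_
    · rw [← RingHom.comp_assoc, hπnb, hε1, RingHom.id_comp]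
    · rw [RingHom.comp_id, RingHom.id_comp]
    · rw [RingHom.comp_assoc, hε2, hnbψD, RingHom.id_comp]
  refine ⟨?_, le_antisymm ?_ hIn⟩
  · intro y
    obtain ⟨z, hz⟩ := hq (ε y)
    refine ⟨z, ?_⟩
    have h1 : n z = nb (q z) := (congr($hnbq z)).symm
    rw [h1, hz]
    exact congr($hnbε y)
  · intro x hx
    rw [RingHom.mem_ker] at hx
    have h1 : q x = ε (n x) := (congr($hεn x)).symm
    rw [hx, map_zero] at h1
    exact Ideal.Quotient.eq_zero_iff_mem.mp h1

end transitivity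

end Groth.Agent.Helper19.UnivRing
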