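import Mathlib
import Groth.Agent.Helper19.UnivChart
import Groth.Agent.Helper19.UnivRing

/-!
# Charts of universal first order thickenings are ring-level universal thickenings (helper19)
-/

set_option autoImplicit false
universe u
open CategoryTheory CategoryTheory.Limits AlgebraicGeometry

namespace Groth.Agent.Helper19.UnivChart

open Groth.Agent.Helper19.UnivRing

variable {Z Z' X : Scheme.{u}}

theorem appLE_congr' {P Q : Scheme.{u}} {q q' : P ⟶ Q} (h : q = q') {A : Q.Opens} {B : P.Opens}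
    (e : B ≤ q ⁻¹ᵁ A) (e' : B ≤ q' ⁻¹ᵁ A) : q.appLE A B e = q'.appLE A B e' := by
  subst h; rfl

theorem ker_app_sq_eq_bot {i : Z ⟶ Z'} (hi : MoreMor.IsFirstOrderThickening i)
    {U' : Z'.Opens} (hU' : IsAffineOpen U') : RingHom.ker (i.app U').hom ^ 2 = ⊥ := by
  haveI : IsClosedImmersion i := hi.1.1
  have h1 : (i.ker * i.ker).ideal ⟨U', hU'⟩ = ⊥ := by rw [hi.2]; rfl
  rw [Scheme.IdealSheafData.ideal_mul, Pi.mul_apply, Scheme.Hom.ker_apply] at h1
  rw [pow_two]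
  exact h1

theorem isUT_chart (h : Z ⟶ X) (i : Z ⟶ Z') (h' : Z' ⟶ X)
    (hu : OmegaSh.IsUnivThickening h i h')
    {V : X.Opens} (hV : IsAffineOpen V) {U' : Z'.Opens} (hU' : IsAffineOpen U')
    (e' : U' ≤ h' ⁻¹ᵁ V) (e : i ⁻¹ᵁ U' ≤ h ⁻¹ᵁ V) :
    IsUT (h.appLE V (i ⁻¹ᵁ U') e).hom (h'.appLE V U' e').hom
      (i.appLE U' (i ⁻¹ᵁ U') le_rfl).hom := by
  have hi := hu.1
  haveI : IsClosedImmersion i := hi.1.1
  refine ⟨?_, ?_, ?_, ?_⟩
  · have h1 := Scheme.Hom.appLE_comp_appLE i h' V U' (i ⁻¹ᵁ U') e' le_rfl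
    rw [appLE_congr' hu.2.1 _ e] at h1
    rw [← h1]
    rfl
  · rw [Scheme.Hom.appLE_eq_app]
    exact i.app_surjective U' hU'
  · rw [Scheme.Hom.appLE_eq_app]
    exact ker_app_sq_eq_bot hi hU'
  · intro A B _ _ ρ hρ hk β α hc
    obtain ⟨α', ⟨h1, h2⟩, hu'⟩ := existsUnique_chart_lift h i h' hu hV hU' e' e
      (A := CommRingCat.of A) (B := CommRingCat.of B) (CommRingCat.ofHom ρ) hρ hk
      (CommRingCat.ofHom β) (CommRingCat.ofHom α) (by
        ext x
        exact congr($hc x))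
    refine ⟨α'.hom, ⟨?_, ?_⟩, ?_⟩
    · ext x
      exact congr($h1 x)
    · ext x
      exact congr($h2 x)
    · rintro α'' ⟨h3, h4⟩
      have := hu' (CommRingCat.ofHom α'') ⟨by ext x; exact congr($h3 x), by ext x; exact congr($h4 x)⟩
      rw [← this]
      rfl

end Groth.Agent.Helper19.UnivChart
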