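import Mathlib
import Groth.Agent.Helper19.UnivChart2
import Groth.Agent.Helper19.Conormal7
import Groth.Agent.S0440

set_option autoImplicit false
universe u
open CategoryTheory CategoryTheory.Limits AlgebraicGeometry

namespace Groth.Agent.Helper19.UnivConormal

open Groth.Agent.Helper19.Conormal Groth.Agent.Lib.Helper10.UnivThick

variable {T T' : Scheme.{u}} (t : T ⟶ T')

theorem coborderRange_eq_top [IsClosedImmersion t] : t.coborderRange = ⊤ := by
  apply TopologicalSpace.Opens.ext
  exact IsClosed.coborder_eq t.isClosedEmbedding.isClosed_range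

theorem isClosedChart_fot [IsClosedImmersion t] {W' : T'.Opens} (hW' : IsAffineOpen W') :
    IsClosedChart t hW' (le_refl (t ⁻¹ᵁ W')) :=
  isClosedChart_of_eq t hW' (by rw [coborderRange_eq_top]; exact le_top) rfl

theorem ideal_sq_eq_bot (ht : MoreMor.IsFirstOrderThickening t) {W' : T'.Opens}
    (hW' : IsAffineOpen W') : (t.ker.ideal ⟨W', hW'⟩) ^ 2 = ⊥ := by
  have h1 : (t.ker * t.ker).ideal ⟨W', hW'⟩ = ⊥ := by rw [ht.2]; rfl
  rw [Scheme.IdealSheafData.ideal_mul, Pi.mul_apply] at h1
  rw [pow_two]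
  exact h1

theorem isAffineOpen_of_preimage (ht : MoreMor.IsFirstOrderThickening t) {W' : T'.Opens}
    (h : IsAffineOpen (t ⁻¹ᵁ W')) : IsAffineOpen W' := by
  haveI : IsClosedImmersion t := ht.1.1
  haveI : IsClosedImmersion (t ∣_ W') := IsZariskiLocalAtTarget.restrict (P := @IsClosedImmersion) ‹_› W'
  haveI : IsAffine ((t ⁻¹ᵁ W' : T.Opens) : Scheme.{u}) := h
  have hs : Function.Surjective (t ∣_ W') := by
    rintro ⟨y, hy⟩
    obtain ⟨x, rfl⟩ := fot_surjective ht y
    refine ⟨⟨x, hy⟩, ?_⟩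
    apply Subtype.ext
    exact morphismRestrict_base_coe t W' ⟨x, hy⟩
  exact Groth.Agent.S0440.result (t ∣_ W') hs

end Groth.Agent.Helper19.UnivConormal
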