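import Mathlib
import Groth.Prelude.Def_Omega4
set_option autoImplicit false
set_option linter.style.haveILetI false
set_option linter.unusedSectionVars false
universe u

open CategoryTheory CategoryTheory.Limits AlgebraicGeometry Opposite TopologicalSpace

/-! # A derivation into the conormal sheaf of a "diagonal-like" quasi-compact morphism (helper19)

For `f : X ⟶ Y`, `δ : X ⟶ P` quasi-compact with two retractions `π₁ π₂ : P ⟶ X` equalised by `f`,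
the map `s ↦ class of π₂♯ s − π₁♯ s` is a `Y`-derivation of `O_X` into `Omega.conormal δ`.
(The construction of `OmegaSh.dOmega` with `pullback f f` replaced by `P`.) -/

namespace Groth.Agent.Helper19.GenDer

open OmegaSh

variable {X Y P : Scheme.{u}} (f : X ⟶ Y) (δ : X ⟶ P) (π₁ π₂ : P ⟶ X)
  (h₁ : δ ≫ π₁ = 𝟙 X) (h₂ : δ ≫ π₂ = 𝟙 X) (hπ : π₁ ≫ f = π₂ ≫ f)

/-- The open `π₁⁻¹ U ∩ π₂⁻¹ U` of `P`. -/
noncomputable abbrev nbhd (U : X.Opens) : P.Opens := π₁ ⁻¹ᵁ U ⊓ π₂ ⁻¹ᵁ U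

include h₁ h₂ in
theorem le_preimage_nbhd (U : X.Opens) : U ≤ δ ⁻¹ᵁ nbhd π₁ π₂ U := by
  intro x hx
  have e₁ : π₁ (δ x) = x := by
    rw [← Scheme.Hom.comp_apply, h₁]; rfl
  have e₂ : π₂ (δ x) = x := by
    rw [← Scheme.Hom.comp_apply, h₂]; rfl
  change π₁ (δ x) ∈ U ∧ π₂ (δ x) ∈ U
  rw [e₁, e₂]
  exact ⟨hx, hx⟩

theorem nbhd_mono {U V : X.Opens} (i : V ≤ U) : nbhd π₁ π₂ V ≤ nbhd π₁ π₂ U :=
  inf_le_inf (π₁.preimage_mono i) (π₂.preimage_mono i)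

include h₁ in
theorem preimage_le {U : X.Opens} {W : P.Opens} (hW : W ≤ nbhd π₁ π₂ U) : δ ⁻¹ᵁ W ≤ U := fun x hx => by
  have hx' : π₁ (δ x) ∈ U := (hW hx).1
  rwa [← Scheme.Hom.comp_apply, h₁] at hx'

/-- `π₂♯ s − π₁♯ s` on `π₁⁻¹ U ∩ π₂⁻¹ U`. -/
noncomputable def diff (U : X.Opens) (s : Γ(X, U)) : Γ(P, nbhd π₁ π₂ U) :=
  π₂.appLE U (nbhd π₁ π₂ U) inf_le_right s - π₁.appLE U (nbhd π₁ π₂ U) inf_le_left s

theorem diff_add (U : X.Opens) (a b : Γ(X, U)) :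
    diff π₁ π₂ U (a + b) = diff π₁ π₂ U a + diff π₁ π₂ U b := by
  simp only [diff, map_add]; abel

theorem diff_mul (U : X.Opens) (a b : Γ(X, U)) :
    diff π₁ π₂ U (a * b) =
      π₂.appLE U (nbhd π₁ π₂ U) inf_le_right a * diff π₁ π₂ U b +
        π₁.appLE U (nbhd π₁ π₂ U) inf_le_left b * diff π₁ π₂ U a := by
  simp only [diff, map_mul]; ring

theorem diff_map {U V : X.Opens} (i : V ≤ U) (s : Γ(X, U)) :
    diff π₁ π₂ V (X.presheaf.map (homOfLE i).op s) =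
      P.presheaf.map (homOfLE (nbhd_mono π₁ π₂ i)).op (diff π₁ π₂ U s) := by
  simp only [diff, map_sub, ← ConcreteCategory.comp_apply, Scheme.Hom.map_appLE, Scheme.Hom.appLE_map]

include hπ in
theorem diff_app (V : Y.Opens) (c : Γ(Y, V)) : diff π₁ π₂ (f ⁻¹ᵁ V) (f.app V c) = 0 := by
  have key : ∀ (p : P ⟶ X) (e : nbhd π₁ π₂ (f ⁻¹ᵁ V) ≤ p ⁻¹ᵁ (f ⁻¹ᵁ V)),
      f.app V ≫ p.appLE (f ⁻¹ᵁ V) (nbhd π₁ π₂ (f ⁻¹ᵁ V)) e =
        (p ≫ f).appLE V (nbhd π₁ π₂ (f ⁻¹ᵁ V)) e :=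
    fun p e => (Scheme.Hom.comp_appLE p f V _ e).symm
  rw [diff, sub_eq_zero, ← ConcreteCategory.comp_apply, ← ConcreteCategory.comp_apply, key, key]
  exact congr($(appLE_congr_hom (Y := Y) hπ.symm _ _) c)

theorem δ_app_section (p : P ⟶ X) (hp : δ ≫ p = 𝟙 X) (U : X.Opens)
    {W : P.Opens} (hW : W ≤ nbhd π₁ π₂ U) (hp' : nbhd π₁ π₂ U ≤ p ⁻¹ᵁ U)
    (e : δ ⁻¹ᵁ W ≤ U) (s : Γ(X, U)) :
    δ.app W (P.presheaf.map (homOfLE hW).op (p.appLE U (nbhd π₁ π₂ U) hp' s)) =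
      X.presheaf.map (homOfLE e).op s := by
  simp only [← ConcreteCategory.comp_apply]
  rw [Scheme.Hom.appLE_map, Scheme.Hom.app_eq_appLE, Scheme.Hom.appLE_comp_appLE]
  exact congr($(id_appLE_eq hp _ e) s)

include h₁ h₂ in
/-- `δ` kills `π₂♯ s − π₁♯ s` (and its restrictions). -/
theorem δ_app_diff (U : X.Opens) (s : Γ(X, U)) {W : P.Opens} (hW : W ≤ nbhd π₁ π₂ U) :
    δ.app W (P.presheaf.map (homOfLE hW).op (diff π₁ π₂ U s)) = 0 := by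
  rw [diff, map_sub, map_sub,
    δ_app_section δ π₁ π₂ _ h₂ U hW inf_le_right (preimage_le δ π₁ π₂ h₁ hW),
    δ_app_section δ π₁ π₂ _ h₁ U hW inf_le_left (preimage_le δ π₁ π₂ h₁ hW), sub_self]

include h₁ h₂ in
/-- Restricting `δ♯(p♯ a)` back to `U` returns `a`, for `p` a retraction of `δ`. -/
theorem res_δ_app_appLE (p : P ⟶ X) (hp : δ ≫ p = 𝟙 X) (U : X.Opens)
    (e : nbhd π₁ π₂ U ≤ p ⁻¹ᵁ U) (a : Γ(X, U)) :
    X.presheaf.map (homOfLE (le_preimage_nbhd δ π₁ π₂ h₁ h₂ U)).op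
        (δ.app (nbhd π₁ π₂ U) (p.appLE U (nbhd π₁ π₂ U) e a)) = a := by
  simp only [← ConcreteCategory.comp_apply]
  rw [Scheme.Hom.app_eq_appLE, Scheme.Hom.appLE_comp_appLE, Scheme.Hom.appLE_map, id_appLE_eq_id hp]
  rfl

variable [QuasiCompact δ]

include h₁ h₂ in
theorem subschemeι_app_diff (U : X.Opens) (s : Γ(X, U)) {W : P.Opens} (hW : W ≤ nbhd π₁ π₂ U) :
    δ.ker.subschemeι.app W (P.presheaf.map (homOfLE hW).op (diff π₁ π₂ U s)) = 0 := by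
  let ι := δ.ker.subschemeι
  refine δ.ker.subscheme.sheaf.eq_of_locally_eq'
    (fun V : {V : P.affineOpens // (V : P.Opens) ≤ W} => ι ⁻¹ᵁ (V.1 : P.Opens))
    (ι ⁻¹ᵁ W) (fun V => (Opens.map ι.base).map (homOfLE V.2)) ?_ _ _ ?_
  · intro z hz
    obtain ⟨_, ⟨V, hV, rfl⟩, hzV, hVW⟩ :=
      P.isBasis_affineOpens.exists_subset_of_mem_open hz W.isOpen
    exact Opens.mem_iSup.mpr ⟨⟨⟨V, hV⟩, hVW⟩, hzV⟩
  · intro V
    change δ.ker.subscheme.presheaf.map ((Opens.map ι.base).map (homOfLE V.2)).op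
        (ι.app W (P.presheaf.map (homOfLE hW).op (diff π₁ π₂ U s))) =
      δ.ker.subscheme.presheaf.map ((Opens.map ι.base).map (homOfLE V.2)).op 0
    rw [map_zero, ← ConcreteCategory.comp_apply]
    erw [← Scheme.Hom.naturality ι (homOfLE V.2).op]
    rw [ConcreteCategory.comp_apply, res_res]
    have hmem : P.presheaf.map (homOfLE (V.2.trans hW)).op (diff π₁ π₂ U s) ∈
        δ.ker.ideal V.1 := by
      rw [Scheme.Hom.ker_apply, RingHom.mem_ker]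
      exact δ_app_diff δ π₁ π₂ h₁ h₂ U s (V.2.trans hW)
    rw [← Scheme.IdealSheafData.ker_subschemeι_app, RingHom.mem_ker] at hmem
    exact hmem

include h₁ h₂ in
theorem toSubscheme_app_diff (U : X.Opens) (s : Γ(X, U)) :
    (ClSub.toSubscheme δ.ker).app (nbhd π₁ π₂ U)
      (strSect P (nbhd π₁ π₂ U) (diff π₁ π₂ U s)) = 0 := by
  have h := subschemeι_app_diff δ π₁ π₂ h₁ h₂ U s (le_refl (nbhd π₁ π₂ U))
  rw [res_refl] at h
  rw [toSubscheme_app_strSect]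
  exact h

/-- `π₂♯ s − π₁♯ s` as a section of the ideal sheaf of `δ`. -/
noncomputable def idealLift (U : X.Opens) (s : Γ(X, U)) :
    Γ(ClSub.idealMod δ.ker, nbhd π₁ π₂ U) :=
  kerLift (ClSub.toSubscheme δ.ker) (nbhd π₁ π₂ U)
    (strSect P (nbhd π₁ π₂ U) (diff π₁ π₂ U s)) (toSubscheme_app_diff δ π₁ π₂ h₁ h₂ U s)

theorem ι_idealLift (U : X.Opens) (s : Γ(X, U)) :
    (ClSub.idealModι δ.ker).app (nbhd π₁ π₂ U) (idealLift δ π₁ π₂ h₁ h₂ U s) =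
      strSect P (nbhd π₁ π₂ U) (diff π₁ π₂ U s) :=
  ι_kerLift _ _ _ _

theorem idealSect_idealLift (U : X.Opens) (s : Γ(X, U)) :
    idealSect δ.ker (nbhd π₁ π₂ U) (idealLift δ π₁ π₂ h₁ h₂ U s) = diff π₁ π₂ U s := by
  rw [idealSect_apply, ι_idealLift]
  rfl

theorem idealLift_add (U : X.Opens) (a b : Γ(X, U)) :
    idealLift δ π₁ π₂ h₁ h₂ U (a + b) =
      idealLift δ π₁ π₂ h₁ h₂ U a + idealLift δ π₁ π₂ h₁ h₂ U b := by
  apply idealModι_app_injective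
  rw [map_add, ι_idealLift, ι_idealLift, ι_idealLift, ← map_add, diff_add]

theorem idealLift_mul (U : X.Opens) (a b : Γ(X, U)) :
    idealLift δ π₁ π₂ h₁ h₂ U (a * b) =
      π₂.appLE U (nbhd π₁ π₂ U) inf_le_right a • idealLift δ π₁ π₂ h₁ h₂ U b +
        π₁.appLE U (nbhd π₁ π₂ U) inf_le_left b • idealLift δ π₁ π₂ h₁ h₂ U a := by
  apply idealModι_app_injective
  rw [map_add, Scheme.Modules.Hom.app_smul, Scheme.Modules.Hom.app_smul, ι_idealLift, ι_idealLift,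
    ι_idealLift, ← strSect_mul, ← strSect_mul, ← map_add, diff_mul]

theorem idealLift_map {U V : X.Opens} (e : V ≤ U) (s : Γ(X, U)) :
    idealLift δ π₁ π₂ h₁ h₂ V (X.presheaf.map (homOfLE e).op s) =
      (ClSub.idealMod δ.ker).presheaf.map (homOfLE (nbhd_mono π₁ π₂ e)).op
        (idealLift δ π₁ π₂ h₁ h₂ U s) := by
  apply idealModι_app_injective
  rw [ι_idealLift, idealModι_app_map, ι_idealLift, ← strSect_map, diff_map]

include hπ in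
theorem idealLift_app (V : Y.Opens) (c : Γ(Y, V)) :
    idealLift δ π₁ π₂ h₁ h₂ (f ⁻¹ᵁ V) (f.app V c) = 0 := by
  apply idealModι_app_injective
  rw [ι_idealLift, map_zero, diff_app f π₁ π₂ hπ, map_zero]

/-- The value of the derivation on a local function. -/
noncomputable def dSect (U : X.Opens) (s : Γ(X, U)) : Γ(Omega.conormal δ, U) :=
  ((Scheme.Modules.pullback δ).obj (ClSub.idealMod δ.ker)).presheaf.map
    (homOfLE (le_preimage_nbhd δ π₁ π₂ h₁ h₂ U)).op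
    (pullSect δ (ClSub.idealMod δ.ker) (nbhd π₁ π₂ U) (idealLift δ π₁ π₂ h₁ h₂ U s))

theorem dSect_add (U : X.Opens) (a b : Γ(X, U)) :
    dSect δ π₁ π₂ h₁ h₂ U (a + b) = dSect δ π₁ π₂ h₁ h₂ U a + dSect δ π₁ π₂ h₁ h₂ U b := by
  rw [dSect, idealLift_add, map_add, map_add]
  rfl

theorem dSect_mul (U : X.Opens) (a b : Γ(X, U)) :
    dSect δ π₁ π₂ h₁ h₂ U (a * b) =
      a • dSect δ π₁ π₂ h₁ h₂ U b + b • dSect δ π₁ π₂ h₁ h₂ U a := by
  rw [dSect, idealLift_mul, map_add, pullSect_smul, pullSect_smul, map_add, Scheme.Modules.map_smul,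
    Scheme.Modules.map_smul, res_δ_app_appLE δ π₁ π₂ h₁ h₂ _ h₂,
    res_δ_app_appLE δ π₁ π₂ h₁ h₂ _ h₁]
  rfl

theorem dSect_map {U V : X.Opens} (e : V ≤ U) (s : Γ(X, U)) :
    dSect δ π₁ π₂ h₁ h₂ V (X.presheaf.map (homOfLE e).op s) =
      ((Scheme.Modules.pullback δ).obj (ClSub.idealMod δ.ker)).presheaf.map (homOfLE e).op
        (dSect δ π₁ π₂ h₁ h₂ U s) := by
  rw [dSect, dSect, idealLift_map, pullSect_map, resM_resM, resM_resM]
  rfl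

include hπ in
theorem dSect_app (V : Y.Opens) (c : Γ(Y, V)) :
    dSect δ π₁ π₂ h₁ h₂ (f ⁻¹ᵁ V) (f.app V c) = 0 := by
  rw [dSect, idealLift_app f δ π₁ π₂ h₁ h₂ hπ, map_zero, map_zero]
  rfl

/-- The derivation `s ↦ [π₂♯ s − π₁♯ s]` of `O_X` into the conormal sheaf of `δ`. -/
noncomputable def der : Der f (Omega.conormal δ) where
  d {U} := AddMonoidHom.mk' (fun s => dSect δ π₁ π₂ h₁ h₂ U.unop s) (dSect_add δ π₁ π₂ h₁ h₂ U.unop)
  d_mul {U} a b := dSect_mul δ π₁ π₂ h₁ h₂ U.unop a b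
  d_map {_ _} i s := dSect_map δ π₁ π₂ h₁ h₂ i.unop.le s
  d_app {V} c := dSect_app f δ π₁ π₂ h₁ h₂ hπ V.unop c

theorem der_app (U : X.Opens) (s : Γ(X, U)) :
    (der f δ π₁ π₂ h₁ h₂ hπ).app U s = dSect δ π₁ π₂ h₁ h₂ U s := rfl

end Groth.Agent.Helper19.GenDer
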