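import Mathlib
import Groth.Agent.Helper19.GenDer
import Groth.Agent.Helper19.OmegaD2
set_option autoImplicit false
set_option linter.style.haveILetI false
set_option linter.unusedSectionVars false
universe u

open CategoryTheory CategoryTheory.Limits AlgebraicGeometry Opposite TopologicalSpace
open scoped TensorProduct
open TensorProduct

/-! # Universal derivations exist for arbitrary morphisms: the chart (helper19) -/

namespace Groth.Agent.Helper19.UnivDer

open Groth.Agent.Lib.Helper29.QCoh Groth.Agent.Helper19.OmegaLocal Groth.Agent.Helper19.OmegaD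

theorem range_subset_coborder_of_isOpenEmbedding {α β : Type*} [TopologicalSpace α]
    [TopologicalSpace β] (m : β → α) (hm : Topology.IsOpenEmbedding m) (s : Set α)
    (hs : IsClosed (m ⁻¹' s)) : Set.range m ⊆ coborder s := by
  rintro _ ⟨t, rfl⟩
  rw [coborder_eq_union_closure_compl]
  by_cases h : m t ∈ closure s
  · left
    have h' : t ∈ m ⁻¹' closure s := h
    rw [hm.isOpenMap.preimage_closure_eq_closure_preimage hm.continuous, hs.closure_eq] at h'
    exact h'
  · right; exact h

variable {X Y : Scheme.{u}} (f : X ⟶ Y) {U : X.Opens} (hU : IsAffineOpen U) {V : Y.Opens}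
  (hV : IsAffineOpen V) (e : U ≤ f ⁻¹ᵁ V)

theorem preimage_range_diagonal :
    letI := algΓ f e
    (mMap f hU hV e) ⁻¹' (Set.range (pullback.diagonal f)) =
      Set.range (diagSpec Γ(Y, V) Γ(X, U)) := by
  letI := algΓ f e
  ext t
  constructor
  · rintro ⟨x, hx⟩
    have hxW : x ∈ (pullback.diagonal f) ⁻¹ᵁ (WOpen f hU hV e) := by
      change (pullback.diagonal f) x ∈ WOpen f hU hV e
      rw [hx]
      exact ⟨t, trivial, rfl⟩
    rw [preimage_WOpen] at hxW
    have hr := hU.range_fromSpec
    rw [← SetLike.mem_coe, ← hr] at hxW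
    obtain ⟨y, rfl⟩ := hxW
    refine ⟨y, ?_⟩
    apply (mMap f hU hV e).isOpenEmbedding.injective
    rw [← hx, ← Scheme.Hom.comp_apply, ← Scheme.Hom.comp_apply, diag_mMap]
  · rintro ⟨y, rfl⟩
    refine ⟨hU.fromSpec y, ?_⟩
    change (pullback.diagonal f) (hU.fromSpec y) = (mMap f hU hV e) ((diagSpec Γ(Y, V) Γ(X, U)) y)
    rw [← Scheme.Hom.comp_apply, ← Scheme.Hom.comp_apply, diag_mMap]

/-- The affine chart `U ×_V U` lies in the coborder of the diagonal. -/
theorem WOpen_le_coborderRange :
    WOpen f hU hV e ≤ (pullback.diagonal f).coborderRange := by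
  letI := algΓ f e
  have hcl : IsClosed ((mMap f hU hV e) ⁻¹' (Set.range (pullback.diagonal f))) := by
    rw [preimage_range_diagonal]
    exact (diagSpec Γ(Y, V) Γ(X, U)).isClosedEmbedding.isClosed_range
  have h := range_subset_coborder_of_isOpenEmbedding (mMap f hU hV e)
    (mMap f hU hV e).isOpenEmbedding _ hcl
  intro z hz
  obtain ⟨t, -, rfl⟩ := hz
  exact h ⟨t, rfl⟩

end Groth.Agent.Helper19.UnivDer
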