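import Mathlib
import Groth.Agent.Helper19.UnivDer1
import Groth.Agent.Helper19.Conormal1
set_option autoImplicit false
set_option linter.style.haveILetI false
set_option linter.unusedSectionVars false
universe u

open CategoryTheory CategoryTheory.Limits AlgebraicGeometry Opposite TopologicalSpace
open scoped TensorProduct
open TensorProduct

/-! # Universal derivations exist for arbitrary morphisms: the derivation and its local form -/

namespace Groth.Agent.Helper19.UnivDer

open Groth.Agent.Lib.Helper29.QCoh Groth.Agent.Helper19.OmegaLocal Groth.Agent.Helper19.OmegaD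
open Groth.Agent.Helper19.Conormal

variable {X Y : Scheme.{u}} (f : X ⟶ Y)

/-- The open subscheme of `X ×_Y X` in which the diagonal is closed. -/
noncomputable abbrev DD : Scheme.{u} := (pullback.diagonal f).coborderRange

/-- The inclusion of `DD f`. -/
noncomputable abbrev ιD : DD f ⟶ pullback f f := (pullback.diagonal f).coborderRange.ι

/-- The diagonal as a closed immersion into `DD f`. -/
noncomputable abbrev δD : X ⟶ DD f := (pullback.diagonal f).liftCoborder

/-- First projection. -/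
noncomputable abbrev p₁ : DD f ⟶ X := ιD f ≫ pullback.fst f f

/-- Second projection. -/
noncomputable abbrev p₂ : DD f ⟶ X := ιD f ≫ pullback.snd f f

theorem δD_ι : δD f ≫ ιD f = pullback.diagonal f := (pullback.diagonal f).liftCoborder_ι

theorem δD_p₁ : δD f ≫ p₁ f = 𝟙 X := by
  rw [← Category.assoc, δD_ι, pullback.diagonal_fst]

theorem δD_p₂ : δD f ≫ p₂ f = 𝟙 X := by
  rw [← Category.assoc, δD_ι, pullback.diagonal_snd]

theorem p_cond : p₁ f ≫ f = p₂ f ≫ f := by
  rw [Category.assoc, Category.assoc, pullback.condition]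

/-- The sheaf of differentials of an arbitrary morphism. -/
noncomputable def Om : X.Modules := Omega.conormal (δD f)

/-- The derivation. -/
noncomputable def dd : OmegaSh.Der f (Om f) :=
  GenDer.der f (δD f) (p₁ f) (p₂ f) (δD_p₁ f) (δD_p₂ f) (p_cond f)

section chart

variable {U : X.Opens} (hU : IsAffineOpen U) {V : Y.Opens} (hV : IsAffineOpen V)
  (e : U ≤ f ⁻¹ᵁ V)

/-- The chart of `DD f` over `U ×_V U`. -/
noncomputable def TT : (DD f).Opens := ιD f ⁻¹ᵁ WOpen f hU hV e

theorem isAffineOpen_TT : IsAffineOpen (TT f hU hV e) :=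
  isAffineOpen_preimage_coborder (pullback.diagonal f) (isAffineOpen_WOpen f hU hV e)
    (WOpen_le_coborderRange f hU hV e)

theorem δ_preimage_TT : δD f ⁻¹ᵁ TT f hU hV e = U := by
  have h : δD f ⁻¹ᵁ TT f hU hV e = (δD f ≫ ιD f) ⁻¹ᵁ WOpen f hU hV e := rfl
  rw [h, δD_ι, preimage_WOpen]

theorem le_δ_preimage_TT : U ≤ δD f ⁻¹ᵁ TT f hU hV e := (δ_preimage_TT f hU hV e).ge

theorem TT_le_nbhd : TT f hU hV e ≤ GenDer.nbhd (p₁ f) (p₂ f) U := by
  intro z hz
  have hz' : ιD f z ∈ WOpen f hU hV e := hz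
  have h := WOpen_le_diagNbhd f hU hV e hz'
  exact h

theorem TT_le_p₁ : TT f hU hV e ≤ p₁ f ⁻¹ᵁ U := (TT_le_nbhd f hU hV e).trans inf_le_left
theorem TT_le_p₂ : TT f hU hV e ≤ p₂ f ⁻¹ᵁ U := (TT_le_nbhd f hU hV e).trans inf_le_right

/-- Restriction of functions from `U ×_V U` to the chart, a ring isomorphism. -/
noncomputable def κ : Γ(pullback f f, WOpen f hU hV e) ⟶ Γ(DD f, TT f hU hV e) :=
  (ιD f).appLE (WOpen f hU hV e) (TT f hU hV e) le_rfl

instance : IsIso (κ f hU hV e) := by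
  unfold κ TT
  rw [Scheme.Hom.appLE_eq_app]
  apply Scheme.Hom.isIso_app
  rw [Scheme.Opens.opensRange_ι]
  exact WOpen_le_coborderRange f hU hV e

/-- `Γ(DD, T) ≃ A ⊗_R A`. -/
noncomputable def θT :
    letI := algΓ f e
    Γ(DD f, TT f hU hV e) ≅ CommRingCat.of (Γ(X, U) ⊗[Γ(Y, V)] Γ(X, U)) :=
  letI := algΓ f e
  (asIso (κ f hU hV e)).symm ≪≫ θIso f hU hV e

theorem κ_θT :
    letI := algΓ f e
    κ f hU hV e ≫ (θT f hU hV e).hom = (θIso f hU hV e).hom := by
  letI := algΓ f e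
  unfold θT
  rw [Iso.trans_hom, Iso.symm_hom, asIso_inv, IsIso.hom_inv_id_assoc]

theorem p₁_appLE_θT :
    letI := algΓ f e
    (p₁ f).appLE U (TT f hU hV e) (TT_le_p₁ f hU hV e) ≫ (θT f hU hV e).hom =
      CommRingCat.ofHom (Algebra.TensorProduct.includeLeftRingHom :
        Γ(X, U) →+* Γ(X, U) ⊗[Γ(Y, V)] Γ(X, U)) := by
  letI := algΓ f e
  have h : (p₁ f).appLE U (TT f hU hV e) (TT_le_p₁ f hU hV e) =
      (pullback.fst f f).appLE U (WOpen f hU hV e) (WOpen_le_fst f hU hV e) ≫ κ f hU hV e :=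
    (Scheme.Hom.appLE_comp_appLE (ιD f) (pullback.fst f f) U (WOpen f hU hV e) (TT f hU hV e)
      (WOpen_le_fst f hU hV e) le_rfl).symm
  rw [h, Category.assoc, κ_θT, fst_appLE_θ]

theorem p₂_appLE_θT :
    letI := algΓ f e
    (p₂ f).appLE U (TT f hU hV e) (TT_le_p₂ f hU hV e) ≫ (θT f hU hV e).hom =
      CommRingCat.ofHom (Algebra.TensorProduct.includeRight.toRingHom :
        Γ(X, U) →+* Γ(X, U) ⊗[Γ(Y, V)] Γ(X, U)) := by
  letI := algΓ f e
  have h : (p₂ f).appLE U (TT f hU hV e) (TT_le_p₂ f hU hV e) =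
      (pullback.snd f f).appLE U (WOpen f hU hV e) (WOpen_le_snd f hU hV e) ≫ κ f hU hV e :=
    (Scheme.Hom.appLE_comp_appLE (ιD f) (pullback.snd f f) U (WOpen f hU hV e) (TT f hU hV e)
      (WOpen_le_snd f hU hV e) le_rfl).symm
  rw [h, Category.assoc, κ_θT, snd_appLE_θ]

theorem δ_appLE_eq :
    letI := algΓ f e
    (δD f).appLE (TT f hU hV e) U (le_δ_preimage_TT f hU hV e) =
      (θT f hU hV e).hom ≫ CommRingCat.ofHom
        (Algebra.TensorProduct.lmul' Γ(Y, V) :
          Γ(X, U) ⊗[Γ(Y, V)] Γ(X, U) →ₐ[Γ(Y, V)] Γ(X, U)).toRingHom := by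
  letI := algΓ f e
  have h1 : κ f hU hV e ≫ (δD f).appLE (TT f hU hV e) U (le_δ_preimage_TT f hU hV e) =
      (pullback.diagonal f).appLE (WOpen f hU hV e) U (le_preimage_WOpen f hU hV e) := by
    have := Scheme.Hom.appLE_comp_appLE (δD f) (ιD f) (WOpen f hU hV e) (TT f hU hV e) U le_rfl
      (le_δ_preimage_TT f hU hV e)
    refine this.trans ?_
    exact appLE_congr_hom (δD_ι f) _ _ _ _
  rw [appLE_diag_eq] at h1
  rw [← κ_θT, Category.assoc] at h1
  exact (cancel_epi (κ f hU hV e)).mp h1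

end chart

end Groth.Agent.Helper19.UnivDer
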