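import Mathlib
import Groth.Agent.Helper19.UnivDer2
import Groth.Agent.Helper19.GenDer
import Groth.Agent.Helper19.OmegaD2
set_option autoImplicit false
set_option linter.style.haveILetI false
set_option linter.unusedSectionVars false
universe u

open CategoryTheory CategoryTheory.Limits AlgebraicGeometry Opposite TopologicalSpace
open scoped TensorProduct
open TensorProduct

/-! # Universal derivations exist for arbitrary morphisms: sections over charts -/

namespace Groth.Agent.Helper19.UnivDer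

open Groth.Agent.Lib.Helper29.QCoh Groth.Agent.Helper19.OmegaLocal Groth.Agent.Helper19.OmegaD
open Groth.Agent.Helper19.Conormal

variable {X Y : Scheme.{u}} (f : X ⟶ Y) {U : X.Opens} (hU : IsAffineOpen U) {V : Y.Opens}
  (hV : IsAffineOpen V) (e : U ≤ f ⁻¹ᵁ V)

set_option maxRecDepth 8000 in
include hU hV in
theorem exists_addEquiv_sections_Om :
    letI := algΓ f e
    ∃ E : Γ(Om f, U) ≃+ Ω[Γ(X, U)⁄Γ(Y, V)],
      (∀ (c : Γ(X, U)) (s : Γ(Om f, U)), E (c • s) = c • E s) ∧
      ∀ b : Γ(X, U), E ((dd f).app U b) = KaehlerDifferential.D Γ(Y, V) Γ(X, U) b := by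
  letI := algΓ f e
  have hW := isAffineOpen_TT f hU hV e
  have e' := le_δ_preimage_TT f hU hV e
  have hpre := δ_preimage_TT f hU hV e
  have hWd := TT_le_nbhd f hU hV e
  let _ : Algebra Γ(DD f, TT f hU hV e) Γ(X, U) :=
    ((δD f).appLE (TT f hU hV e) U e').hom.toAlgebra
  have halg : ∀ b : Γ(DD f, TT f hU hV e),
      algebraMap Γ(DD f, TT f hU hV e) Γ(X, U) b =
        ((δD f).appLE (TT f hU hV e) U e').hom b := fun b => rfl
  have hiso : IsIso (X.presheaf.map (homOfLE e').op) := by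
    have : homOfLE e' = eqToHom hpre.symm := Subsingleton.elim _ _
    rw [this]
    infer_instance
  have hker : (δD f).ker.ideal ⟨TT f hU hV e, hW⟩ =
      RingHom.ker (algebraMap Γ(DD f, TT f hU hV e) Γ(X, U)) := by
    rw [Scheme.Hom.ker_apply]
    ext b
    rw [RingHom.mem_ker, RingHom.mem_ker, halg]
    change _ ↔ (X.presheaf.map (homOfLE e').op).hom
      (((δD f).app (TT f hU hV e)).hom b) = 0
    rw [map_eq_zero_iff _ (ConcreteCategory.bijective_of_isIso
      (X.presheaf.map (homOfLE e').op)).injective]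
  let θ : Γ(DD f, TT f hU hV e) ≃+* Γ(X, U) ⊗[Γ(Y, V)] Γ(X, U) :=
    (θT f hU hV e).commRingCatIsoToRingEquiv
  let eN := (idealModSectionsEquiv (δD f).ker ⟨TT f hU hV e, hW⟩ ≪≫ₗ
      LinearEquiv.ofEq _ _ hker)
  obtain ⟨E, hE, hED⟩ := exists_equiv_kaehler' Γ(Y, V) Γ(X, U) θ (RingEquiv.refl Γ(X, U))
    (fun b => by
      rw [halg]
      exact congrArg (fun k => k.hom b) (δ_appLE_eq f hU hV e))
    eN
  let PE := pullbackSectionsEquiv (δD f)
    (ClSub.idealMod (δD f).ker) hU hW e'
  refine ⟨PE.toAddEquiv.trans E, fun c s => ?_, fun b => ?_⟩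
  · have h := PE.map_smul c s
    have h2 := hE c (PE s)
    rw [← h] at h2
    exact h2
  · -- the section of the ideal over `T`
    set n : Γ(ClSub.idealMod (δD f).ker, TT f hU hV e) :=
      res (ClSub.idealMod (δD f).ker) hWd
        (GenDer.idealLift (δD f) (p₁ f) (p₂ f) (δD_p₁ f) (δD_p₂ f) U b) with hn
    have h1 : (dd f).app U b =
        res ((Scheme.Modules.pullback (δD f)).obj
          (ClSub.idealMod (δD f).ker)) e'
          (pullSect (δD f) (ClSub.idealMod (δD f).ker)
            (TT f hU hV e) n) := by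
      rw [hn, pullSect_res, res_res]
      rfl
    have h2 : PE ((dd f).app U b) = (1 : Γ(X, U)) ⊗ₜ[Γ(DD f, TT f hU hV e)] n := by
      rw [h1]
      exact Groth.Agent.Helper19.PullUnit.pullbackSectionsEquiv_pullSect (δD f)
        (ClSub.idealMod (δD f).ker) hU hW e' n
    change E (PE ((dd f).app U b)) = _
    rw [h2]
    apply hED
    have h3 : ((eN n : RingHom.ker (algebraMap Γ(DD f, TT f hU hV e) Γ(X, U))) :
        Γ(DD f, TT f hU hV e)) =
        fromUnit ((ClSub.idealModι (δD f).ker).app (TT f hU hV e) n) := rfl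
    have h4 : (ClSub.idealModι (δD f).ker).app (TT f hU hV e) n =
        OmegaSh.strSect (DD f) (TT f hU hV e)
          ((DD f).presheaf.map (homOfLE hWd).op (GenDer.diff (p₁ f) (p₂ f) U b)) := by
      rw [hn]
      change (ClSub.idealModι (δD f).ker).app (TT f hU hV e)
        ((ClSub.idealMod (δD f).ker).presheaf.map (homOfLE hWd).op
          (GenDer.idealLift (δD f) (p₁ f) (p₂ f) (δD_p₁ f) (δD_p₂ f) U b)) = _
      rw [OmegaSh.idealModι_app_map, GenDer.ι_idealLift, ← OmegaSh.strSect_map]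
    have h5 : (DD f).presheaf.map (homOfLE hWd).op (GenDer.diff (p₁ f) (p₂ f) U b) =
        (p₂ f).appLE U (TT f hU hV e) (TT_le_p₂ f hU hV e) b -
          (p₁ f).appLE U (TT f hU hV e) (TT_le_p₁ f hU hV e) b := by
      rw [GenDer.diff, map_sub]
      simp only [← ConcreteCategory.comp_apply, Scheme.Hom.appLE_map]
    rw [h3, h4]
    change θ ((DD f).presheaf.map (homOfLE hWd).op (GenDer.diff (p₁ f) (p₂ f) U b)) = _
    rw [h5, map_sub]
    have h6 : θ ((p₂ f).appLE U (TT f hU hV e) (TT_le_p₂ f hU hV e) b) =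
        1 ⊗ₜ[Γ(Y, V)] b :=
      congrArg (fun k => k.hom b) (p₂_appLE_θT f hU hV e)
    have h7 : θ ((p₁ f).appLE U (TT f hU hV e) (TT_le_p₁ f hU hV e) b) =
        b ⊗ₜ[Γ(Y, V)] 1 :=
      congrArg (fun k => k.hom b) (p₁_appLE_θT f hU hV e)
    rw [h6, h7]

end Groth.Agent.Helper19.UnivDer
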