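import Mathlib
import Groth.Agent.Helper19.UnivDer3
import Groth.Agent.Helper19.OmegaD3
import Groth.Prelude.Def_Omega4
import Groth.Prelude.Def_OmAff
set_option autoImplicit false
set_option linter.style.haveILetI false
set_option linter.unusedSectionVars false
universe u

open CategoryTheory CategoryTheory.Limits AlgebraicGeometry Opposite TopologicalSpace
open scoped TensorProduct
open TensorProduct

/-! # Universal derivations exist for arbitrary morphisms -/

namespace Groth.Agent.Helper19.UnivDer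

open Groth.Agent.Lib.Helper29.QCoh Groth.Agent.Helper19.OmegaLocal Groth.Agent.Helper19.OmegaD
open Groth.Agent.Helper19.Conormal

variable {X Y : Scheme.{u}} (f : X ⟶ Y)

/-- Affine opens mapping into an affine open of the base. -/
def goodOpens : Set X.Opens :=
  {U | IsAffineOpen U ∧ ∃ V : Y.Opens, IsAffineOpen V ∧ U ≤ f ⁻¹ᵁ V}

theorem isBasis_goodOpens : Opens.IsBasis (goodOpens f) := by
  rw [Opens.isBasis_iff_nbhd]
  intro W x hx
  obtain ⟨V, hV, hxV, -⟩ := exists_isAffineOpen_mem_and_subset (x := f x) (U := ⊤) trivial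
  obtain ⟨U, hU, hxU, hUW⟩ :=
    exists_isAffineOpen_mem_and_subset (x := x) (U := W ⊓ f ⁻¹ᵁ V) ⟨hx, hxV⟩
  exact ⟨U, ⟨hU, V, hV, hUW.trans inf_le_right⟩, hxU, hUW.trans inf_le_left⟩

/-- The sections of `Om f` over a chart, linearly. -/
theorem exists_linearEquiv_sections_Om {U : X.Opens} (hU : IsAffineOpen U) {V : Y.Opens}
    (hV : IsAffineOpen V) (h : U ≤ f ⁻¹ᵁ V) :
    letI := algΓ f h
    ∃ E : Γ(Om f, U) ≃ₗ[Γ(X, U)] Ω[Γ(X, U)⁄Γ(Y, V)],
      ∀ b : Γ(X, U), E ((dd f).app U b) = KaehlerDifferential.D Γ(Y, V) Γ(X, U) b := by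
  letI := algΓ f h
  obtain ⟨E, hE, hED⟩ := exists_addEquiv_sections_Om f hU hV h
  exact ⟨{ E with map_smul' := hE }, hED⟩

theorem span_dd {U : X.Opens} (hU : IsAffineOpen U) {V : Y.Opens} (hV : IsAffineOpen V)
    (h : U ≤ f ⁻¹ᵁ V) :
    Submodule.span Γ(X, U) (Set.range ((dd f).app U)) = ⊤ := by
  letI := algΓ f h
  obtain ⟨E, hED⟩ := exists_linearEquiv_sections_Om f hU hV h
  have h1 : Set.range ((dd f).app U) =
      E.symm '' Set.range (KaehlerDifferential.D Γ(Y, V) Γ(X, U)) := by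
    ext s
    constructor
    · rintro ⟨b, rfl⟩
      exact ⟨_, ⟨b, rfl⟩, by rw [← hED b, LinearEquiv.symm_apply_apply]⟩
    · rintro ⟨_, ⟨b, rfl⟩, rfl⟩
      exact ⟨b, by rw [← hED b, LinearEquiv.symm_apply_apply]⟩
  have h2 : (E.symm : Ω[Γ(X, U)⁄Γ(Y, V)] → Γ(Om f, U)) =
      (E.symm.toLinearMap : Ω[Γ(X, U)⁄Γ(Y, V)] → Γ(Om f, U)) := rfl
  rw [h1, h2, ← Submodule.map_span, KaehlerDifferential.span_range_derivation, Submodule.map_top,
    LinearMap.range_eq_top]
  exact E.symm.surjective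

theorem der_appLE (F : X.Modules) (D : OmegaSh.Der f F) {U : X.Opens} {V : Y.Opens}
    (h : U ≤ f ⁻¹ᵁ V) (c : Γ(Y, V)) : D.app U (f.appLE V U h c) = 0 := by
  rw [Scheme.Hom.appLE]
  change D.app U (X.presheaf.map (homOfLE h).op (f.app V c)) = 0
  have h1 := D.d_map (X := op (f ⁻¹ᵁ V)) (Y := op U) (homOfLE h).op (f.app V c)
  have h2 : D.d (X := op (f ⁻¹ᵁ V)) (f.app V c) = 0 := D.d_app (X := op V) c
  rw [h2, map_zero] at h1
  exact h1

theorem exists_local (F : X.Modules) (D : OmegaSh.Der f F) {U : X.Opens} (hU : IsAffineOpen U)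
    {V : Y.Opens} (hV : IsAffineOpen V) (h : U ≤ f ⁻¹ᵁ V) :
    ∃ φ : Γ(Om f, U) →ₗ[Γ(X, U)] Γ(F, U),
      ∀ b : Γ(X, U), φ ((dd f).app U b) = D.app U b := by
  letI := algΓ f h
  obtain ⟨E, hED⟩ := exists_linearEquiv_sections_Om f hU hV h
  let δ : (OmAff.sectMod F U).Derivation (f.appLE V U h) :=
    ModuleCat.Derivation.mk (fun b => D.app U b) (fun b b' => map_add _ b b')
      (fun b b' => D.d_mul (X := op U) b b') (fun c => der_appLE f F D h c)
  let G : Ω[Γ(X, U)⁄Γ(Y, V)] →ₗ[Γ(X, U)] Γ(F, U) := δ.desc.hom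
  have hG : ∀ b : Γ(X, U), G (KaehlerDifferential.D Γ(Y, V) Γ(X, U) b) = D.app U b :=
    fun b => δ.desc_d b
  refine ⟨G ∘ₗ E.toLinearMap, fun b => ?_⟩
  change G (E ((dd f).app U b)) = _
  rw [hED, hG]

theorem dd_res {U U' : X.Opens} (h : U' ≤ U) (b : Γ(X, U)) :
    res (Om f) h ((dd f).app U b) = (dd f).app U' (X.presheaf.map (homOfLE h).op b) :=
  ((dd f).d_map (X := op U) (Y := op U') (homOfLE h).op b).symm

theorem der_res (F : X.Modules) (D : OmegaSh.Der f F) {U U' : X.Opens} (h : U' ≤ U)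
    (b : Γ(X, U)) :
    D.app U' (X.presheaf.map (homOfLE h).op b) = res F h (D.app U b) :=
  D.d_map (X := op U) (Y := op U') (homOfLE h).op b

/-- **Universal derivations exist for every morphism of schemes.** -/
theorem isUniversal_dd : OmegaSh.IsUniversal (dd f) := by
  intro F D
  have hloc : ∀ U : goodOpens f, ∃ φ : Γ(Om f, U.1) →ₗ[Γ(X, U.1)] Γ(F, U.1),
      ∀ b : Γ(X, U.1), φ ((dd f).app U.1 b) = D.app U.1 b := by
    rintro ⟨U, hU, V, hV, h⟩
    exact exists_local f F D hU hV h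
  choose φ hφ using hloc
  have hspan : ∀ U : goodOpens f,
      Submodule.span Γ(X, U.1) (Set.range ((dd f).app U.1)) = ⊤ := by
    rintro ⟨U, hU, V, hV, h⟩
    exact span_dd f hU hV h
  have hres : ∀ (U U' : goodOpens f) (h : U'.1 ≤ U.1) (m : Γ(Om f, U.1)),
      (φ U').toAddMonoidHom (res (Om f) h m) = res F h ((φ U).toAddMonoidHom m) := by
    intro U U' h m
    change φ U' (res (Om f) h m) = res F h (φ U m)
    have hm : m ∈ Submodule.span Γ(X, U.1) (Set.range ((dd f).app U.1)) := by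
      rw [hspan U]; trivial
    induction hm using Submodule.span_induction with
    | mem y hy =>
      obtain ⟨b, rfl⟩ := hy
      rw [dd_res, hφ, hφ, der_res]
    | zero => rw [map_zero, map_zero, map_zero, map_zero]
    | add y z _ _ hy hz => rw [map_add, map_add, map_add, map_add, hy, hz]
    | smul a y _ hy => rw [res_smul, map_smul, map_smul, res_smul, hy]
  obtain ⟨α, hα⟩ := exists_hom_of_basis (goodOpens f) (isBasis_goodOpens f)
    (fun U => (φ U).toAddMonoidHom) (fun U r m => (φ U).map_smul r m) hres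
  have hαd : ∀ (W : X.Opens) (s : Γ(X, W)), α.app W ((dd f).app W s) = D.app W s := by
    intro W s
    apply eq_of_res_basis_eq F (goodOpens f) (isBasis_goodOpens f)
    intro U hUB hUW
    rw [← app_res α hUW, dd_res, hα ⟨U, hUB⟩, ← der_res]
    exact hφ ⟨U, hUB⟩ _
  refine ⟨α, ?_, ?_⟩
  · apply PresheafOfModules.Derivation.ext
    funext W
    ext s
    exact hαd W.unop s
  · intro α' hα'
    apply hom_ext_of_basis (goodOpens f) (isBasis_goodOpens f)
    intro U hUB m
    have hα'd : ∀ b : Γ(X, U), α'.app U ((dd f).app U b) = D.app U b := by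
      intro b
      have := PresheafOfModules.Derivation.congr_d hα' (X := op U) b
      exact this
    have hm : m ∈ Submodule.span Γ(X, U) (Set.range ((dd f).app U)) := by
      rw [hspan ⟨U, hUB⟩]; trivial
    induction hm using Submodule.span_induction with
    | mem y hy =>
      obtain ⟨b, rfl⟩ := hy
      rw [hα'd, hαd]
    | zero => rw [map_zero, map_zero]
    | add y z _ _ hy hz => rw [map_add, map_add, hy, hz]
    | smul a y _ hy =>
      rw [Scheme.Modules.Hom.app_smul, Scheme.Modules.Hom.app_smul, hy]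

/-- Every morphism of schemes has a universal derivation. -/
theorem exists_universal : ∃ (Ω : X.Modules) (d : OmegaSh.Der f Ω), OmegaSh.IsUniversal d :=
  ⟨Om f, dd f, isUniversal_dd f⟩

end Groth.Agent.Helper19.UnivDer
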