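import Mathlib
import Groth.Agent.Helper19.Ribbon2
import Groth.Agent.Helper19.Conormal7
import Groth.Agent.Helper19.UnivConormal
import Groth.Agent.Helper19.UnivDer4
import Groth.Agent.Lib.Helper29.QCohLocFree
import Groth.Agent.Lib.Helper2.RSMod.Tools
set_option autoImplicit false
set_option linter.style.haveILetI false
set_option linter.unusedSectionVars false
universe u

open CategoryTheory CategoryTheory.Limits AlgebraicGeometry Opposite TopologicalSpace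

/-! # Ribbons: local lifts of functions through the thickening (helper19) -/

namespace Groth.Agent.Helper19.Ribbon

open Groth.Agent.Lib.Helper29.QCoh Groth.Agent.Helper19.Conormal
  Groth.Agent.Helper19.UnivConormal Groth.Agent.Helper19.UnivDer

variable {S D C X : Scheme.{u}} (i : D ⟶ C)
  (pC : C ⟶ S) {Ω₁ : C.Modules} (d₁ : OmegaSh.Der pC Ω₁)
  {pD : D ⟶ S} {Ω₂ : D.Modules} (d₂ : OmegaSh.Der pD Ω₂)
  (φ : Omega.conormal i ⟶ (Scheme.Modules.pullback i).obj Ω₁)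
  (c : (Scheme.Modules.pullback i).obj Ω₁ ⟶ Ω₂)
  (pX : X ⟶ S) (f : D ⟶ X)
  {Ω₃ : X.Modules} (d₃ : OmegaSh.Der pX Ω₃)
  (df : (Scheme.Modules.pullback f).obj Ω₃ ⟶ Ω₂)
  (s : (Scheme.Modules.pullback f).obj Ω₃ ⟶ (Scheme.Modules.pullback i).obj Ω₁)

section maps

variable (W : C.Opens) (V : X.Opens) (hWV : i ⁻¹ᵁ W ≤ f ⁻¹ᵁ V)

/-- `a ↦ i^*(d₁ a)`. -/
noncomputable def del1 : Γ(C, W) →+ Γ((Scheme.Modules.pullback i).obj Ω₁, i ⁻¹ᵁ W) :=
  (pullSect i Ω₁ W).comp (d₁.app W)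

/-- `r ↦ s(f^*(d₃ r))` restricted to `i⁻¹W`. -/
noncomputable def Del : Γ(X, V) →+ Γ((Scheme.Modules.pullback i).obj Ω₁, i ⁻¹ᵁ W) :=
  (res ((Scheme.Modules.pullback i).obj Ω₁) hWV).comp
    ((appₗ s (f ⁻¹ᵁ V)).toAddMonoidHom.comp ((pullSect f Ω₃ V).comp (d₃.app V)))

/-- `f^♯` from `V` to `i⁻¹W`. -/
noncomputable def psi : Γ(X, V) →+* Γ(D, i ⁻¹ᵁ W) :=
  (D.presheaf.map (homOfLE hWV).op).hom.comp (f.app V).hom

theorem psi_eq_appLE : psi i f W V hWV = (f.appLE V (i ⁻¹ᵁ W) hWV).hom := rfl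

theorem del1_apply (a : Γ(C, W)) : del1 i pC d₁ W a = pullSect i Ω₁ W (d₁.app W a) := rfl

theorem Del_apply (r : Γ(X, V)) : Del i pX f d₃ s W V hWV r =
    res ((Scheme.Modules.pullback i).obj Ω₁) hWV
      (s.app (f ⁻¹ᵁ V) (pullSect f Ω₃ V (d₃.app V r))) := rfl

theorem del1_mul (a b : Γ(C, W)) :
    del1 i pC d₁ W (a * b) =
      (i.app W).hom a • del1 i pC d₁ W b + (i.app W).hom b • del1 i pC d₁ W a := by
  rw [del1_apply, del1_apply, del1_apply]
  have h : d₁.app W (a * b) = a • d₁.app W b + b • d₁.app W a := d₁.d_mul (X := op W) a b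
  rw [h, map_add, pullSect_smul, pullSect_smul]

theorem Del_mul (r r' : Γ(X, V)) :
    Del i pX f d₃ s W V hWV (r * r') =
      psi i f W V hWV r • Del i pX f d₃ s W V hWV r' +
        psi i f W V hWV r' • Del i pX f d₃ s W V hWV r := by
  rw [Del_apply, Del_apply, Del_apply]
  have h : d₃.app V (r * r') = r • d₃.app V r' + r' • d₃.app V r := d₃.d_mul (X := op V) r r'
  rw [h, map_add, pullSect_smul, pullSect_smul, map_add]
  have h2 : ∀ (a : Γ(D, f ⁻¹ᵁ V)) (m : Γ((Scheme.Modules.pullback f).obj Ω₃, f ⁻¹ᵁ V)),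
      s.app (f ⁻¹ᵁ V) (a • m) = a • s.app (f ⁻¹ᵁ V) m := fun a m => (appₗ s (f ⁻¹ᵁ V)).map_smul a m
  rw [h2, h2, map_add, res_smul, res_smul]
  rfl

theorem c_del1 (hc : OmegaSh.IsDiffCompat i d₁ d₂ c) (a : Γ(C, W)) :
    c.app (i ⁻¹ᵁ W) (del1 i pC d₁ W a) = d₂.app (i ⁻¹ᵁ W) ((i.app W).hom a) :=
  hc W a

theorem c_Del (hdf : OmegaSh.IsDiffCompat f d₃ d₂ df) (hs : s ≫ c = df) (r : Γ(X, V)) :
    c.app (i ⁻¹ᵁ W) (Del i pX f d₃ s W V hWV r) =
      d₂.app (i ⁻¹ᵁ W) (psi i f W V hWV r) := by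
  rw [Del_apply, app_res, ← app_comp, hs]
  have h1 : df.app (f ⁻¹ᵁ V) (pullSect f Ω₃ V (d₃.app V r)) =
      d₂.app (f ⁻¹ᵁ V) ((f.app V).hom r) := hdf V r
  rw [h1, ← der_res]
  rfl

end maps

section sections

/-- Sections over an open, as a functor to abelian groups. -/
noncomputable def GamV {D : Scheme.{u}} (V : D.Opens) : D.Modules ⥤ Ab.{u} :=
  Scheme.Modules.toPresheaf D ⋙ (evaluation _ _).obj (op V)

instance {D : Scheme.{u}} (V : D.Opens) : PreservesFiniteLimits (GamV V) := by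
  unfold GamV
  infer_instance

instance {D : Scheme.{u}} (V : D.Opens) : (GamV V).Additive := by
  unfold GamV
  infer_instance

theorem mono_inj {D : Scheme.{u}} {M N : D.Modules} (φ : M ⟶ N) [Mono φ] (V : D.Opens) :
    Function.Injective (φ.app V) := by
  have : Mono ((GamV V).map φ) := inferInstance
  exact (AddCommGrpCat.mono_iff_injective _).1 this

theorem exact_sections {D : Scheme.{u}} (S : ShortComplex D.Modules) (hS : S.ShortExact)
    (V : D.Opens) (m : Γ(S.X₂, V)) (hm : S.g.app V m = 0) :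
    ∃ n : Γ(S.X₁, V), S.f.app V n = m := by
  have h1 : (S.map (GamV V)).Exact :=
    hS.exact.map_of_mono_of_preservesKernel (GamV V) hS.mono_f inferInstance
  rw [ShortComplex.ab_exact_iff] at h1
  exact h1 m hm

end sections

section exact

variable [IsClosedImmersion i] (hsq : i.ker ^ 2 = ⊥)
  (hφ : OmegaSh.IsConormalDiff i d₁ φ) (hw : φ ≫ c = 0)
  (hS : (ShortComplex.mk φ c hw).ShortExact)
  {W : C.Opens} (hW : IsAffineOpen W)

include hφ in
theorem phi_cls (x : i.ker.ideal ⟨W, hW⟩) :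
    φ.app (i ⁻¹ᵁ W) (cls i hW x) = del1 i pC d₁ W x.1 := by
  have h := hφ W ((idealModSectionsEquiv i.ker ⟨W, hW⟩).symm x)
  rw [idealSect_symm] at h
  exact h

theorem ker_app (a : Γ(C, W)) : (i.app W).hom a = 0 ↔ a ∈ i.ker.ideal ⟨W, hW⟩ := by
  have h := (isClosedChart_fot i hW).2
  rw [Scheme.Hom.appLE_eq_app] at h
  rw [← h, RingHom.mem_ker]

include hW in
theorem app_surjective : Function.Surjective (i.app W).hom := by
  have h := (isClosedChart_fot i hW).1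
  rw [Scheme.Hom.appLE_eq_app] at h
  exact h

include hsq in
theorem ideal_sq : (i.ker.ideal ⟨W, hW⟩) ^ 2 = ⊥ := by
  have h1 : (i.ker ^ 2).ideal ⟨W, hW⟩ = ⊥ := by rw [hsq]; rfl
  rw [Scheme.IdealSheafData.ideal_pow, Pi.pow_apply] at h1
  exact h1

include hsq hφ hS hW in
theorem del1_inj (a : Γ(C, W)) (ha : (i.app W).hom a = 0) (hd : del1 i pC d₁ W a = 0) : a = 0 := by
  rw [ker_app i hW] at ha
  have h1 := phi_cls i pC d₁ φ hφ hW ⟨a, ha⟩
  rw [hd] at h1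
  haveI : Mono φ := hS.mono_f
  have h2 : cls i hW ⟨a, ha⟩ = 0 := by
    apply mono_inj φ (i ⁻¹ᵁ W)
    rw [h1, map_zero]
  rw [← clsV_self, clsV_eq_zero_iff (hW.preimage i) (isClosedChart_fot i hW), ideal_sq i hsq hW,
    Ideal.mem_bot] at h2
  exact h2

include hφ hS hW in
theorem del1_surj (m : Γ((Scheme.Modules.pullback i).obj Ω₁, i ⁻¹ᵁ W))
    (hm : c.app (i ⁻¹ᵁ W) m = 0) : ∃ a, (i.app W).hom a = 0 ∧ del1 i pC d₁ W a = m := by
  obtain ⟨n, hn⟩ := exact_sections _ hS (i ⁻¹ᵁ W) m hm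
  obtain ⟨x, hx⟩ := exists_clsV_eq (hW.preimage i) (isClosedChart_fot i hW) n
  rw [clsV_self] at hx
  refine ⟨x.1, (ker_app i hW _).mpr x.2, ?_⟩
  rw [← phi_cls i pC d₁ φ hφ hW x, ← hx]
  exact hn

end exact

end Groth.Agent.Helper19.Ribbon
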