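import Mathlib
import Groth.Agent.Helper19.Ribbon3
import Groth.Agent.Lib.Helper2.ToAffine
set_option autoImplicit false
set_option linter.style.haveILetI false
set_option linter.unusedSectionVars false
universe u

open CategoryTheory CategoryTheory.Limits AlgebraicGeometry Opposite TopologicalSpace

/-! # Ribbons: the local lifts as morphisms of schemes (helper19) -/

namespace Groth.Agent.Helper19.Ribbon

open Groth.Agent.Lib.Helper29.QCoh Groth.Agent.Helper19.Conormal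
  Groth.Agent.Helper19.UnivConormal Groth.Agent.Helper19.UnivDer

/-- All the data of the extension problem. -/
structure Ctx {S D C X : Scheme.{u}} (i : D ⟶ C) (pC : C ⟶ S) (pX : X ⟶ S) (f : D ⟶ X) where
  hci : IsClosedImmersion i
  hsq : i.ker ^ 2 = ⊥
  hf : f ≫ pX = i ≫ pC
  Ω₁ : C.Modules
  d₁ : OmegaSh.Der pC Ω₁
  pD : D ⟶ S
  Ω₂ : D.Modules
  d₂ : OmegaSh.Der pD Ω₂
  φ : Omega.conormal i ⟶ (Scheme.Modules.pullback i).obj Ω₁
  hφ : OmegaSh.IsConormalDiff i d₁ φ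
  c : (Scheme.Modules.pullback i).obj Ω₁ ⟶ Ω₂
  hc : OmegaSh.IsDiffCompat i d₁ d₂ c
  hw : φ ≫ c = 0
  hS : (ShortComplex.mk φ c hw).ShortExact
  Ω₃ : X.Modules
  d₃ : OmegaSh.Der pX Ω₃
  df : (Scheme.Modules.pullback f).obj Ω₃ ⟶ Ω₂
  hdf : OmegaSh.IsDiffCompat f d₃ d₂ df
  s : (Scheme.Modules.pullback f).obj Ω₃ ⟶ (Scheme.Modules.pullback i).obj Ω₁
  hs : s ≫ c = df

variable {S D C X : Scheme.{u}} {i : D ⟶ C} {pC : C ⟶ S} {pX : X ⟶ S} {f : D ⟶ X}
  (K : Ctx i pC pX f)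

section rho

variable {W : C.Opens} (hW : IsAffineOpen W) {V : X.Opens} (hWV : i ⁻¹ᵁ W ≤ f ⁻¹ᵁ V)

include hW in
theorem exists_rho :
    ∃ ρ : Γ(X, V) →+* Γ(C, W), (∀ r, (i.app W).hom (ρ r) = psi i f W V hWV r) ∧
      (∀ r, del1 i pC K.d₁ W (ρ r) = Del i pX f K.d₃ K.s W V hWV r) ∧
      ∀ (a : Γ(C, W)) (r : Γ(X, V)), (i.app W).hom a = psi i f W V hWV r →
        del1 i pC K.d₁ W a = Del i pX f K.d₃ K.s W V hWV r → a = ρ r := by
  haveI := K.hci
  exact exists_ringHom_lift (i.app W).hom (psi i f W V hWV) (del1 i pC K.d₁ W)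
    (Del i pX f K.d₃ K.s W V hWV) (appₗ K.c (i ⁻¹ᵁ W)).toAddMonoidHom (K.d₂.app (i ⁻¹ᵁ W))
    (app_surjective i hW)
    (del1_mul i pC K.d₁ W) (Del_mul i pX f K.d₃ K.s W V hWV)
    (c_del1 i pC K.d₁ K.d₂ K.c W K.hc)
    (c_Del i K.d₂ K.c pX f K.d₃ K.df K.s W V hWV K.hdf K.hs)
    (del1_inj i pC K.d₁ K.φ K.c K.hsq K.hφ K.hw K.hS hW)
    (del1_surj i pC K.d₁ K.φ K.c K.hφ K.hw K.hS hW)

/-- The local lift on functions. -/
noncomputable def rho : Γ(X, V) →+* Γ(C, W) := (exists_rho K hW hWV).choose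

theorem app_rho (r : Γ(X, V)) : (i.app W).hom (rho K hW hWV r) = psi i f W V hWV r :=
  (exists_rho K hW hWV).choose_spec.1 r

theorem del1_rho (r : Γ(X, V)) :
    del1 i pC K.d₁ W (rho K hW hWV r) = Del i pX f K.d₃ K.s W V hWV r :=
  (exists_rho K hW hWV).choose_spec.2.1 r

theorem rho_unique (a : Γ(C, W)) (r : Γ(X, V)) (h1 : (i.app W).hom a = psi i f W V hWV r)
    (h2 : del1 i pC K.d₁ W a = Del i pX f K.d₃ K.s W V hWV r) : a = rho K hW hWV r :=
  (exists_rho K hW hWV).choose_spec.2.2 a r h1 h2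

end rho

section res

variable {W W' : C.Opens} (hW : IsAffineOpen W) (hW' : IsAffineOpen W') (hWW : W' ≤ W)
  {V V' : X.Opens} (hVV : V' ≤ V)
  (hWV : i ⁻¹ᵁ W ≤ f ⁻¹ᵁ V) (hWV' : i ⁻¹ᵁ W' ≤ f ⁻¹ᵁ V')

theorem app_map (a : Γ(C, W)) :
    (i.app W').hom (C.presheaf.map (homOfLE hWW).op a) =
      D.presheaf.map (homOfLE (i.preimage_mono hWW)).op ((i.app W).hom a) := by
  have h := i.naturality (homOfLE hWW).op
  exact congrArg (fun k => k.hom a) h

theorem psi_res (r : Γ(X, V)) :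
    psi i f W' V' hWV' (X.presheaf.map (homOfLE hVV).op r) =
      D.presheaf.map (homOfLE (i.preimage_mono hWW)).op (psi i f W V hWV r) := by
  rw [psi_eq_appLE, psi_eq_appLE]
  have h1 : X.presheaf.map (homOfLE hVV).op ≫ f.appLE V' (i ⁻¹ᵁ W') hWV' =
      f.appLE V (i ⁻¹ᵁ W') (hWV'.trans (f.preimage_mono hVV)) :=
    Scheme.Hom.map_appLE f hWV' (homOfLE hVV).op
  have h2 : f.appLE V (i ⁻¹ᵁ W) hWV ≫ D.presheaf.map (homOfLE (i.preimage_mono hWW)).op =
      f.appLE V (i ⁻¹ᵁ W') ((i.preimage_mono hWW).trans hWV) :=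
    Scheme.Hom.appLE_map f hWV (homOfLE (i.preimage_mono hWW)).op
  have e1 := congrArg (fun k => k.hom r) h1
  have e2 := congrArg (fun k => k.hom r) h2
  exact e1.trans e2.symm

theorem del1_res (a : Γ(C, W)) :
    del1 i pC K.d₁ W' (C.presheaf.map (homOfLE hWW).op a) =
      res ((Scheme.Modules.pullback i).obj K.Ω₁) (i.preimage_mono hWW) (del1 i pC K.d₁ W a) := by
  rw [del1_apply, del1_apply, der_res, pullSect_res]

theorem Del_res (r : Γ(X, V)) :
    Del i pX f K.d₃ K.s W' V' hWV' (X.presheaf.map (homOfLE hVV).op r) =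
      res ((Scheme.Modules.pullback i).obj K.Ω₁) (i.preimage_mono hWW)
        (Del i pX f K.d₃ K.s W V hWV r) := by
  rw [Del_apply, Del_apply, der_res, pullSect_res, app_res, res_res, res_res]

theorem rho_res (r : Γ(X, V)) :
    rho K hW' hWV' (X.presheaf.map (homOfLE hVV).op r) =
      C.presheaf.map (homOfLE hWW).op (rho K hW hWV r) := by
  symm
  apply rho_unique
  · rw [app_map hWW, app_rho, psi_res hWW hVV hWV hWV']
  · rw [del1_res K hWW, del1_rho, Del_res K hWW hVV hWV hWV']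

end res

end Groth.Agent.Helper19.Ribbon
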