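import Mathlib
import Groth.Agent.Helper19.Ribbon4
import Groth.Agent.Lib.Helper2.ToAffine
set_option autoImplicit false
set_option linter.style.haveILetI false
set_option linter.unusedSectionVars false
universe u

open CategoryTheory CategoryTheory.Limits AlgebraicGeometry Opposite TopologicalSpace

/-! # Ribbons: the local lifts as morphisms of schemes (helper19) -/

namespace Groth.Agent.Helper19.Ribbon

open Groth.Agent.Lib.Helper29.QCoh Groth.Agent.Helper19.Conormal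
  Groth.Agent.Helper19.UnivConormal Groth.Agent.Helper19.UnivDer
  Groth.Agent.Lib.Helper2.ToAffine

section top

variable {C : Scheme.{u}}

theorem ι_appLE_top {W' W : C.Opens} (h : W' ≤ W) (e : ⊤ ≤ W'.ι ⁻¹ᵁ W) :
    W'.ι.appLE W ⊤ e = C.presheaf.map (homOfLE h).op ≫ W'.topIso.inv := by
  rw [Scheme.Opens.ι_appLE]
  change _ = C.presheaf.map _ ≫ C.presheaf.map _
  exact (congrArg C.presheaf.map (Subsingleton.elim _ _)).trans (C.presheaf.map_comp _ _)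

theorem topIso_inv_eq (W : C.Opens) (e : ⊤ ≤ W.ι ⁻¹ᵁ W) : W.topIso.inv = W.ι.appLE W ⊤ e := by
  rw [ι_appLE_top (le_refl W)]
  simp

theorem le_ι_preimage {W' W : C.Opens} (h : W' ≤ W) : ⊤ ≤ W'.ι ⁻¹ᵁ W := fun x _ => h x.2

theorem appLE_congr_hom {X Y : Scheme.{u}} {f g : X ⟶ Y} (e : f = g) (U : Y.Opens) (V : X.Opens)
    (h : V ≤ f ⁻¹ᵁ U) (h' : V ≤ g ⁻¹ᵁ U) : f.appLE U V h = g.appLE U V h' := by
  subst e; rfl

theorem topIso_inv_homOfLE {W' W : C.Opens} (h : W' ≤ W) (e : ⊤ ≤ (C.homOfLE h) ⁻¹ᵁ ⊤) :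
    W.topIso.inv ≫ (C.homOfLE h).appLE ⊤ ⊤ e =
      C.presheaf.map (homOfLE h).op ≫ W'.topIso.inv := by
  rw [topIso_inv_eq W (le_ι_preimage (le_refl W)), Scheme.Hom.appLE_comp_appLE,
    appLE_congr_hom (C.homOfLE_ι h) W ⊤ _ (le_ι_preimage h), ι_appLE_top h]

theorem topIso_inv_restrict {D : Scheme.{u}} (i : D ⟶ C) (W : C.Opens)
    (e : ⊤ ≤ (i ∣_ W) ⁻¹ᵁ ⊤) :
    W.topIso.inv ≫ (i ∣_ W).appLE ⊤ ⊤ e = i.app W ≫ (i ⁻¹ᵁ W).topIso.inv := by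
  have h0 : (⊤ : (↑(i ⁻¹ᵁ W) : Scheme.{u}).Opens) ≤ ((i ⁻¹ᵁ W).ι ≫ i) ⁻¹ᵁ W := fun x _ => x.2
  rw [topIso_inv_eq W (le_ι_preimage (le_refl W)), Scheme.Hom.appLE_comp_appLE,
    appLE_congr_hom (morphismRestrict_ι i W) W ⊤ _ h0,
    ← Scheme.Hom.appLE_comp_appLE _ _ W (i ⁻¹ᵁ W) ⊤ le_rfl (le_ι_preimage (le_refl _)),
    ← topIso_inv_eq, Scheme.Hom.appLE_eq_app]

theorem appTop_eq_appLE {X Y : Scheme.{u}} (f : X ⟶ Y) (e : ⊤ ≤ f ⁻¹ᵁ ⊤) :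
    f.appTop = f.appLE ⊤ ⊤ e := by
  rw [Scheme.Hom.appLE]
  simp

end top

variable {S D C X : Scheme.{u}} {i : D ⟶ C} {pC : C ⟶ S} {pX : X ⟶ S} {f : D ⟶ X}
  (K : Ctx i pC pX f)

section gP

variable {W : C.Opens} (hW : IsAffineOpen W) {V : X.Opens} (hV : IsAffineOpen V)
  (hWV : i ⁻¹ᵁ W ≤ f ⁻¹ᵁ V)

/-- The local lift as a ring map to the open subscheme. -/
noncomputable def phiP : Γ(X, V) ⟶ Γ(W, ⊤) :=
  CommRingCat.ofHom (rho K hW hWV) ≫ W.topIso.inv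

/-- The local lift as a morphism of schemes. -/
noncomputable def gP : (W : Scheme.{u}) ⟶ X := ofRingHom hV (phiP K hW hWV)

theorem gP_le : ⊤ ≤ (gP K hW hV hWV) ⁻¹ᵁ V := ofRingHom_le hV _

theorem gP_appLE : (gP K hW hV hWV).appLE V ⊤ (gP_le K hW hV hWV) = phiP K hW hWV :=
  ofRingHom_appLE hV _

end gP

section props

variable {W : C.Opens} (hW : IsAffineOpen W) {V : X.Opens} (hV : IsAffineOpen V)
  (hWV : i ⁻¹ᵁ W ≤ f ⁻¹ᵁ V)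

theorem restrict_gP : (i ∣_ W) ≫ gP K hW hV hWV = (i ⁻¹ᵁ W).ι ≫ f := by
  have h1 : ⊤ ≤ ((i ∣_ W) ≫ gP K hW hV hWV) ⁻¹ᵁ V := fun x _ =>
    gP_le K hW hV hWV (show ((i ∣_ W) x) ∈ (⊤ : (W : Scheme.{u}).Opens) from trivial)
  have h2 : ⊤ ≤ ((i ⁻¹ᵁ W).ι ≫ f) ⁻¹ᵁ V := fun x _ => hWV x.2
  apply ext_of_appLE _ _ hV h1 h2
  have e1 : ((i ∣_ W) ≫ gP K hW hV hWV).appLE V ⊤ h1 =
      (gP K hW hV hWV).appLE V ⊤ (gP_le K hW hV hWV) ≫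
        (i ∣_ W).appLE ⊤ ⊤ (fun _ _ => trivial) :=
    (Scheme.Hom.appLE_comp_appLE _ _ _ _ _ _ _).symm
  have e2 : ((i ⁻¹ᵁ W).ι ≫ f).appLE V ⊤ h2 =
      f.appLE V (i ⁻¹ᵁ W) hWV ≫ (i ⁻¹ᵁ W).ι.appLE (i ⁻¹ᵁ W) ⊤ (le_ι_preimage (le_refl _)) :=
    (Scheme.Hom.appLE_comp_appLE _ _ _ _ _ _ _).symm
  rw [e1, e2, gP_appLE, phiP, Category.assoc, topIso_inv_restrict, ← topIso_inv_eq,
    ← Category.assoc]
  congr 1
  ext r
  exact app_rho K hW hWV r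

theorem rho_base (t : Γ(S, ⊤)) :
    rho K hW hWV ((pX.appLE ⊤ V (fun _ _ => trivial)).hom t) =
      (pC.appLE ⊤ W (fun _ _ => trivial)).hom t := by
  symm
  apply rho_unique
  · rw [psi_eq_appLE]
    have h1 : pC.appLE ⊤ W (fun _ _ => trivial) ≫ i.app W =
        (i ≫ pC).appLE ⊤ (i ⁻¹ᵁ W) (fun _ _ => trivial) := by
      rw [Scheme.Hom.app_eq_appLE, Scheme.Hom.appLE_comp_appLE]
    have h2 : pX.appLE ⊤ V (fun _ _ => trivial) ≫ f.appLE V (i ⁻¹ᵁ W) hWV =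
        (f ≫ pX).appLE ⊤ (i ⁻¹ᵁ W) (fun _ _ => trivial) := by
      rw [Scheme.Hom.appLE_comp_appLE]
    have h3 : (f ≫ pX).appLE ⊤ (i ⁻¹ᵁ W) (fun _ _ => trivial) =
        (i ≫ pC).appLE ⊤ (i ⁻¹ᵁ W) (fun _ _ => trivial) :=
      appLE_congr_hom K.hf _ _ _ _
    have e1 := congrArg (fun k => k.hom t) h1
    have e2 := congrArg (fun k => k.hom t) (h2.trans h3)
    exact e1.trans e2.symm
  · rw [del1_apply, Del_apply, der_appLE, der_appLE, map_zero, map_zero, map_zero, map_zero]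

theorem gP_comp [IsAffine S] : gP K hW hV hWV ≫ pX = W.ι ≫ pC := by
  apply ext_of_isAffine
  rw [appTop_eq_appLE _ (fun _ _ => trivial), appTop_eq_appLE (W.ι ≫ pC) (fun _ _ => trivial),
    ← Scheme.Hom.appLE_comp_appLE _ _ ⊤ V ⊤ (fun _ _ => trivial) (gP_le K hW hV hWV),
    ← Scheme.Hom.appLE_comp_appLE _ _ ⊤ W ⊤ (fun _ _ => trivial) (le_ι_preimage (le_refl _)),
    gP_appLE, phiP, ← topIso_inv_eq, ← Category.assoc]
  congr 1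
  ext t
  exact rho_base K hW hWV t

end props

section EC

variable {W W' : C.Opens} (hW : IsAffineOpen W) (hW' : IsAffineOpen W') (hWW : W' ≤ W)
  {V V' : X.Opens} (hV : IsAffineOpen V) (hV' : IsAffineOpen V') (hVV : V' ≤ V)
  (hWV : i ⁻¹ᵁ W ≤ f ⁻¹ᵁ V) (hWV' : i ⁻¹ᵁ W' ≤ f ⁻¹ᵁ V')

include hVV in
theorem gP_homOfLE :
    C.homOfLE hWW ≫ gP K hW hV hWV = gP K hW' hV' hWV' := by
  have h1 : ⊤ ≤ (C.homOfLE hWW ≫ gP K hW hV hWV) ⁻¹ᵁ V := fun x _ =>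
    gP_le K hW hV hWV (show (C.homOfLE hWW x) ∈ (⊤ : (W : Scheme.{u}).Opens) from trivial)
  have h2 : ⊤ ≤ (gP K hW' hV' hWV') ⁻¹ᵁ V :=
    (gP_le K hW' hV' hWV').trans ((gP K hW' hV' hWV').preimage_mono hVV)
  apply ext_of_appLE _ _ hV h1 h2
  have e1 : (C.homOfLE hWW ≫ gP K hW hV hWV).appLE V ⊤ h1 =
      (gP K hW hV hWV).appLE V ⊤ (gP_le K hW hV hWV) ≫
        (C.homOfLE hWW).appLE ⊤ ⊤ (fun _ _ => trivial) :=
    (Scheme.Hom.appLE_comp_appLE _ _ _ _ _ _ _).symm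
  have e2 : (gP K hW' hV' hWV').appLE V ⊤ h2 =
      X.presheaf.map (homOfLE hVV).op ≫ (gP K hW' hV' hWV').appLE V' ⊤ (gP_le K hW' hV' hWV') :=
    (Scheme.Hom.map_appLE _ _ _).symm
  rw [e1, e2, gP_appLE, gP_appLE, phiP, phiP, Category.assoc, topIso_inv_homOfLE,
    ← Category.assoc, ← Category.assoc]
  congr 1
  ext r
  exact (rho_res K hW hW' hWW hVV hWV hWV' r).symm

end EC

end Groth.Agent.Helper19.Ribbon
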