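import Mathlib
import Groth.Agent.Lib.Helper2.ToAffine
import Groth.Agent.Helper19.Ribbon5
import Groth.Agent.S0440
set_option autoImplicit false
set_option linter.style.haveILetI false
set_option linter.unusedSectionVars false
universe u

open CategoryTheory CategoryTheory.Limits AlgebraicGeometry Opposite TopologicalSpace

/-! # Retractions of nilpotent thickenings of smooth affine schemes (helper19) -/

namespace Groth.Agent.Helper19.TrivDef

open Groth.Agent.Lib.Helper2.ToAffine Groth.Agent.Helper19.Ribbon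

/-- Let `i : X ⟶ X'` be a surjective closed immersion with `X` affine and nilpotent kernel on
global sections, `q : X ⟶ T` smooth with `T` affine and `q' : X' ⟶ T` with `i ≫ q' = q`.  Then `i`
has a retraction over `T`. -/
theorem exists_retraction_of_smooth_affine {X X' T : Scheme.{u}} (i : X ⟶ X') [IsClosedImmersion i]
    (hi : Function.Surjective i) [IsAffine X] [IsAffine T] (q : X ⟶ T) [Smooth q] (q' : X' ⟶ T)
    (hq : i ≫ q' = q) (hnil : IsNilpotent (RingHom.ker i.appTop.hom)) :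
    ∃ r : X' ⟶ X, i ≫ r = 𝟙 X ∧ r ≫ q = q' := by
  haveI : IsAffine X' := Groth.Agent.S0440.result i hi
  have hsm : (q.appLE ⊤ ⊤ le_top).hom.Smooth :=
    q.smooth_appLE (isAffineOpen_top T) (isAffineOpen_top X) le_top
  rw [← appTop_eq_appLE q le_top] at hsm
  letI algB₀ : Algebra Γ(T, ⊤) Γ(X, ⊤) := q.appTop.hom.toAlgebra
  letI algB' : Algebra Γ(T, ⊤) Γ(X', ⊤) := q'.appTop.hom.toAlgebra
  haveI : Algebra.FormallySmooth Γ(T, ⊤) Γ(X, ⊤) := hsm.formallySmooth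
  have hcomp : q'.appTop ≫ i.appTop = q.appTop := by
    rw [← Scheme.Hom.comp_appTop, hq]
  let π : Γ(X', ⊤) →ₐ[Γ(T, ⊤)] Γ(X, ⊤) :=
    { i.appTop.hom with
      commutes' := fun c => by
        change i.appTop.hom (q'.appTop.hom c) = q.appTop.hom c
        exact congrArg (fun k => k.hom c) hcomp }
  have hπsurj : Function.Surjective π := by
    have h := i.app_surjective ⊤ (isAffineOpen_top X')
    exact h
  have hπnil : IsNilpotent (RingHom.ker (π : Γ(X', ⊤) →+* Γ(X, ⊤))) := hnil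
  let s : Γ(X, ⊤) →ₐ[Γ(T, ⊤)] Γ(X', ⊤) :=
    Algebra.FormallySmooth.liftOfSurjective (AlgHom.id Γ(T, ⊤) Γ(X, ⊤)) π hπsurj hπnil
  have hs : ∀ x, i.appTop.hom (s x) = x := fun x =>
    Algebra.FormallySmooth.liftOfSurjective_apply (AlgHom.id Γ(T, ⊤) Γ(X, ⊤)) π hπsurj hπnil x
  have hs' : ∀ c, s (q.appTop.hom c) = q'.appTop.hom c := fun c => s.commutes c
  let φ : Γ(X, ⊤) ⟶ Γ(X', ⊤) := CommRingCat.ofHom s.toRingHom
  refine ⟨ofRingHom (isAffineOpen_top X) φ, ?_, ?_⟩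
  · have h1 : ⊤ ≤ (i ≫ ofRingHom (isAffineOpen_top X) φ) ⁻¹ᵁ ⊤ := le_top
    have h2 : ⊤ ≤ (𝟙 X) ⁻¹ᵁ ⊤ := le_top
    apply ext_of_appLE _ _ (isAffineOpen_top X) h1 h2
    rw [← Scheme.Hom.appLE_comp_appLE _ _ ⊤ ⊤ ⊤ (ofRingHom_le (isAffineOpen_top X) φ) le_top,
      ofRingHom_appLE, ← appTop_eq_appLE i le_top, ← appTop_eq_appLE (𝟙 X) le_top]
    ext x
    exact hs x
  · have h1 : ⊤ ≤ (ofRingHom (isAffineOpen_top X) φ ≫ q) ⁻¹ᵁ ⊤ := le_top
    have h2 : ⊤ ≤ q' ⁻¹ᵁ ⊤ := le_top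
    apply ext_of_appLE _ _ (isAffineOpen_top T) h1 h2
    rw [← Scheme.Hom.appLE_comp_appLE _ _ ⊤ ⊤ ⊤ le_top (ofRingHom_le (isAffineOpen_top X) φ),
      ofRingHom_appLE, ← appTop_eq_appLE q le_top, ← appTop_eq_appLE q' le_top]
    ext c
    exact hs' c

end Groth.Agent.Helper19.TrivDef
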