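import Mathlib
import Groth.Agent.Helper19.TrivDef1
import Groth.Agent.Helper19.DefSm1
set_option autoImplicit false
set_option linter.style.haveILetI false
set_option linter.unusedSectionVars false
universe u

open CategoryTheory CategoryTheory.Limits AlgebraicGeometry Opposite TopologicalSpace

/-! # Nilpotent kernels on affine schemes (helper19) -/

namespace Groth.Agent.Helper19.TrivDef

theorem isNilpotent_ker_appTop_SpecMap {R S : CommRingCat.{u}} (f : R ⟶ S)
    (h : IsNilpotent (RingHom.ker f.hom)) : IsNilpotent (RingHom.ker (Spec.map f).appTop.hom) := by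
  obtain ⟨n, hn⟩ := h
  refine ⟨n, ?_⟩
  rw [Ideal.zero_eq_bot] at hn ⊢
  rw [eq_bot_iff]
  have hnat : (Spec.map f).appTop ≫ (Scheme.ΓSpecIso S).hom = (Scheme.ΓSpecIso R).hom ≫ f :=
    Scheme.ΓSpecIso_naturality f
  have h1 : (RingHom.ker (Spec.map f).appTop.hom).map (Scheme.ΓSpecIso R).hom.hom ≤
      RingHom.ker f.hom := by
    rw [Ideal.map_le_iff_le_comap]
    intro x hx
    rw [RingHom.mem_ker] at hx
    rw [Ideal.mem_comap, RingHom.mem_ker]
    have h2 := congrArg (fun k => k.hom x) hnat
    change (Scheme.ΓSpecIso S).hom.hom ((Spec.map f).appTop.hom x) =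
      f.hom ((Scheme.ΓSpecIso R).hom.hom x) at h2
    rw [← h2, hx, map_zero]
  have h3 : ((RingHom.ker (Spec.map f).appTop.hom) ^ n).map (Scheme.ΓSpecIso R).hom.hom ≤ ⊥ := by
    rw [Ideal.map_pow, ← hn]
    exact Ideal.pow_right_mono h1 n
  intro x hx
  have h4 : (Scheme.ΓSpecIso R).hom.hom x ∈ (⊥ : Ideal R) := h3 (Ideal.mem_map_of_mem _ hx)
  rw [Ideal.mem_bot] at h4 ⊢
  have hinj : Function.Injective (Scheme.ΓSpecIso R).hom.hom :=
    (ConcreteCategory.bijective_of_isIso (Scheme.ΓSpecIso R).hom).1
  exact hinj (h4.trans (map_zero _).symm)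

/-- On an affine scheme an ideal sheaf is nilpotent when its ideal of global sections is. -/
theorem isNilpotent_of_ideal_top {X : Scheme.{u}} [IsAffine X] (I : X.IdealSheafData)
    (h : IsNilpotent (I.ideal ⟨⊤, isAffineOpen_top X⟩)) : IsNilpotent I := by
  obtain ⟨n, hn⟩ := h
  refine ⟨n, ?_⟩
  apply (Scheme.IdealSheafData.equivOfIsAffine (X := X)).injective
  rw [map_pow, map_zero]
  exact hn

/-- A closed immersion with nilpotent ideal sheaf is surjective. -/
theorem surjective_of_isNilpotent_ker {D C : Scheme.{u}} (i : D ⟶ C) [IsClosedImmersion i]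
    (h : IsNilpotent i.ker) : Function.Surjective i := by
  obtain ⟨n, hn⟩ := h
  rcases Nat.eq_zero_or_pos n with rfl | hpos
  · -- `i.ker ^ 0 = ⊤ = ⊥`
    rw [pow_zero, Scheme.IdealSheafData.zero_eq_bot, Scheme.IdealSheafData.one_eq_top] at hn
    have h1 : i.ker.support = closure (Set.range i) := Scheme.Hom.support_ker i
    have h2 : (⊤ : C.IdealSheafData) ≤ i.ker := le_top.trans (hn ▸ bot_le)
    have h3 : i.ker = ⊥ := le_antisymm (le_top.trans_eq hn) bot_le
    rw [← Set.range_eq_univ]
    rw [i.isClosedEmbedding.isClosed_range.closure_eq] at h1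
    rw [← h1, h3, Scheme.IdealSheafData.support_bot]; rfl
  · rw [← Set.range_eq_univ]
    have h1 : i.ker.support = closure (Set.range i) := Scheme.Hom.support_ker i
    rw [i.isClosedEmbedding.isClosed_range.closure_eq] at h1
    have h2 : (i.ker ^ n).support = i.ker.support :=
      Scheme.IdealSheafData.support_pow i.ker n (by omega)
    rw [hn, Scheme.IdealSheafData.zero_eq_bot, Scheme.IdealSheafData.support_bot] at h2
    rw [← h1, ← h2]; rfl

end Groth.Agent.Helper19.TrivDef
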