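import Mathlib
import Groth.Agent.Helper19.AutDef3
import Groth.Agent.Helper19.TrivDef2
import Groth.Agent.Helper19.RegImmBC
import Groth.Agent.Lib.Helper1.AH2
set_option autoImplicit false
set_option linter.style.haveILetI false
set_option linter.unusedSectionVars false
universe u

open CategoryTheory CategoryTheory.Limits AlgebraicGeometry Opposite TopologicalSpace

/-! # Infinitesimal automorphisms of deformations: scheme set-up (helper19) -/

namespace Groth.Agent.Helper19.AutDef

section thick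

variable {k A : Type u} [Field k] [CommRing A] [IsLocalRing A] [IsArtinianRing A]
  (ρ : A →+* k) (hρ : Function.Surjective ρ)

include hρ in
theorem ker_rho : RingHom.ker ρ = IsLocalRing.maximalIdeal A :=
  IsLocalRing.eq_maximalIdeal (RingHom.ker_isMaximal_of_surjective ρ hρ)

include hρ in
theorem isClosedImmersion_specRho : IsClosedImmersion (Spec.map (CommRingCat.ofHom ρ)) :=
  IsClosedImmersion.spec_of_surjective _ hρ

include hρ in
theorem isNilpotent_ker_rho : IsNilpotent (RingHom.ker ρ) := by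
  have h2 : (⊥ : Ideal A).jacobson = IsLocalRing.maximalIdeal A :=
    IsLocalRing.jacobson_eq_maximalIdeal ⊥ bot_ne_top
  rw [ker_rho ρ hρ, ← h2]
  exact IsArtinianRing.isNilpotent_jacobson_bot

include hρ in
theorem isNilpotent_ker_specRho : IsNilpotent (Spec.map (CommRingCat.ofHom ρ)).ker := by
  apply Groth.Agent.Helper19.TrivDef.isNilpotent_of_ideal_top
  rw [Scheme.Hom.ker_apply]
  exact Groth.Agent.Helper19.TrivDef.isNilpotent_ker_appTop_SpecMap _ (isNilpotent_ker_rho ρ hρ)

include hρ in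
theorem surjective_specRho : Surjective (Spec.map (CommRingCat.ofHom ρ)) := by
  haveI := isClosedImmersion_specRho ρ hρ
  exact ⟨Groth.Agent.Helper19.TrivDef.surjective_of_isNilpotent_ker _
    (isNilpotent_ker_specRho ρ hρ)⟩

end thick

section setup

variable {k A : Type u} [Field k] [CommRing A] [IsLocalRing A] [IsArtinianRing A]
  {ρ : A →+* k} (hρ : Function.Surjective ρ)
  {X 𝒳 : Scheme.{u}} {x : X ⟶ Spec (CommRingCat.of k)} {f : 𝒳 ⟶ Spec (CommRingCat.of A)}
  {i : X ⟶ 𝒳} (hc : IsPullback i x f (Spec.map (CommRingCat.ofHom ρ)))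

include hρ hc in
theorem isClosedImmersion_i : IsClosedImmersion i :=
  haveI := isClosedImmersion_specRho ρ hρ
  Groth.Agent.Helper19.DefSm.isClosedImmersion_of_isPullback hc

include hρ hc in
theorem surjective_i : Function.Surjective i := by
  haveI := surjective_specRho ρ hρ
  haveI : Surjective i := MorphismProperty.of_isPullback (P := @Surjective) hc.flip ‹_›
  exact Surjective.surj

/-- The structure map `A → Γ(𝒳, U)`. -/
noncomputable def psiU (f : 𝒳 ⟶ Spec (CommRingCat.of A)) (U : 𝒳.Opens) : A →+* Γ(𝒳, U) :=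
  (f.appLE ⊤ U le_top).hom.comp (Scheme.ΓSpecIso (CommRingCat.of A)).inv.hom

/-- Restriction of sections as a ring map. -/
noncomputable def resU (Y : Scheme.{u}) {U U' : Y.Opens} (h : U' ≤ U) : Γ(Y, U) →+* Γ(Y, U') :=
  (Y.presheaf.map (homOfLE h).op).hom

theorem resU_psiU (f : 𝒳 ⟶ Spec (CommRingCat.of A)) {U U' : 𝒳.Opens} (h : U' ≤ U) (a : A) :
    resU 𝒳 h (psiU f U a) = psiU f U' a := by
  have h1 := Scheme.Hom.appLE_map f (U := ⊤) (V := U) (V' := U') le_top (homOfLE h).op
  exact congrArg (fun m => m.hom ((Scheme.ΓSpecIso (CommRingCat.of A)).inv.hom a)) h1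

include hρ hc in
theorem psiU_flat [Flat f] {U : 𝒳.Opens} (hU : IsAffineOpen U) : (psiU f U).Flat := by
  have h1 : (f.appLE ⊤ U le_top).hom.Flat :=
    Scheme.Hom.flat_appLE f (isAffineOpen_top _) hU le_top
  refine RingHom.Flat.comp ?_ h1
  exact RingHom.Flat.of_bijective
    (ConcreteCategory.bijective_of_isIso (Scheme.ΓSpecIso (CommRingCat.of A)).inv)

include hρ hc in
theorem ker_app_eq {U : 𝒳.Opens} (hU : IsAffineOpen U) :
    RingHom.ker (i.app U).hom = Ideal.map (psiU f U) (IsLocalRing.maximalIdeal A) := by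
  haveI := isClosedImmersion_specRho ρ hρ
  haveI : IsClosedImmersion (Spec.map (CommRingCat.ofHom ρ) ∣_ ⊤) :=
    IsZariskiLocalAtTarget.restrict ‹_› ⊤
  have hk := Groth.Agent.Helper19.RegImmBC.ker_app_baseChange hc.flip
    ⟨⊤, isAffineOpen_top (Spec (CommRingCat.of A))⟩ ⟨U, hU⟩ le_top
  rw [hk]
  have h2 := Groth.Agent.Lib.Helper1.AH.ker_SpecMap_appTop (CommRingCat.ofHom ρ)
  change RingHom.ker ((Spec.map (CommRingCat.ofHom ρ)).app ⊤).hom = _ at h2
  rw [h2, Ideal.map_map]
  change Ideal.map (psiU f U) (RingHom.ker ρ) = _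
  rw [ker_rho ρ hρ]

end setup

end Groth.Agent.Helper19.AutDef
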