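import Mathlib
import Groth.Agent.Helper19.AutDef4
import Groth.Agent.Lib27.Sch.SqZeroKer
set_option autoImplicit false
set_option linter.style.haveILetI false
set_option linter.unusedSectionVars false
universe u

open CategoryTheory CategoryTheory.Limits AlgebraicGeometry Opposite TopologicalSpace

/-! # Infinitesimal automorphisms of deformations: the automorphism on sections (helper19) -/

namespace Groth.Agent.Helper19.AutDef

theorem appLE_congr_hom' {X Y : Scheme.{u}} {f₁ f₂ : X ⟶ Y} (h : f₁ = f₂) {U : Y.Opens}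
    {W : X.Opens} (e₁ : W ≤ f₁ ⁻¹ᵁ U) (e₂ : W ≤ f₂ ⁻¹ᵁ U) :
    f₁.appLE U W e₁ = f₂.appLE U W e₂ := by
  subst h
  rfl

section auto

variable {k A : Type u} [Field k] [CommRing A] [IsLocalRing A] [IsArtinianRing A]
  {ρ : A →+* k} (hρ : Function.Surjective ρ)
  {X 𝒳 : Scheme.{u}} {x : X ⟶ Spec (CommRingCat.of k)} {f : 𝒳 ⟶ Spec (CommRingCat.of A)}
  {i : X ⟶ 𝒳} (hc : IsPullback i x f (Spec.map (CommRingCat.ofHom ρ)))
  {α : 𝒳 ⟶ 𝒳} (hαf : α ≫ f = f) (hiα : i ≫ α = i)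

include hρ hc hiα in
theorem alpha_apply (p : 𝒳) : α p = p := by
  obtain ⟨q, rfl⟩ := surjective_i hρ hc p
  rw [← Scheme.Hom.comp_apply, hiα]

include hρ hc hiα in
theorem le_preimage (U : 𝒳.Opens) : U ≤ α ⁻¹ᵁ U := by
  intro p hp
  change α p ∈ U
  rw [alpha_apply hρ hc hiα p]
  exact hp

/-- The action of `α` on sections over `U`. -/
noncomputable def phiU (α : 𝒳 ⟶ 𝒳) (U : 𝒳.Opens) (h : U ≤ α ⁻¹ᵁ U) : Γ(𝒳, U) →+* Γ(𝒳, U) :=
  (α.appLE U U h).hom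

include hαf in
theorem phiU_psiU (U : 𝒳.Opens) (h : U ≤ α ⁻¹ᵁ U) (a : A) :
    phiU α U h (psiU f U a) = psiU f U a := by
  have h1 := Scheme.Hom.appLE_comp_appLE α f ⊤ U U le_top h
  rw [appLE_congr_hom' hαf (U := ⊤) (W := U) _ le_top] at h1
  exact congrArg (fun m => m.hom ((Scheme.ΓSpecIso (CommRingCat.of A)).inv.hom a)) h1

include hiα in
theorem app_phiU (U : 𝒳.Opens) (h : U ≤ α ⁻¹ᵁ U) (b : Γ(𝒳, U)) :
    (i.app U).hom (phiU α U h b) = (i.app U).hom b := by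
  have h1 := Scheme.Hom.appLE_comp_appLE i α U U (i ⁻¹ᵁ U) h le_rfl
  rw [appLE_congr_hom' hiα (U := U) (W := i ⁻¹ᵁ U) _ le_rfl] at h1
  rw [Scheme.Hom.appLE_eq_app] at h1
  exact congrArg (fun m => m.hom b) h1

theorem resU_phiU {U U' : 𝒳.Opens} (hUU : U' ≤ U) (h : U ≤ α ⁻¹ᵁ U) (h' : U' ≤ α ⁻¹ᵁ U')
    (b : Γ(𝒳, U)) : resU 𝒳 hUU (phiU α U h b) = phiU α U' h' (resU 𝒳 hUU b) := by
  have h1 := Scheme.Hom.appLE_map α (U := U) (V := U) (V' := U') h (homOfLE hUU).op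
  have h2 := Scheme.Hom.map_appLE α (U := U') (U' := U) (V := U') h' (homOfLE hUU).op
  have h3 := h1.trans h2.symm
  exact congrArg (fun m => m.hom b) h3

theorem app_resU {U U' : 𝒳.Opens} (hUU : U' ≤ U) (b : Γ(𝒳, U)) :
    (i.app U').hom (resU 𝒳 hUU b) =
      resU X (show i ⁻¹ᵁ U' ≤ i ⁻¹ᵁ U from fun _ hq => hUU hq) ((i.app U).hom b) := by
  have h1 := i.naturality (homOfLE hUU).op
  exact congrArg (fun m => m.hom b) h1

include hρ hc hiα in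
/-- Base case: `φ b - b ∈ 𝔪 Γ(U)`. -/
theorem phiU_sub_mem_max {U : 𝒳.Opens} (hU : IsAffineOpen U) (h : U ≤ α ⁻¹ᵁ U) (b : Γ(𝒳, U)) :
    phiU α U h b - b ∈ Ideal.map (psiU f U) (IsLocalRing.maximalIdeal A) := by
  rw [← ker_app_eq hρ hc hU, RingHom.mem_ker, map_sub, app_phiU hiα, sub_self]

include hρ hc hαf hiα in
theorem step_of_P [Flat f] (𝔞 : Ideal A) {U : 𝒳.Opens} (hU : IsAffineOpen U) (h : U ≤ α ⁻¹ᵁ U)
    (hP : ∀ b : Γ(𝒳, U), phiU α U h b - b ∈ Ideal.map (psiU f U) 𝔞) :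
    Step 𝔞 (psiU f U) (phiU α U h) (i.app U).hom where
  flat := psiU_flat hρ hc hU
  phi_psi := phiU_psiU hαf U h
  surj := by
    haveI := isClosedImmersion_i hρ hc
    exact Scheme.Hom.app_surjective i U hU
  ker := ker_app_eq hρ hc hU
  hP := hP

include hρ hc hiα in
/-- If `α` acts trivially on sections over all affine opens then it is the identity. -/
theorem eq_id_of_phiU (hP : ∀ (U : 𝒳.Opens) (_ : IsAffineOpen U) (h : U ≤ α ⁻¹ᵁ U)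
    (b : Γ(𝒳, U)), phiU α U h b = b) : α = 𝟙 𝒳 := by
  apply Groth.Agent.Lib27.SqZeroKer.hom_ext_of_appLE
  intro y
  obtain ⟨_, ⟨U, hU, rfl⟩, hyU, -⟩ :=
    𝒳.isBasis_affineOpens.exists_subset_of_mem_open (Set.mem_univ y) isOpen_univ
  have h := le_preimage hρ hc hiα U
  have h' : U ≤ (𝟙 𝒳 : 𝒳 ⟶ 𝒳) ⁻¹ᵁ U := fun _ hp => hp
  refine ⟨U, U, h, h', hU, hyU, ?_⟩
  ext b
  have h1 := hP U hU h b
  have h2 : ((𝟙 𝒳 : 𝒳 ⟶ 𝒳).appLE U U h').hom b = b := by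
    have h3 : 𝒳.presheaf.map (homOfLE (le_refl U)).op = 𝟙 _ := 𝒳.presheaf.map_id _
    have h4 : ((𝟙 𝒳 : 𝒳 ⟶ 𝒳).appLE U U h').hom b =
        (𝒳.presheaf.map (homOfLE (le_refl U)).op).hom b := rfl
    rw [h4, h3]
    rfl
  exact h1.trans h2.symm

end auto

end Groth.Agent.Helper19.AutDef
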