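import Mathlib
import Groth.Prelude.Def_Omega3
set_option autoImplicit false
set_option linter.style.haveILetI false
set_option linter.unusedSectionVars false
universe u

open CategoryTheory CategoryTheory.Limits AlgebraicGeometry Opposite TopologicalSpace

/-! # Gluing a derivation `O_X → O_X` from derivations on a basis of opens (helper19) -/

namespace Groth.Agent.Helper19.DerGlue

variable {X S : Scheme.{u}}

/-- Derivations on the members of a basis, compatible with restriction. -/
structure LocalDer (x : X ⟶ S) {ι : Type u} (B : ι → X.Opens) where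
  D : ∀ j, Γ(X, B j) → Γ(X, B j)
  add : ∀ j s s', D j (s + s') = D j s + D j s'
  mul : ∀ j s s', D j (s * s') = s * D j s' + s' * D j s
  res : ∀ j j' (h : B j' ≤ B j) (s : Γ(X, B j)),
    D j' (X.presheaf.map (homOfLE h).op s) = X.presheaf.map (homOfLE h).op (D j s)
  const : ∀ j (W : S.Opens) (hW : B j ≤ x ⁻¹ᵁ W) (a : Γ(S, W)),
    D j ((x.appLE W (B j) hW).hom a) = 0

variable {x : X ⟶ S} {ι : Type u} {B : ι → X.Opens}

/-- Two sections agreeing on all basis members inside `V` are equal. -/
theorem eq_of_basis (hB : Opens.IsBasis (Set.range B)) {V : X.Opens} (s s' : Γ(X, V))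
    (h : ∀ j (hj : B j ≤ V), X.presheaf.map (homOfLE hj).op s = X.presheaf.map (homOfLE hj).op s') :
    s = s' := by
  refine X.sheaf.eq_of_locally_eq' (fun j : {j : ι // B j ≤ V} => B j.1) V
    (fun j => homOfLE j.2) ?_ _ _ (fun j => h j.1 j.2)
  intro z hz
  obtain ⟨_, ⟨_, ⟨j, rfl⟩, rfl⟩, hzj, hjV⟩ := hB.exists_subset_of_mem_open hz V.isOpen
  exact Opens.mem_iSup.mpr ⟨⟨j, hjV⟩, hzj⟩

/-- The presheaf of sets underlying `O_X`. -/
noncomputable abbrev FT (X : Scheme.{u}) : TopCat.Presheaf (Type u) X :=
  X.presheaf ⋙ forget CommRingCat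

/-- ... it is a sheaf. -/
noncomputable def FS (X : Scheme.{u}) : TopCat.Sheaf (Type u) X :=
  ⟨FT X, (TopCat.Presheaf.isSheaf_iff_isSheaf_comp (forget CommRingCat) X.presheaf).mp
    X.sheaf.cond⟩

/-- The natural transformation on the basis. -/
noncomputable def natB (L : LocalDer x B) :
    (inducedFunctor B).op ⋙ FT X ⟶ (inducedFunctor B).op ⋙ (FS X).obj where
  app j := TypeCat.ofHom (L.D j.unop)
  naturality j j' g := by
    ext s
    exact L.res j.unop j'.unop g.unop.hom.le s

/-- The glued map of sheaves of sets. -/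
noncomputable def glue (hB : Opens.IsBasis (Set.range B)) (L : LocalDer x B) :
    FT X ⟶ (FS X).obj :=
  TopCat.Sheaf.restrictHomEquivHom (FT X) (FS X) hB (natB L)

/-- The glued map on sections. -/
noncomputable def glueFun (hB : Opens.IsBasis (Set.range B)) (L : LocalDer x B) (V : X.Opens) :
    Γ(X, V) → Γ(X, V) :=
  fun s => (glue hB L).app (op V) s

theorem glueFun_basis (hB : Opens.IsBasis (Set.range B)) (L : LocalDer x B) (j : ι)
    (s : Γ(X, B j)) : glueFun hB L (B j) s = L.D j s := by
  have h := TopCat.Sheaf.extend_hom_app (FT X) (FS X) hB (natB L) j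
  exact congrArg (fun m => m s) h

theorem glueFun_res (hB : Opens.IsBasis (Set.range B)) (L : LocalDer x B) {V V' : X.Opens}
    (h : V' ≤ V) (s : Γ(X, V)) :
    glueFun hB L V' (X.presheaf.map (homOfLE h).op s) =
      X.presheaf.map (homOfLE h).op (glueFun hB L V s) := by
  have h1 := (glue hB L).naturality (homOfLE h).op
  exact congrArg (fun m => m s) h1

theorem glueFun_res_basis (hB : Opens.IsBasis (Set.range B)) (L : LocalDer x B) {V : X.Opens}
    (j : ι) (h : B j ≤ V) (s : Γ(X, V)) :
    X.presheaf.map (homOfLE h).op (glueFun hB L V s) =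
      L.D j (X.presheaf.map (homOfLE h).op s) := by
  rw [← glueFun_res, glueFun_basis]


theorem glueFun_add (hB : Opens.IsBasis (Set.range B)) (L : LocalDer x B) (V : X.Opens)
    (s s' : Γ(X, V)) : glueFun hB L V (s + s') = glueFun hB L V s + glueFun hB L V s' := by
  apply eq_of_basis hB
  intro j hj
  rw [map_add, glueFun_res_basis, glueFun_res_basis, glueFun_res_basis, map_add, L.add]

theorem glueFun_mul (hB : Opens.IsBasis (Set.range B)) (L : LocalDer x B) (V : X.Opens)
    (s s' : Γ(X, V)) :
    glueFun hB L V (s * s') = s * glueFun hB L V s' + s' * glueFun hB L V s := by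
  apply eq_of_basis hB
  intro j hj
  rw [map_add, map_mul, map_mul, glueFun_res_basis, glueFun_res_basis, glueFun_res_basis,
    map_mul, L.mul]

theorem glueFun_const (hB : Opens.IsBasis (Set.range B)) (L : LocalDer x B) (W : S.Opens)
    (a : Γ(S, W)) : glueFun hB L (x ⁻¹ᵁ W) ((x.app W).hom a) = 0 := by
  apply eq_of_basis hB
  intro j hj
  rw [map_zero, glueFun_res_basis]
  have := L.const j W hj a
  rw [Scheme.Hom.appLE] at this
  exact this

/-- The glued derivation. -/
noncomputable def der (hB : Opens.IsBasis (Set.range B)) (L : LocalDer x B) :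
    OmegaSh.Der x (Coh.structureModule X) where
  d {V} := (OmegaSh.strSect X V.unop).comp
    (AddMonoidHom.mk' (glueFun hB L V.unop) (glueFun_add hB L V.unop))
  d_mul {V} a b := by
    change glueFun hB L (unop V) (a * b) = a * glueFun hB L (unop V) b + b * glueFun hB L (unop V) a
    exact glueFun_mul hB L (unop V) a b
  d_map {V V'} f s := by
    change glueFun hB L (unop V') (X.presheaf.map f s) = X.presheaf.map f (glueFun hB L (unop V) s)
    have h1 := (glue hB L).naturality f
    exact congrArg (fun m => m s) h1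
  d_app {W} a := by
    change glueFun hB L (x ⁻¹ᵁ (unop W)) ((x.app (unop W)).hom a) = 0
    exact glueFun_const hB L (unop W) a



theorem der_basis (hB : Opens.IsBasis (Set.range B)) (L : LocalDer x B) (j : ι) (s : Γ(X, B j)) :
    (der hB L).d (X := op (B j)) s = OmegaSh.strSect X (B j) (L.D j s) := by
  change OmegaSh.strSect X (B j) (glueFun hB L (B j) s) = _
  rw [glueFun_basis]

end Groth.Agent.Helper19.DerGlue
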