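import Mathlib
import Groth.Agent.Helper19.AutDef5
import Groth.Agent.Helper19.DerGlue
set_option autoImplicit false
set_option linter.style.haveILetI false
set_option linter.unusedSectionVars false
universe u

open CategoryTheory CategoryTheory.Limits AlgebraicGeometry Opposite TopologicalSpace

/-! # Infinitesimal automorphisms of deformations: the inductive step (helper19) -/

namespace Groth.Agent.Helper19.AutDef

open Groth.Agent.Helper19.DerGlue

section auto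

variable {k A : Type u} [Field k] [CommRing A] [IsLocalRing A] [IsArtinianRing A]
  {ρ : A →+* k} (hρ : Function.Surjective ρ)
  {X 𝒳 : Scheme.{u}} {x : X ⟶ Spec (CommRingCat.of k)} {f : 𝒳 ⟶ Spec (CommRingCat.of A)}
  {i : X ⟶ 𝒳} (hc : IsPullback i x f (Spec.map (CommRingCat.ofHom ρ)))
  {α : 𝒳 ⟶ 𝒳} (hαf : α ≫ f = f) (hiα : i ≫ α = i)

/-- The basis of `X` given by preimages of affine opens of the total space. -/
def basisB (i : X ⟶ 𝒳) : 𝒳.affineOpens → X.Opens := fun U => i ⁻¹ᵁ U.1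

include hρ hc in
theorem isBasis_basisB : Opens.IsBasis (Set.range (basisB i)) := by
  haveI := isClosedImmersion_i hρ hc
  rw [Opens.isBasis_iff_nbhd]
  intro V q hq
  obtain ⟨W, hW, hWV⟩ := i.isEmbedding.isInducing.isOpen_iff.mp V.isOpen
  have hq' : i q ∈ W := by
    have : q ∈ i ⁻¹' W := by rw [hWV]; exact hq
    exact this
  obtain ⟨_, ⟨U, hU, rfl⟩, hqU, hUW⟩ :=
    𝒳.isBasis_affineOpens.exists_subset_of_mem_open hq' hW
  refine ⟨i ⁻¹ᵁ U, ⟨⟨U, hU⟩, rfl⟩, hqU, ?_⟩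
  intro p hp
  have : p ∈ i ⁻¹' W := hUW hp
  rw [hWV] at this
  exact this

include hρ hc in
theorem le_of_preimage_le {U U' : 𝒳.Opens} (h : i ⁻¹ᵁ U' ≤ i ⁻¹ᵁ U) : U' ≤ U := by
  intro p hp
  obtain ⟨q, rfl⟩ := surjective_i hρ hc p
  exact h hp

theorem appLE_top_top {Y Z : Scheme.{u}} (g : Y ⟶ Z) (e : (⊤ : Y.Opens) ≤ g ⁻¹ᵁ ⊤) :
    g.appLE ⊤ ⊤ e = g.appTop := by
  rw [Scheme.Hom.appLE]
  have : (homOfLE e).op = 𝟙 (op (⊤ : Y.Opens)) := Subsingleton.elim _ _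
  rw [this]
  erw [Y.presheaf.map_id, Category.comp_id]

include hc in
theorem app_psiU (U : 𝒳.Opens) (a : A) :
    (i.app U).hom (psiU f U a) =
      (x.appLE ⊤ (i ⁻¹ᵁ U) le_top).hom ((Scheme.ΓSpecIso (CommRingCat.of k)).inv.hom (ρ a)) := by
  have h1 := Scheme.Hom.appLE_comp_appLE i f ⊤ U (i ⁻¹ᵁ U) le_top le_rfl
  rw [Scheme.Hom.appLE_eq_app] at h1
  have h2 := Scheme.Hom.appLE_comp_appLE x (Spec.map (CommRingCat.ofHom ρ)) ⊤ ⊤ (i ⁻¹ᵁ U)
    le_top le_top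
  rw [← appLE_congr_hom' hc.w (U := ⊤) (W := i ⁻¹ᵁ U) le_top le_top] at h2
  have h3 := h1.trans h2.symm
  have h4 := congrArg (fun m => m.hom ((Scheme.ΓSpecIso (CommRingCat.of A)).inv.hom a)) h3
  refine h4.trans ?_
  change (x.appLE ⊤ (i ⁻¹ᵁ U) le_top).hom
    (((Spec.map (CommRingCat.ofHom ρ)).appLE ⊤ ⊤ le_top).hom
      ((Scheme.ΓSpecIso (CommRingCat.of A)).inv.hom a)) = _
  congr 1
  have h5 := Scheme.ΓSpecIso_inv_naturality (CommRingCat.ofHom ρ)
  have h6 := congrArg (fun m => m.hom a) h5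
  rw [appLE_top_top]
  exact h6.symm

end auto

end Groth.Agent.Helper19.AutDef
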