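import Mathlib
import Groth.Agent.Helper19.Ribbon5
import Groth.Agent.Lib.Helper10.UnivThick
set_option autoImplicit false
set_option linter.style.haveILetI false
set_option linter.unusedSectionVars false
universe u

open CategoryTheory CategoryTheory.Limits AlgebraicGeometry Opposite TopologicalSpace

/-! # Ribbons: gluing the local lifts (helper19) -/

namespace Groth.Agent.Helper19.Ribbon

open Groth.Agent.Lib.Helper29.QCoh Groth.Agent.Helper19.Conormal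
  Groth.Agent.Helper19.UnivConormal Groth.Agent.Helper19.UnivDer
  Groth.Agent.Lib.Helper2.ToAffine

variable {S D C X : Scheme.{u}} {i : D ⟶ C} {pC : C ⟶ S} {pX : X ⟶ S} {f : D ⟶ X}
  (K : Ctx i pC pX f)

/-- Pairs of affine opens `W ⊂ C`, `V ⊂ X` with `i⁻¹W ⊂ f⁻¹V`. -/
structure GoodPair (i : D ⟶ C) (f : D ⟶ X) where
  W : C.Opens
  hW : IsAffineOpen W
  V : X.Opens
  hV : IsAffineOpen V
  le : i ⁻¹ᵁ W ≤ f ⁻¹ᵁ V

instance : Preorder (GoodPair i f) where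
  le P P' := P.W ≤ P'.W ∧ P.V ≤ P'.V
  le_refl P := ⟨le_rfl, le_rfl⟩
  le_trans P P' P'' h h' := ⟨h.1.trans h'.1, h.2.trans h'.2⟩

include K in
theorem isFOT : MoreMor.IsFirstOrderThickening i := by
  haveI := K.hci
  have hsurj : Function.Surjective i := by
    rw [← Set.range_eq_univ]
    have h1 : i.ker.support = closure (Set.range i) := Scheme.Hom.support_ker i
    rw [i.isClosedEmbedding.isClosed_range.closure_eq] at h1
    have h2 : (i.ker ^ 2).support = i.ker.support :=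
      Scheme.IdealSheafData.support_pow i.ker 2 (by norm_num)
    rw [K.hsq, Scheme.IdealSheafData.support_bot] at h2
    rw [← h1, ← h2]; rfl
  exact ⟨⟨K.hci, ⟨hsurj⟩⟩, by rw [← pow_two, K.hsq]⟩

include K in
theorem exists_goodPair (x : C) (T : C.Opens) (hxT : x ∈ T) (V₀ : X.Opens)
    (hV₀ : ∀ d : D, i d = x → f d ∈ V₀) :
    ∃ P : GoodPair i f, x ∈ P.W ∧ P.W ≤ T ∧ P.V ≤ V₀ := by
  have ht := isFOT K
  obtain ⟨d, rfl⟩ := Groth.Agent.Lib.Helper10.UnivThick.fot_surjective ht x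
  obtain ⟨V, hV, hdV, hVV₀⟩ := exists_isAffineOpen_mem_and_subset (x := f d) (hV₀ d rfl)
  obtain ⟨T', hT'⟩ := Groth.Agent.Lib.Helper10.UnivThick.fot_exists_opens ht (f ⁻¹ᵁ V)
  have hdT' : i d ∈ T' := by
    have : d ∈ i ⁻¹ᵁ T' := by rw [hT']; exact hdV
    exact this
  obtain ⟨W, hW, hdW, hWT⟩ := exists_isAffineOpen_mem_and_subset (x := i d)
    (show i d ∈ T ⊓ T' from ⟨hxT, hdT'⟩)
  refine ⟨⟨W, hW, V, hV, ?_⟩, hdW, fun y hy => (hWT hy).1, hVV₀⟩
  rw [← hT']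
  exact fun y hy => (hWT hy).2

/-- The cover of `C` by the good pairs. -/
noncomputable def cov : C.OpenCover where
  I₀ := GoodPair i f
  X P := P.W
  f P := P.W.ι
  mem₀ := by
    rw [Scheme.presieve₀_mem_precoverage_iff]
    refine ⟨fun x => ?_, inferInstance⟩
    obtain ⟨P, hxP, -, -⟩ := exists_goodPair K x ⊤ trivial ⊤ (fun _ _ => trivial)
    exact ⟨P, by rw [Scheme.Opens.range_ι]; exact hxP⟩

include K in
theorem directed_aux (P P' : GoodPair i f) (x : ↥(pullback P.W.ι P'.W.ι)) :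
    ∃ (Q : GoodPair i f) (hQP : Q ≤ P) (hQP' : Q ≤ P') (y : ↥(Q.W : Scheme.{u})),
      pullback.lift (C.homOfLE hQP.1) (C.homOfLE hQP'.1)
        (by rw [C.homOfLE_ι, C.homOfLE_ι]) y = x := by
  let c₀ : C := (pullback.fst (P.W.ι) (P'.W.ι) ≫ P.W.ι) x
  have hc₀ : c₀ ∈ P.W := (pullback.fst (P.W.ι) (P'.W.ι) x).2
  have hc₀' : c₀ ∈ P'.W := by
    have : c₀ = (pullback.snd (P.W.ι) (P'.W.ι) ≫ P'.W.ι) x := by
      change (pullback.fst (P.W.ι) (P'.W.ι) ≫ P.W.ι) x = _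
      rw [pullback.condition]
    rw [this]
    exact (pullback.snd (P.W.ι) (P'.W.ι) x).2
  obtain ⟨Q, hQ, hQT, hQV⟩ := exists_goodPair K c₀ (P.W ⊓ P'.W) ⟨hc₀, hc₀'⟩ (P.V ⊓ P'.V)
    (fun d hd => ⟨P.le (show d ∈ i ⁻¹ᵁ P.W by change i d ∈ P.W; rw [hd]; exact hc₀),
      P'.le (show d ∈ i ⁻¹ᵁ P'.W by change i d ∈ P'.W; rw [hd]; exact hc₀')⟩)
  have hQP : Q ≤ P := ⟨hQT.trans inf_le_left, hQV.trans inf_le_left⟩
  have hQP' : Q ≤ P' := ⟨hQT.trans inf_le_right, hQV.trans inf_le_right⟩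
  refine ⟨Q, hQP, hQP', ⟨c₀, hQ⟩, ?_⟩
  apply (pullback.fst (P.W.ι) (P'.W.ι) ≫ P.W.ι).isOpenEmbedding.injective
  rw [← Scheme.Hom.comp_apply, pullback.lift_fst_assoc]
  change (C.homOfLE hQP.1 ≫ P.W.ι) ⟨c₀, hQ⟩ = c₀
  rw [C.homOfLE_ι]
  rfl

instance : Preorder (cov K).I₀ := inferInstanceAs (Preorder (GoodPair i f))

noncomputable instance : (cov K).LocallyDirected where
  trans {P P'} h := C.homOfLE (leOfHom h).1
  trans_id P := by
    change C.homOfLE _ = 𝟙 _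
    simp
  trans_comp {P P' P''} h h' := by
    change C.homOfLE _ = C.homOfLE _ ≫ C.homOfLE _
    simp
  w {P P'} h := C.homOfLE_ι _
  directed {P P'} x := by
    obtain ⟨Q, hQP, hQP', y, hy⟩ := directed_aux K P P' x
    exact ⟨Q, homOfLE hQP, homOfLE hQP', y, hy⟩
  property_trans {P P'} h := by
    change IsOpenImmersion (C.homOfLE _)
    infer_instance

theorem compat {P P' : GoodPair i f} (h : P ≤ P') :
    C.homOfLE h.1 ≫ gP K P'.hW P'.hV P'.le = gP K P.hW P.hV P.le :=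
  gP_homOfLE K P'.hW P.hW h.1 P'.hV P.hV h.2 P'.le P.le

/-- The glued extension. -/
noncomputable def glued : C ⟶ X :=
  (cov K).glueMorphismsOfLocallyDirected (fun P => gP K P.hW P.hV P.le)
    (fun {_ _} h => compat K (leOfHom h))

theorem ι_glued (P : GoodPair i f) : P.W.ι ≫ glued K = gP K P.hW P.hV P.le :=
  (cov K).map_glueMorphismsOfLocallyDirected (fun P => gP K P.hW P.hV P.le)
    (fun {_ _} h => compat K (leOfHom h)) P

theorem i_glued : i ≫ glued K = f := by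
  refine Scheme.hom_ext_of_forall _ _ fun x => ?_
  obtain ⟨P, hxP, -, -⟩ := exists_goodPair K (i x) ⊤ trivial ⊤ (fun _ _ => trivial)
  refine ⟨i ⁻¹ᵁ P.W, hxP, ?_⟩
  rw [← morphismRestrict_ι_assoc, ι_glued, restrict_gP]

theorem glued_comp [IsAffine S] : glued K ≫ pX = pC := by
  refine (cov K).hom_ext _ _ fun P => ?_
  change P.W.ι ≫ glued K ≫ pX = P.W.ι ≫ pC
  rw [← Category.assoc, ι_glued, gP_comp]

end Groth.Agent.Helper19.Ribbon
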