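import Mathlib
import Groth.Agent.Helper19.AutDef6
import Groth.Agent.Helper19.RhoGlue
set_option autoImplicit false
set_option linter.style.haveILetI false
set_option linter.unusedSectionVars false
universe u

open CategoryTheory CategoryTheory.Limits AlgebraicGeometry Opposite TopologicalSpace

/-! # The infinitesimal automorphism of the trivial deformation attached to a vector field (helper19) -/

namespace Groth.Agent.Helper19.AutDef

open Groth.Agent.Helper19.RhoGlue Groth.Agent.Helper19.Ribbon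

section der

variable {X S : Scheme.{u}} {x : X ⟶ S} (D : OmegaSh.Der x (Coh.structureModule X))

/-- The derivation as an additive self-map of the sections of `O_X`. -/
noncomputable def Dfun (V : X.Opens) : Γ(X, V) →+ Γ(X, V) :=
  (OmegaSh.fnSect X V).comp (D.app V)

theorem Dfun_mul (V : X.Opens) (a b : Γ(X, V)) :
    Dfun D V (a * b) = a * Dfun D V b + b * Dfun D V a :=
  D.d_mul (X := op V) a b

theorem Dfun_one (V : X.Opens) : Dfun D V 1 = 0 :=
  D.d_one (op V)

theorem Dfun_res {V V' : X.Opens} (h : V' ≤ V) (b : Γ(X, V)) :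
    Dfun D V' (X.presheaf.map (homOfLE h).op b) = X.presheaf.map (homOfLE h).op (Dfun D V b) :=
  D.d_map (homOfLE h).op b

theorem Dfun_const (T : S.Opens) (V : X.Opens) (h : V ≤ x ⁻¹ᵁ T) (t : Γ(S, T)) :
    Dfun D V ((x.appLE T V h).hom t) = 0 := by
  have h1 : (x.appLE T V h).hom t = X.presheaf.map (homOfLE h).op ((x.app T).hom t) := rfl
  rw [h1, Dfun_res]
  have h2 : Dfun D (x ⁻¹ᵁ T) ((x.app T).hom t) = 0 := D.d_app (X := op T) t
  rw [h2, map_zero]

theorem Dfun_eq_zero_iff (V : X.Opens) (b : Γ(X, V)) : Dfun D V b = 0 ↔ D.d (X := op V) b = 0 :=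
  Iff.rfl

end der

section triv

variable {k A : Type u} [Field k] [CommRing A] [IsLocalRing A] [IsArtinianRing A]
  {ρ : A →+* k} (hρ : Function.Surjective ρ)
  {X C : Scheme.{u}} {x : X ⟶ Spec (CommRingCat.of k)} {f : C ⟶ Spec (CommRingCat.of A)}
  {i : X ⟶ C} (hc : IsPullback i x f (Spec.map (CommRingCat.ofHom ρ)))
  {pr : C ⟶ X} (hpr : i ≫ pr = 𝟙 X)
  {ε : A} (hε : ε * ε = 0) (hρε : ρ ε = 0)
  (D : OmegaSh.Der x (Coh.structureModule X))

include hρ hc hpr in
theorem le_pr_preimage {W : C.Opens} {V : X.Opens} (hWV : i ⁻¹ᵁ W ≤ (𝟙 X : X ⟶ X) ⁻¹ᵁ V) :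
    W ≤ pr ⁻¹ᵁ V := by
  intro w hw
  obtain ⟨q, rfl⟩ := surjective_i hρ hc w
  change pr (i q) ∈ V
  rw [← Scheme.Hom.comp_apply, hpr]
  exact hWV hw

include hε in
theorem psiU_eps_sq (W : C.Opens) : psiU f W ε * psiU f W ε = 0 := by
  rw [← map_mul, hε, map_zero]

include hc hρε in
theorem app_psiU_eps (W : C.Opens) : (i.app W).hom (psiU f W ε) = 0 := by
  rw [app_psiU hc W ε, hρε, map_zero, map_zero]

/-- The local lift `b ↦ pr♯ b + ε pr♯ (D b)`. -/
noncomputable def rhoD {W : C.Opens} {V : X.Opens} (hle : W ≤ pr ⁻¹ᵁ V) :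
    Γ(X, V) →+* Γ(C, W) where
  toFun b := (pr.appLE V W hle).hom b + psiU f W ε * (pr.appLE V W hle).hom (Dfun D V b)
  map_one' := by
    rw [Dfun_one, map_one, map_zero, mul_zero, add_zero]
  map_mul' a b := by
    rw [Dfun_mul, map_mul, map_add, map_mul, map_mul]
    have h := psiU_eps_sq hε (f := f) W
    linear_combination (-(pr.appLE V W hle).hom (Dfun D V a) * (pr.appLE V W hle).hom (Dfun D V b)) * h
  map_zero' := by
    rw [map_zero, map_zero, map_zero, mul_zero, add_zero]
  map_add' a b := by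
    rw [map_add, map_add, map_add]
    ring

theorem rhoD_apply {W : C.Opens} {V : X.Opens} (hle : W ≤ pr ⁻¹ᵁ V) (b : Γ(X, V)) :
    rhoD (f := f) hε D hle b =
      (pr.appLE V W hle).hom b + psiU f W ε * (pr.appLE V W hle).hom (Dfun D V b) := rfl

end triv

end Groth.Agent.Helper19.AutDef
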