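import Mathlib
import Groth.Agent.Helper19.AutDef8
import Groth.Agent.Helper19.DerGlue
set_option autoImplicit false
set_option linter.style.haveILetI false
set_option linter.unusedSectionVars false
universe u

open CategoryTheory CategoryTheory.Limits AlgebraicGeometry Opposite TopologicalSpace

/-! # The infinitesimal automorphism of the trivial deformation attached to a vector field, II -/

namespace Groth.Agent.Helper19.AutDef

open Groth.Agent.Helper19.RhoGlue Groth.Agent.Helper19.Ribbon Groth.Agent.Helper19.DerGlue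

section triv

variable {k A : Type u} [Field k] [CommRing A] [IsLocalRing A] [IsArtinianRing A]
  {ρ : A →+* k} (hρ : Function.Surjective ρ)
  {X C : Scheme.{u}} {x : X ⟶ Spec (CommRingCat.of k)} {f : C ⟶ Spec (CommRingCat.of A)}
  {i : X ⟶ C} (hc : IsPullback i x f (Spec.map (CommRingCat.ofHom ρ)))
  {pr : C ⟶ X} (hpr : i ≫ pr = 𝟙 X)
  {ε : A} (hε : ε * ε = 0) (hρε : ρ ε = 0)
  (D : OmegaSh.Der x (Coh.structureModule X))
  (hsq : i.ker ^ 2 = ⊥)

include hpr in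
theorem app_pr_appLE {W : C.Opens} {V : X.Opens} (hle : W ≤ pr ⁻¹ᵁ V)
    (hWV : i ⁻¹ᵁ W ≤ (𝟙 X : X ⟶ X) ⁻¹ᵁ V) (b : Γ(X, V)) :
    (i.app W).hom ((pr.appLE V W hle).hom b) =
      ((𝟙 X : X ⟶ X).appLE V (i ⁻¹ᵁ W) hWV).hom b := by
  have h1 := Scheme.Hom.appLE_comp_appLE i pr V W (i ⁻¹ᵁ W) hle le_rfl
  rw [Scheme.Hom.appLE_eq_app, appLE_congr_hom' hpr (U := V) (W := i ⁻¹ᵁ W) _ hWV] at h1
  exact congrArg (fun m => m.hom b) h1

/-- The compatible system of local lifts attached to `D`. -/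
noncomputable def rhoSys : RhoSys i (𝟙 X) where
  hci := isClosedImmersion_i hρ hc
  hsq := hsq
  rho {W} _ {V} hWV := rhoD (f := f) hε D (le_pr_preimage hρ hc hpr hWV)
  app_rho {W} hW {V} hWV r := by
    rw [rhoD_apply, map_add, map_mul, app_psiU_eps hc hρε, zero_mul, add_zero]
    exact app_pr_appLE hpr _ hWV r
  rho_res {W W'} hW hW' hWW {V V'} hVV hWV hWV' r := by
    rw [rhoD_apply, rhoD_apply, map_add, map_mul, Dfun_res]
    have e1 : ∀ b : Γ(X, V), (pr.appLE V' W' (le_pr_preimage hρ hc hpr hWV')).hom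
        (X.presheaf.map (homOfLE hVV).op b) =
        C.presheaf.map (homOfLE hWW).op
          ((pr.appLE V W (le_pr_preimage hρ hc hpr hWV)).hom b) := by
      intro b
      have h1 := Scheme.Hom.map_appLE pr (U := V') (U' := V) (V := W')
        (le_pr_preimage hρ hc hpr hWV') (homOfLE hVV).op
      have h2 := Scheme.Hom.appLE_map pr (U := V) (V := W) (V' := W')
        (le_pr_preimage hρ hc hpr hWV) (homOfLE hWW).op
      exact congrArg (fun m => m.hom b) (h1.trans h2.symm)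
    rw [e1, e1]
    congr 2
    exact (resU_psiU f hWW ε).symm

/-- The glued morphism `C ⟶ X`, "`pr + ε D`". -/
noncomputable def hD : C ⟶ X := glued (rhoSys hρ hc hpr hε hρε D hsq)

theorem i_hD : i ≫ hD hρ hc hpr hε hρε D hsq = 𝟙 X :=
  i_glued (rhoSys hρ hc hpr hε hρε D hsq)

theorem hD_x : hD hρ hc hpr hε hρε D hsq ≫ x = pr ≫ x := by
  unfold hD
  apply glued_comp (rhoSys hρ hc hpr hε hρε D hsq) (pr ≫ x) x
  · rw [Category.id_comp, ← Category.assoc, hpr, Category.id_comp]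
  · intro W hW V hWV T hWT hVT t
    change rhoD (f := f) hε D (le_pr_preimage hρ hc hpr hWV) ((x.appLE T V hVT).hom t) = _
    rw [rhoD_apply, Dfun_const, map_zero, mul_zero, add_zero]
    have h1 := Scheme.Hom.appLE_comp_appLE pr x T V W hVT (le_pr_preimage hρ hc hpr hWV)
    exact congrArg (fun m => m.hom t) h1

include hρ hc hpr in
/-- If the glued morphism is the projection then `D` vanishes on the basis. -/
theorem Dfun_eq_zero_of_hD_eq [Flat f] (hε0 : ε ≠ 0)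
    (h : hD hρ hc hpr hε hρε D hsq = pr) {W : C.Opens} (hW : IsAffineOpen W)
    (b : Γ(X, i ⁻¹ᵁ W)) : Dfun D (i ⁻¹ᵁ W) b = 0 := by
  haveI := isClosedImmersion_i hρ hc
  have hV : IsAffineOpen (i ⁻¹ᵁ W) := hW.preimage i
  have hWV : i ⁻¹ᵁ W ≤ (𝟙 X : X ⟶ X) ⁻¹ᵁ (i ⁻¹ᵁ W) := fun _ hq => hq
  let P : GoodPair i (𝟙 X) := ⟨W, hW, i ⁻¹ᵁ W, hV, hWV⟩
  have h1 := glued_appLE (rhoSys hρ hc hpr hε hρε D hsq) P
  have hle : W ≤ pr ⁻¹ᵁ (i ⁻¹ᵁ W) := le_pr_preimage hρ hc hpr hWV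
  have h2 : (hD hρ hc hpr hε hρε D hsq).appLE (i ⁻¹ᵁ W) W
      (glued_le (rhoSys hρ hc hpr hε hρε D hsq) P) = pr.appLE (i ⁻¹ᵁ W) W hle :=
    appLE_congr_hom' h _ _
  have h3 : (pr.appLE (i ⁻¹ᵁ W) W hle).hom b =
      rhoD (f := f) hε D hle b := by
    have := congrArg (fun m => m.hom b) (h2.symm.trans h1)
    exact this
  rw [rhoD_apply] at h3
  have h4 : psiU f W ε * (pr.appLE (i ⁻¹ᵁ W) W hle).hom (Dfun D (i ⁻¹ᵁ W) b) = 0 := by
    have := h3
    rw [left_eq_add] at this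
    exact this
  have h5 : (pr.appLE (i ⁻¹ᵁ W) W hle).hom (Dfun D (i ⁻¹ᵁ W) b) ∈
      Ideal.map (psiU f W) (IsLocalRing.maximalIdeal A) := by
    apply colon_flat (psiU f W) (psiU_flat hρ hc hW) ⊥ ε
    · rw [Ideal.mem_bot]; exact hε0
    · rw [h4, Ideal.map_bot]; exact Ideal.zero_mem _
  rw [← ker_app_eq hρ hc hW, RingHom.mem_ker, app_pr_appLE hpr hle hWV] at h5
  have h6 : ((𝟙 X : X ⟶ X).appLE (i ⁻¹ᵁ W) (i ⁻¹ᵁ W) hWV).hom (Dfun D (i ⁻¹ᵁ W) b) =
      Dfun D (i ⁻¹ᵁ W) b := by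
    have h7 : X.presheaf.map (homOfLE (le_refl (i ⁻¹ᵁ W))).op = 𝟙 _ := X.presheaf.map_id _
    have h8 : ((𝟙 X : X ⟶ X).appLE (i ⁻¹ᵁ W) (i ⁻¹ᵁ W) hWV).hom (Dfun D (i ⁻¹ᵁ W) b) =
        (X.presheaf.map (homOfLE (le_refl (i ⁻¹ᵁ W))).op).hom (Dfun D (i ⁻¹ᵁ W) b) := rfl
    rw [h8, h7]
    rfl
  rw [h6] at h5
  exact h5

include hρ hc hpr in
/-- If the glued morphism is the projection then `D = 0`. -/
theorem d_eq_zero_of_hD_eq [Flat f] (hε0 : ε ≠ 0)
    (h : hD hρ hc hpr hε hρε D hsq = pr) (V : X.Opens) (s : Γ(X, V)) :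
    D.d (X := op V) s = 0 := by
  rw [← Dfun_eq_zero_iff]
  apply eq_of_basis (isBasis_basisB hρ hc)
  intro U hU
  rw [map_zero, ← Dfun_res]
  exact Dfun_eq_zero_of_hD_eq hρ hc hpr hε hρε D hsq hε0 h U.2 _

end triv

end Groth.Agent.Helper19.AutDef
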