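import Mathlib
import Groth.Agent.Helper19.AutDef9
import Groth.Agent.S1318
set_option autoImplicit false
set_option linter.style.haveILetI false
set_option linter.unusedSectionVars false
universe u

open CategoryTheory CategoryTheory.Limits AlgebraicGeometry Opposite TopologicalSpace

/-! # The infinitesimal automorphism of the trivial deformation attached to a vector field, III -/

namespace Groth.Agent.Helper19.AutDef

section triv

variable {k A : Type u} [Field k] [CommRing A] [IsLocalRing A] [IsArtinianRing A]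
  {ρ : A →+* k} (hρ : Function.Surjective ρ)
  {X C : Scheme.{u}} {x : X ⟶ Spec (CommRingCat.of k)} {f : C ⟶ Spec (CommRingCat.of A)}
  {i : X ⟶ C} (hc : IsPullback i x f (Spec.map (CommRingCat.ofHom ρ)))
  {pr : C ⟶ X} (hpr : i ≫ pr = 𝟙 X)
  {ε : A} (hε : ε * ε = 0) (hρε : ρ ε = 0)
  (D : OmegaSh.Der x (Coh.structureModule X))
  (hsq : i.ker ^ 2 = ⊥)
  {σ : k →+* A} (hC : IsPullback pr f x (Spec.map (CommRingCat.ofHom σ)))

include hρ in
theorem isFiniteOrderThickening_specRho :
    MoreMor.IsFiniteOrderThickening (Spec.map (CommRingCat.ofHom ρ)) :=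
  ⟨⟨isClosedImmersion_specRho ρ hρ, surjective_specRho ρ hρ⟩, isNilpotent_ker_specRho ρ hρ⟩

/-- The automorphism "`1 + ε D`" of the trivial deformation. -/
noncomputable def autD : C ⟶ C :=
  hC.lift (hD hρ hc hpr hε hρε D hsq) f ((hD_x hρ hc hpr hε hρε D hsq).trans hC.w)

theorem autD_pr : autD hρ hc hpr hε hρε D hsq hC ≫ pr = hD hρ hc hpr hε hρε D hsq :=
  hC.lift_fst _ _ _

theorem autD_f : autD hρ hc hpr hε hρε D hsq hC ≫ f = f :=
  hC.lift_snd _ _ _

theorem i_autD : i ≫ autD hρ hc hpr hε hρε D hsq hC = i := by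
  apply hC.hom_ext
  · rw [Category.assoc, autD_pr, i_hD, hpr]
  · rw [Category.assoc, autD_f]

theorem isIso_autD [Flat f] : IsIso (autD hρ hc hpr hε hρε D hsq hC) := by
  have hcX : IsPullback i (𝟙 X ≫ x) (autD hρ hc hpr hε hρε D hsq hC ≫ f)
      (Spec.map (CommRingCat.ofHom ρ)) := by
    rw [Category.id_comp, autD_f]; exact hc
  have w : i ≫ autD hρ hc hpr hε hρε D hsq hC = 𝟙 X ≫ i := by
    rw [i_autD, Category.id_comp]
  haveI : Flat (autD hρ hc hpr hε hρε D hsq hC ≫ f) := by rw [autD_f]; infer_instance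
  exact (Groth.Agent.S1318.result i i (Spec.map (CommRingCat.ofHom ρ)) (𝟙 X)
    (autD hρ hc hpr hε hρε D hsq hC) x f (isFiniteOrderThickening_specRho hρ) hcX hc w).mp
    inferInstance

theorem d_eq_zero_of_autD_eq_id [Flat f] (hε0 : ε ≠ 0)
    (h : autD hρ hc hpr hε hρε D hsq hC = 𝟙 C) (V : X.Opens) (s : Γ(X, V)) :
    D.d (X := op V) s = 0 := by
  apply d_eq_zero_of_hD_eq hρ hc hpr hε hρε D hsq hε0
  rw [← autD_pr hρ hc hpr hε hρε D hsq hC, h, Category.id_comp]

end triv

end Groth.Agent.Helper19.AutDef
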