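import Mathlib
set_option autoImplicit false
universe u

/-! # Dual numbers: the augmentation ideal has square zero (helper19) -/

namespace Groth.Agent.Helper19.AutDef

theorem ker_fst_sq (k : Type u) [Field k] :
    RingHom.ker ((TrivSqZeroExt.fstHom k k k).toRingHom) ^ 2 = ⊥ := by
  rw [eq_bot_iff, pow_two, Ideal.mul_le]
  intro a ha b hb
  rw [RingHom.mem_ker] at ha hb
  have ha' : TrivSqZeroExt.fst a = 0 := ha
  have hb' : TrivSqZeroExt.fst b = 0 := hb
  rw [Ideal.mem_bot]
  apply TrivSqZeroExt.ext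
  · rw [TrivSqZeroExt.fst_mul, ha', zero_mul]; rfl
  · rw [TrivSqZeroExt.snd_mul, ha', hb']
    simp

theorem eps_ne_zero (k : Type u) [Field k] : (DualNumber.eps : DualNumber k) ≠ 0 := by
  intro h
  have h1 : (TrivSqZeroExt.snd (DualNumber.eps : DualNumber k) : k) = 1 :=
    TrivSqZeroExt.snd_inr k (1 : k)
  rw [h] at h1
  exact zero_ne_one h1

end Groth.Agent.Helper19.AutDef
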