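import Mathlib
import Groth.Agent.Helper19.AutDef6
set_option autoImplicit false
set_option linter.style.haveILetI false
set_option linter.unusedSectionVars false
universe u

open CategoryTheory CategoryTheory.Limits AlgebraicGeometry Opposite TopologicalSpace

/-! # Infinitesimal automorphisms of deformations: conclusion of `H⁰(T) = 0 ⇒ Aut = 1` (helper19) -/

namespace Groth.Agent.Helper19.AutDef

open Groth.Agent.Helper19.DerGlue

section auto

variable {k A : Type u} [Field k] [CommRing A] [IsLocalRing A] [IsArtinianRing A]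
  {ρ : A →+* k} (hρ : Function.Surjective ρ)
  {X 𝒳 : Scheme.{u}} {x : X ⟶ Spec (CommRingCat.of k)} {f : 𝒳 ⟶ Spec (CommRingCat.of A)}
  {i : X ⟶ 𝒳} (hc : IsPullback i x f (Spec.map (CommRingCat.ofHom ρ)))
  {α : 𝒳 ⟶ 𝒳} (hαf : α ≫ f = f) (hiα : i ≫ α = i)

/-- `α` is the identity modulo `𝔞`. -/
def PId (f : 𝒳 ⟶ Spec (CommRingCat.of A)) (α : 𝒳 ⟶ 𝒳) (𝔞 : Ideal A) : Prop :=
  ∀ (U : 𝒳.Opens) (_ : IsAffineOpen U) (h : U ≤ α ⁻¹ᵁ U) (b : Γ(𝒳, U)),
    phiU α U h b - b ∈ Ideal.map (psiU f U) 𝔞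

include hρ hc hiα in
theorem pId_max : PId f α (IsLocalRing.maximalIdeal A) :=
  fun _ hU h b => phiU_sub_mem_max hρ hc hiα hU h b

include hρ hc hiα in
theorem eq_id_of_pId_bot (h : PId f α ⊥) : α = 𝟙 𝒳 := by
  apply eq_id_of_phiU hρ hc hiα
  intro U hU hle b
  have := h U hU hle b
  rw [Ideal.map_bot, Ideal.mem_bot, sub_eq_zero] at this
  exact this

variable [Flat f]

/-- The local derivations attached to a step. -/
noncomputable def localDer {𝔞 𝔞' : Ideal A} {t : A} (I : IdealStep 𝔞 𝔞' t) (hP : PId f α 𝔞) :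
    LocalDer x (basisB i) where
  D U := (step_of_P hρ hc hαf hiα 𝔞 U.2 (le_preimage hρ hc hiα U.1)
    (hP U.1 U.2 (le_preimage hρ hc hiα U.1))).D I
  add U := Step.D_add I _
  mul U := Step.D_mul I _
  res U U' h s := by
    have hUU : U'.1 ≤ U.1 := le_of_preimage_le hρ hc h
    exact Step.D_nat I
      (step_of_P hρ hc hαf hiα 𝔞 U.2 (le_preimage hρ hc hiα U.1)
        (hP U.1 U.2 (le_preimage hρ hc hiα U.1)))
      (step_of_P hρ hc hαf hiα 𝔞 U'.2 (le_preimage hρ hc hiα U'.1)
        (hP U'.1 U'.2 (le_preimage hρ hc hiα U'.1)))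
      (resU 𝒳 hUU) (resU X h) (resU_psiU f hUU)
      (fun b => resU_phiU hUU _ _ b) (fun b => (app_resU hUU b).symm) s
  const U W hW a := by
    by_cases hne : ∃ q : X, q ∈ i ⁻¹ᵁ U.1
    · obtain ⟨q, hq⟩ := hne
      have hWtop : W = ⊤ := by
        ext p
        simp only [Opens.coe_top, Set.mem_univ, iff_true]
        have : p = x q := Subsingleton.elim _ _
        rw [this]
        exact hW hq
      subst hWtop
      obtain ⟨a', ha'⟩ := hρ ((Scheme.ΓSpecIso (CommRingCat.of k)).hom.hom a)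
      have ha : a = (Scheme.ΓSpecIso (CommRingCat.of k)).inv.hom (ρ a') := by
        rw [ha']
        have := (Scheme.ΓSpecIso (CommRingCat.of k)).hom_inv_id
        exact (congrArg (fun m => m.hom a) this).symm
      have h1 := app_psiU hc U.1 a'
      rw [← ha] at h1
      change Step.D I _ ((x.appLE ⊤ (i ⁻¹ᵁ U.1) hW).hom a) = 0
      rw [← h1]
      exact Step.D_const I _ a'
    · haveI : Subsingleton Γ(X, basisB i U) := by
        have hbot : basisB i U = ⊥ := by
          ext q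
          simp only [Opens.coe_bot, Set.mem_empty_iff_false, iff_false]
          exact fun hq => hne ⟨q, hq⟩
        rw [hbot]
        infer_instance
      exact Subsingleton.elim _ _

include hρ hc hαf hiα in
/-- The inductive step. -/
theorem pId_step
    (hder : ∀ (D : OmegaSh.Der x (Coh.structureModule X)) (V : X.Opens) (s : Γ(X, V)),
      D.d (X := op V) s = 0)
    {𝔞 𝔞' : Ideal A} {t : A} (I : IdealStep 𝔞 𝔞' t) (hP : PId f α 𝔞) : PId f α 𝔞' := by
  intro U hU h b
  have hB := isBasis_basisB hρ hc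
  let L := localDer hρ hc hαf hiα I hP
  have h1 := hder (der hB L) (basisB i ⟨U, hU⟩) ((i.app U).hom b)
  rw [der_basis hB L ⟨U, hU⟩] at h1
  have h2 : L.D ⟨U, hU⟩ ((i.app U).hom b) = 0 := h1
  exact Step.sub_mem_of_D_eq_zero I (step_of_P hρ hc hαf hiα 𝔞 hU h (hP U hU h)) b h2

include hρ hc hαf hiα in
/-- No infinitesimal automorphisms when all vector fields vanish. -/
theorem eq_id_of_der_eq_zero
    (hder : ∀ (D : OmegaSh.Der x (Coh.structureModule X)) (V : X.Opens) (s : Γ(X, V)),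
      D.d (X := op V) s = 0) : α = 𝟙 𝒳 := by
  apply eq_id_of_pId_bot hρ hc hiα
  exact induction_ideal (PId f α) (pId_max hρ hc hiα)
    (fun 𝔞 𝔞' t I hP => pId_step hρ hc hαf hiα hder I hP)

end auto

end Groth.Agent.Helper19.AutDef
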