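import Mathlib
import Groth.Agent.Helper19.AutDef7
import Groth.Agent.Helper19.AutDef10
set_option autoImplicit false
set_option linter.style.haveILetI false
set_option linter.unusedSectionVars false
universe u

open CategoryTheory CategoryTheory.Limits AlgebraicGeometry Opposite TopologicalSpace

/-! # Infinitesimal automorphisms: the derivation of an automorphism is additive and
recovers the vector field (helper19) -/

namespace Groth.Agent.Helper19.AutDef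

open Groth.Agent.Helper19.DerGlue Groth.Agent.Helper19.RhoGlue Groth.Agent.Helper19.Ribbon

section alg

variable {A B B₀ : Type u} [CommRing A] [IsLocalRing A] [CommRing B] [CommRing B₀]
  {𝔞 𝔞' : Ideal A} {t : A} {ψ : A →+* B} {φ₁ φ₂ φ₃ : B →+* B} {π : B →+* B₀}

theorem Step.map_mem (S : Step 𝔞 ψ φ₁ π) (𝔟 : Ideal A) {y : B} (hy : y ∈ Ideal.map ψ 𝔟) :
    φ₁ y ∈ Ideal.map ψ 𝔟 := by
  have h1 : φ₁ y ∈ Ideal.map φ₁ (Ideal.map ψ 𝔟) := Ideal.mem_map_of_mem _ hy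
  rw [Ideal.map_map] at h1
  have h2 : φ₁.comp ψ = ψ := RingHom.ext S.phi_psi
  rw [h2] at h1
  exact h1

/-- The derivation of a composite is the sum of the derivations. -/
theorem Step.D_comp (I : IdealStep 𝔞 𝔞' t) (S₁ : Step 𝔞 ψ φ₁ π) (S₂ : Step 𝔞 ψ φ₂ π)
    (S₃ : Step 𝔞 ψ φ₃ π) (h : ∀ b, φ₃ b = φ₁ (φ₂ b)) (s : B₀) :
    S₃.D I s = S₁.D I s + S₂.D I s := by
  obtain ⟨b, rfl⟩ := S₁.surj s
  obtain ⟨c₁, hc₁⟩ := S₁.exists_c I b
  obtain ⟨c₂, hc₂⟩ := S₂.exists_c I b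
  rw [S₁.D_spec I hc₁, S₂.D_spec I hc₂, ← map_add]
  apply S₃.D_spec I
  have e : φ₃ b - b - ψ t * (c₁ + c₂) =
      φ₁ (φ₂ b - b - ψ t * c₂) + ψ t * (φ₁ c₂ - c₂) + (φ₁ b - b - ψ t * c₁) := by
    rw [h, map_sub, map_sub, map_mul, S₁.phi_psi]; ring
  rw [e]
  refine Ideal.add_mem _ (Ideal.add_mem _ (S₁.map_mem 𝔞' hc₂) ?_) hc₁
  exact S₁.t_mul_mem I _ (S₁.hP c₂)

end alg

section auto

variable {k A : Type u} [Field k] [CommRing A] [IsLocalRing A] [IsArtinianRing A]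
  {ρ : A →+* k} (hρ : Function.Surjective ρ)
  {X 𝒳 : Scheme.{u}} {x : X ⟶ Spec (CommRingCat.of k)} {f : 𝒳 ⟶ Spec (CommRingCat.of A)}
  {i : X ⟶ 𝒳} (hc : IsPullback i x f (Spec.map (CommRingCat.ofHom ρ)))
  {α : 𝒳 ⟶ 𝒳} (hαf : α ≫ f = f) (hiα : i ≫ α = i)
  {β : 𝒳 ⟶ 𝒳} (hβf : β ≫ f = f) (hiβ : i ≫ β = i)
  {γ : 𝒳 ⟶ 𝒳} (hγf : γ ≫ f = f) (hiγ : i ≫ γ = i)
  [Flat f]

/-- The derivation attached to an automorphism which is the identity modulo `𝔞`. -/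
noncomputable def derOf {𝔞 𝔞' : Ideal A} {t : A} (I : IdealStep 𝔞 𝔞' t) (hP : PId f α 𝔞) :
    OmegaSh.Der x (Coh.structureModule X) :=
  der (isBasis_basisB hρ hc) (localDer hρ hc hαf hiα I hP)

theorem derOf_basis {𝔞 𝔞' : Ideal A} {t : A} (I : IdealStep 𝔞 𝔞' t) (hP : PId f α 𝔞)
    (U : 𝒳.affineOpens) (s : Γ(X, i ⁻¹ᵁ U.1)) :
    (derOf hρ hc hαf hiα I hP).d (X := op (i ⁻¹ᵁ U.1)) s =
      (step_of_P hρ hc hαf hiα 𝔞 U.2 (le_preimage hρ hc hiα U.1)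
        (hP U.1 U.2 (le_preimage hρ hc hiα U.1))).D I s :=
  der_basis (isBasis_basisB hρ hc) (localDer hρ hc hαf hiα I hP) U s

include hρ hc in
/-- Two derivations into `O_X` agreeing on the basis are equal on all sections. -/
theorem der_eq_of_basis (D₁ D₂ : OmegaSh.Der x (Coh.structureModule X))
    (h : ∀ (U : 𝒳.affineOpens) (s : Γ(X, i ⁻¹ᵁ U.1)),
      D₁.d (X := op (i ⁻¹ᵁ U.1)) s = D₂.d (X := op (i ⁻¹ᵁ U.1)) s)
    (V : X.Opens) (s : Γ(X, V)) : D₁.d (X := op V) s = D₂.d (X := op V) s := by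
  change Dfun D₁ V s = Dfun D₂ V s
  apply eq_of_basis (isBasis_basisB hρ hc)
  intro U hU
  rw [← Dfun_res, ← Dfun_res]
  exact h U _

theorem phiU_comp (hγ : γ = α ≫ β) (U : 𝒳.Opens) (hα : U ≤ α ⁻¹ᵁ U) (hβ : U ≤ β ⁻¹ᵁ U)
    (hγ' : U ≤ γ ⁻¹ᵁ U) (b : Γ(𝒳, U)) :
    phiU γ U hγ' b = phiU α U hα (phiU β U hβ b) := by
  subst hγ
  have h1 := Scheme.Hom.appLE_comp_appLE α β U U U hβ hα
  exact (congrArg (fun m => m.hom b) h1).symm

include hβf hiβ hγf hiγ in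
/-- Additivity of the derivation attached to an automorphism (on sections of `O_X`). -/
theorem Dfun_derOf_comp {𝔞 𝔞' : Ideal A} {t : A} (I : IdealStep 𝔞 𝔞' t)
    (hPα : PId f α 𝔞) (hPβ : PId f β 𝔞) (hPγ : PId f γ 𝔞) (hγ : γ = α ≫ β)
    (V : X.Opens) (s : Γ(X, V)) :
    Dfun (derOf hρ hc hγf hiγ I hPγ) V s =
      Dfun (derOf hρ hc hαf hiα I hPα) V s + Dfun (derOf hρ hc hβf hiβ I hPβ) V s := by
  apply eq_of_basis (isBasis_basisB hρ hc)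
  intro U hU
  rw [map_add, ← Dfun_res, ← Dfun_res, ← Dfun_res]
  have e1 := derOf_basis hρ hc hαf hiα I hPα U (X.presheaf.map (homOfLE hU).op s)
  have e2 := derOf_basis hρ hc hβf hiβ I hPβ U (X.presheaf.map (homOfLE hU).op s)
  have e3 := derOf_basis hρ hc hγf hiγ I hPγ U (X.presheaf.map (homOfLE hU).op s)
  change Dfun (derOf hρ hc hγf hiγ I hPγ) (i ⁻¹ᵁ U.1) _ =
    Dfun (derOf hρ hc hαf hiα I hPα) (i ⁻¹ᵁ U.1) _ + Dfun (derOf hρ hc hβf hiβ I hPβ) (i ⁻¹ᵁ U.1) _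
  have e1' : Dfun (derOf hρ hc hαf hiα I hPα) (i ⁻¹ᵁ U.1) (X.presheaf.map (homOfLE hU).op s) = _ := e1
  have e2' : Dfun (derOf hρ hc hβf hiβ I hPβ) (i ⁻¹ᵁ U.1) (X.presheaf.map (homOfLE hU).op s) = _ := e2
  have e3' : Dfun (derOf hρ hc hγf hiγ I hPγ) (i ⁻¹ᵁ U.1) (X.presheaf.map (homOfLE hU).op s) = _ := e3
  rw [e1', e2', e3']
  exact Step.D_comp I _ _ _
    (fun b => phiU_comp hγ U.1 (le_preimage hρ hc hiα U.1) (le_preimage hρ hc hiβ U.1)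
      (le_preimage hρ hc hiγ U.1) b) _

include hρ hc hαf hiα in
/-- An automorphism with vanishing derivation is the identity modulo the smaller ideal. -/
theorem pId_of_derOf_eq_zero {𝔞 𝔞' : Ideal A} {t : A} (I : IdealStep 𝔞 𝔞' t) (hP : PId f α 𝔞)
    (h0 : ∀ (V : X.Opens) (s : Γ(X, V)), (derOf hρ hc hαf hiα I hP).d (X := op V) s = 0) :
    PId f α 𝔞' := by
  intro U hU h b
  have h1 := h0 (i ⁻¹ᵁ U) ((i.app U).hom b)
  rw [derOf_basis hρ hc hαf hiα I hP ⟨U, hU⟩] at h1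
  exact Step.sub_mem_of_D_eq_zero I (step_of_P hρ hc hαf hiα 𝔞 hU h (hP U hU h)) b h1

end auto

end Groth.Agent.Helper19.AutDef
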