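import Mathlib
import Groth.Agent.Helper19.AutDef12
set_option autoImplicit false
set_option linter.style.haveILetI false
set_option linter.unusedSectionVars false
universe u

open CategoryTheory CategoryTheory.Limits AlgebraicGeometry Opposite TopologicalSpace

/-! # Infinitesimal automorphisms: the derivation of `1 + εD` is `D` (helper19) -/

namespace Groth.Agent.Helper19.AutDef

open Groth.Agent.Helper19.DerGlue Groth.Agent.Helper19.RhoGlue Groth.Agent.Helper19.Ribbon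

section triv

variable {k A : Type u} [Field k] [CommRing A] [IsLocalRing A] [IsArtinianRing A]
  {ρ : A →+* k} (hρ : Function.Surjective ρ)
  {X C : Scheme.{u}} {x : X ⟶ Spec (CommRingCat.of k)} {f : C ⟶ Spec (CommRingCat.of A)}
  {i : X ⟶ C} (hc : IsPullback i x f (Spec.map (CommRingCat.ofHom ρ)))
  {pr : C ⟶ X} (hpr : i ≫ pr = 𝟙 X)
  {ε : A} (hε : ε * ε = 0) (hρε : ρ ε = 0)
  (D : OmegaSh.Der x (Coh.structureModule X))
  (hsq : i.ker ^ 2 = ⊥)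
  {σ : k →+* A} (hC : IsPullback pr f x (Spec.map (CommRingCat.ofHom σ)))
  [Flat f]

theorem id_appLE_apply {Y : Scheme.{u}} {V V' : Y.Opens} (h : V' ≤ (𝟙 Y : Y ⟶ Y) ⁻¹ᵁ V)
    (b : Γ(Y, V)) :
    ((𝟙 Y : Y ⟶ Y).appLE V V' h).hom b = Y.presheaf.map (homOfLE (show V' ≤ V from h)).op b :=
  rfl

/-- The action of `1 + εD` on the lift `pr♯ s` of a section `s`. -/
theorem phiU_autD_pr {W : C.Opens} (hW : IsAffineOpen W)
    (h : W ≤ (autD hρ hc hpr hε hρε D hsq hC) ⁻¹ᵁ W)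
    (hle : W ≤ pr ⁻¹ᵁ (i ⁻¹ᵁ W)) (s : Γ(X, i ⁻¹ᵁ W)) :
    phiU (autD hρ hc hpr hε hρε D hsq hC) W h ((pr.appLE (i ⁻¹ᵁ W) W hle).hom s) =
      (pr.appLE (i ⁻¹ᵁ W) W hle).hom s +
        psiU f W ε * (pr.appLE (i ⁻¹ᵁ W) W hle).hom (Dfun D (i ⁻¹ᵁ W) s) := by
  haveI := isClosedImmersion_i hρ hc
  have hV : IsAffineOpen (i ⁻¹ᵁ W) := hW.preimage i
  have hWV : i ⁻¹ᵁ W ≤ (𝟙 X : X ⟶ X) ⁻¹ᵁ (i ⁻¹ᵁ W) := fun _ hq => hq
  let P : GoodPair i (𝟙 X) := ⟨W, hW, i ⁻¹ᵁ W, hV, hWV⟩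
  have h1 := glued_appLE (rhoSys hρ hc hpr hε hρε D hsq) P
  have h2 := Scheme.Hom.appLE_comp_appLE (autD hρ hc hpr hε hρε D hsq hC) pr (i ⁻¹ᵁ W) W W hle h
  have h3 : ((autD hρ hc hpr hε hρε D hsq hC) ≫ pr).appLE (i ⁻¹ᵁ W) W
      (by
        intro w hw
        exact hle (h hw)) =
      (hD hρ hc hpr hε hρε D hsq).appLE (i ⁻¹ᵁ W) W
        (glued_le (rhoSys hρ hc hpr hε hρε D hsq) P) :=
    appLE_congr_hom' (autD_pr hρ hc hpr hε hρε D hsq hC) _ _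
  have h4 := congrArg (fun m => m.hom s) (h2.trans (h3.trans h1))
  exact h4

/-- The derivation attached to the automorphism `1 + εD` is `D`. -/
theorem Dfun_derOf_autD {𝔞' : Ideal A} (I : IdealStep (IsLocalRing.maximalIdeal A) 𝔞' ε)
    (V : X.Opens) (s : Γ(X, V)) :
    Dfun (derOf hρ hc (autD_f hρ hc hpr hε hρε D hsq hC) (i_autD hρ hc hpr hε hρε D hsq hC) I
      (pId_max hρ hc (i_autD hρ hc hpr hε hρε D hsq hC))) V s = Dfun D V s := by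
  apply eq_of_basis (isBasis_basisB hρ hc)
  intro U hU
  rw [← Dfun_res, ← Dfun_res]
  set s' := X.presheaf.map (homOfLE hU).op s with hs'
  have e1 := derOf_basis hρ hc (autD_f hρ hc hpr hε hρε D hsq hC)
    (i_autD hρ hc hpr hε hρε D hsq hC) I
    (pId_max hρ hc (i_autD hρ hc hpr hε hρε D hsq hC)) U s'
  have e1' : Dfun (derOf hρ hc (autD_f hρ hc hpr hε hρε D hsq hC)
      (i_autD hρ hc hpr hε hρε D hsq hC) I
      (pId_max hρ hc (i_autD hρ hc hpr hε hρε D hsq hC))) (i ⁻¹ᵁ U.1) s' = _ := e1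
  change Dfun _ (i ⁻¹ᵁ U.1) s' = Dfun D (i ⁻¹ᵁ U.1) s'
  rw [e1']
  have hWV : i ⁻¹ᵁ U.1 ≤ (𝟙 X : X ⟶ X) ⁻¹ᵁ (i ⁻¹ᵁ U.1) := fun _ hq => hq
  have hle : U.1 ≤ pr ⁻¹ᵁ (i ⁻¹ᵁ U.1) := le_pr_preimage hρ hc hpr hWV
  have hπ : ∀ b : Γ(X, i ⁻¹ᵁ U.1),
      (i.app U.1).hom ((pr.appLE (i ⁻¹ᵁ U.1) U.1 hle).hom b) = b := by
    intro b
    rw [app_pr_appLE hpr hle hWV, id_appLE_apply]
    have h7 : X.presheaf.map (homOfLE (le_refl (i ⁻¹ᵁ U.1))).op = 𝟙 _ := X.presheaf.map_id _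
    exact congrArg (fun m => m.hom b) h7
  have key := Step.D_spec I
    (step_of_P hρ hc (autD_f hρ hc hpr hε hρε D hsq hC) (i_autD hρ hc hpr hε hρε D hsq hC)
      (IsLocalRing.maximalIdeal A) U.2
      (le_preimage hρ hc (i_autD hρ hc hpr hε hρε D hsq hC) U.1)
      (pId_max hρ hc (i_autD hρ hc hpr hε hρε D hsq hC) U.1 U.2
        (le_preimage hρ hc (i_autD hρ hc hpr hε hρε D hsq hC) U.1)))
    (b := (pr.appLE (i ⁻¹ᵁ U.1) U.1 hle).hom s')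
    (c := (pr.appLE (i ⁻¹ᵁ U.1) U.1 hle).hom (Dfun D (i ⁻¹ᵁ U.1) s'))
    (by
      rw [phiU_autD_pr hρ hc hpr hε hρε D hsq hC U.2 _ hle s']
      have : (pr.appLE (i ⁻¹ᵁ U.1) U.1 hle).hom s' +
          psiU f U.1 ε * (pr.appLE (i ⁻¹ᵁ U.1) U.1 hle).hom (Dfun D (i ⁻¹ᵁ U.1) s') -
          (pr.appLE (i ⁻¹ᵁ U.1) U.1 hle).hom s' -
          psiU f U.1 ε * (pr.appLE (i ⁻¹ᵁ U.1) U.1 hle).hom (Dfun D (i ⁻¹ᵁ U.1) s') = 0 := by
        ring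
      rw [this]
      exact Ideal.zero_mem _)
  rw [hπ, hπ] at key
  exact key

end triv

end Groth.Agent.Helper19.AutDef
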