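import Mathlib
import Groth.Agent.Helper19.AutDef13
import Groth.Agent.Helper19.AutDef11
import Groth.Agent.Helper19.DefSm1
import Groth.Agent.S5005
import Groth.Agent.Lib.Helper24.AlgSpMonoUnram
set_option autoImplicit false
set_option linter.style.haveILetI false
set_option linter.unusedSectionVars false
universe u

open CategoryTheory CategoryTheory.Limits AlgebraicGeometry Opposite TopologicalSpace

/-! # Infinitesimal automorphisms of the trivial first-order deformation = vector fields (helper19) -/

namespace Groth.Agent.Helper19.AutDef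

open Groth.Agent.Helper19.DerGlue Groth.Agent.Helper19.RhoGlue Groth.Agent.Helper19.Ribbon

section dual

variable (k : Type u) [Field k]

theorem ker_fst_eq_span :
    RingHom.ker ((TrivSqZeroExt.fstHom k k k).toRingHom) =
      Ideal.span {(DualNumber.eps : DualNumber k)} := by
  apply le_antisymm
  · intro a ha
    rw [RingHom.mem_ker] at ha
    have ha' : TrivSqZeroExt.fst a = 0 := ha
    rw [Ideal.mem_span_singleton']
    refine ⟨TrivSqZeroExt.inl (TrivSqZeroExt.snd a), ?_⟩
    have h1 : (TrivSqZeroExt.inl (TrivSqZeroExt.snd a) : DualNumber k) * DualNumber.eps =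
        TrivSqZeroExt.inr (TrivSqZeroExt.snd a) := by
      change (TrivSqZeroExt.inl (TrivSqZeroExt.snd a) : TrivSqZeroExt k k) *
        TrivSqZeroExt.inr (1 : k) = _
      rw [TrivSqZeroExt.inl_mul_inr, smul_eq_mul, mul_one]
    rw [h1]
    apply TrivSqZeroExt.ext
    · rw [ha', TrivSqZeroExt.fst_inr]
    · rw [TrivSqZeroExt.snd_inr]
  · rw [Ideal.span_le, Set.singleton_subset_iff]
    change (TrivSqZeroExt.fstHom k k k).toRingHom DualNumber.eps = 0
    exact TrivSqZeroExt.fst_inr k (1 : k)

theorem maximalIdeal_dualNumber :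
    IsLocalRing.maximalIdeal (DualNumber k) =
      RingHom.ker ((TrivSqZeroExt.fstHom k k k).toRingHom) := by
  have hsurj : Function.Surjective ((TrivSqZeroExt.fstHom k k k).toRingHom) :=
    fun a => ⟨TrivSqZeroExt.inl a, rfl⟩
  haveI : (RingHom.ker ((TrivSqZeroExt.fstHom k k k).toRingHom)).IsMaximal :=
    RingHom.ker_isMaximal_of_surjective _ hsurj
  exact (IsLocalRing.eq_maximalIdeal inferInstance).symm

theorem idealStep_dualNumber :
    IdealStep (IsLocalRing.maximalIdeal (DualNumber k)) ⊥ (DualNumber.eps : DualNumber k) where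
  sup := by
    rw [bot_sup_eq, maximalIdeal_dualNumber, ker_fst_eq_span]
  mul_le := by
    rw [maximalIdeal_dualNumber, ← pow_two, ker_fst_sq]
  t_mem := by
    rw [maximalIdeal_dualNumber, ker_fst_eq_span]
    exact Ideal.subset_span rfl
  t_not_mem := by
    rw [Ideal.mem_bot]
    exact eps_ne_zero k

end dual

end Groth.Agent.Helper19.AutDef

namespace Groth.Agent.Helper19.AutDef

open Groth.Agent.Helper19.DerGlue Groth.Agent.Helper19.RhoGlue Groth.Agent.Helper19.Ribbon

section main

variable (k : Type u) [Field k]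
  (X₀ : Scheme.{u}) [IsLocallyNoetherian X₀] (x : X₀ ⟶ Spec (CommRingCat.of k))
  (Xε : Scheme.{u}) (q : Xε ⟶ X₀) (p : Xε ⟶ Spec (CommRingCat.of (DualNumber k)))
  (hsq : IsPullback q p x (Spec.map (CommRingCat.ofHom (algebraMap k (DualNumber k)))))
  (i : X₀ ⟶ Xε) (hiq : i ≫ q = 𝟙 X₀)
  (hip : i ≫ p = x ≫ Spec.map (CommRingCat.ofHom (TrivSqZeroExt.fstHom k k k).toRingHom))

include hsq hiq hip in
theorem isPullback_closedFibre :
    IsPullback i x p (Spec.map (CommRingCat.ofHom (TrivSqZeroExt.fstHom k k k).toRingHom)) := by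
  have hcomp : Spec.map (CommRingCat.ofHom (TrivSqZeroExt.fstHom k k k).toRingHom) ≫
      Spec.map (CommRingCat.ofHom (algebraMap k (DualNumber k))) = 𝟙 _ := by
    rw [← Spec.map_comp, ← Spec.map_id]
    congr 1
  refine IsPullback.of_right ?_ hip hsq
  rw [hiq, hcomp]
  exact IsPullback.id_horiz x

end main

end Groth.Agent.Helper19.AutDef
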