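import Mathlib
import Groth.Agent.Helper19.AutDef14
set_option autoImplicit false
set_option linter.style.haveILetI false
set_option linter.unusedSectionVars false
universe u

open CategoryTheory CategoryTheory.Limits AlgebraicGeometry Opposite TopologicalSpace

/-! # Infinitesimal automorphisms of the trivial first-order deformation = vector fields, II -/

namespace Groth.Agent.Helper19.AutDef

open Groth.Agent.Helper19.DerGlue Groth.Agent.Helper19.RhoGlue Groth.Agent.Helper19.Ribbon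

section main

variable (k : Type u) [Field k]
  (X₀ : Scheme.{u}) [IsLocallyNoetherian X₀] (x : X₀ ⟶ Spec (CommRingCat.of k))
  (Xε : Scheme.{u}) (q : Xε ⟶ X₀) (p : Xε ⟶ Spec (CommRingCat.of (DualNumber k)))
  (hsq : IsPullback q p x (Spec.map (CommRingCat.ofHom (algebraMap k (DualNumber k)))))
  (i : X₀ ⟶ Xε) (hiq : i ≫ q = 𝟙 X₀)
  (hip : i ≫ p = x ≫ Spec.map (CommRingCat.ofHom (TrivSqZeroExt.fstHom k k k).toRingHom))

include hsq hiq hip in
theorem exists_equiv_aut :
    ∃ e : {φ : Xε ≅ Xε // φ.hom ≫ p = p ∧ i ≫ φ.hom = i} ≃ (Omega.sheaf x ⟶ Coh.structureModule X₀),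
      ∀ φ ψ χ : {φ : Xε ≅ Xε // φ.hom ≫ p = p ∧ i ≫ φ.hom = i},
        φ.1 ≪≫ ψ.1 = χ.1 → e χ = e φ + e ψ := by
  haveI : IsArtinianRing (DualNumber k) := ArtFun.Art.isArtinianRing_tsze k k
  have hρ : Function.Surjective ((TrivSqZeroExt.fstHom k k k).toRingHom) :=
    fun a => ⟨TrivSqZeroExt.inl a, rfl⟩
  have hc := isPullback_closedFibre k X₀ x Xε q p hsq i hiq hip
  have hε : (DualNumber.eps : DualNumber k) * DualNumber.eps = 0 := DualNumber.eps_mul_eps
  have hρε : (TrivSqZeroExt.fstHom k k k).toRingHom (DualNumber.eps : DualNumber k) = 0 :=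
    TrivSqZeroExt.fst_inr k (1 : k)
  have hker : RingHom.ker (CommRingCat.ofHom (TrivSqZeroExt.fstHom k k k).toRingHom).hom ^ 2 = ⊥ :=
    ker_fst_sq k
  haveI : IsClosedImmersion (Spec.map (CommRingCat.ofHom (TrivSqZeroExt.fstHom k k k).toRingHom)) :=
    isClosedImmersion_specRho _ hρ
  have hsq' : i.ker ^ 2 = ⊥ :=
    Groth.Agent.Helper19.DefSm.ker_sq_eq_bot_of_isPullback hc
      (Groth.Agent.Lib.Helper24.AlgSpMonoUnram.ker_SpecMap_pow_eq_bot _ 2 hker)
  have hx : Flat x := inferInstance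
  haveI : Flat p := MorphismProperty.of_isPullback hsq hx
  have I := idealStep_dualNumber k
  have huniv := Groth.Agent.S5005.result x
  let G := {φ : Xε ≅ Xε // φ.hom ≫ p = p ∧ i ≫ φ.hom = i}
  -- the derivation of an automorphism
  let Dof : G → OmegaSh.Der x (Coh.structureModule X₀) := fun φ =>
    derOf hρ hc φ.2.1 φ.2.2 I (pId_max hρ hc φ.2.2)
  let eFun : G → (Omega.sheaf x ⟶ Coh.structureModule X₀) := fun φ =>
    (huniv (Coh.structureModule X₀) (Dof φ)).choose
  have eFun_spec : ∀ φ : G, (OmegaSh.dOmega x).postcomp (eFun φ).val = Dof φ := fun φ =>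
    (huniv (Coh.structureModule X₀) (Dof φ)).choose_spec.1
  have eFun_uniq : ∀ (φ : G) (δ : Omega.sheaf x ⟶ Coh.structureModule X₀),
      (OmegaSh.dOmega x).postcomp δ.val = Dof φ → δ = eFun φ := fun φ δ h =>
    (huniv (Coh.structureModule X₀) (Dof φ)).choose_spec.2 δ h
  -- additivity
  have hadd : ∀ φ ψ χ : G, φ.1 ≪≫ ψ.1 = χ.1 → eFun χ = eFun φ + eFun ψ := by
    intro φ ψ χ h
    symm
    apply eFun_uniq
    ext V s
    have h1 : χ.1.hom = φ.1.hom ≫ ψ.1.hom := by rw [← h]; rfl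
    have h2 := Dfun_derOf_comp hρ hc φ.2.1 φ.2.2 ψ.2.1 ψ.2.2 χ.2.1 χ.2.2 I
      (pId_max hρ hc φ.2.2) (pId_max hρ hc ψ.2.2) (pId_max hρ hc χ.2.2) h1 V.unop s
    have h3 := PresheafOfModules.Derivation.congr_d (eFun_spec φ) (X := V) s
    have h4 := PresheafOfModules.Derivation.congr_d (eFun_spec ψ) (X := V) s
    change ((eFun φ + eFun ψ).val.app V).hom ((OmegaSh.dOmega x).d s) = (Dof χ).d s
    have h5 : (eFun φ + eFun ψ).val.app V = (eFun φ).val.app V + (eFun ψ).val.app V := rfl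
    rw [h5]
    change ((eFun φ).val.app V).hom ((OmegaSh.dOmega x).d s) +
      ((eFun ψ).val.app V).hom ((OmegaSh.dOmega x).d s) = (Dof χ).d s
    have h3' : ((eFun φ).val.app V).hom ((OmegaSh.dOmega x).d s) = (Dof φ).d s := h3
    have h4' : ((eFun ψ).val.app V).hom ((OmegaSh.dOmega x).d s) = (Dof ψ).d s := h4
    rw [h3', h4']
    exact h2.symm
  -- the derivation of an automorphism with `eFun = 0` vanishes
  have hzero : ∀ χ : G, eFun χ = 0 → χ.1.hom = 𝟙 Xε := by
    intro χ h0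
    apply eq_id_of_pId_bot hρ hc χ.2.2
    apply pId_of_derOf_eq_zero hρ hc χ.2.1 χ.2.2 I (pId_max hρ hc χ.2.2)
    intro V s
    have h3 := PresheafOfModules.Derivation.congr_d (eFun_spec χ) (X := op V) s
    rw [h0] at h3
    change (Dof χ).d s = 0
    rw [← h3]
    change ((0 : Omega.sheaf x ⟶ Coh.structureModule X₀).val.app (op V)).hom
      ((OmegaSh.dOmega x).d s) = 0
    rfl
  have hinj : Function.Injective eFun := by
    intro φ ψ h
    have hψp : ψ.1.inv ≫ p = p := by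
      rw [Iso.inv_comp_eq, ψ.2.1]
    have hiψ : i ≫ ψ.1.inv = i := by
      rw [Iso.comp_inv_eq, ψ.2.2]
    let χ : G := ⟨φ.1 ≪≫ ψ.1.symm, by
      change (φ.1.hom ≫ ψ.1.inv) ≫ p = p
      rw [Category.assoc, hψp, φ.2.1], by
      change i ≫ φ.1.hom ≫ ψ.1.inv = i
      rw [← Category.assoc, φ.2.2, hiψ]⟩
    have hχ : χ.1 ≪≫ ψ.1 = φ.1 := by
      ext1
      change (φ.1.hom ≫ ψ.1.inv) ≫ ψ.1.hom = φ.1.hom
      rw [Category.assoc, Iso.inv_hom_id, Category.comp_id]
    have h1 := hadd χ ψ φ hχ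
    rw [h] at h1
    have h2 : eFun χ = 0 := by
      have := h1
      rw [right_eq_add] at this
      exact this
    have h3 := hzero χ h2
    have h4 : φ.1.hom ≫ ψ.1.inv = 𝟙 Xε := h3
    apply Subtype.ext
    ext1
    rw [← Iso.comp_inv_eq_id]
    exact h4
  have hsurj : Function.Surjective eFun := by
    intro δ
    let D : OmegaSh.Der x (Coh.structureModule X₀) := (OmegaSh.dOmega x).postcomp δ.val
    haveI := isIso_autD hρ hc hiq hε hρε D hsq' hsq
    let φ : G := ⟨asIso (autD hρ hc hiq hε hρε D hsq' hsq), autD_f hρ hc hiq hε hρε D hsq' hsq,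
      i_autD hρ hc hiq hε hρε D hsq' hsq⟩
    refine ⟨φ, ?_⟩
    symm
    apply eFun_uniq
    ext V s
    have h1 := Dfun_derOf_autD hρ hc hiq hε hρε D hsq' hsq I V.unop s
    exact h1.symm
  exact ⟨Equiv.ofBijective eFun ⟨hinj, hsurj⟩, hadd⟩

end main

end Groth.Agent.Helper19.AutDef
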