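import Mathlib.RingTheory.Ideal.MinimalPrime.Localization
import Mathlib.RingTheory.Localization.FractionRing
import Mathlib.RingTheory.IntegralClosure.IntegrallyClosed
import Mathlib.RingTheory.LocalRing.MaximalIdeal.Basic
import Mathlib.RingTheory.Nilpotent.Lemmas

set_option autoImplicit false
set_option linter.unusedSectionVars false

/-! # Reduced rings with finitely many minimal primes: separating elements and idempotents
of the total ring of fractions -/

namespace Groth.Agent.Helper19.BrnchLib

variable {B : Type*} [CommRing B]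

/-- an element outside the minimal prime `q` and inside all the others -/
theorem exists_sep (hfin : (minimalPrimes B).Finite) {q : Ideal B} (hq : q ∈ minimalPrimes B) :
    ∃ a : B, a ∉ q ∧ ∀ q' ∈ minimalPrimes B, q' ≠ q → a ∈ q' := by
  classical
  have hqp : q.IsPrime := hq.1.1
  have hnot : ¬ ((hfin.toFinset.erase q).inf id ≤ q) := by
    rw [hqp.inf_le']
    rintro ⟨q', hq', hle⟩
    rw [Finset.mem_erase, Set.Finite.mem_toFinset] at hq'
    have := hq.2 ⟨hq'.2.1.1, bot_le⟩ hle
    exact hq'.1 (le_antisymm hle this)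
  obtain ⟨a, ha, haq⟩ := SetLike.not_le_iff_exists.mp hnot
  refine ⟨a, haq, fun q' hq' hne => ?_⟩
  have : (hfin.toFinset.erase q).inf id ≤ q' :=
    Finset.inf_le (f := id) (by simp [hne, hq'])
  exact this ha

/-- in a reduced ring, an element of all minimal primes is zero -/
theorem eq_zero_of_forall_mem_minimalPrimes [IsReduced B] {x : B}
    (h : ∀ q ∈ minimalPrimes B, x ∈ q) : x = 0 := by
  have h1 : x ∈ sInf (minimalPrimes B) := by
    rw [Ideal.mem_sInf]
    exact fun {q} hq => h q hq
  have h2 : sInf (minimalPrimes B) = (⊥ : Ideal B).radical := Ideal.sInf_minimalPrimes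
  rw [h2] at h1
  have h3 : IsNilpotent x := by
    obtain ⟨n, hn⟩ := h1
    exact ⟨n, hn⟩
  exact h3.eq_zero

/-- in a reduced ring, an element outside all minimal primes is a non-zero-divisor -/
theorem mem_nonZeroDivisors_of_forall_notMem [IsReduced B] {s : B}
    (h : ∀ q ∈ minimalPrimes B, s ∉ q) : s ∈ nonZeroDivisors B := by
  rw [mem_nonZeroDivisors_iff_right]
  intro x hx
  apply eq_zero_of_forall_mem_minimalPrimes
  intro q hq
  have hqp : q.IsPrime := hq.1.1
  have : x * s ∈ q := by rw [hx]; exact q.zero_mem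
  exact (hqp.mem_or_mem this).resolve_right (h q hq)

section sep

variable (hfin : (minimalPrimes B).Finite)

open Classical in
/-- chosen separating elements -/
noncomputable def sep (q : Ideal B) : B :=
  if hq : q ∈ minimalPrimes B then (exists_sep hfin hq).choose else 0

theorem sep_notMem {q : Ideal B} (hq : q ∈ minimalPrimes B) : sep hfin q ∉ q := by
  rw [sep, dif_pos hq]
  exact (exists_sep hfin hq).choose_spec.1

theorem sep_mem {q q' : Ideal B} (hq : q ∈ minimalPrimes B) (hq' : q' ∈ minimalPrimes B)
    (hne : q' ≠ q) : sep hfin q ∈ q' := by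
  rw [sep, dif_pos hq]
  exact (exists_sep hfin hq).choose_spec.2 q' hq' hne

theorem sep_mul_sep [IsReduced B] {q q' : Ideal B} (hq : q ∈ minimalPrimes B)
    (hq' : q' ∈ minimalPrimes B) (hne : q ≠ q') : sep hfin q * sep hfin q' = 0 := by
  apply eq_zero_of_forall_mem_minimalPrimes
  intro q'' hq''
  by_cases h : q'' = q
  · subst h
    exact q''.mul_mem_left _ (sep_mem hfin hq' hq'' hne)
  · exact q''.mul_mem_right _ (sep_mem hfin hq hq'' h)

open Classical in
/-- the sum of the separating elements -/
noncomputable def sepSum : B := ∑ q ∈ hfin.toFinset, sep hfin q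

theorem sepSum_notMem {q : Ideal B} (hq : q ∈ minimalPrimes B) : sepSum hfin ∉ q := by
  classical
  intro hmem
  have hq' : q ∈ hfin.toFinset := hfin.mem_toFinset.mpr hq
  rw [sepSum, ← Finset.add_sum_erase _ _ hq'] at hmem
  have h2 : ∑ q' ∈ hfin.toFinset.erase q, sep hfin q' ∈ q := by
    refine q.sum_mem fun q' hq'' => ?_
    rw [Finset.mem_erase, Set.Finite.mem_toFinset] at hq''
    exact sep_mem hfin hq''.2 hq hq''.1.symm
  exact sep_notMem hfin hq ((q.add_mem_iff_left h2).mp hmem)

theorem sepSum_mem_nonZeroDivisors [IsReduced B] : sepSum hfin ∈ nonZeroDivisors B :=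
  mem_nonZeroDivisors_of_forall_notMem fun _ hq => sepSum_notMem hfin hq

theorem sep_mul_sepSum [IsReduced B] {q : Ideal B} (hq : q ∈ minimalPrimes B) :
    sep hfin q * sepSum hfin = sep hfin q * sep hfin q := by
  classical
  rw [sepSum, Finset.mul_sum, Finset.sum_eq_single q]
  · intro q' hq' hne
    exact sep_mul_sep hfin hq (hfin.mem_toFinset.mp hq') hne.symm
  · intro h
    exact absurd (hfin.mem_toFinset.mpr hq) h

/-- the idempotents of the total ring of fractions -/
noncomputable def idem [IsReduced B] (q : Ideal B) : FractionRing B :=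
  IsLocalization.mk' (FractionRing B) (sep hfin q)
    (⟨sepSum hfin, sepSum_mem_nonZeroDivisors hfin⟩ : nonZeroDivisors B)

theorem idem_mul_self [IsReduced B] {q : Ideal B} (hq : q ∈ minimalPrimes B) :
    idem hfin q * idem hfin q = idem hfin q := by
  unfold idem
  rw [← IsLocalization.mk'_mul, IsLocalization.mk'_eq_iff_eq]
  congr 1
  change (sepSum hfin) * (sep hfin q * sep hfin q) = (sepSum hfin * sepSum hfin) * sep hfin q
  rw [← sep_mul_sepSum hfin hq]
  ring

theorem idem_mul_of_ne [IsReduced B] {q q' : Ideal B} (hq : q ∈ minimalPrimes B)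
    (hq' : q' ∈ minimalPrimes B) (hne : q ≠ q') : idem hfin q * idem hfin q' = 0 := by
  unfold idem
  rw [← IsLocalization.mk'_mul, sep_mul_sep hfin hq hq' hne, IsLocalization.mk'_zero]

theorem idem_ne_zero [IsReduced B] {q : Ideal B} (hq : q ∈ minimalPrimes B) :
    idem hfin q ≠ 0 := by
  unfold idem
  intro h
  rw [IsLocalization.mk'_eq_zero_iff] at h
  obtain ⟨m, hm⟩ := h
  have h0 : sep hfin q = 0 := (mem_nonZeroDivisors_iff.mp m.2).1 _ hm
  exact sep_notMem hfin hq (h0 ▸ q.zero_mem)

theorem idem_isIntegral [IsReduced B] {q : Ideal B} (hq : q ∈ minimalPrimes B) :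
    IsIntegral B (idem hfin q) := by
  refine ⟨Polynomial.X ^ 2 - Polynomial.X, ?_, ?_⟩
  · nontriviality B
    exact Polynomial.monic_X_pow_sub (by rw [Polynomial.degree_X]; exact_mod_cast (by norm_num : (1 : ℕ) < 2))
  · simp only [Polynomial.eval₂_sub, Polynomial.eval₂_pow, Polynomial.eval₂_X]
    rw [pow_two, idem_mul_self hfin hq, sub_self]

theorem idem_ne_one [IsReduced B] {q q' : Ideal B} (hq : q ∈ minimalPrimes B)
    (hq' : q' ∈ minimalPrimes B) (hne : q ≠ q') : idem hfin q ≠ 1 := by
  intro h
  have := idem_mul_of_ne hfin hq hq' hne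
  rw [h, one_mul] at this
  exact idem_ne_zero hfin hq' this

end sep

end Groth.Agent.Helper19.BrnchLib
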