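import Groth.Agent.Helper19.BrnchLib
import Mathlib.Algebra.Polynomial.Lifts
import Mathlib.RingTheory.Spectrum.Maximal.Basic
import Mathlib.SetTheory.Cardinal.Finite

set_option autoImplicit false
set_option linter.unusedSectionVars false
set_option linter.style.haveILetI false

/-! # Integral closure of a reduced ring with finitely many minimal primes in its total ring of
fractions: maximal ideals -/

namespace Groth.Agent.Helper19.BrnchProd

open Groth.Agent.Helper19.BrnchLib

variable {B : Type*} [CommRing B] [IsReduced B]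
  {ι : Type*} [Fintype ι]
  {D : ι → Type*} [∀ i, CommRing (D i)] [∀ i, IsDomain (D i)]
  (g : ∀ i, B →+* D i)

/-- the family `g` presents the quotients of `B` by its minimal primes -/
structure Cond : Prop where
  surj : ∀ i, Function.Surjective (g i)
  mem : ∀ i, RingHom.ker (g i) ∈ minimalPrimes B
  inj : Function.Injective (fun i => RingHom.ker (g i))
  all : ∀ q ∈ minimalPrimes B, ∃ i, RingHom.ker (g i) = q

variable {g}

theorem Cond.finite (h : Cond g) : (minimalPrimes B).Finite := by
  have : minimalPrimes B ⊆ Set.range (fun i => RingHom.ker (g i)) := by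
    intro q hq
    obtain ⟨i, hi⟩ := h.all q hq
    exact ⟨i, hi⟩
  exact (Set.finite_range _).subset this

/-- separating elements -/
noncomputable def aa (h : Cond g) (i : ι) : B := sep h.finite (RingHom.ker (g i))

theorem g_aa_self (h : Cond g) (i : ι) : g i (aa h i) ≠ 0 := by
  intro h0
  exact sep_notMem h.finite (h.mem i) ((RingHom.mem_ker).mpr h0)

theorem g_aa_ne (h : Cond g) {i j : ι} (hne : j ≠ i) : g j (aa h i) = 0 := by
  have hne' : RingHom.ker (g j) ≠ RingHom.ker (g i) := fun he => hne (h.inj he)
  exact (RingHom.mem_ker).mp (sep_mem h.finite (h.mem i) (h.mem j) hne')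

theorem eq_zero_of_forall_g (h : Cond g) {x : B} (hx : ∀ i, g i x = 0) : x = 0 := by
  apply eq_zero_of_forall_mem_minimalPrimes
  intro q hq
  obtain ⟨i, rfl⟩ := h.all q hq
  exact (RingHom.mem_ker).mpr (hx i)

theorem aa_mul_aa (h : Cond g) {i j : ι} (hne : i ≠ j) : aa h i * aa h j = 0 := by
  apply eq_zero_of_forall_g h
  intro k
  rw [map_mul]
  by_cases hk : k = i
  · subst hk
    rw [g_aa_ne h hne, mul_zero]
  · rw [g_aa_ne h hk, zero_mul]

/-- the sum of the separating elements -/
noncomputable def ss (h : Cond g) : B := ∑ i, aa h i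

theorem g_ss (h : Cond g) (j : ι) : g j (ss h) = g j (aa h j) := by
  classical
  rw [ss, map_sum, Finset.sum_eq_single j]
  · intro i _ hi
    exact g_aa_ne h hi.symm
  · intro hj
    exact absurd (Finset.mem_univ _) hj

theorem ss_mem_nonZeroDivisors (h : Cond g) : ss h ∈ nonZeroDivisors B := by
  apply mem_nonZeroDivisors_of_forall_notMem
  intro q hq hmem
  obtain ⟨i, rfl⟩ := h.all q hq
  rw [RingHom.mem_ker, g_ss] at hmem
  exact g_aa_self h i hmem

theorem aa_mul_ss (h : Cond g) (i : ι) : aa h i * ss h = aa h i * aa h i := by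
  classical
  rw [ss, Finset.mul_sum, Finset.sum_eq_single i]
  · intro j _ hj
    exact aa_mul_aa h hj.symm
  · intro hi
    exact absurd (Finset.mem_univ _) hi

/-- non-zero-divisors of `B` stay non-zero in each quotient -/
theorem g_ne_zero_of_mem_nonZeroDivisors (h : Cond g) (i : ι) {t : B} (ht : t ∈ nonZeroDivisors B) :
    g i t ≠ 0 := by
  intro h0
  have hdis := Ideal.disjoint_nonZeroDivisors_of_mem_minimalPrimes (h.mem i)
  exact Set.disjoint_left.mp hdis ((RingHom.mem_ker).mpr h0) ht

section frac

variable (h : Cond g)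

/-- the idempotents of the total ring of fractions -/
noncomputable def ee (i : ι) : FractionRing B :=
  IsLocalization.mk' (FractionRing B) (aa h i)
    (⟨ss h, ss_mem_nonZeroDivisors h⟩ : nonZeroDivisors B)

theorem ee_mul_algebraMap (i : ι) :
    ee h i * algebraMap B (FractionRing B) (ss h) = algebraMap B (FractionRing B) (aa h i) :=
  IsLocalization.mk'_spec (FractionRing B) (aa h i)
    (⟨ss h, ss_mem_nonZeroDivisors h⟩ : nonZeroDivisors B)

theorem isUnit_algebraMap_ss : IsUnit (algebraMap B (FractionRing B) (ss h)) :=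
  IsLocalization.map_units (FractionRing B)
    (⟨ss h, ss_mem_nonZeroDivisors h⟩ : nonZeroDivisors B)

theorem ee_mul_self (i : ι) : ee h i * ee h i = ee h i := by
  apply (isUnit_algebraMap_ss h).mul_left_injective
  apply (isUnit_algebraMap_ss h).mul_left_injective
  change ee h i * ee h i * _ * _ = ee h i * _ * _
  have e1 := ee_mul_algebraMap h i
  calc ee h i * ee h i * algebraMap B (FractionRing B) (ss h) * algebraMap B (FractionRing B) (ss h)
      = (ee h i * algebraMap B (FractionRing B) (ss h)) *
          (ee h i * algebraMap B (FractionRing B) (ss h)) := by ring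
    _ = algebraMap B (FractionRing B) (aa h i * aa h i) := by rw [e1, map_mul]
    _ = algebraMap B (FractionRing B) (aa h i * ss h) := by rw [aa_mul_ss]
    _ = ee h i * algebraMap B (FractionRing B) (ss h) * algebraMap B (FractionRing B) (ss h) := by
        rw [map_mul, e1]

theorem ee_mul_ne {i j : ι} (hne : i ≠ j) : ee h i * ee h j = 0 := by
  apply (isUnit_algebraMap_ss h).mul_left_injective
  apply (isUnit_algebraMap_ss h).mul_left_injective
  change ee h i * ee h j * _ * _ = 0 * _ * _
  calc ee h i * ee h j * algebraMap B (FractionRing B) (ss h) * algebraMap B (FractionRing B) (ss h)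
      = (ee h i * algebraMap B (FractionRing B) (ss h)) *
          (ee h j * algebraMap B (FractionRing B) (ss h)) := by ring
    _ = algebraMap B (FractionRing B) (aa h i * aa h j) := by
        rw [ee_mul_algebraMap, ee_mul_algebraMap, map_mul]
    _ = 0 := by rw [aa_mul_aa h hne, map_zero]
    _ = 0 * algebraMap B (FractionRing B) (ss h) * algebraMap B (FractionRing B) (ss h) := by ring

theorem sum_ee : ∑ i, ee h i = 1 := by
  apply (isUnit_algebraMap_ss h).mul_left_injective
  change (∑ i, ee h i) * _ = 1 * _
  rw [Finset.sum_mul, one_mul]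
  simp only [ee_mul_algebraMap]
  rw [← map_sum]
  rfl

theorem ee_isIntegral (i : ι) : IsIntegral B (ee h i) := by
  refine ⟨Polynomial.X ^ 2 - Polynomial.X, ?_, ?_⟩
  · nontriviality B
    exact Polynomial.monic_X_pow_sub (by
      rw [Polynomial.degree_X]; exact_mod_cast (by norm_num : (1 : ℕ) < 2))
  · simp only [Polynomial.eval₂_sub, Polynomial.eval₂_pow, Polynomial.eval₂_X]
    rw [pow_two, ee_mul_self h i, sub_self]

/-- the projection of the total ring of fractions to the fraction field of a component -/
noncomputable def proj (i : ι) : FractionRing B →+* FractionRing (D i) :=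
  IsLocalization.lift (M := nonZeroDivisors B) (g := (algebraMap (D i) (FractionRing (D i))).comp (g i))
    (fun y => by
      apply IsUnit.mk0
      rw [RingHom.comp_apply]
      intro h0
      have := (IsFractionRing.injective (D i) (FractionRing (D i)))
        (h0.trans (map_zero _).symm)
      exact g_ne_zero_of_mem_nonZeroDivisors h i y.2 this)

theorem proj_algebraMap (i : ι) (b : B) :
    proj h i (algebraMap B (FractionRing B) b) = algebraMap (D i) (FractionRing (D i)) (g i b) :=
  IsLocalization.lift_eq _ b

theorem proj_ee_self (i : ι) : proj h i (ee h i) = 1 := by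
  have e1 := congrArg (proj h i) (ee_mul_algebraMap h i)
  rw [map_mul, proj_algebraMap, proj_algebraMap, g_ss] at e1
  have hne : algebraMap (D i) (FractionRing (D i)) (g i (aa h i)) ≠ 0 := by
    intro h0
    exact g_aa_self h i ((IsFractionRing.injective (D i) (FractionRing (D i)))
      (h0.trans (map_zero _).symm))
  exact mul_right_cancel₀ hne (e1.trans (one_mul _).symm)

theorem proj_ee_ne {i j : ι} (hne : j ≠ i) : proj h j (ee h i) = 0 := by
  have e1 := congrArg (proj h j) (ee_mul_algebraMap h i)
  rw [map_mul, proj_algebraMap, proj_algebraMap, g_aa_ne h hne, map_zero] at e1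
  have hne0 : algebraMap (D j) (FractionRing (D j)) (g j (ss h)) ≠ 0 := by
    intro h0
    exact g_ne_zero_of_mem_nonZeroDivisors h j (ss_mem_nonZeroDivisors h)
      ((IsFractionRing.injective (D j) (FractionRing (D j))) (h0.trans (map_zero _).symm))
  exact (mul_eq_zero.mp e1).resolve_right hne0

theorem mul_ee_eq_zero_of_proj_eq_zero (i : ι) {x : FractionRing B} (hx : proj h i x = 0) :
    x * ee h i = 0 := by
  obtain ⟨b, t, rfl⟩ := IsLocalization.exists_mk'_eq (nonZeroDivisors B) x
  have e1 := congrArg (proj h i) (IsLocalization.mk'_spec (FractionRing B) b t)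
  rw [map_mul, hx, zero_mul, proj_algebraMap] at e1
  have hb : g i b = 0 :=
    (IsFractionRing.injective (D i) (FractionRing (D i))) (e1.symm.trans (map_zero _).symm)
  have hba : b * aa h i = 0 := by
    apply eq_zero_of_forall_g h
    intro k
    rw [map_mul]
    by_cases hk : k = i
    · subst hk
      rw [hb, zero_mul]
    · rw [g_aa_ne h hk, mul_zero]
  have ht : IsUnit (algebraMap B (FractionRing B) t) := IsLocalization.map_units _ t
  apply ht.mul_left_injective
  apply (isUnit_algebraMap_ss h).mul_left_injective
  change IsLocalization.mk' (FractionRing B) b t * ee h i * _ * _ = 0 * _ * _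
  calc IsLocalization.mk' (FractionRing B) b t * ee h i * algebraMap B (FractionRing B) t *
        algebraMap B (FractionRing B) (ss h)
      = (IsLocalization.mk' (FractionRing B) b t * algebraMap B (FractionRing B) t) *
          (ee h i * algebraMap B (FractionRing B) (ss h)) := by ring
    _ = algebraMap B (FractionRing B) (b * aa h i) := by
        rw [IsLocalization.mk'_spec, ee_mul_algebraMap, map_mul]
    _ = 0 := by rw [hba, map_zero]
    _ = 0 * algebraMap B (FractionRing B) t * algebraMap B (FractionRing B) (ss h) := by ring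

end frac

section integral

variable (h : Cond g)

theorem proj_isIntegral (i : ι) {x : FractionRing B} (hx : IsIntegral B x) :
    IsIntegral (D i) (proj h i x) := by
  obtain ⟨p, hp, hpx⟩ := hx
  refine ⟨p.map (g i), hp.map _, ?_⟩
  rw [Polynomial.eval₂_map]
  have hcomp : (algebraMap (D i) (FractionRing (D i))).comp (g i) =
      (proj h i).comp (algebraMap B (FractionRing B)) := by
    ext b
    exact (proj_algebraMap h i b).symm
  rw [hcomp, ← Polynomial.hom_eval₂, hpx, map_zero]

theorem proj_surjective (i : ι) : Function.Surjective (proj h i) := by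
  intro z
  obtain ⟨b', t', rfl⟩ := IsLocalization.exists_mk'_eq (nonZeroDivisors (D i)) z
  obtain ⟨b, rfl⟩ := h.surj i b'
  obtain ⟨t, ht⟩ := h.surj i t'.1
  -- the denominator `t * a_i + (s - a_i)` is a non-zero-divisor
  have ht0 : g i t ≠ 0 := by
    rw [ht]
    exact nonZeroDivisors.ne_zero t'.2
  obtain ⟨d, hd⟩ : ∃ d : B, d = t * aa h i + (ss h - aa h i) := ⟨_, rfl⟩
  have hgdi : g i d = g i t * g i (aa h i) := by
    rw [hd, map_add, map_mul, map_sub, g_ss, sub_self, add_zero]
  have hgdj : ∀ j, j ≠ i → g j d = g j (aa h j) := by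
    intro j hj
    rw [hd, map_add, map_mul, map_sub, g_ss, g_aa_ne h hj, mul_zero, zero_add, sub_zero]
  have hdn : d ∈ nonZeroDivisors B := by
    apply mem_nonZeroDivisors_of_forall_notMem
    intro q hq hmem
    obtain ⟨j, rfl⟩ := h.all q hq
    rw [RingHom.mem_ker] at hmem
    by_cases hj : j = i
    · subst hj
      rw [hgdi] at hmem
      exact (mul_ne_zero ht0 (g_aa_self h j)) hmem
    · rw [hgdj j hj] at hmem
      exact g_aa_self h j hmem
  refine ⟨IsLocalization.mk' (FractionRing B) (b * aa h i) (⟨d, hdn⟩ : nonZeroDivisors B), ?_⟩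
  have e1 := congrArg (proj h i)
    (IsLocalization.mk'_spec (FractionRing B) (b * aa h i) (⟨d, hdn⟩ : nonZeroDivisors B))
  rw [map_mul, proj_algebraMap, proj_algebraMap] at e1
  change _ * algebraMap (D i) (FractionRing (D i)) (g i d) = _ at e1
  rw [hgdi] at e1
  -- compare with `b'/t'`
  have hu : algebraMap (D i) (FractionRing (D i)) (g i t * g i (aa h i)) ≠ 0 := by
    intro h0
    exact (mul_ne_zero ht0 (g_aa_self h i))
      ((IsFractionRing.injective (D i) (FractionRing (D i))) (h0.trans (map_zero _).symm))
  apply mul_right_cancel₀ hu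
  rw [e1]
  have e2 := IsLocalization.mk'_spec (FractionRing (D i)) (g i b) t'
  rw [map_mul, map_mul, map_mul, ht, ← mul_assoc, e2]

theorem mul_pow_idem {R : Type*} [CommRing R] {e : R} (he : e * e = e) (x : R) (k : ℕ) :
    e * (x * e) ^ k = e * x ^ k := by
  induction k with
  | zero => simp
  | succ k ih =>
    calc e * (x * e) ^ (k + 1) = (e * (x * e) ^ k) * (x * e) := by ring
      _ = (e * x ^ k) * (x * e) := by rw [ih]
      _ = (e * e) * x ^ (k + 1) := by ring
      _ = e * x ^ (k + 1) := by rw [he]

theorem idem_mul_eval₂ {R S : Type*} [CommRing R] [CommRing S] (f : R →+* S) {e : S}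
    (he : e * e = e) (x : S) (F : Polynomial R) :
    e * Polynomial.eval₂ f (x * e) F = e * Polynomial.eval₂ f x F := by
  rw [Polynomial.eval₂_eq_sum_range, Polynomial.eval₂_eq_sum_range, Finset.mul_sum, Finset.mul_sum]
  refine Finset.sum_congr rfl fun k _ => ?_
  calc e * (f (F.coeff k) * (x * e) ^ k) = f (F.coeff k) * (e * (x * e) ^ k) := by ring
    _ = f (F.coeff k) * (e * x ^ k) := by rw [mul_pow_idem he]
    _ = e * (f (F.coeff k) * x ^ k) := by ring

/-- an element of the `i`-th factor whose projection is integral is integral -/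
theorem isIntegral_mul_ee (i : ι) {x : FractionRing B} (hx : IsIntegral (D i) (proj h i x)) :
    IsIntegral B (x * ee h i) := by
  obtain ⟨p, hp, hpx⟩ := hx
  obtain ⟨F, hFmap, -, hFmonic⟩ := Polynomial.lifts_and_natDegree_eq_and_monic
    ((Polynomial.mem_lifts p).mpr (Polynomial.map_surjective (g i) (h.surj i) p)) hp
  have hcomp : (algebraMap (D i) (FractionRing (D i))).comp (g i) =
      (proj h i).comp (algebraMap B (FractionRing B)) := by
    ext b
    exact (proj_algebraMap h i b).symm
  have h0 : proj h i (Polynomial.eval₂ (algebraMap B (FractionRing B)) x F) = 0 := by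
    rw [Polynomial.hom_eval₂, ← hcomp, ← Polynomial.eval₂_map, hFmap, hpx]
  have h1 := mul_ee_eq_zero_of_proj_eq_zero h i h0
  refine ⟨Polynomial.X * F, Polynomial.monic_X.mul hFmonic, ?_⟩
  rw [Polynomial.eval₂_mul, Polynomial.eval₂_X]
  calc x * ee h i * Polynomial.eval₂ (algebraMap B (FractionRing B)) (x * ee h i) F
      = x * (ee h i * Polynomial.eval₂ (algebraMap B (FractionRing B)) (x * ee h i) F) := by ring
    _ = x * (ee h i * Polynomial.eval₂ (algebraMap B (FractionRing B)) x F) := by
        rw [idem_mul_eval₂ _ (ee_mul_self h i)]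
    _ = x * (Polynomial.eval₂ (algebraMap B (FractionRing B)) x F * ee h i) := by ring
    _ = 0 := by rw [h1, mul_zero]

end integral

section card

theorem enat_card_sigma {ι : Type*} [Fintype ι] (α : ι → Type*) :
    ENat.card (Σ i, α i) = ∑ i, ENat.card (α i) := by
  classical
  by_cases hfin : ∀ i, Finite (α i)
  · haveI := hfin
    rw [ENat.card_eq_coe_natCard, Nat.card_sigma, Nat.cast_sum]
    refine Finset.sum_congr rfl fun i _ => ?_
    rw [ENat.card_eq_coe_natCard]
  · push Not at hfin
    obtain ⟨i, hi⟩ := hfin
    haveI := hi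
    haveI : Infinite (Σ i, α i) := Infinite.of_injective (fun a : α i => (⟨i, a⟩ : Σ i, α i))
      (fun a b hab => by simpa using hab)
    rw [ENat.card_eq_top_of_infinite]
    symm
    rw [← top_le_iff]
    calc (⊤ : ℕ∞) = ENat.card (α i) := (ENat.card_eq_top_of_infinite).symm
      _ ≤ ∑ i, ENat.card (α i) :=
        Finset.single_le_sum (f := fun i => ENat.card (α i)) (fun _ _ => zero_le)
          (Finset.mem_univ i)

end card

section maxspec

variable (h : Cond g)

/-- the restriction of the projection to the integral closures -/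
noncomputable def rho (i : ι) :
    integralClosure B (FractionRing B) →+* integralClosure (D i) (FractionRing (D i)) :=
  ((proj h i).comp (algebraMap (integralClosure B (FractionRing B)) (FractionRing B))).codRestrict
    (integralClosure (D i) (FractionRing (D i))) (fun x => proj_isIntegral h i x.2)

theorem rho_coe (i : ι) (x : integralClosure B (FractionRing B)) :
    ((rho h i x : integralClosure (D i) (FractionRing (D i))) : FractionRing (D i)) =
      proj h i (x : FractionRing B) := rfl

/-- the idempotents, as elements of the integral closure -/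
noncomputable def eC (i : ι) : integralClosure B (FractionRing B) := ⟨ee h i, ee_isIntegral h i⟩

theorem rho_eC_self (i : ι) : rho h i (eC h i) = 1 :=
  Subtype.ext (proj_ee_self h i)

theorem rho_eC_ne {i j : ι} (hne : j ≠ i) : rho h j (eC h i) = 0 :=
  Subtype.ext (proj_ee_ne h hne)

theorem sum_eC : ∑ i, eC h i = 1 := by
  apply Subtype.ext
  rw [AddSubmonoidClass.coe_finsetSum]
  exact sum_ee h

theorem eC_mul_ne {i j : ι} (hne : i ≠ j) : eC h i * eC h j = 0 :=
  Subtype.ext (ee_mul_ne h hne)

theorem mul_eC_eq_zero_of_rho_eq_zero (i : ι) {x : integralClosure B (FractionRing B)}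
    (hx : rho h i x = 0) : x * eC h i = 0 := by
  apply Subtype.ext
  have : proj h i (x : FractionRing B) = 0 := by
    rw [← rho_coe, hx]
    rfl
  exact mul_ee_eq_zero_of_proj_eq_zero h i this

theorem rho_surjective (i : ι) : Function.Surjective (rho h i) := by
  intro z
  obtain ⟨x₀, hx₀⟩ := proj_surjective h i (z : FractionRing (D i))
  have hint : IsIntegral (D i) (proj h i x₀) := hx₀ ▸ z.2
  refine ⟨⟨x₀ * ee h i, isIntegral_mul_ee h i hint⟩, Subtype.ext ?_⟩
  rw [rho_coe]
  change proj h i (x₀ * ee h i) = _
  rw [map_mul, proj_ee_self, mul_one, hx₀]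

/-- the map on maximal spectra -/
noncomputable def Phi :
    (Σ i, MaximalSpectrum (integralClosure (D i) (FractionRing (D i)))) →
      MaximalSpectrum (integralClosure B (FractionRing B)) :=
  fun p => ⟨p.2.asIdeal.comap (rho h p.1),
    haveI := p.2.isMaximal
    Ideal.comap_isMaximal_of_surjective (rho h p.1) (rho_surjective h p.1)⟩

theorem Phi_asIdeal (i : ι) (m : MaximalSpectrum (integralClosure (D i) (FractionRing (D i)))) :
    (Phi h ⟨i, m⟩).asIdeal = m.asIdeal.comap (rho h i) := rfl

theorem Phi_injective : Function.Injective (Phi h) := by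
  rintro ⟨i, m⟩ ⟨j, m'⟩ heq
  have heq' : m.asIdeal.comap (rho h i) = m'.asIdeal.comap (rho h j) :=
    congrArg MaximalSpectrum.asIdeal heq
  by_cases hij : i = j
  · subst hij
    have := Ideal.comap_injective_of_surjective (rho h i) (rho_surjective h i) heq'
    rw [MaximalSpectrum.ext_iff.mpr this]
  · exfalso
    have h1 : eC h i ∈ m'.asIdeal.comap (rho h j) := by
      rw [Ideal.mem_comap, rho_eC_ne h (fun hji => hij hji.symm)]
      exact Ideal.zero_mem _
    rw [← heq', Ideal.mem_comap, rho_eC_self] at h1
    exact m.isMaximal.ne_top ((Ideal.eq_top_iff_one _).mpr h1)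

theorem Phi_surjective : Function.Surjective (Phi h) := by
  intro M
  have hMp : M.asIdeal.IsPrime := M.isMaximal.isPrime
  -- some idempotent is outside `M`
  obtain ⟨i, hi⟩ : ∃ i, eC h i ∉ M.asIdeal := by
    by_contra hcon
    push Not at hcon
    have : (1 : integralClosure B (FractionRing B)) ∈ M.asIdeal := by
      rw [← sum_eC h]
      exact M.asIdeal.sum_mem fun i _ => hcon i
    exact M.isMaximal.ne_top ((Ideal.eq_top_iff_one _).mpr this)
  have hker : RingHom.ker (rho h i) ≤ M.asIdeal := by
    intro x hx
    have h0 := mul_eC_eq_zero_of_rho_eq_zero h i ((RingHom.mem_ker).mp hx)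
    have : x * eC h i ∈ M.asIdeal := h0 ▸ M.asIdeal.zero_mem
    exact (hMp.mem_or_mem this).resolve_right hi
  have hcomap : (M.asIdeal.map (rho h i)).comap (rho h i) = M.asIdeal := by
    rw [Ideal.comap_map_of_surjective _ (rho_surjective h i), ← RingHom.ker_eq_comap_bot]
    exact sup_eq_left.mpr hker
  have hmax : (M.asIdeal.map (rho h i)).IsMaximal := by
    rcases Ideal.map_eq_top_or_isMaximal_of_surjective (rho h i) (rho_surjective h i) M.isMaximal
      with htop | hmax
    · exfalso
      rw [htop, Ideal.comap_top] at hcomap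
      exact M.isMaximal.ne_top hcomap.symm
    · exact hmax
  exact ⟨⟨i, ⟨M.asIdeal.map (rho h i), hmax⟩⟩, MaximalSpectrum.ext_iff.mpr hcomap⟩

include h in
theorem card_maximalSpectrum :
    ENat.card (MaximalSpectrum (integralClosure B (FractionRing B))) =
      ∑ i, ENat.card (MaximalSpectrum (integralClosure (D i) (FractionRing (D i)))) := by
  rw [← enat_card_sigma]
  exact (ENat.card_congr (Equiv.ofBijective (Phi h) ⟨Phi_injective h, Phi_surjective h⟩)).symm

end maxspec

end Groth.Agent.Helper19.BrnchProd
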