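import Groth.Agent.Helper19.QuasiReg
import Groth.Prelude.Def_RegImm
import Mathlib.AlgebraicGeometry.Noetherian
import Mathlib.AlgebraicGeometry.IdealSheaf.Basic

/-! Spreading out regularity of a quasi-regular ideal on a locally Noetherian scheme (helper19). -/

set_option autoImplicit false
universe u

namespace Groth.Agent.Helper19.QuasiRegScheme

open CategoryTheory AlgebraicGeometry Groth.Agent.Helper19.QuasiReg Groth.Agent.S5802

theorem range_get {R : Type*} (rs : List R) : Set.range rs.get = {r | r ∈ rs} := by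
  ext r
  simp [List.mem_iff_get]

theorem mem_primeIdealOf_iff {X : Scheme.{u}} {U : X.Opens} (hU : IsAffineOpen U) (x : X)
    (hx : x ∈ U) (a : Γ(X, U)) :
    a ∈ (hU.primeIdealOf ⟨x, hx⟩).asIdeal ↔ x ∉ X.basicOpen a := by
  have h1 : hU.fromSpec (hU.primeIdealOf ⟨x, hx⟩) = x := hU.fromSpec_primeIdealOf ⟨x, hx⟩
  have h2 : (hU.primeIdealOf ⟨x, hx⟩) ∈ hU.fromSpec ⁻¹ᵁ X.basicOpen a ↔
      (hU.primeIdealOf ⟨x, hx⟩) ∈ PrimeSpectrum.basicOpen a := by
    rw [hU.fromSpec_preimage_basicOpen]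
    exact Iff.rfl
  have h3 : (hU.primeIdealOf ⟨x, hx⟩) ∈ hU.fromSpec ⁻¹ᵁ X.basicOpen a ↔ x ∈ X.basicOpen a := by
    change hU.fromSpec (hU.primeIdealOf ⟨x, hx⟩) ∈ X.basicOpen a ↔ _
    rw [h1]
  rw [← h3, h2, PrimeSpectrum.mem_basicOpen, not_not]

theorem core {X : Scheme.{u}} [IsLocallyNoetherian X] (I : X.IdealSheafData) (x : X)
    (hx : x ∈ I.support) (U : X.affineOpens) (hxU : x ∈ U.1) (rs : List Γ(X, U.1))
    (hq : CAlgX.IsQuasiRegular rs.get) (hI : I.ideal U = Ideal.ofList rs) :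
    ∃ g : Γ(X, U.1), x ∈ X.basicOpen g ∧ ∃ rs' : List Γ(X, (X.affineBasicOpen g).1),
      RingTheory.Sequence.IsRegular Γ(X, (X.affineBasicOpen g).1) rs' ∧
        I.ideal (X.affineBasicOpen g) = Ideal.ofList rs' := by
  have hnoeth : IsNoetherianRing Γ(X, U.1) := IsLocallyNoetherian.component_noetherian U
  have hprime : (U.2.primeIdealOf ⟨x, hxU⟩).asIdeal.IsPrime := (U.2.primeIdealOf ⟨x, hxU⟩).isPrime
  have hspan : Ideal.span (Set.range rs.get) = I.ideal U := by
    rw [hI, range_get]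
  have hzero : ∀ a ∈ I.ideal U, x ∉ X.basicOpen a := by
    have := (Scheme.IdealSheafData.mem_support_iff_of_mem (I := I) (U := U) hxU).mp hx
    rw [Scheme.mem_zeroLocus_iff] at this
    exact this
  have hp : Ideal.span (Set.range rs.get) ≤ (U.2.primeIdealOf ⟨x, hxU⟩).asIdeal := by
    rw [hspan]
    intro a ha
    exact (mem_primeIdealOf_iff U.2 x hxU a).mpr (hzero a ha)
  obtain ⟨g, hg, hB⟩ := exists_away_isWeaklyRegular rs.get hq _ hp
  have hxg : x ∈ X.basicOpen g := by
    by_contra h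
    exact hg ((mem_primeIdealOf_iff U.2 x hxU g).mpr h)
  have hloc : IsLocalization.Away g Γ(X, X.basicOpen g) := U.2.isLocalization_basicOpen g
  have hwr := hB Γ(X, X.basicOpen g)
  have hideal : I.ideal (X.affineBasicOpen g) =
      Ideal.ofList (rs.map (algebraMap Γ(X, U.1) Γ(X, X.basicOpen g))) := by
    rw [← I.map_ideal_basicOpen U g, hI, Ideal.map_ofList]
    rfl
  refine ⟨g, hxg, rs.map (algebraMap Γ(X, U.1) Γ(X, X.basicOpen g)), ?_, hideal⟩
  · have hlist : (List.ofFn fun i => algebraMap Γ(X, U.1) Γ(X, X.basicOpen g) (rs.get i)) =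
        rs.map (algebraMap Γ(X, U.1) Γ(X, X.basicOpen g)) := by
      conv_rhs => rw [← List.ofFn_get rs, List.map_ofFn]
      rfl
    rw [hlist] at hwr
    change RingTheory.Sequence.IsRegular Γ(X, X.basicOpen g)
      (rs.map (algebraMap Γ(X, U.1) Γ(X, X.basicOpen g)))
    refine ⟨hwr, ?_⟩
    intro htop
    have h1 : Ideal.ofList (rs.map (algebraMap Γ(X, U.1) Γ(X, X.basicOpen g))) = ⊤ := by
      have h2 := htop.symm
      rwa [smul_eq_mul, Ideal.mul_top] at h2
    have hz := (Scheme.IdealSheafData.mem_support_iff_of_mem (I := I)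
      (U := X.affineBasicOpen g) hxg).mp hx
    rw [Scheme.mem_zeroLocus_iff] at hz
    have htop' : I.ideal (X.affineBasicOpen g) = ⊤ := hideal.trans h1
    have h3 := hz 1 (by
      rw [SetLike.mem_coe, htop']
      trivial)
    apply h3
    rw [X.basicOpen_of_isUnit isUnit_one]
    exact hxg

end Groth.Agent.Helper19.QuasiRegScheme
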