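import Groth.Agent.S5803
import Mathlib.Tactic
import Mathlib.RingTheory.Localization.Ideal
import Mathlib.RingTheory.Localization.Integer
import Mathlib.RingTheory.Localization.AtPrime.Basic
import Mathlib.RingTheory.Localization.Away.Basic

/-! Quasi-regular sequences: localisation, and spreading out regularity (helper19). -/

set_option autoImplicit false
universe u

namespace Groth.Agent.Helper19.QuasiReg

open MvPolynomial Groth.Agent.S5802 RingTheory.Sequence

/-- the colon condition characterising weakly regular sequences in a ring -/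
def Colon {B : Type*} [CommRing B] {c : ℕ} (f : Fin c → B) : Prop :=
  ∀ i : Fin c, ∀ y, f i * y ∈ Ideal.span (f '' {j | j < i}) → y ∈ Ideal.span (f '' {j | j < i})

theorem isSMulRegular_quot_iff {B : Type*} [CommRing B] (I : Ideal B) (a : B) :
    IsSMulRegular (B ⧸ (I • (⊤ : Submodule B B))) a ↔ ∀ y, a * y ∈ I → y ∈ I := by
  have hq : ∀ z : B, z ∈ (I • (⊤ : Submodule B B)) ↔ z ∈ I := by
    intro z
    rw [smul_eq_mul, Ideal.mul_top]
  constructor
  · intro h y hy
    have h1 : a • (Submodule.Quotient.mk y : B ⧸ (I • (⊤ : Submodule B B))) = a • 0 := by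
      rw [smul_zero, ← Submodule.Quotient.mk_smul, Submodule.Quotient.mk_eq_zero, hq]
      exact hy
    have h2 := h h1
    rwa [Submodule.Quotient.mk_eq_zero, hq] at h2
  · intro h x y hxy
    obtain ⟨x, rfl⟩ := Submodule.Quotient.mk_surjective _ x
    obtain ⟨y, rfl⟩ := Submodule.Quotient.mk_surjective _ y
    have h1 : (Submodule.Quotient.mk (a • x) : B ⧸ (I • (⊤ : Submodule B B))) =
        Submodule.Quotient.mk (a • y) := hxy
    rw [Submodule.Quotient.eq, hq, ← smul_sub, smul_eq_mul] at h1
    rw [Submodule.Quotient.eq, hq]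
    exact h _ h1

theorem ofList_ofFn {R : Type*} [CommRing R] {n : ℕ} (x : Fin n → R) :
    Ideal.ofList (List.ofFn x) = Ideal.span (Set.range x) := by
  unfold Ideal.ofList
  congr 1
  ext r
  simp [List.mem_ofFn]

theorem wr_iff_colon {B : Type*} [CommRing B] : ∀ {c : ℕ} (f : Fin c → B),
    IsWeaklyRegular B (List.ofFn f) ↔ Colon f := by
  intro c
  induction c with
  | zero =>
    intro f
    constructor
    · intro _ i
      exact i.elim0
    · intro _
      rw [List.ofFn_zero]
      exact IsWeaklyRegular.nil B B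
  | succ c ih =>
    intro f
    rw [List.ofFn_succ', List.concat_eq_append, isWeaklyRegular_append_iff,
      isWeaklyRegular_singleton_iff, ih, ofList_ofFn, isSMulRegular_quot_iff]
    have himg : ∀ i : Fin c, f '' {j | j < Fin.castSucc i} =
        (fun k => f (Fin.castSucc k)) '' {j | j < i} := by
      intro i
      ext z
      constructor
      · rintro ⟨j, hj, rfl⟩
        have hj' : (j : ℕ) < c := lt_of_lt_of_le (Fin.lt_def.mp hj) (by simp [Nat.le_of_lt_succ])
        refine ⟨⟨j, hj'⟩, ?_, ?_⟩
        · exact Fin.lt_def.mpr (Fin.lt_def.mp hj)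
        · rfl
      · rintro ⟨k, hk, rfl⟩
        exact ⟨Fin.castSucc k, Fin.castSucc_lt_castSucc_iff.mpr hk, rfl⟩
    have hlast : f '' {j | j < Fin.last c} = Set.range fun k => f (Fin.castSucc k) := by
      ext z
      constructor
      · rintro ⟨j, hj, rfl⟩
        exact ⟨⟨j, Fin.lt_def.mp hj⟩, rfl⟩
      · rintro ⟨k, rfl⟩
        exact ⟨Fin.castSucc k, Fin.castSucc_lt_last k, rfl⟩
    unfold Colon
    rw [Fin.forall_fin_succ' (P := fun i => ∀ y, f i * y ∈ Ideal.span (f '' {j | j < i}) →
      y ∈ Ideal.span (f '' {j | j < i}))]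
    simp only [himg, hlast]

section localization

variable {A : Type u} [CommRing A] {c : ℕ} (f : Fin c → A)

theorem span_range_map {B : Type*} [CommRing B] (ψ : A →+* B) :
    Ideal.span (Set.range fun i => ψ (f i)) = (Ideal.span (Set.range f)).map ψ := by
  rw [Ideal.map_span, ← Set.range_comp]
  rfl

/-- quasi-regularity passes to localisations -/
theorem qr_localization (hq : QR f) (S : Submonoid A) (B : Type u) [CommRing B] [Algebra A B]
    [IsLocalization S B] : QR (fun i => algebraMap A B (f i)) := by
  classical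
  intro n P hP hx d
  rw [span_range_map f (algebraMap A B)] at hx ⊢
  rw [← Ideal.map_pow] at hx
  obtain ⟨b, hb⟩ := IsLocalization.exist_integer_multiples S P.support (fun e => coeff e P)
  have hchoose : ∀ e, ∃ a : A, e ∈ P.support → algebraMap A B a = (b : A) • coeff e P := by
    intro e
    by_cases he : e ∈ P.support
    · obtain ⟨a, ha⟩ := hb e he
      exact ⟨a, fun _ => ha⟩
    · exact ⟨0, fun h => absurd h he⟩
  choose a ha using hchoose
  obtain ⟨P0, hP0def⟩ : ∃ P0 : MvPolynomial (Fin c) A, P0 = ∑ e ∈ P.support, monomial e (a e) :=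
    ⟨_, rfl⟩
  have hP0 : P0.IsHomogeneous n := by
    rw [hP0def]
    apply IsHomogeneous.sum
    intro e he
    exact isHomogeneous_monomial _ (degree_of_coeff_ne hP (MvPolynomial.mem_support_iff.mp he))
  have hcoeff : ∀ e, coeff e P0 = if e ∈ P.support then a e else 0 := by
    intro e
    rw [hP0def, coeff_sum]
    simp only [coeff_monomial]
    rw [Finset.sum_ite_eq' P.support e]
  have hmap : map (algebraMap A B) P0 = C (algebraMap A B b) * P := by
    ext e
    rw [coeff_map, hcoeff, coeff_C_mul]
    split_ifs with he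
    · rw [ha e he, Algebra.smul_def]
    · rw [map_zero, MvPolynomial.notMem_support_iff.mp he, mul_zero]
  have hev : algebraMap A B (eval f P0) =
      algebraMap A B b * eval (fun i => algebraMap A B (f i)) P := by
    have : algebraMap A B (eval f P0) = eval (fun i => algebraMap A B (f i))
        (map (algebraMap A B) P0) := by
      rw [eval_map, eval₂_comp]
      rfl
    rw [this, hmap, map_mul, eval_C]
  have h1 : algebraMap A B (eval f P0) ∈
      (Ideal.span (Set.range f) ^ (n + 1)).map (algebraMap A B) := by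
    rw [hev]
    exact Ideal.mul_mem_left _ _ hx
  obtain ⟨m, hm, hm'⟩ := (IsLocalization.algebraMap_mem_map_algebraMap_iff S B _ _).mp h1
  have h2 := hq n (C m * P0) (by simpa using (isHomogeneous_C (Fin c) m).mul hP0)
    (by rw [map_mul, eval_C]; exact hm')
  by_cases hd : d ∈ P.support
  · have h3 := h2 d
    rw [coeff_C_mul, hcoeff, if_pos hd] at h3
    have h4 := Ideal.mem_map_of_mem (algebraMap A B) h3
    rw [map_mul, ha d hd, Algebra.smul_def, ← mul_assoc] at h4
    have hu : IsUnit (algebraMap A B m * algebraMap A B b) :=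
      (IsLocalization.map_units B ⟨m, hm⟩).mul (IsLocalization.map_units B b)
    exact (Ideal.unit_mul_mem_iff_mem _ hu).mp h4
  · rw [MvPolynomial.notMem_support_iff.mp hd]
    exact Ideal.zero_mem _

/-- spreading out the colon condition from the localisation at a prime to a basic open -/
theorem colon_spread [IsNoetherianRing A] (p : Ideal A) [p.IsPrime]
    (h : Colon (fun i => algebraMap A (Localization.AtPrime p) (f i))) :
    ∃ g : A, g ∉ p ∧ ∀ (B : Type u) [CommRing B] [Algebra A B] [IsLocalization.Away g B],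
      Colon (fun i => algebraMap A B (f i)) := by
  classical
  -- the colon ideals
  let J : Fin c → Ideal A := fun i => Ideal.span (f '' {j | j < i})
  let N : Fin c → Ideal A := fun i => Submodule.comap (LinearMap.mul A A (f i)) (J i)
  have hN : ∀ i y, y ∈ N i ↔ f i * y ∈ J i := fun i y => Iff.rfl
  have himg : ∀ (B : Type u) [CommRing B] [Algebra A B] (i : Fin c),
      Ideal.span ((fun k => algebraMap A B (f k)) '' {j | j < i}) =
        (J i).map (algebraMap A B) := by
    intro B _ _ i
    rw [Ideal.map_span, Set.image_image]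
  -- local statement
  have hloc : ∀ i, ∀ n ∈ N i, ∃ t, t ∉ p ∧ t * n ∈ J i := by
    intro i n hn
    have h1 := h i (algebraMap A _ n)
    rw [himg] at h1
    have h2 : algebraMap A (Localization.AtPrime p) n ∈
        (J i).map (algebraMap A (Localization.AtPrime p)) := by
      apply h1
      rw [← map_mul]
      exact Ideal.mem_map_of_mem _ ((hN i n).mp hn)
    obtain ⟨t, ht, ht'⟩ :=
      (IsLocalization.algebraMap_mem_map_algebraMap_iff p.primeCompl _ _ _).mp h2
    exact ⟨t, ht, ht'⟩
  have hT : ∀ i n, ∃ t, t ∉ p ∧ (n ∈ N i → t * n ∈ J i) := by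
    intro i n
    by_cases hn : n ∈ N i
    · obtain ⟨t, ht, ht'⟩ := hloc i n hn
      exact ⟨t, ht, fun _ => ht'⟩
    · exact ⟨1, fun h1 => (Ideal.IsPrime.ne_top ‹_›) ((Ideal.eq_top_iff_one _).mpr h1),
        fun h => absurd h hn⟩
  choose T hTp hTJ using hT
  have hfg : ∀ i, ∃ s : Finset A, Ideal.span (s : Set A) = N i := fun i =>
    (N i).fg_of_isNoetherianRing
  choose s hs using hfg
  obtain ⟨g, hgdef⟩ : ∃ g : A, g = ∏ i, ∏ n ∈ s i, T i n := ⟨_, rfl⟩
  have hgp : g ∉ p := by
    rw [hgdef]
    intro hmem
    obtain ⟨i, _, hi⟩ := (Ideal.IsPrime.prod_mem_iff).mp hmem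
    obtain ⟨n, _, hn⟩ := (Ideal.IsPrime.prod_mem_iff).mp hi
    exact hTp i n hn
  have hgN : ∀ i, ∀ n ∈ N i, g * n ∈ J i := by
    intro i n hn
    rw [← hs i] at hn
    induction hn using Submodule.span_induction with
    | mem n hn =>
      have hnN : n ∈ N i := by rw [← hs i]; exact Ideal.subset_span hn
      have hdvd : T i n ∣ g := by
        rw [hgdef]
        exact (Finset.dvd_prod_of_mem _ hn).trans
          (Finset.dvd_prod_of_mem (fun i => ∏ n ∈ s i, T i n) (Finset.mem_univ i))
      obtain ⟨r, hr⟩ := hdvd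
      rw [hr, mul_comm (T i n) r, mul_assoc]
      exact Ideal.mul_mem_left _ _ (hTJ i n hnN)
    | zero => rw [mul_zero]; exact Ideal.zero_mem _
    | add x y _ _ hx hy => rw [mul_add]; exact Ideal.add_mem _ hx hy
    | smul a x _ hx =>
      rw [smul_eq_mul, mul_left_comm]
      exact Ideal.mul_mem_left _ _ hx
  refine ⟨g, hgp, ?_⟩
  intro B _ _ _ i y hy
  rw [himg B i] at hy ⊢
  obtain ⟨a, sden, rfl⟩ := IsLocalization.exists_mk'_eq (Submonoid.powers g) y
  have h1 : IsLocalization.mk' B (f i * a) sden ∈ (J i).map (algebraMap A B) := by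
    rw [IsLocalization.mk'_eq_mul_mk'_one (f i * a), map_mul, mul_assoc,
      ← IsLocalization.mk'_eq_mul_mk'_one]
    exact hy
  obtain ⟨m, hm, hm'⟩ :=
    (IsLocalization.mk'_mem_map_algebraMap_iff (Submonoid.powers g) B _ _ _).mp h1
  have h2 : m * a ∈ N i := by
    rw [hN]
    have : f i * (m * a) = m * (f i * a) := by ring
    rw [this]
    exact hm'
  have h3 := hgN i _ h2
  rw [IsLocalization.mk'_mem_map_algebraMap_iff (Submonoid.powers g)]
  refine ⟨g * m, Submonoid.mul_mem _ (Submonoid.mem_powers g) hm, ?_⟩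
  rw [mul_assoc]
  exact h3

/-- Main ring-level statement: over a Noetherian ring, a quasi-regular sequence contained in a
prime `p` becomes weakly regular on a basic open neighbourhood of `p`. -/
theorem exists_away_isWeaklyRegular [IsNoetherianRing A] (hq : QR f) (p : Ideal A) [p.IsPrime]
    (hp : Ideal.span (Set.range f) ≤ p) :
    ∃ g : A, g ∉ p ∧ ∀ (B : Type u) [CommRing B] [Algebra A B] [IsLocalization.Away g B],
      IsWeaklyRegular B (List.ofFn fun i => algebraMap A B (f i)) := by
  have h1 := qr_localization f hq p.primeCompl (Localization.AtPrime p)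
  have hjac : ∀ i, algebraMap A (Localization.AtPrime p) (f i) ∈
      Ring.jacobson (Localization.AtPrime p) := by
    intro i
    rw [IsLocalRing.ringJacobson_eq_maximalIdeal]
    exact (IsLocalization.AtPrime.to_map_mem_maximal_iff _ p _).mpr
      (hp (Ideal.subset_span ⟨i, rfl⟩))
  have h2 := Groth.Agent.S5803.main c (Localization.AtPrime p) _ hjac h1
  rw [wr_iff_colon] at h2
  obtain ⟨g, hg, hB⟩ := colon_spread f p h2
  refine ⟨g, hg, fun B _ _ _ => ?_⟩
  rw [wr_iff_colon]
  exact hB B

end localization

end Groth.Agent.Helper19.QuasiReg
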