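import Mathlib
import Groth.Prelude.Def_CInt
import Groth.Agent.S2836
import Groth.Agent.S2837
import Groth.Agent.S3824
import Groth.Agent.Helper19.QuasiReg

/-! Regular ideals: transport along ring isomorphisms, flexible forms of S2836/S2837, and spreading
out from the localisation at a prime to a basic open (helper19). -/

set_option autoImplicit false
universe u

namespace Groth.Agent.Helper19.RegNearAlg

open RingTheory.Sequence IsLocalRing Groth.Agent.Helper19.QuasiReg

/-- regular ideals are transported by ring isomorphisms -/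
theorem isRegularIdeal_map_ringEquiv {R S : Type u} [CommRing R] [CommRing S] (e : R ≃+* S)
    (I : Ideal R) (h : CInt.IsRegularIdeal I) : CInt.IsRegularIdeal (I.map (e : R →+* S)) := by
  obtain ⟨rs, hrs, rfl⟩ := h
  refine ⟨rs.map e, ?_, ?_⟩
  · exact (AddEquiv.isRegular_congr (e := e.toAddEquiv) (List.forall₂_map_right_iff.mpr
      (List.forall₂_same.mpr fun r _ x => map_mul e r x))).mp hrs
  · rw [Ideal.map_ofList]
    rfl

/-- flexible form of S2837 -/
theorem regular_ker_of_regular_map {A B : Type u} [CommRing A] [CommRing B] [IsNoetherianRing A]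
    [IsLocalRing A] (φ : A →+* B) (hφ : Function.Surjective φ) (K : Ideal A)
    (hJK : RingHom.ker φ ≤ K) (hK : K ≤ maximalIdeal A)
    (hKreg : CInt.IsRegularIdeal K) (hKB : CInt.IsRegularIdeal (K.map φ)) :
    CInt.IsRegularIdeal (RingHom.ker φ) := by
  apply Groth.Agent.S2837.result A (RingHom.ker φ) K hJK hK hKreg
  have h1 := isRegularIdeal_map_ringEquiv (RingHom.quotientKerEquivOfSurjective hφ).symm
    (K.map φ) hKB
  have h2 : (K.map φ).map
      (((RingHom.quotientKerEquivOfSurjective hφ).symm : B ≃+* A ⧸ RingHom.ker φ) :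
        B →+* A ⧸ RingHom.ker φ) = K.map (Ideal.Quotient.mk (RingHom.ker φ)) := by
    rw [Ideal.map_map]
    congr 1
    ext a
    show (RingHom.quotientKerEquivOfSurjective hφ).symm (φ a) = Ideal.Quotient.mk _ a
    rw [RingEquiv.symm_apply_eq]
    exact (RingHom.quotientKerEquivOfSurjective_apply_mk hφ a).symm
  rwa [h2] at h1

/-- flexible form of S2836 -/
theorem regular_of_regular_ker_of_regular_map {A B : Type u} [CommRing A] [CommRing B]
    [IsNoetherianRing A] [IsLocalRing A] (φ : A →+* B) (hφ : Function.Surjective φ) (K : Ideal A)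
    (hJK : RingHom.ker φ ≤ K) (hK : K ≤ maximalIdeal A)
    (hJ : CInt.IsRegularIdeal (RingHom.ker φ)) (hKB : CInt.IsRegularIdeal (K.map φ)) :
    CInt.IsRegularIdeal K := by
  apply Groth.Agent.S2836.result A (RingHom.ker φ) K hJK hK hJ
  have h1 := isRegularIdeal_map_ringEquiv (RingHom.quotientKerEquivOfSurjective hφ).symm
    (K.map φ) hKB
  have h2 : (K.map φ).map
      (((RingHom.quotientKerEquivOfSurjective hφ).symm : B ≃+* A ⧸ RingHom.ker φ) :
        B →+* A ⧸ RingHom.ker φ) = K.map (Ideal.Quotient.mk (RingHom.ker φ)) := by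
    rw [Ideal.map_map]
    congr 1
    ext a
    show (RingHom.quotientKerEquivOfSurjective hφ).symm (φ a) = Ideal.Quotient.mk _ a
    rw [RingEquiv.symm_apply_eq]
    exact (RingHom.quotientKerEquivOfSurjective_apply_mk hφ a).symm
  rwa [h2] at h1

section spread

variable {A : Type u} [CommRing A] {c : ℕ} (f : Fin c → A)

/-- spreading out the colon condition from a localisation at a prime to all basic opens `D(g')`
with `g ∣ g'`. -/
theorem colon_spread' [IsNoetherianRing A] (p : Ideal A) [p.IsPrime]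
    (S : Type u) [CommRing S] [Algebra A S] [IsLocalization.AtPrime S p]
    (h : Colon (fun i => algebraMap A S (f i))) :
    ∃ g : A, g ∉ p ∧ ∀ g' : A, g ∣ g' → ∀ (B : Type u) [CommRing B] [Algebra A B]
      [IsLocalization.Away g' B], Colon (fun i => algebraMap A B (f i)) := by
  classical
  let J : Fin c → Ideal A := fun i => Ideal.span (f '' {j | j < i})
  let N : Fin c → Ideal A := fun i => Submodule.comap (LinearMap.mul A A (f i)) (J i)
  have hN : ∀ i y, y ∈ N i ↔ f i * y ∈ J i := fun i y => Iff.rfl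
  have himg : ∀ (B : Type u) [CommRing B] [Algebra A B] (i : Fin c),
      Ideal.span ((fun k => algebraMap A B (f k)) '' {j | j < i}) =
        (J i).map (algebraMap A B) := by
    intro B _ _ i
    rw [Ideal.map_span, Set.image_image]
  have hloc : ∀ i, ∀ n ∈ N i, ∃ t, t ∉ p ∧ t * n ∈ J i := by
    intro i n hn
    have h1 := h i (algebraMap A _ n)
    rw [himg] at h1
    have h2 : algebraMap A S n ∈ (J i).map (algebraMap A S) := by
      apply h1
      rw [← map_mul]
      exact Ideal.mem_map_of_mem _ ((hN i n).mp hn)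
    obtain ⟨t, ht, ht'⟩ :=
      (IsLocalization.algebraMap_mem_map_algebraMap_iff p.primeCompl _ _ _).mp h2
    exact ⟨t, ht, ht'⟩
  have hT : ∀ i n, ∃ t, t ∉ p ∧ (n ∈ N i → t * n ∈ J i) := by
    intro i n
    by_cases hn : n ∈ N i
    · obtain ⟨t, ht, ht'⟩ := hloc i n hn
      exact ⟨t, ht, fun _ => ht'⟩
    · exact ⟨1, fun h1 => (Ideal.IsPrime.ne_top ‹_›) ((Ideal.eq_top_iff_one _).mpr h1),
        fun h => absurd h hn⟩
  choose T hTp hTJ using hT
  have hfg : ∀ i, ∃ s : Finset A, Ideal.span (s : Set A) = N i := fun i =>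
    (N i).fg_of_isNoetherianRing
  choose s hs using hfg
  obtain ⟨g, hgdef⟩ : ∃ g : A, g = ∏ i, ∏ n ∈ s i, T i n := ⟨_, rfl⟩
  have hgp : g ∉ p := by
    rw [hgdef]
    intro hmem
    obtain ⟨i, _, hi⟩ := (Ideal.IsPrime.prod_mem_iff).mp hmem
    obtain ⟨n, _, hn⟩ := (Ideal.IsPrime.prod_mem_iff).mp hi
    exact hTp i n hn
  have hgN : ∀ i, ∀ n ∈ N i, g * n ∈ J i := by
    intro i n hn
    rw [← hs i] at hn
    induction hn using Submodule.span_induction with
    | mem n hn =>
      have hnN : n ∈ N i := by rw [← hs i]; exact Ideal.subset_span hn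
      have hdvd : T i n ∣ g := by
        rw [hgdef]
        exact (Finset.dvd_prod_of_mem _ hn).trans
          (Finset.dvd_prod_of_mem (fun i => ∏ n ∈ s i, T i n) (Finset.mem_univ i))
      obtain ⟨r, hr⟩ := hdvd
      rw [hr, mul_comm (T i n) r, mul_assoc]
      exact Ideal.mul_mem_left _ _ (hTJ i n hnN)
    | zero => rw [mul_zero]; exact Ideal.zero_mem _
    | add x y _ _ hx hy => rw [mul_add]; exact Ideal.add_mem _ hx hy
    | smul a x _ hx =>
      rw [smul_eq_mul, mul_left_comm]
      exact Ideal.mul_mem_left _ _ hx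
  refine ⟨g, hgp, ?_⟩
  intro g' hgg' B _ _ _ i y hy
  obtain ⟨r, rfl⟩ := hgg'
  rw [himg B i] at hy ⊢
  obtain ⟨a, sden, rfl⟩ := IsLocalization.exists_mk'_eq (Submonoid.powers (g * r)) y
  have h1 : IsLocalization.mk' B (f i * a) sden ∈ (J i).map (algebraMap A B) := by
    rw [IsLocalization.mk'_eq_mul_mk'_one (f i * a), map_mul, mul_assoc,
      ← IsLocalization.mk'_eq_mul_mk'_one]
    exact hy
  obtain ⟨m, hm, hm'⟩ :=
    (IsLocalization.mk'_mem_map_algebraMap_iff (Submonoid.powers (g * r)) B _ _ _).mp h1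
  have h2 : m * a ∈ N i := by
    rw [hN]
    have : f i * (m * a) = m * (f i * a) := by ring
    rw [this]
    exact hm'
  have h3 := hgN i _ h2
  rw [IsLocalization.mk'_mem_map_algebraMap_iff (Submonoid.powers (g * r))]
  refine ⟨(g * r) * m, Submonoid.mul_mem _ (Submonoid.mem_powers (g * r)) hm, ?_⟩
  have : g * r * m * a = r * (g * (m * a)) := by ring
  rw [this]
  exact Ideal.mul_mem_left _ _ h3

end spread

/-- Spreading out: if `I · A_p` is generated by a regular sequence, so is `I · A_g` for some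
`g ∉ p`. -/
theorem spread {A : Type u} [CommRing A] [IsNoetherianRing A] (I p : Ideal A) [p.IsPrime]
    (hIp : I ≤ p) (S : Type u) [CommRing S] [Algebra A S] [IsLocalization.AtPrime S p]
    (h : CInt.IsRegularIdeal (I.map (algebraMap A S))) :
    ∃ g : A, g ∉ p ∧ ∀ (B : Type u) [CommRing B] [Algebra A B] [IsLocalization.Away g B],
      CInt.IsRegularIdeal (I.map (algebraMap A B)) := by
  classical
  obtain ⟨rs, hrs, hrsI⟩ := h
  haveI : IsLocalRing S := IsLocalization.AtPrime.isLocalRing S p
  haveI : IsNoetherianRing S := IsLocalization.isNoetherianRing p.primeCompl S inferInstance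
  obtain ⟨n, r, rfl⟩ : ∃ (n : ℕ) (r : Fin n → S), rs = List.ofFn r :=
    ⟨rs.length, rs.get, (List.ofFn_get rs).symm⟩
  rw [ofList_ofFn] at hrsI
  have hrI : ∀ i, r i ∈ I.map (algebraMap A S) := fun i => hrsI ▸ Ideal.subset_span ⟨i, rfl⟩
  have hex : ∀ i, ∃ (a : A) (s : A), a ∈ I ∧ s ∉ p ∧
      r i * algebraMap A S s = algebraMap A S a := by
    intro i
    obtain ⟨⟨a, s⟩, h⟩ := (IsLocalization.mem_map_algebraMap_iff p.primeCompl S).mp (hrI i)
    exact ⟨a.1, s.1, a.2, s.2, h⟩
  choose a s haI hsp has using hex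
  have hsu : ∀ i, IsUnit (algebraMap A S (s i)) := fun i =>
    IsLocalization.map_units S (⟨s i, hsp i⟩ : p.primeCompl)
  have hspan : Ideal.span (Set.range fun i => algebraMap A S (a i)) = Ideal.span (Set.range r) := by
    apply le_antisymm
    · rw [Ideal.span_le]
      rintro _ ⟨i, rfl⟩
      show algebraMap A S (a i) ∈ _
      rw [← has i]
      exact Ideal.mul_mem_right _ _ (Ideal.subset_span ⟨i, rfl⟩)
    · rw [Ideal.span_le]
      rintro _ ⟨i, rfl⟩
      have : r i = algebraMap A S (a i) * ↑(hsu i).unit⁻¹ := by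
        rw [← has i, mul_assoc, IsUnit.mul_val_inv, mul_one]
      rw [this]
      exact Ideal.mul_mem_right _ _ (Ideal.subset_span ⟨i, rfl⟩)
  have hqr : CAlgX.IsQuasiRegular r := Groth.Agent.S5802.result S n r hrs.toIsWeaklyRegular
  have hqa : CAlgX.IsQuasiRegular (fun i => algebraMap A S (a i)) :=
    Groth.Agent.S3824.result r _ hqr hspan
  have hjac : ∀ i, algebraMap A S (a i) ∈ Ring.jacobson S := by
    intro i
    rw [IsLocalRing.ringJacobson_eq_maximalIdeal]
    exact (IsLocalization.AtPrime.to_map_mem_maximal_iff S p _).mpr (hIp (haI i))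
  have hwr := Groth.Agent.S5803.result S n _ hjac hqa
  rw [wr_iff_colon] at hwr
  obtain ⟨g₁, hg₁, hB₁⟩ := colon_spread' a p S hwr
  obtain ⟨bs, hbs⟩ : ∃ bs : Finset A, Ideal.span (bs : Set A) = I := IsNoetherian.noetherian I
  have hgen : ∀ b : A, ∃ t : A, t ∉ p ∧ (b ∈ I → t * b ∈ Ideal.span (Set.range a)) := by
    intro b
    by_cases hb : b ∈ I
    · have h1 : algebraMap A S b ∈ (Ideal.span (Set.range a)).map (algebraMap A S) := by
        rw [Ideal.map_span, ← Set.range_comp]
        show _ ∈ Ideal.span (Set.range fun i => algebraMap A S (a i))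
        rw [hspan, hrsI]
        exact Ideal.mem_map_of_mem _ hb
      obtain ⟨t, ht, ht'⟩ :=
        (IsLocalization.algebraMap_mem_map_algebraMap_iff p.primeCompl S _ _).mp h1
      exact ⟨t, ht, fun _ => ht'⟩
    · exact ⟨1, fun h1 => (Ideal.IsPrime.ne_top ‹_›) ((Ideal.eq_top_iff_one _).mpr h1),
        fun h => absurd h hb⟩
  choose t htp htI using hgen
  obtain ⟨g, hg⟩ : ∃ g : A, g = g₁ * ∏ b ∈ bs, t b := ⟨_, rfl⟩
  have hgp : g ∉ p := by
    rw [hg]
    intro hmem
    rcases (Ideal.IsPrime.mem_or_mem ‹_› hmem) with h1 | h1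
    · exact hg₁ h1
    · obtain ⟨b, _, hb⟩ := (Ideal.IsPrime.prod_mem_iff).mp h1
      exact htp b hb
  refine ⟨g, hgp, fun B _ _ _ => ?_⟩
  have hcol := hB₁ g (hg ▸ Dvd.intro _ rfl) B
  rw [← wr_iff_colon] at hcol
  have hgu : IsUnit (algebraMap A B g) :=
    IsLocalization.map_units B (⟨g, Submonoid.mem_powers g⟩ : Submonoid.powers g)
  have htu : ∀ b ∈ bs, IsUnit (algebraMap A B (t b)) := by
    intro b hb
    have hdvd : t b ∣ g := by
      rw [hg]
      exact (Finset.dvd_prod_of_mem _ hb).trans (Dvd.intro_left _ rfl)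
    obtain ⟨q, hq⟩ := hdvd
    rw [hq, map_mul] at hgu
    exact isUnit_of_mul_isUnit_left hgu
  have hmapI : I.map (algebraMap A B) = Ideal.span (Set.range fun i => algebraMap A B (a i)) := by
    apply le_antisymm
    · rw [← hbs, Ideal.map_span, Ideal.span_le]
      rintro _ ⟨b, hb, rfl⟩
      have hbI : b ∈ I := hbs ▸ Ideal.subset_span hb
      have h1 : algebraMap A B (t b * b) ∈
          Ideal.span (Set.range fun i => algebraMap A B (a i)) := by
        have := Ideal.mem_map_of_mem (algebraMap A B) (htI b hbI)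
        rwa [Ideal.map_span, ← Set.range_comp] at this
      rw [map_mul] at h1
      exact (Ideal.unit_mul_mem_iff_mem _ (htu b hb)).mp h1
    · rw [Ideal.span_le]
      rintro _ ⟨i, rfl⟩
      exact Ideal.mem_map_of_mem _ (haI i)
  refine ⟨List.ofFn fun i => algebraMap A B (a i), ⟨hcol, ?_⟩, ?_⟩
  · rw [ofList_ofFn, ← hmapI]
    intro htop
    have h1 : I.map (algebraMap A B) = ⊤ := by
      have h2 := htop.symm
      rwa [smul_eq_mul, Ideal.mul_top] at h2
    have h3 : algebraMap A B 1 ∈ I.map (algebraMap A B) := by rw [h1]; trivial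
    obtain ⟨m, hm, hm'⟩ :=
      (IsLocalization.algebraMap_mem_map_algebraMap_iff (Submonoid.powers g) B _ _).mp h3
    obtain ⟨k, rfl⟩ := hm
    rw [mul_one] at hm'
    exact hgp (Ideal.IsPrime.mem_of_pow_mem ‹_› k (hIp hm'))
  · rw [ofList_ofFn, hmapI]

/-- Localising: a regular ideal contained in `p` stays regular in the localisation at `p`. -/
theorem localize {A : Type u} [CommRing A] (I p : Ideal A) [p.IsPrime] (hIp : I ≤ p)
    (S : Type u) [CommRing S] [Algebra A S] [IsLocalization.AtPrime S p]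
    (h : CInt.IsRegularIdeal I) : CInt.IsRegularIdeal (I.map (algebraMap A S)) := by
  obtain ⟨rs, hrs, rfl⟩ := h
  refine ⟨rs.map (algebraMap A S),
    hrs.toIsWeaklyRegular.isRegular_of_isLocalization_of_mem S p ?_, ?_⟩
  · intro r hr
    exact hIp (Ideal.subset_span hr)
  · rw [Ideal.map_ofList]

end Groth.Agent.Helper19.RegNearAlg
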