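import Mathlib
import Groth.Prelude.Def_CInt
import Groth.Prelude.Def_Mor2
import Groth.Agent.Helper19.RegNearAlg
import Groth.Agent.Helper19.QuasiRegScheme

/-! Regular closed immersions near a point: the restriction over a neighbourhood is a regular closed
immersion iff the kernel ideal is regular on an affine neighbourhood iff the kernel of the stalk map
is generated by a regular sequence (helper19). -/

set_option autoImplicit false
universe u

open CategoryTheory AlgebraicGeometry TopologicalSpace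

namespace Groth.Agent.Helper19.RegNear

open Groth.Agent.Helper19.RegNearAlg Groth.Agent.Helper19.QuasiRegScheme

variable {X Z : Scheme.{u}}

/-- elements of the kernel ideal vanish at points of the closed subscheme -/
theorem mem_primeIdealOf_of_mem_ker (i : Z ⟶ X) [IsClosedImmersion i] (z : Z) (W : X.Opens)
    (hW : IsAffineOpen W) (hz : i z ∈ W) (a : Γ(X, W)) (ha : a ∈ i.ker.ideal ⟨W, hW⟩) :
    a ∈ (hW.primeIdealOf ⟨i z, hz⟩).asIdeal := by
  rw [mem_primeIdealOf_iff hW (i z) hz a]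
  intro hmem
  rw [Scheme.Hom.ker_apply, RingHom.mem_ker] at ha
  have h1 : z ∈ i ⁻¹ᵁ X.basicOpen a := hmem
  rw [Scheme.preimage_basicOpen] at h1
  have h2 : (i.app W) a = 0 := ha
  rw [h2, Scheme.basicOpen_zero] at h1
  exact h1

/-- the kernel of the stalk map of a closed immersion is the localisation of the kernel ideal -/
theorem ker_stalkMap_eq (i : Z ⟶ X) [IsClosedImmersion i] (z : Z) (W : X.Opens)
    (hW : IsAffineOpen W) (hz : i z ∈ W) :
    RingHom.ker (i.stalkMap z).hom =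
      (i.ker.ideal ⟨W, hW⟩).map (X.presheaf.germ W (i z) hz).hom := by
  have hW' : IsAffineOpen (i ⁻¹ᵁ W) := hW.preimage i
  have hz' : z ∈ i ⁻¹ᵁ W := hz
  letI : Algebra Γ(X, W) (X.presheaf.stalk (i z)) :=
    TopCat.Presheaf.algebra_section_stalk X.presheaf ⟨i z, hz⟩
  letI : Algebra Γ(Z, i ⁻¹ᵁ W) (Z.presheaf.stalk z) :=
    TopCat.Presheaf.algebra_section_stalk Z.presheaf ⟨z, hz'⟩
  haveI hlocX : IsLocalization.AtPrime (X.presheaf.stalk (i z))
      (hW.primeIdealOf ⟨i z, hz⟩).asIdeal := hW.isLocalization_stalk ⟨i z, hz⟩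
  haveI hlocZ : IsLocalization.AtPrime (Z.presheaf.stalk z)
      (hW'.primeIdealOf ⟨z, hz'⟩).asIdeal := hW'.isLocalization_stalk ⟨z, hz'⟩
  have hgermX : ∀ a : Γ(X, W), (X.presheaf.germ W (i z) hz).hom a =
      algebraMap Γ(X, W) (X.presheaf.stalk (i z)) a := fun a => rfl
  have hgermZ : ∀ b : Γ(Z, i ⁻¹ᵁ W), (Z.presheaf.germ (i ⁻¹ᵁ W) z hz').hom b =
      algebraMap Γ(Z, i ⁻¹ᵁ W) (Z.presheaf.stalk z) b := fun b => rfl
  have hcomm : ∀ a : Γ(X, W), (i.stalkMap z).hom (algebraMap Γ(X, W) (X.presheaf.stalk (i z)) a) =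
      algebraMap Γ(Z, i ⁻¹ᵁ W) (Z.presheaf.stalk z) ((i.app W).hom a) := by
    intro a
    exact Scheme.Hom.germ_stalkMap_apply i W z hz a
  have hmapeq : (i.ker.ideal ⟨W, hW⟩).map (X.presheaf.germ W (i z) hz).hom =
      (i.ker.ideal ⟨W, hW⟩).map (algebraMap Γ(X, W) (X.presheaf.stalk (i z))) := rfl
  rw [hmapeq]
  apply le_antisymm
  · intro a' ha'
    obtain ⟨a, s, rfl⟩ := IsLocalization.exists_mk'_eq
      (hW.primeIdealOf ⟨i z, hz⟩).asIdeal.primeCompl a'
    have h1 : (i.stalkMap z).hom (algebraMap Γ(X, W) (X.presheaf.stalk (i z)) a) = 0 := by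
      have : algebraMap Γ(X, W) (X.presheaf.stalk (i z)) a =
          IsLocalization.mk' (X.presheaf.stalk (i z)) a s *
            algebraMap Γ(X, W) (X.presheaf.stalk (i z)) (s : Γ(X, W)) :=
        (IsLocalization.mk'_spec _ a s).symm
      rw [this, map_mul, RingHom.mem_ker.mp ha', zero_mul]
    rw [hcomm] at h1
    obtain ⟨⟨t, ht⟩, htz⟩ := (IsLocalization.map_eq_zero_iff
      (hW'.primeIdealOf ⟨z, hz'⟩).asIdeal.primeCompl (Z.presheaf.stalk z) _).mp h1
    obtain ⟨t', rfl⟩ := i.app_surjective W hW t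
    rw [IsLocalization.mk'_mem_map_algebraMap_iff]
    refine ⟨t', ?_, ?_⟩
    · intro ht'
      apply ht
      have h3 := (mem_primeIdealOf_iff hW (i z) hz t').mp ht'
      rw [SetLike.mem_coe, mem_primeIdealOf_iff hW' z hz']
      intro h4
      apply h3
      have h5 : z ∈ i ⁻¹ᵁ X.basicOpen t' := by
        rw [Scheme.preimage_basicOpen]
        exact h4
      exact h5
    · rw [Scheme.Hom.ker_apply, RingHom.mem_ker, map_mul]
      exact htz
  · rw [Ideal.map_le_iff_le_comap]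
    intro a ha
    rw [Ideal.mem_comap, RingHom.mem_ker, hcomm]
    rw [Scheme.Hom.ker_apply, RingHom.mem_ker] at ha
    rw [ha, map_zero]

/-- the kernel ideal of a restriction -/
theorem ker_ideal_restrict (i : Z ⟶ X) [IsClosedImmersion i] (V : X.Opens)
    (U : (V : Scheme.{u}).Opens) (hU : IsAffineOpen U) :
    (i ∣_ V).ker.ideal ⟨U, hU⟩ =
      i.ker.ideal ⟨V.ι ''ᵁ U, hU.image_of_isOpenImmersion V.ι⟩ := by
  rw [Scheme.Hom.ker_apply, Scheme.Hom.ker_apply]
  have hinj : Function.Injective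
      (Z.presheaf.map (eqToHom (image_morphismRestrict_preimage i V U)).op).hom :=
    ((ConcreteCategory.bijective_of_isIso
      (Z.presheaf.map (eqToHom (image_morphismRestrict_preimage i V U)).op)).1)
  have key : ∀ a : Γ(X, V.ι ''ᵁ U), ((i ∣_ V).app U).hom a = 0 ↔ (i.app (V.ι ''ᵁ U)).hom a = 0 := by
    intro a
    have e2 : ((i ∣_ V).app U).hom a =
        (Z.presheaf.map (eqToHom (image_morphismRestrict_preimage i V U)).op).hom
          ((i.app (V.ι ''ᵁ U)).hom a) := by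
      rw [morphismRestrict_app]
      rfl
    rw [e2]
    constructor
    · intro h
      apply hinj
      rw [map_zero]
      exact h
    · intro h
      rw [h]
      exact map_zero _
  ext a
  exact key a

/-- transport of regularity of the kernel ideal along an equality of opens -/
theorem regular_of_eq (i : Z ⟶ X) (U₁ U₂ : X.Opens) (h : U₁ = U₂) (h1 : IsAffineOpen U₁)
    (h2 : IsAffineOpen U₂) (hreg : ∃ rs : List Γ(X, U₁), RingTheory.Sequence.IsRegular Γ(X, U₁) rs ∧
      i.ker.ideal ⟨U₁, h1⟩ = Ideal.ofList rs) :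
    ∃ rs : List Γ(X, U₂), RingTheory.Sequence.IsRegular Γ(X, U₂) rs ∧
      i.ker.ideal ⟨U₂, h2⟩ = Ideal.ofList rs := by
  subst h
  exact hreg

/-- regular near a point, affine form -/
def AffReg (i : Z ⟶ X) (z : Z) : Prop :=
  ∃ (W : X.Opens) (hW : IsAffineOpen W), i z ∈ W ∧ CInt.IsRegularIdeal (i.ker.ideal ⟨W, hW⟩)

theorem affReg_of_restrict (i : Z ⟶ X) [IsClosedImmersion i] (z : Z) (V : X.Opens)
    (hz : i z ∈ V) (h : Mor2.IsRegularClosedImmersion (i ∣_ V)) : AffReg i z := by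
  obtain ⟨U, hU, hzU, rs, hrs, hI⟩ := h.2 ⟨z, hz⟩
  refine ⟨V.ι ''ᵁ U, hU.image_of_isOpenImmersion V.ι, ?_, rs, hrs, ?_⟩
  · refine ⟨(i ∣_ V) ⟨z, hz⟩, hzU, ?_⟩
    exact morphismRestrict_base_coe i V ⟨z, hz⟩
  · rw [← ker_ideal_restrict]
    exact hI.symm

theorem restrict_of_affReg (i : Z ⟶ X) [IsClosedImmersion i] (z : Z) (h : AffReg i z) :
    ∃ V : X.Opens, i z ∈ V ∧ Mor2.IsRegularClosedImmersion (i ∣_ V) := by
  obtain ⟨W, hW, hz, rs, hrs, hI⟩ := h
  refine ⟨W, hz, inferInstance, fun z' => ?_⟩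
  haveI : IsAffine (W : Scheme.{u}) := hW
  refine ⟨⊤, isAffineOpen_top (W : Scheme.{u}), trivial, ?_⟩
  rw [ker_ideal_restrict]
  exact regular_of_eq i W (W.ι ''ᵁ ⊤) (by simp) hW _ ⟨rs, hrs, hI.symm⟩

theorem stalk_of_affReg (i : Z ⟶ X) [IsClosedImmersion i] (z : Z) (h : AffReg i z) :
    CInt.IsRegularIdeal (RingHom.ker (i.stalkMap z).hom) := by
  obtain ⟨W, hW, hz, hreg⟩ := h
  rw [ker_stalkMap_eq i z W hW hz]
  letI : Algebra Γ(X, W) (X.presheaf.stalk (i z)) :=
    TopCat.Presheaf.algebra_section_stalk X.presheaf ⟨i z, hz⟩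
  haveI hlocX : IsLocalization.AtPrime (X.presheaf.stalk (i z))
      (hW.primeIdealOf ⟨i z, hz⟩).asIdeal := hW.isLocalization_stalk ⟨i z, hz⟩
  exact localize (i.ker.ideal ⟨W, hW⟩) (hW.primeIdealOf ⟨i z, hz⟩).asIdeal
    (fun a ha => mem_primeIdealOf_of_mem_ker i z W hW hz a ha) (X.presheaf.stalk (i z)) hreg

theorem affReg_of_stalk [IsLocallyNoetherian X] (i : Z ⟶ X) [IsClosedImmersion i] (z : Z)
    (h : CInt.IsRegularIdeal (RingHom.ker (i.stalkMap z).hom)) : AffReg i z := by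
  obtain ⟨_, ⟨W₀, hW₀, rfl⟩, hz, -⟩ :=
    X.isBasis_affineOpens.exists_subset_of_mem_open (Set.mem_univ (i z)) isOpen_univ
  have hW₀' : IsAffineOpen W₀ := hW₀
  rw [ker_stalkMap_eq i z W₀ hW₀' hz] at h
  letI : Algebra Γ(X, W₀) (X.presheaf.stalk (i z)) :=
    TopCat.Presheaf.algebra_section_stalk X.presheaf ⟨i z, hz⟩
  haveI hlocX : IsLocalization.AtPrime (X.presheaf.stalk (i z))
      (hW₀'.primeIdealOf ⟨i z, hz⟩).asIdeal := hW₀'.isLocalization_stalk ⟨i z, hz⟩
  haveI : IsNoetherianRing Γ(X, W₀) := IsLocallyNoetherian.component_noetherian ⟨W₀, hW₀'⟩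
  obtain ⟨g, hg, hB⟩ := spread (i.ker.ideal ⟨W₀, hW₀'⟩) (hW₀'.primeIdealOf ⟨i z, hz⟩).asIdeal
    (fun a ha => mem_primeIdealOf_of_mem_ker i z W₀ hW₀' hz a ha) (X.presheaf.stalk (i z)) h
  refine ⟨X.basicOpen g, hW₀'.basicOpen g, ?_, ?_⟩
  · by_contra hn
    exact hg ((mem_primeIdealOf_iff hW₀' (i z) hz g).mpr hn)
  · haveI := hW₀'.isLocalization_basicOpen g
    have h1 := hB Γ(X, X.basicOpen g)
    have h2 := i.ker.map_ideal_basicOpen ⟨W₀, hW₀'⟩ g
    show CInt.IsRegularIdeal (i.ker.ideal (X.affineBasicOpen g))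
    rw [← h2]
    exact h1

/-- Main characterisation: a closed immersion into a locally Noetherian scheme is a regular
immersion near `z` iff the kernel of its stalk map at `z` is generated by a regular sequence. -/
theorem regNear_iff_stalk [IsLocallyNoetherian X] (i : Z ⟶ X) [IsClosedImmersion i] (z : Z) :
    (∃ V : X.Opens, i z ∈ V ∧ Mor2.IsRegularClosedImmersion (i ∣_ V)) ↔
      CInt.IsRegularIdeal (RingHom.ker (i.stalkMap z).hom) := by
  constructor
  · rintro ⟨V, hz, h⟩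
    exact stalk_of_affReg i z (affReg_of_restrict i z V hz h)
  · intro h
    exact restrict_of_affReg i z (affReg_of_stalk i z h)

end Groth.Agent.Helper19.RegNear
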