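import Mathlib
import Groth.Prelude.Def_RegImm
import Groth.Agent.Helper19.RegImmBC3
import Groth.Agent.Helper19.KosLoc11
import Groth.Agent.S9272
import Groth.Agent.S9273

/-!
# Arbitrary base change of H₁-regular and quasi-regular sequences with flat quotient (helper19)
-/

set_option autoImplicit false
set_option linter.unusedSectionVars false
set_option linter.unusedVariables false
set_option linter.style.haveILetI false
universe u

open TensorProduct Function

namespace Groth.Agent.Helper19.RelRegImm

open Groth.Agent.Helper19.RegImmBC Groth.Agent.Helper19.KosLoc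

theorem span_range_get {R : Type u} [CommRing R] (rs : List R) :
    Ideal.span (Set.range rs.get) = Ideal.ofList rs := by
  rw [Ideal.ofList]
  congr 1
  ext r
  simp [List.mem_iff_get]

/-- **Base change of an `H₁`-regular or quasi-regular sequence with flat quotient** along an
arbitrary pushout square of rings. -/
theorem kindSeq_baseChange (k : RegImm.Kind) (hk : k = RegImm.Kind.h1 ∨ k = RegImm.Kind.quasi)
    (A P A' P' : Type u) [CommRing A] [CommRing P] [CommRing A'] [CommRing P']
    [Algebra A P] [Algebra A A'] [Algebra A P'] [Algebra P P'] [Algebra A' P']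
    [IsScalarTower A P P'] [IsScalarTower A A' P'] [Algebra.IsPushout A P A' P']
    (rs : List P) (hrs : k.Seq P rs) [hfl : Module.Flat A (P ⧸ Ideal.ofList rs)] :
    k.Seq P' (rs.map (algebraMap P P')) := by
  have hfl' : Module.Flat A (P ⧸ Ideal.span (Set.range rs.get)) := by
    rw [span_range_get]; exact hfl
  let e := pushoutEquiv A P A' P'
  letI : Algebra (A' ⊗[A] P) P' := (e : A' ⊗[A] P →+* P').toAlgebra
  haveI : Module.Flat (A' ⊗[A] P) P' :=
    (RingHom.Flat.of_bijective (f := (e : A' ⊗[A] P →+* P')) e.bijective : _)
  have hmap : ∀ x : P, algebraMap (A' ⊗[A] P) P' ((1 : A') ⊗ₜ[A] x) = algebraMap P P' x :=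
    fun x => pushoutEquiv_one_tmul A P A' P' x
  rcases hk with rfl | rfl
  · have h0 : CAlgX.IsH1Regular rs.get := hrs
    have h1 := Groth.Agent.S9273.result A P A' rs.length rs.get hfl' h0
    have h2 := Groth.Agent.Helper19.OmegaAlg.isH1Regular_of_flat (R' := P') _ h1
    refine (isH1Regular_reindex (List.length_map (algebraMap P P')).symm _
      (rs.map (algebraMap P P')).get ?_ h2 : CAlgX.IsH1Regular (rs.map (algebraMap P P')).get)
    intro i
    rw [hmap]
    simp
  · have h0 : CAlgX.IsQuasiRegular rs.get := hrs
    have h1 := Groth.Agent.S9272.result A P A' rs.length rs.get hfl' h0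
    have h2 := isQuasiRegular_of_flat (B := P') _ h1
    refine (isQuasiRegular_reindex (List.length_map (algebraMap P P')).symm _
      (rs.map (algebraMap P P')).get ?_ h2 : CAlgX.IsQuasiRegular (rs.map (algebraMap P P')).get)
    intro i
    rw [hmap]
    simp

end Groth.Agent.Helper19.RelRegImm
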