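import Mathlib
import Groth.Prelude.Def_RegImm
import Groth.Agent.Helper19.RelRegImm1
import Groth.Agent.Helper19.RegImmBC2
import Groth.Agent.Lib.Helper18.GFl5

/-!
# Relative regular immersions: charts, flatness of the quotient, base change (helper19)
-/

set_option autoImplicit false
set_option linter.unusedSectionVars false
set_option linter.unusedVariables false
set_option linter.style.haveILetI false
universe u

open AlgebraicGeometry CategoryTheory CategoryTheory.Limits Opposite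

namespace Groth.Agent.Helper19.RelRegImm

open Groth.Agent.Helper19.RegImmBC Groth.Agent.Lib.Helper18.GFl

variable {Z X S : Scheme.{u}}

/-- chart refinement: a regular-immersion chart restricts to any smaller affine open containing
the point. -/
theorem chart_refine (k : RegImm.Kind) (i : Z ⟶ X) (z : Z) (U₀ : X.affineOpens)
    (hcl : IsClosedImmersion (i ∣_ U₀.1)) (rs : List Γ(X, U₀.1)) (hrs : k.Seq Γ(X, U₀.1) rs)
    (hker : RingHom.ker (i.app U₀.1).hom = Ideal.ofList rs) (U : X.affineOpens)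
    (hU : U.1 ≤ U₀.1) (hzU : i z ∈ U.1) :
    IsClosedImmersion (i ∣_ U.1) ∧
      k.Seq Γ(X, U.1) (rs.map (X.presheaf.map (homOfLE hU).op).hom) ∧
      RingHom.ker (i.app U.1).hom = Ideal.ofList (rs.map (X.presheaf.map (homOfLE hU).op).hom) := by
  have hsq : IsPullback (𝟙 Z) i i (𝟙 X) := IsPullback.of_horiz_isIso ⟨by simp⟩
  have e : U.1 ≤ (𝟙 X) ⁻¹ᵁ U₀.1 := hU
  haveI := hcl
  have hcl' : IsClosedImmersion (i ∣_ U.1) := isClosedImmersion_restrict hsq e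
  have hk1 := ker_app_baseChange hsq U₀ U e
  have happ : (𝟙 X : X ⟶ X).appLE U₀.1 U.1 e = X.presheaf.map (homOfLE hU).op := by
    rw [Scheme.Hom.appLE]
    simp
    rfl
  rw [happ, hker, Ideal.map_ofList] at hk1
  have hflat : (X.presheaf.map (homOfLE hU).op).hom.Flat := by
    rw [← happ]
    exact HasRingHomProperty.appLE (P := @Flat) (𝟙 X) inferInstance U₀ U e
  refine ⟨hcl', kindFlatStable k _ hflat rs hrs ?_, hk1⟩
  rw [← hk1]
  intro htop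
  have h3 : (1 : Γ(X, U.1)) ∈ RingHom.ker (i.app U.1).hom := by rw [htop]; trivial
  rw [RingHom.mem_ker, map_one] at h3
  haveI : Nonempty (i ⁻¹ᵁ U.1 : Z.Opens) := ⟨⟨z, hzU⟩⟩
  haveI : Nontrivial Γ(Z, i ⁻¹ᵁ U.1) := Scheme.component_nontrivial Z (i ⁻¹ᵁ U.1)
  exact one_ne_zero h3

/-- the preimage of an affine chart of a closed immersion is affine, and the map on sections is
surjective. -/
theorem isAffineOpen_preimage_and_surjective (i : Z ⟶ X) (U : X.affineOpens)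
    [hcl : IsClosedImmersion (i ∣_ U.1)] :
    IsAffineOpen (i ⁻¹ᵁ U.1) ∧ Function.Surjective (i.app U.1).hom := by
  haveI : IsAffine (U.1 : Scheme.{u}) := U.2
  obtain ⟨h1, h2⟩ := IsClosedImmersion.isAffine_surjective_of_isAffine (f := i ∣_ U.1)
  refine ⟨h1, ?_⟩
  intro c
  obtain ⟨y, hy⟩ := h2 ((i ⁻¹ᵁ U.1).topIso.inv.hom c)
  refine ⟨U.1.topIso.hom.hom y, ?_⟩
  have h3 : (i ∣_ U.1).app ⊤ = U.1.topIso.hom ≫ i.app U.1 ≫ (i ⁻¹ᵁ U.1).topIso.inv := by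
    rw [← Scheme.Hom.resLE_eq_morphismRestrict, Scheme.Hom.resLE_app_top,
      Scheme.Hom.appLE_eq_app]
  have h4 : ((i ∣_ U.1).app ⊤).hom y = (i ⁻¹ᵁ U.1).topIso.inv.hom c := hy
  rw [h3] at h4
  change (i ⁻¹ᵁ U.1).topIso.inv.hom ((i.app U.1).hom (U.1.topIso.hom.hom y)) = _ at h4
  exact (ConcreteCategory.bijective_of_isIso (i ⁻¹ᵁ U.1).topIso.inv).1 h4

/-- flatness of the quotient by the ideal of `Z` over the base ring, in an affine chart. -/
theorem flat_quotient_of_chart (f : X ⟶ S) (i : Z ⟶ X) [Flat (i ≫ f)] (U : X.affineOpens)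
    (V : S.affineOpens) (e : U.1 ≤ f ⁻¹ᵁ V.1) [hcl : IsClosedImmersion (i ∣_ U.1)] :
    letI := (f.appLE V.1 U.1 e).hom.toAlgebra
    Module.Flat Γ(S, V.1) (Γ(X, U.1) ⧸ RingHom.ker (i.app U.1).hom) := by
  obtain ⟨haff, hsurj⟩ := isAffineOpen_preimage_and_surjective i U
  have e2 : i ⁻¹ᵁ U.1 ≤ (i ≫ f) ⁻¹ᵁ V.1 := fun z hz => e hz
  have hfl : ((i ≫ f).appLE V.1 (i ⁻¹ᵁ U.1) e2).hom.Flat :=
    HasRingHomProperty.appLE (P := @Flat) (i ≫ f) inferInstance V ⟨_, haff⟩ e2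
  have hcomp : (i ≫ f).appLE V.1 (i ⁻¹ᵁ U.1) e2 = f.appLE V.1 U.1 e ≫ i.app U.1 := by
    rw [Scheme.Hom.app_eq_appLE, Scheme.Hom.appLE_comp_appLE]
  rw [hcomp] at hfl
  letI algAP : Algebra Γ(S, V.1) Γ(X, U.1) := (f.appLE V.1 U.1 e).hom.toAlgebra
  letI algPC : Algebra Γ(X, U.1) Γ(Z, i ⁻¹ᵁ U.1) := (i.app U.1).hom.toAlgebra
  letI algAC : Algebra Γ(S, V.1) Γ(Z, i ⁻¹ᵁ U.1) :=
    (f.appLE V.1 U.1 e ≫ i.app U.1).hom.toAlgebra
  haveI : IsScalarTower Γ(S, V.1) Γ(X, U.1) Γ(Z, i ⁻¹ᵁ U.1) :=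
    IsScalarTower.of_algebraMap_eq fun _ => rfl
  haveI : Module.Flat Γ(S, V.1) Γ(Z, i ⁻¹ᵁ U.1) := hfl
  let ψ : Γ(X, U.1) →ₐ[Γ(S, V.1)] Γ(Z, i ⁻¹ᵁ U.1) :=
    IsScalarTower.toAlgHom Γ(S, V.1) Γ(X, U.1) Γ(Z, i ⁻¹ᵁ U.1)
  have hψ : Function.Surjective ψ := hsurj
  exact Module.Flat.of_linearEquiv (Ideal.quotientKerAlgEquivOfSurjective hψ).toLinearEquiv

end Groth.Agent.Helper19.RelRegImm
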