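import Mathlib
import Groth.Prelude.Def_RegImm
import Groth.Agent.Helper19.RelRegImm2
import Groth.Agent.Helper19.KosLoc17

/-!
# Base change of relative `H₁`-regular and quasi-regular immersions (helper19)
-/

set_option autoImplicit false
set_option linter.unusedSectionVars false
set_option linter.unusedVariables false
set_option linter.style.haveILetI false
universe u

open AlgebraicGeometry CategoryTheory CategoryTheory.Limits Opposite

namespace Groth.Agent.Helper19.RelRegImm

open Groth.Agent.Helper19.RegImmBC Groth.Agent.Lib.Helper18.GFl Groth.Agent.Helper19.KosLoc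

theorem kindSeq_baseChange_cat (k : RegImm.Kind)
    (hk : k = RegImm.Kind.h1 ∨ k = RegImm.Kind.quasi) {A P A' P' : CommRingCat.{u}}
    (α : A ⟶ P) (a : A ⟶ A') (p : P ⟶ P') (α' : A' ⟶ P') (hpo : IsPushout α a p α')
    (rs : List P) (hrs : k.Seq P rs)
    (hfl : letI := α.hom.toAlgebra; Module.Flat A (P ⧸ Ideal.ofList rs)) :
    k.Seq P' (rs.map p.hom) := by
  letI : Algebra A P := α.hom.toAlgebra
  letI : Algebra A A' := a.hom.toAlgebra
  letI : Algebra P P' := p.hom.toAlgebra
  letI : Algebra A' P' := α'.hom.toAlgebra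
  letI : Algebra A P' := (α ≫ p).hom.toAlgebra
  haveI : IsScalarTower A P P' := .of_algebraMap_eq fun _ => rfl
  haveI : IsScalarTower A A' P' := .of_algebraMap_eq fun x => congr($(hpo.w).hom x)
  haveI : Algebra.IsPushout A P A' P' := CommRingCat.isPushout_iff_isPushout.mp hpo
  haveI : Module.Flat A (P ⧸ Ideal.ofList rs) := hfl
  exact kindSeq_baseChange k hk A P A' P' rs hrs

set_option maxHeartbeats 1000000 in
theorem isRelRegularImmersion_baseChange {Z X S S' : Scheme.{u}} (f : X ⟶ S) (i : Z ⟶ X)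
    (k : RegImm.Kind) (hk : k = RegImm.Kind.h1 ∨ k = RegImm.Kind.quasi)
    (hi : RegImm.IsRelRegularImmersion k f i) (g : S' ⟶ S) :
    RegImm.IsRelRegularImmersion k (pullback.snd f g)
      (pullback.snd i (pullback.fst f g)) := by
  obtain ⟨⟨himm, hat⟩, hflat⟩ := hi
  haveI := himm
  haveI := hflat
  have hsq1 : IsPullback (pullback.fst f g) (pullback.snd f g) f g :=
    IsPullback.of_hasPullback f g
  have hsq2 : IsPullback (pullback.fst i (pullback.fst f g)) (pullback.snd i (pullback.fst f g))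
      i (pullback.fst f g) := IsPullback.of_hasPullback _ _
  refine ⟨⟨MorphismProperty.of_isPullback (P := @IsImmersion) hsq2 himm, fun z' => ?_⟩, ?_⟩
  · have hx : pullback.fst f g (pullback.snd i (pullback.fst f g) z') =
        i (pullback.fst i (pullback.fst f g) z') := by
      have := congr($(hsq2.w) z')
      simpa using this.symm
    have hs : g (pullback.snd f g (pullback.snd i (pullback.fst f g) z')) =
        f (i (pullback.fst i (pullback.fst f g) z')) := by
      rw [← hx]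
      have := congr($(hsq1.w) (pullback.snd i (pullback.fst f g) z'))
      simpa using this.symm
    obtain ⟨U₀, hzU₀, hcl₀, rs₀, hrs₀, hker₀⟩ := hat (pullback.fst i (pullback.fst f g) z')
    obtain ⟨V, hV, hsV, -⟩ := exists_affine_nhds_le (⊤ : S.Opens)
      (f (i (pullback.fst i (pullback.fst f g) z'))) trivial
    obtain ⟨V', hV', hs'V', hV'V⟩ := exists_affine_nhds_le (g ⁻¹ᵁ V)
      (pullback.snd f g (pullback.snd i (pullback.fst f g) z'))
      (by change g _ ∈ V; rw [hs]; exact hsV)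
    obtain ⟨U, hU, hxU, hUle⟩ := exists_affine_nhds_le (U₀.1 ⊓ f ⁻¹ᵁ V)
      (i (pullback.fst i (pullback.fst f g) z')) ⟨hzU₀, hsV⟩
    have hUV : U ≤ f ⁻¹ᵁ V := hUle.trans inf_le_right
    obtain ⟨hclU, hrsU, hkerU⟩ := chart_refine k i (pullback.fst i (pullback.fst f g) z') U₀
      hcl₀ rs₀ hrs₀ hker₀ ⟨U, hU⟩ (hUle.trans inf_le_left) hxU
    haveI := hclU
    have hU' : IsAffineOpen (pullback.fst f g ⁻¹ᵁ U ⊓ pullback.snd f g ⁻¹ᵁ V') :=
      isAffineOpen_of_isPullback hsq1 hV hV' hU hV'V hUV rfl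
    have hpo := isPushout_appLE_of_isPullback hsq1 hV hV' hU hV'V hUV
      (UY := pullback.fst f g ⁻¹ᵁ U ⊓ pullback.snd f g ⁻¹ᵁ V') rfl
    have eU' : pullback.fst f g ⁻¹ᵁ U ⊓ pullback.snd f g ⁻¹ᵁ V' ≤ pullback.fst f g ⁻¹ᵁ U :=
      inf_le_left
    have hcl' : IsClosedImmersion (pullback.snd i (pullback.fst f g) ∣_
        (pullback.fst f g ⁻¹ᵁ U ⊓ pullback.snd f g ⁻¹ᵁ V')) :=
      isClosedImmersion_restrict hsq2 eU'
    have hk1 := ker_app_baseChange hsq2 ⟨U, hU⟩ ⟨_, hU'⟩ eU'
    rw [hkerU, Ideal.map_ofList] at hk1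
    have hflq := flat_quotient_of_chart f i ⟨U, hU⟩ ⟨V, hV⟩ hUV
    rw [hkerU] at hflq
    refine ⟨⟨_, hU'⟩, ⟨?_, hs'V'⟩, hcl', _,
      kindSeq_baseChange_cat k hk _ _ _ _ hpo _ hrsU hflq, hk1⟩
    change pullback.fst f g _ ∈ U
    rw [hx]
    exact hxU
  · have hpaste := hsq2.paste_vert hsq1
    exact MorphismProperty.of_isPullback (P := @Flat) hpaste hflat

end Groth.Agent.Helper19.RelRegImm
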