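import Mathlib
import Groth.Agent.Lib.Helper23.SliceCMRing

/-!
# Spreading out a fibrewise regular sequence to a transversally regular one (helper19)

`A → B` of finite presentation, `q` a prime of `B` with `B_q` flat over `A`, `bs ⊆ q` whose images
form a weakly regular sequence on `B_q / p B_q`.  Then after inverting some `g ∉ q` the sequence
`bs` is weakly regular on `B_g` with all partial quotients flat over `A` (EGA IV 11.3.8 + 19.2.4).
The structure follows helper23's `SliceCM.exists_slice_cm`.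
-/

set_option autoImplicit false
set_option linter.unusedSectionVars false
set_option linter.unusedVariables false
set_option linter.style.haveILetI false
universe u

open TensorProduct Function Pointwise

namespace Groth.Agent.Helper19.RelRegImm

open Groth.Agent.Lib27.LocalCore Groth.Agent.Lib.Helper18 Groth.Agent.Lib.Helper23.QFFlat
  Groth.Agent.Lib.Helper23.SliceCM

set_option maxHeartbeats 1600000 in
theorem exists_transReg_away {A B : Type u} [CommRing A] [CommRing B] [Algebra A B]
    [Algebra.FinitePresentation A B] (q : Ideal B) [q.IsPrime]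
    (L : Type u) [CommRing L] [Algebra B L] [Algebra A L] [IsScalarTower A B L]
    [IsLocalization.AtPrime L q] [Module.Flat A L]
    (bs : List B) (hbsq : ∀ b ∈ bs, b ∈ q)
    (hreg : RingTheory.Sequence.IsWeaklyRegular
      (L ⧸ fibIdeal (A := A) q L • (⊤ : Submodule L L)) (bs.map (algebraMap B L))) :
    ∃ g : B, g ∉ q ∧
      ∀ (Bg : Type u) [CommRing Bg] [Algebra B Bg] [Algebra A Bg] [IsScalarTower A B Bg]
        [IsLocalization.Away g Bg],
        RingTheory.Sequence.IsWeaklyRegular Bg (bs.map (algebraMap B Bg)) ∧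
        ∀ j : ℕ, Module.Flat A (Bg ⧸ Ideal.ofList ((bs.take j).map (algebraMap B Bg))) := by
  classical
  haveI : IsLocalRing L := IsLocalization.AtPrime.isLocalRing L q
  obtain ⟨hs, hhs⟩ : ∃ hs : List L, hs = bs.map (algebraMap B L) := ⟨_, rfl⟩
  rw [← hhs] at hreg
  have hlen : bs.length = hs.length := by rw [hhs, List.length_map]
  have hJq : ∀ l : List B, (∀ b ∈ l, b ∈ q) → Ideal.ofList l ≤ q := fun l hl => by
    rw [Ideal.ofList, Ideal.span_le]
    exact fun x hx => hl x hx
  have hJi : ∀ i, (Ideal.ofList (bs.take i)).map (algebraMap B L) = Ideal.ofList (hs.take i) :=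
    fun i => by rw [Ideal.map_ofList, hhs, List.map_take]
  have hJiq : ∀ i, Ideal.ofList (bs.take i) ≤ q := fun i =>
    hJq _ (fun b hb => hbsq b (List.mem_of_mem_take hb))
  -- flatness of all partial quotients
  have hflat : ∀ i, Module.Flat A (L ⧸ (Ideal.ofList (bs.take i)).map (algebraMap B L)) := by
    intro i
    have hregi : RingTheory.Sequence.IsWeaklyRegular
        (L ⧸ (fibIdeal (A := A) q L) • (⊤ : Submodule L L)) (hs.take i) := by
      have h0 := hreg
      rw [← List.take_append_drop i hs, RingTheory.Sequence.isWeaklyRegular_append_iff] at h0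
      exact h0.1
    have h1 := flat_quot_ofList (A := A) q L (hs.take i) L hregi
    have hsm : (Ideal.ofList (hs.take i) • (⊤ : Submodule L L)) =
        (Ideal.ofList (bs.take i)).map (algebraMap B L) := by
      rw [smul_eq_mul, Ideal.mul_top, hJi]
    exact Module.Flat.of_linearEquiv ((Submodule.quotEquivOfEq _ _ hsm).restrictScalars A).symm
  -- spreading out regularity
  have hkill : ∀ (i : ℕ) (hi : i < bs.length), ∃ g : B, g ∉ q ∧ ∀ c : B,
      bs[i] * c ∈ Ideal.ofList (bs.take i) → ∃ m : ℕ, g ^ m * c ∈ Ideal.ofList (bs.take i) := by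
    intro i hi
    have hi' : i < hs.length := hlen ▸ hi
    refine exists_kill_mod q L (Ideal.ofList (bs.take i)) (fg_ofList _) (hJiq i) _ (hflat i) ?_
    intro x hx
    rw [hJi] at hx ⊢
    have hbi : algebraMap B L bs[i] = hs[i] := by simp [hhs]
    rw [hbi] at hx
    exact mul_mem_sup_ofList_take (fibIdeal (A := A) q L) hs hreg i hi' _ hx
  choose gk hgk hgkill using hkill
  -- spreading out flatness
  have hflB : ∀ j : ℕ, ∃ g : B, g ∉ q ∧ ∀ (Q : Ideal B) [Q.IsPrime], g ∉ Q →
      Module.Flat A (LocalizedModule Q.primeCompl (B ⧸ Ideal.ofList (bs.take j))) := by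
    intro j
    have hFB := flat_localizedModule_quotient (A := A) q.primeCompl L (Ideal.ofList (bs.take j))
      (hflat j)
    haveI : Module.FinitePresentation B (B ⧸ Ideal.ofList (bs.take j)) := by
      refine Module.finitePresentation_of_surjective (Submodule.mkQ _)
        (Submodule.mkQ_surjective _) ?_
      rw [Submodule.ker_mkQ]
      exact fg_ofList _
    exact Groth.Agent.Lib27.Slice.exists_basicOpen_flat q (B ⧸ Ideal.ofList (bs.take j)) hFB
  choose gfl hgfl hfl using hflB
  obtain ⟨g₁, hg₁def⟩ : ∃ g₁ : B, g₁ = ∏ i : Fin bs.length, gk i i.2 := ⟨_, rfl⟩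
  have hg₁ : g₁ ∉ q := by
    rw [hg₁def]
    intro h
    obtain ⟨i, -, hi⟩ := Ideal.IsPrime.prod_mem_iff.mp h
    exact hgk i i.2 hi
  have hg₁dvd : ∀ (i : ℕ) (hi : i < bs.length), gk i hi ∣ g₁ := by
    intro i hi
    rw [hg₁def]
    exact Finset.dvd_prod_of_mem (fun j : Fin bs.length => gk j j.2) (Finset.mem_univ ⟨i, hi⟩)
  obtain ⟨g₂, hg₂def⟩ : ∃ g₂ : B, g₂ = ∏ j ∈ Finset.range (bs.length + 1), gfl j := ⟨_, rfl⟩
  have hg₂ : g₂ ∉ q := by
    rw [hg₂def]
    intro h
    obtain ⟨j, -, hj⟩ := Ideal.IsPrime.prod_mem_iff.mp h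
    exact hgfl j hj
  have hg₂dvd : ∀ j : ℕ, j ≤ bs.length → gfl j ∣ g₂ := by
    intro j hj
    rw [hg₂def]
    exact Finset.dvd_prod_of_mem gfl (Finset.mem_range.mpr (Nat.lt_succ_of_le hj))
  refine ⟨g₁ * g₂, fun h => (Ideal.IsPrime.mem_or_mem inferInstance h).elim hg₁ hg₂, ?_⟩
  intro Bg _ _ _ _ _
  refine ⟨isWeaklyRegular_away (g₁ * g₂) Bg bs ?_, ?_⟩
  · intro i hi c hc
    obtain ⟨m, hm⟩ := hgkill i hi c hc
    obtain ⟨w, hw⟩ := (hg₁dvd i hi).trans (Dvd.intro g₂ rfl)
    refine ⟨m, ?_⟩
    rw [hw, mul_pow, mul_assoc, mul_left_comm]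
    exact Ideal.mul_mem_left _ _ hm
  · intro j
    -- reduce to `j ≤ bs.length`
    obtain ⟨j', hj', hjj'⟩ : ∃ j' : ℕ, j' ≤ bs.length ∧ bs.take j = bs.take j' := by
      refine ⟨min j bs.length, min_le_right _ _, ?_⟩
      rw [List.take_eq_take_iff]
      simp
    rw [hjj', ← Ideal.map_ofList]
    apply flat_quotient_map_of_localizedModule (A := A) (Submonoid.powers (g₁ * g₂)) Bg
      (Ideal.ofList (bs.take j'))
    rw [Fl.flat_localizedModule_iff_forall_prime]
    intro Q hQ hdis
    haveI := hQ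
    refine hfl j' Q (fun h => ?_)
    have : g₁ * g₂ ∈ Q := by
      obtain ⟨w, hw⟩ := (hg₂dvd j' hj').trans (Dvd.intro_left g₁ rfl)
      rw [hw]
      exact Ideal.mul_mem_right _ _ h
    exact Set.disjoint_left.mp hdis this (Submonoid.mem_powers (g₁ * g₂))

end Groth.Agent.Helper19.RelRegImm
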