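import Mathlib
import Groth.Agent.Helper19.RelRegImm1
import Groth.Agent.Helper19.KosLoc6

/-!
# A quasi-regular sequence with flat quotient is regular on the local ring of the fibre (helper19)

`A → P` of finite presentation, `bs` quasi-regular in `P` with `P/(bs)` flat over `A`.  For a prime
`Qb` of a fibre `κ(p) ⊗ P` containing `bs`, the images of `bs` form a weakly regular sequence on
`P_Q / p P_Q` (`Q` the contraction of `Qb`): quasi-regularity passes to the fibre (S9272), to its
localization, and in a Noetherian local ring quasi-regular sequences in the maximal ideal are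
regular (helper23).
-/

set_option autoImplicit false
set_option linter.unusedSectionVars false
set_option linter.unusedVariables false
set_option linter.style.haveILetI false
universe u

open TensorProduct Function Pointwise

namespace Groth.Agent.Helper19.RelRegImm

open Groth.Agent.Lib27.LocalCore Groth.Agent.Helper19.KosLoc Groth.Agent.Helper19.RegImmBC

variable {A : Type u} [CommRing A] {P : Type u} [CommRing P] [Algebra A P]
  [Algebra.FiniteType A P] (p : Ideal A) [p.IsPrime]
  (Qb : Ideal (p.Fiber P)) [Qb.IsPrime]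

set_option maxHeartbeats 800000 in
theorem fibre_isWeaklyRegular_of_isQuasiRegular (bs : List P)
    (hq : CAlgX.IsQuasiRegular bs.get) [hfl : Module.Flat A (P ⧸ Ideal.ofList bs)]
    (hbsQ : ∀ b ∈ bs, b ∈ Qb.comap (incl p)) :
    RingTheory.Sequence.IsWeaklyRegular
      ((Bq p Qb) ⧸ fibIdeal (A := A) (Qb.comap (incl p)) (Bq p Qb) •
        (⊤ : Submodule (Bq p Qb) (Bq p Qb)))
      (bs.map (algebraMap P (Bq p Qb))) := by
  classical
  letI algF : Algebra (p.Fiber P) (FibLoc p Qb) := (θ p Qb).toRingHom.toAlgebra
  haveI hloc : IsLocalization.AtPrime (FibLoc p Qb) Qb := isLocalization_fibLoc p Qb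
  have halg : ∀ x : p.Fiber P, algebraMap (p.Fiber P) (FibLoc p Qb) x = θ p Qb x := fun _ => rfl
  set Q : Ideal P := Qb.comap (incl p) with hQ
  set fI := fibIdeal (A := A) Q (Bq p Qb) with hfI
  have hfl' : Module.Flat A (P ⧸ Ideal.span (Set.range bs.get)) := by
    rw [span_range_get]; exact hfl
  have h1 := Groth.Agent.S9272.result A P p.ResidueField bs.length bs.get hfl' hq
  haveI : Module.Flat (p.Fiber P) (FibLoc p Qb) := IsLocalization.flat (FibLoc p Qb) Qb.primeCompl
  have h2 := isQuasiRegular_of_flat (A := p.Fiber P) (B := FibLoc p Qb) _ h1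
  haveI : IsLocalRing (FibLoc p Qb) := IsLocalization.AtPrime.isLocalRing (FibLoc p Qb) Qb
  haveI : IsNoetherianRing (p.Fiber P) :=
    Algebra.FiniteType.isNoetherianRing p.ResidueField (p.Fiber P)
  haveI : IsNoetherianRing (FibLoc p Qb) :=
    IsLocalization.isNoetherianRing Qb.primeCompl (FibLoc p Qb) inferInstance
  have hmem : ∀ i : Fin bs.length, algebraMap (p.Fiber P) (FibLoc p Qb)
      ((1 : p.ResidueField) ⊗ₜ[A] bs.get i) ∈ IsLocalRing.maximalIdeal (FibLoc p Qb) := by
    intro i
    rw [IsLocalization.AtPrime.to_map_mem_maximal_iff (FibLoc p Qb) Qb]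
    exact hbsQ _ (List.get_mem bs i)
  have hwF := Groth.Agent.Lib.Helper23.QRR.isWeaklyRegular_of_isQuasiRegular bs.length
    (FibLoc p Qb) _ hmem h2
  set lB : List (Bq p Qb) := bs.map (algebraMap P (Bq p Qb)) with hlB
  have hlist : List.ofFn (fun i : Fin bs.length => algebraMap (p.Fiber P) (FibLoc p Qb)
      ((1 : p.ResidueField) ⊗ₜ[A] bs.get i)) = lB.map (algebraMap (Bq p Qb) (FibLoc p Qb)) := by
    rw [hlB, List.map_map]
    apply List.ext_get
    · simp
    · intro n h1 h2
      simp only [List.get_eq_getElem, List.getElem_ofFn, List.getElem_map, Function.comp_apply]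
      rw [halg, θ_one_tmul]
      rfl
  rw [hlist] at hwF
  have hwB : RingTheory.Sequence.IsWeaklyRegular (FibLoc p Qb) lB := by
    rw [← RingTheory.Sequence.isWeaklyRegular_map_algebraMap_iff (FibLoc p Qb) (FibLoc p Qb) lB]
    exact hwF
  have htop : fI • (⊤ : Submodule (Bq p Qb) (Bq p Qb)) = fI := by
    rw [smul_eq_mul, Ideal.mul_top]
  exact ((Submodule.quotEquivOfEq _ _ htop).isWeaklyRegular_congr lB).mpr hwB

end Groth.Agent.Helper19.RelRegImm
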