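import Mathlib
import Groth.Agent.Helper19.RelRegImm4
import Groth.Agent.Helper19.RelRegImm5
import Groth.Agent.Lib.Helper18.FibBridge

/-!
# A quasi-regular sequence with flat quotient is transversally regular near a prime (helper19)
-/

set_option autoImplicit false
set_option linter.unusedSectionVars false
set_option linter.unusedVariables false
set_option linter.style.haveILetI false
universe u

open TensorProduct Function Pointwise

namespace Groth.Agent.Helper19.RelRegImm

open Groth.Agent.Lib27.LocalCore Groth.Agent.Helper19.KosLoc Groth.Agent.Helper19.RegImmBC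

/-- **EGA IV 19.2.4 / 11.3.8 (ring form)**: `A → P` flat of finite presentation, `bs` a
quasi-regular sequence in `P` with `P/(bs)` flat over `A`, `Q` a prime containing `bs`.  Then on a
principal open neighbourhood `D(g)` of `Q` the sequence is (weakly) regular with all partial
quotients flat over `A`. -/
theorem exists_transReg_of_quasi {A P : Type u} [CommRing A] [CommRing P] [Algebra A P]
    [Algebra.FinitePresentation A P] [Module.Flat A P] (Q : Ideal P) [Q.IsPrime]
    (bs : List P) (hq : CAlgX.IsQuasiRegular bs.get) [Module.Flat A (P ⧸ Ideal.ofList bs)]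
    (hbsQ : ∀ b ∈ bs, b ∈ Q) :
    ∃ g : P, g ∉ Q ∧
      ∀ (Pg : Type u) [CommRing Pg] [Algebra P Pg] [Algebra A Pg] [IsScalarTower A P Pg]
        [IsLocalization.Away g Pg],
        RingTheory.Sequence.IsWeaklyRegular Pg (bs.map (algebraMap P Pg)) ∧
        ∀ j : ℕ, Module.Flat A (Pg ⧸ Ideal.ofList ((bs.take j).map (algebraMap P Pg))) := by
  obtain ⟨Qb, hQbp, hQb⟩ := Groth.Agent.Lib.Helper18.FibBridge.exists_prime_of_comap_eq
    (Q.comap (algebraMap A P)) Q rfl
  haveI := hQbp
  have hQb' : Qb.comap (incl (P := P) (Q.comap (algebraMap A P))) = Q :=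
    (Ideal.ext fun _ => Iff.rfl : Qb.comap (incl (P := P) (Q.comap (algebraMap A P))) =
      Groth.Agent.Lib.Helper18.FibBridge.ctr (Q.comap (algebraMap A P)) Qb).trans hQb
  have hreg := fibre_isWeaklyRegular_of_isQuasiRegular (Q.comap (algebraMap A P)) Qb bs hq
    (fun b hb => by rw [hQb']; exact hbsQ b hb)
  haveI : Module.Flat A (Bq (Q.comap (algebraMap A P)) Qb) := by
    haveI : Module.Flat P (Bq (Q.comap (algebraMap A P)) Qb) :=
      IsLocalization.flat (Bq (Q.comap (algebraMap A P)) Qb)
        (Qb.comap (incl (P := P) (Q.comap (algebraMap A P)))).primeCompl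
    exact Module.Flat.trans A P (Bq (Q.comap (algebraMap A P)) Qb)
  obtain ⟨g, hg, H⟩ := exists_transReg_away (A := A)
    (Qb.comap (incl (P := P) (Q.comap (algebraMap A P))))
    (Bq (Q.comap (algebraMap A P)) Qb) bs (fun b hb => by rw [hQb']; exact hbsQ b hb) hreg
  exact ⟨g, fun h => hg (by rw [hQb']; exact h), H⟩

end Groth.Agent.Helper19.RelRegImm
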