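import Mathlib
import Groth.Prelude.Def_RegImm
import Groth.Agent.Helper19.RelRegImm3
import Groth.Agent.Helper19.RelRegImm6
import Groth.Agent.Helper19.RelGCI1

/-!
# Relative quasi-regular immersions are transversally regular (helper19)

EGA IV 19.2.4: for `f : X ⟶ S` flat and locally of finite presentation, a quasi-regular immersion
`i : Z ⟶ X` with `Z` flat over `S` is transversally regular relative to `S`.
-/

set_option autoImplicit false
set_option linter.unusedSectionVars false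
set_option linter.unusedVariables false
set_option linter.style.haveILetI false
universe u

open AlgebraicGeometry CategoryTheory CategoryTheory.Limits Opposite

namespace Groth.Agent.Helper19.RelRegImm

open Groth.Agent.Helper19.RegImmBC Groth.Agent.Lib.Helper18.GFl Groth.Agent.Helper19.KosLoc
  Groth.Agent.Helper19.RelGCI

variable {Z X S : Scheme.{u}}

/-- sections in the kernel of `i` vanish at points of the image. -/
theorem ker_le_ptIdeal (i : Z ⟶ X) (U : X.Opens) (z : Z) (hz : i z ∈ U) :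
    RingHom.ker (i.app U).hom ≤ ptIdeal U (i z) hz := by
  intro s hs
  by_contra hns
  rw [not_mem_ptIdeal_iff] at hns
  have h1 : z ∈ i ⁻¹ᵁ X.basicOpen s := hns
  rw [Scheme.preimage_basicOpen] at h1
  rw [RingHom.mem_ker] at hs
  rw [hs, Scheme.basicOpen_zero] at h1
  exact h1

theorem isTransRegularSeq_iff_rtr {A B : Type u} [CommRing A] [CommRing B] [Algebra A B]
    (rs : List B) : RegImm.IsTransRegularSeq A B rs ↔ RTR A rs := by
  rw [RegImm.IsTransRegularSeq, RTR, isWeaklyRegular_iff_forall_mul_mem]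
  exact and_comm

set_option maxHeartbeats 1000000 in
theorem isTransRegularImmersionAt_of_rel_quasi (f : X ⟶ S) [Flat f]
    [LocallyOfFinitePresentation f] (i : Z ⟶ X)
    (hi : RegImm.IsRelRegularImmersion RegImm.Kind.quasi f i) (z : Z) :
    RegImm.IsTransRegularImmersionAt f i z := by
  obtain ⟨⟨himm, hat⟩, hflat⟩ := hi
  haveI := himm
  haveI := hflat
  obtain ⟨U₀, hzU₀, hcl₀, rs₀, hrs₀, hker₀⟩ := hat z
  obtain ⟨V, hV, hsV, -⟩ := exists_affine_nhds_le (⊤ : S.Opens) (f (i z)) trivial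
  obtain ⟨U, hU, hxU, hUle⟩ := exists_affine_nhds_le (U₀.1 ⊓ f ⁻¹ᵁ V) (i z) ⟨hzU₀, hsV⟩
  have hUV : U ≤ f ⁻¹ᵁ V := hUle.trans inf_le_right
  obtain ⟨hclU, hrsU, hkerU⟩ := chart_refine RegImm.Kind.quasi i z U₀
    hcl₀ rs₀ hrs₀ hker₀ ⟨U, hU⟩ (hUle.trans inf_le_left) hxU
  haveI := hclU
  have hflq := flat_quotient_of_chart f i ⟨U, hU⟩ ⟨V, hV⟩ hUV
  rw [hkerU] at hflq
  set rsU := rs₀.map (X.presheaf.map (homOfLE (hUle.trans inf_le_left)).op).hom with hrsUdef
  -- ring-level data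
  letI algAP : Algebra Γ(S, V) Γ(X, U) := (f.appLE V U hUV).hom.toAlgebra
  haveI : Module.Flat Γ(S, V) Γ(X, U) :=
    (HasRingHomProperty.appLE (P := @Flat) f inferInstance ⟨V, hV⟩ ⟨U, hU⟩ hUV : _)
  haveI : Algebra.FinitePresentation Γ(S, V) Γ(X, U) :=
    (HasRingHomProperty.appLE (P := @LocallyOfFinitePresentation) f inferInstance ⟨V, hV⟩
      ⟨U, hU⟩ hUV : _)
  haveI : Module.Flat Γ(S, V) (Γ(X, U) ⧸ Ideal.ofList rsU) := hflq
  have hmem : ∀ b ∈ rsU, b ∈ ptIdeal U (i z) hxU := by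
    intro b hb
    apply ker_le_ptIdeal i U z hxU
    change b ∈ RingHom.ker (i.app (⟨U, hU⟩ : X.affineOpens).1).hom
    rw [hkerU]
    exact Ideal.subset_span hb
  obtain ⟨g, hg, H⟩ := exists_transReg_of_quasi (A := Γ(S, V)) (ptIdeal U (i z) hxU) rsU hrsU hmem
  rw [not_mem_ptIdeal_iff] at hg
  -- the basic open
  have hUg : IsAffineOpen (X.basicOpen g) := hU.basicOpen g
  have hle : X.basicOpen g ≤ U := X.basicOpen_le g
  have hUgV : X.basicOpen g ≤ f ⁻¹ᵁ V := hle.trans hUV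
  obtain ⟨hclg, hrsg, hkerg⟩ := chart_refine RegImm.Kind.quasi i z ⟨U, hU⟩
    hclU rsU hrsU hkerU ⟨X.basicOpen g, hUg⟩ hle hg
  refine ⟨⟨X.basicOpen g, hUg⟩, ⟨V, hV⟩, hUgV, hg, hclg, _, ?_, hkerg⟩
  letI algPg : Algebra Γ(X, U) Γ(X, X.basicOpen g) :=
    (X.presheaf.map (homOfLE hle).op).hom.toAlgebra
  letI algAg : Algebra Γ(S, V) Γ(X, X.basicOpen g) := (f.appLE V (X.basicOpen g) hUgV).hom.toAlgebra
  haveI : IsScalarTower Γ(S, V) Γ(X, U) Γ(X, X.basicOpen g) :=
    IsScalarTower.of_algebraMap_eq fun a => by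
      change (f.appLE V (X.basicOpen g) hUgV).hom a =
        (X.presheaf.map (homOfLE hle).op).hom ((f.appLE V U hUV).hom a)
      rw [← Scheme.Hom.appLE_map f hUV (homOfLE hle).op]
      rfl
  haveI : IsLocalization.Away g Γ(X, X.basicOpen g) :=
    hU.isLocalization_of_eq_basicOpen g (homOfLE hle) rfl
  obtain ⟨hw, hfl⟩ := H Γ(X, X.basicOpen g)
  refine ⟨hw, fun j _ => ?_⟩
  have := hfl j
  rwa [List.map_take] at this

end Groth.Agent.Helper19.RelRegImm
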