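import Mathlib
import Groth.Prelude.Def_CAlg
import Groth.Agent.Lib.Helper18.CM4

/-!
# Quotients of Cohen–Macaulay local rings by regular sequences have no embedded primes (helper19)
-/

set_option autoImplicit false
universe u

open IsLocalRing RingTheory.Sequence

namespace Groth.Agent.Helper19.CMAss

open Groth.Agent.Lib.Helper18.CM

/-- If `R` is a Cohen–Macaulay local ring, `S = R/(xs)` with `xs` a regular sequence in the maximal
ideal, and the maximal ideal of `S` is an associated prime of `S`, then `dim S = 0`. -/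
theorem ringKrullDim_eq_zero_of_isAssociatedPrime {R S : Type u} [CommRing R] [CommRing S]
    [hR : LocCoh.IsCohenMacaulayLocalRing R] [IsLocalRing S] (φ : R →+* S)
    (hφ : Function.Surjective φ) (xs : List R) (hwr : IsWeaklyRegular R xs)
    (hxs : ∀ x ∈ xs, x ∈ maximalIdeal R) (hker : RingHom.ker φ = Ideal.ofList xs)
    (hz : IsAssociatedPrime (maximalIdeal S) S) : ringKrullDim S = 0 := by
  have hCM : LocCoh.IsCohenMacaulayModule R R := hR.supportDim_eq_depth
  have hq := (isWeaklyRegular_iff_supportDim_and_isCohenMacaulayModule xs hxs R hCM).2 hwr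
  have hsm : (Ideal.ofList xs • ⊤ : Submodule R R) = Ideal.ofList xs := by
    rw [smul_eq_mul, Ideal.mul_top]
  rw [hsm] at hq
  haveI : IsNoetherianRing S := isNoetherianRing_of_surjective R S φ hφ
  haveI : IsLocalHom φ := hφ.isLocalHom
  -- the maximal ideal of `R` is associated to `R ⧸ (xs)`
  have hass : maximalIdeal R ∈ associatedPrimes R (R ⧸ Ideal.ofList xs) := by
    rw [AssociatedPrimes.mem_iff, isAssociatedPrime_iff]
    refine ⟨inferInstance, ?_⟩
    obtain ⟨-, s, hs⟩ := isAssociatedPrime_iff.mp hz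
    obtain ⟨r, rfl⟩ := hφ s
    refine ⟨Submodule.Quotient.mk r, ?_⟩
    ext a
    rw [Submodule.mem_colon_singleton, Submodule.mem_bot, ← Submodule.Quotient.mk_smul,
      Submodule.Quotient.mk_eq_zero, ← hker, RingHom.mem_ker, smul_eq_mul, map_mul]
    have h1 : φ a ∈ maximalIdeal S ↔ φ a * φ r = 0 := by
      rw [hs, Submodule.mem_colon_singleton, Submodule.mem_bot, smul_eq_mul]
    rw [← h1]
    constructor
    · intro ha
      rw [mem_maximalIdeal, mem_nonunits_iff] at ha ⊢
      intro hu
      exact ha (isUnit_of_map_unit φ a hu)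
    · intro ha
      rw [mem_maximalIdeal, mem_nonunits_iff] at ha ⊢
      intro hu
      exact ha (hu.map φ)
  have hd : LocCoh.depth R (R ⧸ Ideal.ofList xs) = 0 := (depth_eq_zero_iff _).mpr hass
  unfold LocCoh.IsCohenMacaulayModule at hq
  rw [hd, Module.supportDim_quotient_eq_ringKrullDim] at hq
  have e : (R ⧸ Ideal.ofList xs) ≃+* S :=
    (Ideal.quotEquivOfEq hker.symm).trans (RingHom.quotientKerEquivOfSurjective hφ)
  rw [← ringKrullDim_eq_of_ringEquiv e, hq]
  rfl

end Groth.Agent.Helper19.CMAss
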