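import Mathlib
import Groth.Prelude.Def_CAlg
import Groth.Agent.Lib.Helper18.CM4
import Groth.Agent.Lib.Helper16.CMHeightFormula

/-!
# In a Cohen–Macaulay local ring, generators of an ideal of the expected height form a regular
sequence (helper19)
-/

set_option autoImplicit false
universe u

open IsLocalRing RingTheory.Sequence

namespace Groth.Agent.Helper19.CMReg

open Groth.Agent.Lib.Helper18.CM

/-- Matsumura 17.4 (iii): in a Cohen–Macaulay local ring a sequence `xs` in the maximal ideal with
`ht (xs) ≥ |xs|` is a regular sequence. -/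
theorem isWeaklyRegular_of_le_height {R : Type u} [CommRing R]
    [hR : LocCoh.IsCohenMacaulayLocalRing R] (xs : List R)
    (hxs : ∀ x ∈ xs, x ∈ maximalIdeal R)
    (hht : (xs.length : ℕ∞) ≤ (Ideal.ofList xs).height) : IsWeaklyRegular R xs := by
  have hCM : LocCoh.IsCohenMacaulayModule R R := hR.supportDim_eq_depth
  have hI : Ideal.ofList xs ≠ ⊤ := by
    intro h
    have hle : Ideal.ofList xs ≤ maximalIdeal R := by
      unfold Ideal.ofList
      rw [Ideal.span_le]
      exact fun x hx => hxs x hx
    rw [h] at hle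
    exact (maximalIdeal.isMaximal R).ne_top (top_le_iff.mp hle)
  rw [(isWeaklyRegular_iff_supportDim_and_isCohenMacaulayModule xs hxs R hCM).1]
  have h1 := supportDim_le_quot_ofList_add_length xs hxs R
  have h2 := Groth.Agent.Lib.Helper16.CMHt.height_add_ringKrullDim_quotient R hCM
    (Ideal.ofList xs) hI
  have hsm : (Ideal.ofList xs • ⊤ : Submodule R R) = Ideal.ofList xs := by
    rw [smul_eq_mul, Ideal.mul_top]
  rw [hsm] at h1 ⊢
  rw [Module.supportDim_quotient_eq_ringKrullDim, Module.supportDim_self_eq_ringKrullDim] at h1 ⊢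
  apply le_antisymm _ h1
  rw [← h2, add_comm]
  have h3 : ((xs.length : ℕ∞) : WithBot ℕ∞) ≤ (((Ideal.ofList xs).height : ℕ∞) : WithBot ℕ∞) :=
    WithBot.coe_le_coe.mpr hht
  exact add_le_add_left h3 _

end Groth.Agent.Helper19.CMReg
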