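import Mathlib
import Groth.Agent.Lib.Helper29.QCohPush
import Groth.Prelude.Def_CohB1
set_option autoImplicit false
universe u
open CategoryTheory CategoryTheory.Limits AlgebraicGeometry TopologicalSpace Opposite
open Groth.Agent.Lib.Helper29.QCoh

/-! # Support of the direct image along a closed immersion -/

namespace Groth.Agent.Helper19.ClImmSupp

variable {Z X : Scheme.{u}} (i : Z ⟶ X) [IsClosedImmersion i] (G : Z.Modules) [G.IsQuasicoherent]

theorem subsingleton_stalk_pushforward_iff (z : Z) :
    Subsingleton (((Scheme.Modules.pushforward i).obj G).presheaf.stalk (i z)) ↔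
      Subsingleton (G.presheaf.stalk z) := by
  haveI : ((Scheme.Modules.pushforward i).obj G).IsQuasicoherent :=
    isQuasicoherent_pushforward_of_isAffineHom i G
  obtain ⟨U, hU, hxU, -⟩ := AlgebraicGeometry.exists_isAffineOpen_mem_and_subset
    (x := i z) (U := ⊤) trivial
  have hV : IsAffineOpen (i ⁻¹ᵁ U) := hU.preimage i
  have hzV : z ∈ i ⁻¹ᵁ U := hxU
  rw [stalk_subsingleton_iff ((Scheme.Modules.pushforward i).obj G) hU (i z) hxU,
    stalk_subsingleton_iff G hV z hzV]
  have hpre : ∀ r : Γ(X, U), i ⁻¹ᵁ X.basicOpen r = Z.basicOpen (i.app U r) :=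
    fun r => Scheme.preimage_basicOpen i r
  constructor
  · intro h m
    obtain ⟨r, hr, hrm⟩ := h m
    refine ⟨i.app U r, ?_, ?_⟩
    · rw [← hpre r]; exact hr
    · exact hrm
  · intro h m
    obtain ⟨r', hr', hrm⟩ := h m
    obtain ⟨r, rfl⟩ := i.app_surjective U hU r'
    refine ⟨r, ?_, ?_⟩
    · have : z ∈ i ⁻¹ᵁ X.basicOpen r := by rw [hpre r]; exact hr'
      exact this
    · exact hrm

omit [G.IsQuasicoherent] in
theorem subsingleton_stalk_pushforward_of_notMem_range [G.IsQuasicoherent] (x : X)
    (hx : x ∉ Set.range i) :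
    Subsingleton (((Scheme.Modules.pushforward i).obj G).presheaf.stalk x) := by
  haveI : ((Scheme.Modules.pushforward i).obj G).IsQuasicoherent :=
    isQuasicoherent_pushforward_of_isAffineHom i G
  obtain ⟨U, hU, hxU, -⟩ := AlgebraicGeometry.exists_isAffineOpen_mem_and_subset
    (x := x) (U := ⊤) trivial
  have hsupp : x ∉ (i.ker.support : Set X) := by
    rw [Scheme.Hom.support_ker, i.isClosedEmbedding.isClosed_range.closure_eq]
    exact hx
  have hsupp' : ¬ (x ∈ i.ker.support) := hsupp
  rw [Scheme.IdealSheafData.mem_support_iff_of_mem (U := ⟨U, hU⟩) hxU,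
    Scheme.mem_zeroLocus_iff] at hsupp'
  push Not at hsupp'
  replace hsupp := hsupp'
  obtain ⟨a, ha, hxa⟩ := hsupp
  rw [stalk_subsingleton_iff ((Scheme.Modules.pushforward i).obj G) hU x hxU]
  intro m
  refine ⟨a, hxa, ?_⟩
  have h0 : i.app U a = 0 := by
    have := ha
    rw [SetLike.mem_coe, Scheme.Hom.ker_apply] at this
    exact this
  change (i.app U a) • (show Γ(G, i ⁻¹ᵁ U) from m) = 0
  rw [h0, zero_smul]

/-- The support of `i_* G` is the image of the support of `G`. -/
theorem support_pushforward :
    CohB1.support ((Scheme.Modules.pushforward i).obj G) = i '' CohB1.support G := by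
  ext x
  by_cases hx : x ∈ Set.range i
  · obtain ⟨z, rfl⟩ := hx
    constructor
    · intro h
      refine ⟨z, ?_, rfl⟩
      change ¬ Subsingleton _
      rw [← subsingleton_stalk_pushforward_iff i G z]
      exact h
    · rintro ⟨z', hz', hzz'⟩
      have : z' = z := i.isClosedEmbedding.injective hzz'
      subst this
      change ¬ Subsingleton _
      rw [subsingleton_stalk_pushforward_iff i G z']
      exact hz'
  · constructor
    · intro h
      exact absurd (subsingleton_stalk_pushforward_of_notMem_range i G x hx) h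
    · rintro ⟨z, -, rfl⟩
      exact absurd ⟨z, rfl⟩ hx

end Groth.Agent.Helper19.ClImmSupp
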