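import Mathlib
import Groth.Agent.Lib.Helper29.QCohPush
import Groth.Agent.Lib.Helper29.IsoCover
import Groth.Agent.Helper19.PullUnit
import Groth.Agent.S2314
set_option autoImplicit false
universe u
open CategoryTheory CategoryTheory.Limits AlgebraicGeometry TopologicalSpace Opposite
open scoped TensorProduct
open Groth.Agent.Lib.Helper29.QCoh

/-! # The unit `G ⟶ i_* i^* G` of a closed immersion -/

namespace Groth.Agent.Helper19.ClImmUnit

variable {Z X : Scheme.{u}} (i : Z ⟶ X) [IsClosedImmersion i] (G : X.Modules)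

/-- The unit on sections over `U` is semilinear, hence if it is injective then the kernel ideal
kills `G(U)`. -/
theorem killed_of_unit_app_injective (U : X.affineOpens)
    (hinj : Function.Injective
      (((Scheme.Modules.pullbackPushforwardAdjunction i).unit.app G).app U.1))
    (a : Γ(X, U.1)) (ha : a ∈ i.ker.ideal U) (s : Γ(G, U.1)) : a • s = 0 := by
  apply hinj
  have h1 : pullSect i G U.1 (a • s) = (i.app U.1 a) • pullSect i G U.1 s := pullSect_smul i G U.1 a s
  have h2 : i.app U.1 a = 0 := by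
    rw [Scheme.Hom.ker_apply] at ha
    exact ha
  rw [h2, zero_smul] at h1
  exact h1.trans (map_zero _).symm

set_option maxRecDepth 4000 in
theorem unit_app_bijective [G.IsQuasicoherent] (U : X.affineOpens)
    (hJ : i.ker.ideal U ≤ Module.annihilator Γ(X, U.1) Γ(G, U.1)) :
    Function.Bijective
      (((Scheme.Modules.pullbackPushforwardAdjunction i).unit.app G).app U.1) := by
  have hV : IsAffineOpen (i ⁻¹ᵁ U.1) := U.2.preimage i
  letI alg := (i.appLE U.1 (i ⁻¹ᵁ U.1) le_rfl).hom.toAlgebra
  have happ : (i.appLE U.1 (i ⁻¹ᵁ U.1) le_rfl) = i.app U.1 :=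
    (Scheme.Hom.app_eq_appLE _).symm
  have hs : Function.Surjective
      (algebraMap Γ(X, U.1) Γ(Z, i ⁻¹ᵁ U.1)) := by
    change Function.Surjective (i.appLE U.1 (i ⁻¹ᵁ U.1) le_rfl).hom
    rw [happ]
    exact i.app_surjective U.1 U.2
  have hk : RingHom.ker (algebraMap Γ(X, U.1) Γ(Z, i ⁻¹ᵁ U.1)) ≤
      Module.annihilator Γ(X, U.1) Γ(G, U.1) := by
    change RingHom.ker (i.appLE U.1 (i ⁻¹ᵁ U.1) le_rfl).hom ≤ _
    rw [happ, ← Scheme.Hom.ker_apply]
    exact hJ
  have hb := Groth.Agent.S2314.one_tmul_bijective (M := Γ(G, U.1)) hs hk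
  have key : ∀ m : Γ(G, U.1),
      pullbackSectionsEquiv i G hV U.2 le_rfl
        (pullSect i G U.1 m) =
        (1 : Γ(Z, i ⁻¹ᵁ U.1)) ⊗ₜ[Γ(X, U.1)] m := by
    intro m
    have h := Groth.Agent.Helper19.PullUnit.pullbackSectionsEquiv_pullSect i G hV U.2
      le_rfl m
    have h' : res ((Scheme.Modules.pullback i).obj G) le_rfl
        (pullSect i G U.1 m) = pullSect i G U.1 m := res_self _ _
    have h2 : pullbackSectionsEquiv i G hV U.2 le_rfl
        (res ((Scheme.Modules.pullback i).obj G) le_rfl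
          (pullSect i G U.1 m)) =
        (1 : Γ(Z, i ⁻¹ᵁ U.1)) ⊗ₜ[Γ(X, U.1)] m := h
    rw [h'] at h2
    exact h2
  have : (fun m => pullSect i G U.1 m) =
      (pullbackSectionsEquiv i G hV U.2 le_rfl).symm ∘ (fun m : Γ(G, U.1) =>
        (1 : Γ(Z, i ⁻¹ᵁ U.1)) ⊗ₜ[Γ(X, U.1)] m) := by
    funext m
    simp only [Function.comp_apply]
    rw [← key m, LinearEquiv.symm_apply_apply]
  change Function.Bijective (fun m => pullSect i G U.1 m)
  rw [this]
  exact (pullbackSectionsEquiv i G hV U.2 le_rfl).symm.bijective.comp hb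

/-- If the kernel ideal of the closed immersion `i` kills `G`, the unit `G ⟶ i_* i^* G` is an
isomorphism. -/
theorem isIso_unit_of_killed [G.IsQuasicoherent]
    (h : ∀ (U : X.affineOpens) (a : Γ(X, U.1)), a ∈ i.ker.ideal U → ∀ s : Γ(G, U.1), a • s = 0) :
    IsIso ((Scheme.Modules.pullbackPushforwardAdjunction i).unit.app G) := by
  haveI : ((Scheme.Modules.pullback i).obj G).IsQuasicoherent := isQuasicoherent_pullback _ G
  haveI : ((Scheme.Modules.pushforward i).obj
      ((Scheme.Modules.pullback i).obj G)).IsQuasicoherent :=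
    isQuasicoherent_pushforward_of_isAffineHom _ _
  refine @isIso_of_app_bijective_of_affine_cover X G
    ((Scheme.Modules.pushforward i).obj ((Scheme.Modules.pullback i).obj G))
    inferInstance inferInstance
    ((Scheme.Modules.pullbackPushforwardAdjunction i).unit.app G) _
    (fun U : X.affineOpens => U.1) (fun U => U.2) (fun x => ?_) (fun U => ?_)
  · obtain ⟨U, hU, hxU, -⟩ := AlgebraicGeometry.exists_isAffineOpen_mem_and_subset
      (x := x) (U := ⊤) trivial
    exact ⟨⟨U, hU⟩, hxU⟩
  · exact unit_app_bijective i G U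
      (fun a ha => Module.mem_annihilator.mpr (fun s => h U a ha s))

/-- Conversely, if the unit is an isomorphism, the kernel ideal kills `G`. -/
theorem killed_of_isIso_unit
    [hiso : IsIso ((Scheme.Modules.pullbackPushforwardAdjunction i).unit.app G)]
    (U : X.affineOpens) (a : Γ(X, U.1)) (ha : a ∈ i.ker.ideal U) (s : Γ(G, U.1)) : a • s = 0 :=
  killed_of_unit_app_injective i G U
    (app_bijective_of_isIso ((Scheme.Modules.pullbackPushforwardAdjunction i).unit.app G) U.1).1
    a ha s

end Groth.Agent.Helper19.ClImmUnit
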