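import Mathlib
import Groth.Agent.Helper19.Conormal7
import Groth.Agent.S9370
import Groth.Agent.S9384
import Groth.Agent.S9386
import Groth.Agent.S5005
set_option autoImplicit false
set_option linter.style.haveILetI false
set_option linter.unusedSectionVars false
universe u

open CategoryTheory CategoryTheory.Limits AlgebraicGeometry Opposite TopologicalSpace

namespace Groth.Agent.Helper19.OmegaGrp

open Groth.Agent.Lib.Helper29.QCoh Groth.Agent.Helper19.OmegaD Groth.Agent.Helper19.Conormal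

section conormalDiff

variable {Z X Y : Scheme.{u}} (i : Z ⟶ X) {f : X ⟶ Y} {Ω' : X.Modules} (d : OmegaSh.Der f Ω')

theorem idealSect_smul (I : X.IdealSheafData) (U : X.Opens) (r : Γ(X, U))
    (s : Γ(ClSub.idealMod I, U)) :
    OmegaSh.idealSect I U (r • s) = r * OmegaSh.idealSect I U s := by
  rw [OmegaSh.idealSect_apply, Scheme.Modules.Hom.app_smul]
  rfl

theorem idealSect_res (I : X.IdealSheafData) {U U' : X.Opens} (h : U' ≤ U)
    (s : Γ(ClSub.idealMod I, U)) :
    OmegaSh.idealSect I U' (res _ h s) = X.presheaf.map (homOfLE h).op (OmegaSh.idealSect I U s) := by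
  rw [OmegaSh.idealSect_apply, app_res]
  rfl

theorem app_idealSect_eq_zero {U : X.Opens} (hU : IsAffineOpen U)
    (s : Γ(ClSub.idealMod i.ker, U)) : (i.app U).hom (OmegaSh.idealSect i.ker U s) = 0 := by
  have h1 : OmegaSh.idealSect i.ker U s ∈ i.ker.ideal ⟨U, hU⟩ := idealModι_app_mem i.ker ⟨U, hU⟩ s
  exact RingHom.mem_ker.mp (i.ideal_ker_le ⟨U, hU⟩ h1)

/-- The local formula for the conormal differential, as an additive map. -/
noncomputable def cdMap (U : X.Opens) : Γ(ClSub.idealMod i.ker, U) →+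
    Γ((Scheme.Modules.pullback i).obj Ω', i ⁻¹ᵁ U) :=
  ((OmegaSh.pullSect i Ω' U).hom.comp (d.app U)).comp (OmegaSh.idealSect i.ker U)

theorem cdMap_apply (U : X.Opens) (s : Γ(ClSub.idealMod i.ker, U)) :
    cdMap i d U s = OmegaSh.pullSect i Ω' U (d.app U (OmegaSh.idealSect i.ker U s)) := rfl

theorem cdMap_res {U U' : X.Opens} (h : U' ≤ U) (s : Γ(ClSub.idealMod i.ker, U)) :
    cdMap i d U' (res _ h s) = res _ (i.preimage_mono h) (cdMap i d U s) := by
  rw [cdMap_apply, cdMap_apply, idealSect_res, der_res']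
  exact pullSect_res i Ω' h _

theorem cdMap_smul {U : X.Opens} (hU : IsAffineOpen U) (r : Γ(X, U))
    (s : Γ(ClSub.idealMod i.ker, U)) : cdMap i d U (r • s) = (i.app U r) • cdMap i d U s := by
  rw [cdMap_apply, cdMap_apply, idealSect_smul]
  have h1 : d.app U (r * OmegaSh.idealSect i.ker U s) =
      r • d.app U (OmegaSh.idealSect i.ker U s) + OmegaSh.idealSect i.ker U s • d.app U r :=
    d.d_mul (X := op U) r (OmegaSh.idealSect i.ker U s)
  have h2 : (i.app U) (OmegaSh.idealSect i.ker U s) = 0 := app_idealSect_eq_zero i hU s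
  have h3 : ∀ (a : Γ(X, U)) (m : Γ(Ω', U)),
      OmegaSh.pullSect i Ω' U (a • m) = (i.app U a) • OmegaSh.pullSect i Ω' U m :=
    fun a m => pullSect_smul i Ω' U a m
  rw [h1, map_add, h3, h3, h2, zero_smul, add_zero]

/-- Existence of the canonical map `C_{Z/X} ⟶ i^*Ω` induced by a derivation. -/
theorem exists_conormalDiff :
    ∃ φ : Omega.conormal i ⟶ (Scheme.Modules.pullback i).obj Ω', OmegaSh.IsConormalDiff i d φ := by
  let B : Set X.Opens := {U | IsAffineOpen U}
  have hB : Opens.IsBasis B := X.isBasis_affineOpens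
  obtain ⟨α, hα⟩ := exists_hom_of_basis (M := ClSub.idealMod i.ker)
    (N := (Scheme.Modules.pushforward i).obj ((Scheme.Modules.pullback i).obj Ω')) B hB
    (fun U => cdMap i d U.1) (fun U r m => cdMap_smul i d U.2 r m)
    (fun U U' h m => cdMap_res i d h m)
  have hα' : ∀ (U : X.Opens) (s : Γ(ClSub.idealMod i.ker, U)), α.app U s = cdMap i d U s := by
    intro U s
    apply eq_of_res_basis_eq ((Scheme.Modules.pushforward i).obj ((Scheme.Modules.pullback i).obj Ω'))
      B hB
    intro W hW hWU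
    rw [← app_res]
    refine (hα ⟨W, hW⟩ _).trans ?_
    exact cdMap_res i d hWU s
  let adj := Scheme.Modules.pullbackPushforwardAdjunction i
  refine ⟨(adj.homEquiv _ _).symm α, ?_⟩
  intro U s
  change ((adj.homEquiv _ _).symm α).app (i ⁻¹ᵁ U) (OmegaSh.pullSect i (ClSub.idealMod i.ker) U s) = _
  rw [← Groth.Agent.S9370.homEquiv_app, Equiv.apply_symm_apply, hα', cdMap_apply]

end conormalDiff

section sectionIso

/-- A derivation relative to the identity vanishes. -/
theorem der_app_eq_zero_of_eq_id {S : Scheme.{u}} {k : S ⟶ S} (hk : k = 𝟙 S) {F : S.Modules}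
    (D : OmegaSh.Der k F) (U : S.Opens) (s : Γ(S, U)) : D.app U s = 0 := by
  subst hk
  have h := D.d_app (X := op U) s
  have e : (𝟙 S : S ⟶ S).app U s = s := by rw [Scheme.Hom.id_app]; rfl
  calc D.app U s = D.app U ((𝟙 S : S ⟶ S).app U s) := by rw [e]
    _ = 0 := h

/-- The module of differentials of the identity is zero. -/
theorem isZero_of_isUniversal_of_eq_id {S : Scheme.{u}} {k : S ⟶ S} (hk : k = 𝟙 S)
    {Ω : S.Modules} (d : OmegaSh.Der k Ω) (hd : OmegaSh.IsUniversal d) : IsZero Ω := by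
  rw [IsZero.iff_id_eq_zero]
  obtain ⟨α, hα, hu⟩ := hd Ω d
  have h1 : 𝟙 Ω = α := hu _ (by
    apply der_ext; intro W s; rw [postcomp_app]; rfl)
  have h2 : (0 : Ω ⟶ Ω) = α := hu _ (by
    apply der_ext; intro W s
    rw [postcomp_app, der_app_eq_zero_of_eq_id hk d, map_zero])
  rw [h1, ← h2]

/-- The conormal sheaf of a section `e` of a quasi-separated morphism `t` is `e^*Ω_t`. -/
theorem nonempty_conormal_iso_of_section {X S : Scheme.{u}} (t : X ⟶ S) [QuasiSeparated t]
    (e : S ⟶ X) (he : e ≫ t = 𝟙 S) {Ω : X.Modules} (d : OmegaSh.Der t Ω)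
    (hd : OmegaSh.IsUniversal d) :
    Nonempty (Omega.conormal e ≅ (Scheme.Modules.pullback e).obj Ω) := by
  haveI : IsImmersion e := by
    haveI : IsImmersion (e ≫ t) := by rw [he]; infer_instance
    exact IsImmersion.of_comp e t
  haveI : QuasiCompact e := by
    haveI : QuasiCompact (e ≫ t) := by rw [he]; infer_instance
    exact QuasiCompact.of_comp e t
  haveI : QuasiSeparated (e ≫ t) := by rw [he]; infer_instance
  obtain ⟨φ, hφ⟩ := exists_conormalDiff e d
  obtain ⟨c, hc, -⟩ := Groth.Agent.S9370.result t (e ≫ t) e (𝟙 S) (Category.comp_id _) Ω d hd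
    (Omega.sheaf (e ≫ t)) (OmegaSh.dOmega (e ≫ t)) (Groth.Agent.S5005.result (e ≫ t))
  obtain ⟨w, hex, ⟨r, hr⟩, -⟩ := Groth.Agent.S9384.result t e t he (by rw [he, Category.comp_id])
    Ω d hd (Omega.sheaf (e ≫ t)) (OmegaSh.dOmega (e ≫ t)) (Groth.Agent.S5005.result (e ≫ t))
    φ hφ c hc
  have hz : IsZero (Omega.sheaf (e ≫ t)) :=
    isZero_of_isUniversal_of_eq_id he (OmegaSh.dOmega (e ≫ t)) (Groth.Agent.S5005.result (e ≫ t))
  have hc0 : c = 0 := hz.eq_of_tgt _ _
  haveI : Epi φ := hex.epi_f hc0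
  haveI : Mono φ := mono_of_mono_fac hr
  haveI : IsIso φ := isIso_of_mono_of_epi φ
  exact ⟨asIso φ⟩

/-- The key lemma: for a quasi-separated `t : R ⟶ U` with a section `e`, a morphism
`δ : R ×_U R ⟶ R` making the square `(δ, pr₁, t, s)` cartesian and sending the diagonal to
`s ≫ e`, one has `Ω_{R/U} ≅ s^* C_e`. -/
theorem nonempty_omega_iso_pullback_conormal {R U : Scheme.{u}} (t s : R ⟶ U) [QuasiSeparated t]
    (e : U ⟶ R) (he : e ≫ t = 𝟙 U) (δ : pullback t t ⟶ R)
    (hδ : IsPullback δ (pullback.fst t t) t s) (hΔ : pullback.diagonal t ≫ δ = s ≫ e) :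
    Nonempty (Omega.sheaf t ≅ (Scheme.Modules.pullback s).obj (Omega.conormal e)) := by
  obtain ⟨e1⟩ := nonempty_conormal_iso_of_section (pullback.fst t t) (pullback.diagonal t)
    (pullback.diagonal_fst t) (OmegaSh.dOmega (pullback.fst t t))
    (Groth.Agent.S5005.result (pullback.fst t t))
  obtain ⟨e2⟩ := nonempty_conormal_iso_of_section t e he (OmegaSh.dOmega t)
    (Groth.Agent.S5005.result t)
  obtain ⟨c, hc, -⟩ := Groth.Agent.S9370.result t (pullback.fst t t) δ s hδ.w.symm
    (Omega.sheaf t) (OmegaSh.dOmega t) (Groth.Agent.S5005.result t)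
    (Omega.sheaf (pullback.fst t t)) (OmegaSh.dOmega (pullback.fst t t))
    (Groth.Agent.S5005.result (pullback.fst t t))
  haveI : IsIso c := Groth.Agent.S9386.result t s δ (pullback.fst t t) hδ
    (Omega.sheaf t) (OmegaSh.dOmega t) (Groth.Agent.S5005.result t)
    (Omega.sheaf (pullback.fst t t)) (OmegaSh.dOmega (pullback.fst t t))
    (Groth.Agent.S5005.result (pullback.fst t t)) c hc
  exact ⟨e1 ≪≫ (Scheme.Modules.pullback (pullback.diagonal t)).mapIso (asIso c).symm ≪≫
    pullbackSquareIso hΔ (Omega.sheaf t) ≪≫ (Scheme.Modules.pullback s).mapIso e2.symm⟩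

end sectionIso

end Groth.Agent.Helper19.OmegaGrp
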