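import Mathlib
import Groth.Agent.Helper19.OmegaGrp
set_option autoImplicit false
set_option linter.style.haveILetI false
set_option linter.unusedSectionVars false
universe u

open CategoryTheory CategoryTheory.Limits AlgebraicGeometry Opposite TopologicalSpace

/-! # Existence and uniqueness of the canonical map of conormal sheaves (helper19) -/

namespace Groth.Agent.Helper19.ConMapEx

open Groth.Agent.Lib.Helper29.QCoh Groth.Agent.Helper19.OmegaD Groth.Agent.Helper19.Conormal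
open Groth.Agent.Helper19.OmegaGrp

section ex

variable {Z X Z' X' : Scheme.{u}} (i : Z ⟶ X) (i' : Z' ⟶ X') [QuasiCompact i]
  (g : X ⟶ X') (gZ : Z ⟶ Z') (hsq : gZ ≫ i' = i ≫ g)

include hsq in
/-- `g♯` maps the ideal of `Z'` into the ideal of `Z` (square version). -/
theorem appLE_mem_ker_ideal' {U' : X'.Opens} (hU' : IsAffineOpen U') {U : X.Opens}
    (hU : IsAffineOpen U) (hUU' : U ≤ g ⁻¹ᵁ U') (x' : i'.ker.ideal ⟨U', hU'⟩) :
    (g.appLE U' U hUU').hom x'.1 ∈ i.ker.ideal ⟨U, hU⟩ := by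
  rw [Scheme.Hom.ker_apply i ⟨U, hU⟩, RingHom.mem_ker]
  have hx' : (i'.app U').hom x'.1 = 0 :=
    RingHom.mem_ker.mp (i'.ideal_ker_le ⟨U', hU'⟩ x'.2)
  have e1 : i ⁻¹ᵁ U ≤ (i ≫ g) ⁻¹ᵁ U' := fun z hz => hUU' hz
  have e2 : i ⁻¹ᵁ U ≤ (gZ ≫ i') ⁻¹ᵁ U' := by rw [hsq]; exact e1
  have e3 : i ⁻¹ᵁ U ≤ gZ ⁻¹ᵁ (i' ⁻¹ᵁ U') := e2
  have h1 : g.appLE U' U hUU' ≫ i.appLE U (i ⁻¹ᵁ U) le_rfl = (i ≫ g).appLE U' (i ⁻¹ᵁ U) e1 :=
    Scheme.Hom.appLE_comp_appLE i g U' U (i ⁻¹ᵁ U) hUU' le_rfl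
  have h2 : i'.appLE U' (i' ⁻¹ᵁ U') le_rfl ≫ gZ.appLE (i' ⁻¹ᵁ U') (i ⁻¹ᵁ U) e3 =
      (gZ ≫ i').appLE U' (i ⁻¹ᵁ U) e2 :=
    Scheme.Hom.appLE_comp_appLE gZ i' U' (i' ⁻¹ᵁ U') (i ⁻¹ᵁ U) le_rfl e3
  have h3 : (i ≫ g).appLE U' (i ⁻¹ᵁ U) e1 = (gZ ≫ i').appLE U' (i ⁻¹ᵁ U) e2 :=
    appLE_congr hsq.symm e1 e2
  have h4 : (i.app U).hom ((g.appLE U' U hUU').hom x'.1) =
      (gZ.appLE (i' ⁻¹ᵁ U') (i ⁻¹ᵁ U) e3).hom ((i'.app U').hom x'.1) := by
    have := congrArg (fun k => k.hom x'.1) (h1.trans (h3.trans h2.symm))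
    rw [Scheme.Hom.appLE_eq_app, Scheme.Hom.appLE_eq_app] at this
    exact this
  rw [h4, hx', map_zero]

include hsq in
theorem exists_push (U' : X'.Opens) (hU' : IsAffineOpen U')
    (s' : Γ(ClSub.idealMod i'.ker, U')) :
    ∃ s : Γ(ClSub.idealMod i.ker, g ⁻¹ᵁ U'),
      OmegaSh.idealSect i.ker (g ⁻¹ᵁ U') s = g.app U' (OmegaSh.idealSect i'.ker U' s') := by
  apply exists_idealSect_eq i.ker (g ⁻¹ᵁ U')
  intro U₁ hU₁ hU₁G
  have h := appLE_mem_ker_ideal' i i' g gZ hsq hU' hU₁ hU₁G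
    ⟨OmegaSh.idealSect i'.ker U' s', idealModι_app_mem i'.ker ⟨U', hU'⟩ s'⟩
  exact h

/-- The pushed section of the ideal. -/
noncomputable def push (U' : X'.Opens) (hU' : IsAffineOpen U')
    (s' : Γ(ClSub.idealMod i'.ker, U')) : Γ(ClSub.idealMod i.ker, g ⁻¹ᵁ U') :=
  (exists_push i i' g gZ hsq U' hU' s').choose

theorem idealSect_push (U' : X'.Opens) (hU' : IsAffineOpen U')
    (s' : Γ(ClSub.idealMod i'.ker, U')) :
    OmegaSh.idealSect i.ker (g ⁻¹ᵁ U') (push i i' g gZ hsq U' hU' s') =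
      g.app U' (OmegaSh.idealSect i'.ker U' s') :=
  (exists_push i i' g gZ hsq U' hU' s').choose_spec

theorem idealSect_injective (I : X.IdealSheafData) (U : X.Opens) :
    Function.Injective (OmegaSh.idealSect I U) := by
  intro a b hab
  exact idealModι_app_injective I U hab

theorem push_add (U' : X'.Opens) (hU' : IsAffineOpen U')
    (a b : Γ(ClSub.idealMod i'.ker, U')) :
    push i i' g gZ hsq U' hU' (a + b) = push i i' g gZ hsq U' hU' a + push i i' g gZ hsq U' hU' b := by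
  apply idealSect_injective
  rw [map_add, idealSect_push, idealSect_push, idealSect_push, map_add, map_add]

/-- The pushed section as an additive map into the sections of the pushforward. -/
noncomputable def pushHom (U' : X'.Opens) (hU' : IsAffineOpen U') :
    Γ(ClSub.idealMod i'.ker, U') →+
      Γ((Scheme.Modules.pushforward g).obj (ClSub.idealMod i.ker), U') :=
  AddMonoidHom.mk' (fun s' => push i i' g gZ hsq U' hU' s') (push_add i i' g gZ hsq U' hU')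

theorem pushHom_apply (U' : X'.Opens) (hU' : IsAffineOpen U')
    (s' : Γ(ClSub.idealMod i'.ker, U')) :
    pushHom i i' g gZ hsq U' hU' s' = push i i' g gZ hsq U' hU' s' := rfl

theorem push_smul (U' : X'.Opens) (hU' : IsAffineOpen U') (r : Γ(X', U'))
    (s' : Γ(ClSub.idealMod i'.ker, U')) :
    push i i' g gZ hsq U' hU' (r • s') = (g.app U' r) • push i i' g gZ hsq U' hU' s' := by
  apply idealSect_injective
  rw [idealSect_push, idealSect_smul, idealSect_smul, idealSect_push, map_mul]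

theorem push_res {U' U'' : X'.Opens} (hU' : IsAffineOpen U') (hU'' : IsAffineOpen U'')
    (h : U'' ≤ U') (s' : Γ(ClSub.idealMod i'.ker, U')) :
    push i i' g gZ hsq U'' hU'' (res _ h s') =
      res (ClSub.idealMod i.ker) (g.preimage_mono h) (push i i' g gZ hsq U' hU' s') := by
  apply idealSect_injective
  rw [idealSect_push, idealSect_res, idealSect_res, idealSect_push]
  exact congr($(g.naturality (homOfLE h).op) (OmegaSh.idealSect i'.ker U' s'))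

include hsq in
/-- The map of ideal sheaves `𝓘' ⟶ g_* 𝓘` induced by `g♯`. -/
theorem exists_idealPush :
    ∃ α : ClSub.idealMod i'.ker ⟶ (Scheme.Modules.pushforward g).obj (ClSub.idealMod i.ker),
      ∀ (U' : X'.Opens) (s' : Γ(ClSub.idealMod i'.ker, U')),
        OmegaSh.idealSect i.ker (g ⁻¹ᵁ U') (α.app U' s') =
          g.app U' (OmegaSh.idealSect i'.ker U' s') := by
  let B : Set X'.Opens := {U | IsAffineOpen U}
  have hB : Opens.IsBasis B := X'.isBasis_affineOpens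
  obtain ⟨α, hα⟩ := exists_hom_of_basis (M := ClSub.idealMod i'.ker)
    (N := (Scheme.Modules.pushforward g).obj (ClSub.idealMod i.ker)) B hB
    (fun U => pushHom i i' g gZ hsq U.1 U.2)
    (fun U r m => push_smul i i' g gZ hsq U.1 U.2 r m)
    (fun U U' h m => push_res i i' g gZ hsq U.2 U'.2 h m)
  refine ⟨α, ?_⟩
  -- compare two morphisms into `g_* O_X`
  have hcomm : α ≫ (Scheme.Modules.pushforward g).map (ClSub.idealModι i.ker) =
      ClSub.idealModι i'.ker ≫ ClSub.unitToPush g := by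
    apply hom_ext_of_basis B hB
    intro U hU m
    rw [app_comp, app_comp, hα ⟨U, hU⟩ m, pushHom_apply]
    exact idealSect_push i i' g gZ hsq U hU m
  intro U' s'
  have h := congrArg (fun k => Scheme.Modules.Hom.app k U' s') hcomm
  simp only [app_comp] at h
  exact h

open Groth.Agent.Helper19.PullUnit in
include hsq in
/-- Existence of the canonical map of conormal sheaves. -/
theorem exists_conormalMap :
    ∃ φ : (Scheme.Modules.pullback gZ).obj (Omega.conormal i') ⟶ Omega.conormal i,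
      OmegaSh.IsConormalMap i i' g gZ φ := by
  obtain ⟨α, hα⟩ := exists_idealPush i i' g gZ hsq
  let adj := Scheme.Modules.pullbackPushforwardAdjunction g
  let ψ : (Scheme.Modules.pullback g).obj (ClSub.idealMod i'.ker) ⟶ ClSub.idealMod i.ker :=
    (adj.homEquiv _ _).symm α
  have hψ : ∀ (U' : X'.Opens) (s' : Γ(ClSub.idealMod i'.ker, U')),
      ψ.app (g ⁻¹ᵁ U') (pullSect g (ClSub.idealMod i'.ker) U' s') = α.app U' s' := by
    intro U' s'
    have h1 := Groth.Agent.S9370.homEquiv_app g ψ U' s'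
    rw [Equiv.apply_symm_apply] at h1
    exact h1.symm
  let φ : (Scheme.Modules.pullback gZ).obj (Omega.conormal i') ⟶ Omega.conormal i :=
    (Scheme.Modules.pullbackComp gZ i').hom.app (ClSub.idealMod i'.ker) ≫
      (Scheme.Modules.pullbackCongr hsq).hom.app (ClSub.idealMod i'.ker) ≫
      (Scheme.Modules.pullbackComp i g).inv.app (ClSub.idealMod i'.ker) ≫
      (Scheme.Modules.pullback i).map ψ
  refine ⟨φ, hsq, ?_⟩
  intro U' s' s hss' V h₁ h₂
  have hs : s = α.app U' s' := idealSect_injective _ _ (hss'.trans (hα U' s').symm)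
  have hT' : gZ ⁻¹ᵁ (i' ⁻¹ᵁ U') ≤ (i ≫ g) ⁻¹ᵁ U' := by
    have : (gZ ≫ i') ⁻¹ᵁ U' ≤ (i ≫ g) ⁻¹ᵁ U' := by rw [hsq]
    exact this
  have hT'' : gZ ⁻¹ᵁ (i' ⁻¹ᵁ U') ≤ i ⁻¹ᵁ (g ⁻¹ᵁ U') := hT'
  have key : φ.app (gZ ⁻¹ᵁ (i' ⁻¹ᵁ U'))
      (pullSect gZ (Omega.conormal i') (i' ⁻¹ᵁ U') (OmegaSh.conormalSect i' U' s')) =
      res (Omega.conormal i) hT'' (OmegaSh.conormalSect i (g ⁻¹ᵁ U') s) := by
    have e0 : gZ ⁻¹ᵁ (i' ⁻¹ᵁ U') ≤ (gZ ≫ i') ⁻¹ᵁ U' := le_rfl
    have s2 := step2 i' (ClSub.idealMod i'.ker) gZ (gZ ⁻¹ᵁ (i' ⁻¹ᵁ U')) e0 s'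
    have s3 := step3 (ClSub.idealMod i'.ker) hsq (gZ ⁻¹ᵁ (i' ⁻¹ᵁ U')) e0 hT' s'
    have s4 := step4 g (ClSub.idealMod i'.ker) i (gZ ⁻¹ᵁ (i' ⁻¹ᵁ U')) hT' s'
    have s5 := app_res ((Scheme.Modules.pullback i).map ψ) hT''
      (pullSect i ((Scheme.Modules.pullback g).obj (ClSub.idealMod i'.ker)) (g ⁻¹ᵁ U')
        (pullSect g (ClSub.idealMod i'.ker) U' s'))
    rw [pullSect_naturality, hψ, ← hs] at s5
    have r0 : (pullSect gZ (Omega.conormal i') (i' ⁻¹ᵁ U') (OmegaSh.conormalSect i' U' s')) =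
        res ((Scheme.Modules.pullback i' ⋙ Scheme.Modules.pullback gZ).obj (ClSub.idealMod i'.ker)) e0
          (pullSect gZ ((Scheme.Modules.pullback i').obj (ClSub.idealMod i'.ker))
          (i' ⁻¹ᵁ U') (pullSect i' (ClSub.idealMod i'.ker) U' s')) := (res_self _ _).symm
    rw [r0]
    simp only [φ]
    erw [app_comp, app_comp, app_comp]
    erw [s2, s3, s4]
    exact s5
  change res (Omega.conormal i) h₁ (φ.app (gZ ⁻¹ᵁ (i' ⁻¹ᵁ U'))
      (pullSect gZ (Omega.conormal i') (i' ⁻¹ᵁ U') (OmegaSh.conormalSect i' U' s'))) =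
    res (Omega.conormal i) h₂ (OmegaSh.conormalSect i (g ⁻¹ᵁ U') s)
  rw [key, res_res]

include hsq in
/-- The value of a canonical map of conormal sheaves on twice pulled back sections. -/
theorem conormalMap_apply
    (φ : (Scheme.Modules.pullback gZ).obj (Omega.conormal i') ⟶ Omega.conormal i)
    (hφ : OmegaSh.IsConormalMap i i' g gZ φ) (U' : X'.Opens)
    (s' : Γ(ClSub.idealMod i'.ker, U')) (s : Γ(ClSub.idealMod i.ker, g ⁻¹ᵁ U'))
    (hss' : OmegaSh.idealSect i.ker (g ⁻¹ᵁ U') s = g.app U' (OmegaSh.idealSect i'.ker U' s'))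
    (hT : gZ ⁻¹ᵁ (i' ⁻¹ᵁ U') ≤ i ⁻¹ᵁ (g ⁻¹ᵁ U')) :
    φ.app (gZ ⁻¹ᵁ (i' ⁻¹ᵁ U'))
      (pullSect gZ (Omega.conormal i') (i' ⁻¹ᵁ U') (OmegaSh.conormalSect i' U' s')) =
      res (Omega.conormal i) hT (OmegaSh.conormalSect i (g ⁻¹ᵁ U') s) := by
  have h := hφ.2 U' s' s hss' (gZ ⁻¹ᵁ (i' ⁻¹ᵁ U')) le_rfl hT
  have h' : res (Omega.conormal i) (le_refl _) (φ.app (gZ ⁻¹ᵁ (i' ⁻¹ᵁ U'))
      (pullSect gZ (Omega.conormal i') (i' ⁻¹ᵁ U') (OmegaSh.conormalSect i' U' s'))) =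
      res (Omega.conormal i) hT (OmegaSh.conormalSect i (g ⁻¹ᵁ U') s) := h
  rw [res_self] at h'
  exact h'

include hsq in
/-- Uniqueness of the canonical map of conormal sheaves. -/
theorem conormalMap_unique
    (φ₁ φ₂ : (Scheme.Modules.pullback gZ).obj (Omega.conormal i') ⟶ Omega.conormal i)
    (h₁ : OmegaSh.IsConormalMap i i' g gZ φ₁) (h₂ : OmegaSh.IsConormalMap i i' g gZ φ₂) :
    φ₁ = φ₂ := by
  obtain ⟨α, hα⟩ := exists_idealPush i i' g gZ hsq
  let adjZ := Scheme.Modules.pullbackPushforwardAdjunction gZ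
  let adj' := Scheme.Modules.pullbackPushforwardAdjunction i'
  apply (adjZ.homEquiv _ _).injective
  apply (adj'.homEquiv _ _).injective
  apply Scheme.Modules.hom_ext
  intro U'
  ext s'
  have hT : gZ ⁻¹ᵁ (i' ⁻¹ᵁ U') ≤ i ⁻¹ᵁ (g ⁻¹ᵁ U') := by
    have : (gZ ≫ i') ⁻¹ᵁ U' ≤ (i ≫ g) ⁻¹ᵁ U' := by rw [hsq]
    exact this
  have e1 := Groth.Agent.S9370.homEquiv_app i' (adjZ.homEquiv _ _ φ₁) U' s'
  have e2 := Groth.Agent.S9370.homEquiv_app i' (adjZ.homEquiv _ _ φ₂) U' s'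
  have f1 := Groth.Agent.S9370.homEquiv_app gZ φ₁ (i' ⁻¹ᵁ U')
    (OmegaSh.pullSect i' (ClSub.idealMod i'.ker) U' s')
  have f2 := Groth.Agent.S9370.homEquiv_app gZ φ₂ (i' ⁻¹ᵁ U')
    (OmegaSh.pullSect i' (ClSub.idealMod i'.ker) U' s')
  have k1 := conormalMap_apply i i' g gZ hsq φ₁ h₁ U' s' (α.app U' s') (hα U' s') hT
  have k2 := conormalMap_apply i i' g gZ hsq φ₂ h₂ U' s' (α.app U' s') (hα U' s') hT
  refine e1.trans (f1.trans ?_)
  refine Eq.trans ?_ (e2.trans f2).symm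
  exact k1.trans k2.symm

end ex

end Groth.Agent.Helper19.ConMapEx
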