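import Mathlib

/-!
# Conormal splitting ⇒ regular immersion: linear-algebra lemmas (helper19)
-/

set_option autoImplicit false
set_option linter.style.haveILetI false
universe u

open scoped TensorProduct

namespace Groth.Agent.Helper19.ConSplit

section field

variable {κ V : Type*} [Field κ] [AddCommGroup V] [Module κ V]

/-- Extending a linearly independent family to a basis using members of a given basis. -/
theorem exists_extend_basis {r n : ℕ} (u : Module.Basis (Fin r) κ V) (w : Fin n → V)
    (hw : LinearIndependent κ w) :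
    ∃ (m : ℕ) (e : Fin m → Fin r), n + m = r ∧
      Submodule.span κ (Set.range w ∪ Set.range (u ∘ e)) = ⊤ := by
  classical
  have hs : LinearIndepOn κ id (Set.range w) := hw.linearIndepOn_id
  obtain ⟨b, hbt, hsb, htb, hb⟩ := exists_linearIndepOn_id_extension hs
    (Set.subset_union_left (t := Set.range u))
  have hbspan : Submodule.span κ b = ⊤ := by
    rw [eq_top_iff, ← u.span_eq]
    exact Submodule.span_le.mpr (fun x hx => htb (Or.inr hx))
  let S' : Finset (Fin r) := Finset.univ.filter (fun l => u l ∈ b ∧ u l ∉ Set.range w)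
  let e : Fin S'.card → Fin r := fun k => S'.orderEmbOfFin rfl k
  have he_mem : ∀ k, e k ∈ S' := fun k => Finset.orderEmbOfFin_mem S' rfl k
  have he_inj : Function.Injective e := (S'.orderEmbOfFin rfl).injective
  have he_surj : ∀ l ∈ S', ∃ k, e k = l := by
    intro l hl
    have : l ∈ Set.range (S'.orderEmbOfFin rfl) := by
      rw [Finset.range_orderEmbOfFin]; exact hl
    exact this
  have hS' : ∀ l, l ∈ S' ↔ (u l ∈ b ∧ u l ∉ Set.range w) := by
    intro l; simp [S']
  let φ : Fin n ⊕ Fin S'.card → b := fun x =>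
    match x with
    | Sum.inl k => ⟨w k, hsb ⟨k, rfl⟩⟩
    | Sum.inr k => ⟨u (e k), ((hS' _).mp (he_mem k)).1⟩
  have hφinj : Function.Injective φ := by
    rintro (k | k) (k' | k') hkk'
    · have : w k = w k' := congrArg Subtype.val hkk'
      rw [hw.injective this]
    · exfalso
      have : w k = u (e k') := congrArg Subtype.val hkk'
      exact ((hS' _).mp (he_mem k')).2 ⟨k, this⟩
    · exfalso
      have : u (e k) = w k' := congrArg Subtype.val hkk'
      exact ((hS' _).mp (he_mem k)).2 ⟨k', this.symm⟩
    · have : u (e k) = u (e k') := congrArg Subtype.val hkk'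
      rw [he_inj (u.injective this)]
  have hφsurj : Function.Surjective φ := by
    rintro ⟨x, hx⟩
    by_cases hxw : x ∈ Set.range w
    · obtain ⟨k, rfl⟩ := hxw
      exact ⟨Sum.inl k, rfl⟩
    · rcases hbt hx with hx' | hx'
      · exact absurd hx' hxw
      · obtain ⟨l, rfl⟩ := hx'
        obtain ⟨k, hk⟩ := he_surj l ((hS' l).mpr ⟨hx, hxw⟩)
        exact ⟨Sum.inr k, Subtype.ext (by change u (e k) = u l; rw [hk])⟩
  have hbli : LinearIndependent κ ((↑) : b → V) := hb
  have hli : LinearIndependent κ (fun x => ((φ x : b) : V)) := hbli.comp φ hφinj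
  have hrange : Set.range (fun x => ((φ x : b) : V)) = b := by
    ext x
    constructor
    · rintro ⟨y, rfl⟩; exact (φ y).2
    · intro hx
      obtain ⟨y, hy⟩ := hφsurj ⟨x, hx⟩
      exact ⟨y, congrArg Subtype.val hy⟩
  have hsp : ⊤ ≤ Submodule.span κ (Set.range (fun x => ((φ x : b) : V))) := by
    rw [hrange, hbspan]
  let B := Module.Basis.mk hli hsp
  have hcard : Module.finrank κ V = Fintype.card (Fin n ⊕ Fin S'.card) :=
    Module.finrank_eq_card_basis B
  have hcard' : Module.finrank κ V = r := by
    rw [Module.finrank_eq_card_basis u, Fintype.card_fin]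
  refine ⟨S'.card, e, ?_, ?_⟩
  · rw [hcard', Fintype.card_sum, Fintype.card_fin, Fintype.card_fin] at hcard
    exact hcard.symm
  · rw [eq_top_iff, ← hbspan]
    apply Submodule.span_mono
    intro x hx
    obtain ⟨y, hy⟩ := hφsurj ⟨x, hx⟩
    rcases y with k | k
    · left; exact ⟨k, congrArg Subtype.val hy⟩
    · right; exact ⟨k, congrArg Subtype.val hy⟩

/-- A finite-dimensional space spanned by a family has a basis extracted from the family. -/
theorem exists_fin_basis_of_span [FiniteDimensional κ V] {ι : Type*} (v : ι → V)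
    (hv : Submodule.span κ (Set.range v) = ⊤) :
    ∃ (n : ℕ) (a : Fin n → ι), LinearIndependent κ (v ∘ a) ∧
      Submodule.span κ (Set.range (v ∘ a)) = ⊤ := by
  obtain ⟨κ', a, -, hsp, hli⟩ := exists_linearIndependent' κ v
  haveI : Finite κ' := hli.finite
  obtain ⟨n, ⟨eqv⟩⟩ := Finite.exists_equiv_fin κ'
  refine ⟨n, a ∘ eqv.symm, ?_, ?_⟩
  · have := hli.comp eqv.symm eqv.symm.injective
    exact this
  · rw [← hv, ← hsp]
    congr 1
    ext x
    constructor
    · rintro ⟨k, rfl⟩; exact ⟨eqv.symm k, rfl⟩
    · rintro ⟨k, rfl⟩; exact ⟨eqv k, by simp⟩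

end field

section support

variable {A : Type u} [CommRing A] (q : Ideal A) [q.IsPrime]
  {M : Type u} [AddCommGroup M] [Module A M] [Module.Finite A M]

/-- If the images of a submodule span the fibre at `q`, some element outside `q` multiplies the
module into the submodule. -/
theorem exists_notMem_forall_smul_mem (M₀ : Submodule A M)
    (h : Submodule.span q.ResidueField
        ((fun m : M => (1 : q.ResidueField) ⊗ₜ[A] m) '' (M₀ : Set M)) = ⊤) :
    ∃ a : A, a ∉ q ∧ ∀ m : M, a • m ∈ M₀ := by
  let Q := M ⧸ M₀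
  let g : q.ResidueField ⊗[A] M →ₗ[q.ResidueField] q.ResidueField ⊗[A] Q :=
    (M₀.mkQ).baseChange q.ResidueField
  have hg0 : g = 0 := by
    apply LinearMap.ext_on h
    rintro _ ⟨m, hm, rfl⟩
    change (M₀.mkQ).baseChange q.ResidueField ((1 : q.ResidueField) ⊗ₜ[A] m) = 0
    rw [LinearMap.baseChange_tmul]
    have : M₀.mkQ m = 0 := (Submodule.Quotient.mk_eq_zero M₀).mpr hm
    rw [this, TensorProduct.tmul_zero]
  have hgs : Function.Surjective g :=
    LinearMap.lTensor_surjective _ (Submodule.mkQ_surjective M₀)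
  have hsub : Subsingleton (q.ResidueField ⊗[A] Q) := by
    constructor
    intro x y
    obtain ⟨x', rfl⟩ := hgs x
    obtain ⟨y', rfl⟩ := hgs y
    rw [hg0]; rfl
  have hns : (⟨q, inferInstance⟩ : PrimeSpectrum A) ∉ Module.support A Q := by
    rw [Module.mem_support_iff_nontrivial_residueField_tensorProduct]
    exact not_nontrivial_iff_subsingleton.mpr hsub
  rw [Module.mem_support_iff_of_finite] at hns
  obtain ⟨a, ha, haq⟩ := Set.not_subset.mp hns
  refine ⟨a, haq, fun m => ?_⟩
  have h1 : a • (M₀.mkQ m) = 0 := (Module.mem_annihilator.mp ha) _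
  rw [← map_smul] at h1
  exact (Submodule.Quotient.mk_eq_zero M₀).mp h1

end support

section cayley

variable {A : Type u} [CommRing A]

/-- Cayley–Hamilton form of Nakayama: if `a L ⊆ P + I L` with `L` finitely generated then
`(a^d + c) L ⊆ P` for some `c ∈ I`. -/
theorem exists_pow_add_mul_mem (I L P : Ideal A) (hL : L.FG) (a : A)
    (h : ∀ x ∈ L, a * x ∈ P ⊔ I * L) :
    ∃ (d : ℕ) (c : A), c ∈ I ∧ ∀ x ∈ L, (a ^ d + c) * x ∈ P := by
  classical
  let L' : Submodule A (A ⧸ P) := Submodule.map (Submodule.mkQ P) L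
  have hL' : L'.FG := Submodule.FG.map _ hL
  haveI : Module.Finite A L' := Module.Finite.iff_fg.mpr hL'
  let f : Module.End A L' := a • LinearMap.id
  have hrange : LinearMap.range f ≤ I • (⊤ : Submodule A L') := by
    rintro _ ⟨y, rfl⟩
    rw [Submodule.mem_smul_top_iff]
    obtain ⟨y, hy⟩ := y
    obtain ⟨x, hx, rfl⟩ := hy
    change a • (Submodule.mkQ P x) ∈ I • L'
    rw [← map_smul]
    have hax := h x hx
    obtain ⟨p, hp, z, hz, hpz⟩ := Submodule.mem_sup.mp hax
    have h1 : (Submodule.mkQ P) (a • x) = (Submodule.mkQ P) z := by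
      change (Submodule.mkQ P) (a * x) = _
      rw [← hpz, map_add]
      have : Submodule.mkQ P p = 0 := (Submodule.Quotient.mk_eq_zero P).mpr hp
      rw [this, zero_add]
    rw [h1]
    have h2 : I * L = I • (L : Submodule A A) := rfl
    rw [h2] at hz
    have h3 := Submodule.mem_map_of_mem (f := Submodule.mkQ P) hz
    rwa [Submodule.map_smul''] at h3
  obtain ⟨p, hmonic, -, hcoeff, hp0⟩ :=
    LinearMap.exists_monic_and_natDegree_eq_and_coeff_mem_pow_and_aeval_eq_zero A f I hrange
  set d := p.natDegree with hd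
  let c : A := p.eval a - a ^ d
  have hc : c ∈ I := by
    have h1 : p.eval a = ∑ k ∈ Finset.range (d + 1), p.coeff k * a ^ k :=
      Polynomial.eval_eq_sum_range a
    have h2 : c = ∑ k ∈ Finset.range d, p.coeff k * a ^ k := by
      change p.eval a - a ^ d = _
      rw [h1, Finset.sum_range_succ, hd, hmonic.coeff_natDegree, one_mul]
      ring
    rw [h2]
    refine Ideal.sum_mem _ (fun k hk => Ideal.mul_mem_right _ _ ?_)
    have hk' : k < d := Finset.mem_range.mp hk
    have := hcoeff k
    have hpos : 1 ≤ p.natDegree - k := by omega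
    exact Ideal.pow_le_self (by omega) this
  refine ⟨d, c, hc, fun x hx => ?_⟩
  have hf : f = algebraMap A (Module.End A L') a := by
    rw [Algebra.algebraMap_eq_smul_one]; rfl
  rw [hf, Polynomial.aeval_algebraMap_apply] at hp0
  have h1 : a ^ d + c = p.eval a := by change a ^ d + (p.eval a - a ^ d) = _; ring
  rw [h1]
  have hx' : Submodule.mkQ P x ∈ L' := Submodule.mem_map_of_mem hx
  have h2 := congrArg (fun ψ : Module.End A L' => ψ ⟨_, hx'⟩) hp0
  simp only [Module.algebraMap_end_apply, LinearMap.zero_apply] at h2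
  have h3 := congrArg Subtype.val h2
  simp only [Submodule.coe_smul, ZeroMemClass.coe_zero] at h3
  have h4 : Submodule.mkQ P ((Polynomial.aeval a p) • x) = 0 := by rw [map_smul]; exact h3
  have h5 := (Submodule.Quotient.mk_eq_zero P).mp h4
  simpa [Polynomial.aeval_def, Polynomial.eval₂_eq_eval_map, smul_eq_mul] using h5

end cayley

end Groth.Agent.Helper19.ConSplit
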