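import Mathlib
import Groth.Agent.Helper19.Conormal5

/-!
# Finite generation of the ideal of an immersion locally of finite presentation (helper19)
-/

set_option autoImplicit false
set_option linter.style.haveILetI false
universe u
open CategoryTheory CategoryTheory.Limits AlgebraicGeometry

namespace Groth.Agent.Helper19.ConSplit

/-- The ideal of a quasi-compact immersion locally of finite presentation is finitely generated on
affine opens inside the coborder. -/
theorem ker_ideal_fg_of_lfp {Y X : Scheme.{u}} (j : Y ⟶ X) [IsImmersion j] [QuasiCompact j]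
    [LocallyOfFinitePresentation j] (U : X.Opens) (hU : IsAffineOpen U)
    (hUc : U ≤ j.coborderRange) : (j.ker.ideal ⟨U, hU⟩).FG := by
  have hV : IsAffineOpen (j ⁻¹ᵁ U) :=
    Groth.Agent.Helper19.Conormal.isAffineOpen_preimage_of_le_coborder j hU hUc
  have hsurj : Function.Surjective (j.app U) :=
    Groth.Agent.Helper19.Conormal.app_surjective_of_le_coborder j hU hUc
  have hfp : (j.app U).hom.FinitePresentation := by
    have h := HasRingHomProperty.appLE (P := @LocallyOfFinitePresentation) j inferInstance
      ⟨U, hU⟩ ⟨j ⁻¹ᵁ U, hV⟩ le_rfl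
    rw [Scheme.Hom.appLE_eq_app] at h
    exact h
  rw [← Groth.Agent.Helper19.Conormal.ker_app_eq j hU]
  letI := (j.app U).hom.toAlgebra
  haveI : Algebra.FinitePresentation Γ(X, U) Γ(Y, j ⁻¹ᵁ U) := hfp
  have h := Algebra.FinitePresentation.ker_fG_of_surjective
    (Algebra.ofId Γ(X, U) Γ(Y, j ⁻¹ᵁ U)) hsurj
  exact h

end Groth.Agent.Helper19.ConSplit
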