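import Mathlib
import Groth.Agent.Lib.Helper29.QCohBasic
import Groth.Agent.Lib.Helper29.QCohFinite

set_option autoImplicit false
universe u
open CategoryTheory CategoryTheory.Limits AlgebraicGeometry

namespace Groth.Agent.Helper19.RestrictRetract

open Groth.Agent.Lib.Helper29.QCoh

section spec

variable {R : CommRingCat.{u}} {M N : (Spec R).Modules}

/-- global sections as an `R`-module -/
noncomputable abbrev GM (M : (Spec R).Modules) : ModuleCat.{u} R :=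
  (modulesSpecToSheaf.obj M).presheaf.obj (.op ⊤)

noncomputable abbrev Gmap (ψ : N ⟶ M) : GM N ⟶ GM M :=
  (modulesSpecToSheaf.map ψ).hom.app (.op ⊤)

theorem fromTildeΓ_nat (ψ : N ⟶ M) :
    tilde.map (Gmap ψ) ≫ Scheme.Modules.fromTildeΓ M = Scheme.Modules.fromTildeΓ N ≫ ψ :=
  (Scheme.Modules.fromTildeΓNatTrans (R := R)).naturality ψ

theorem exists_retraction_spec [IsIso (Scheme.Modules.fromTildeΓ M)]
    [IsIso (Scheme.Modules.fromTildeΓ N)] (ψ : N ⟶ M)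
    (ℓ : GM M ⟶ GM N) (h : Gmap ψ ≫ ℓ = 𝟙 _) : ∃ r : M ⟶ N, ψ ≫ r = 𝟙 N := by
  refine ⟨inv (Scheme.Modules.fromTildeΓ M) ≫ tilde.map ℓ ≫ Scheme.Modules.fromTildeΓ N, ?_⟩
  rw [← cancel_epi (Scheme.Modules.fromTildeΓ N)]
  have nat := fromTildeΓ_nat ψ
  have h2 : tilde.map (Gmap ψ) ≫ tilde.map ℓ = 𝟙 _ := by
    have h3 := congrArg (fun k => (tilde.functor R).map k) h
    have h4 : (tilde.functor R).map (Gmap ψ) ≫ (tilde.functor R).map ℓ = 𝟙 _ := by
      rw [← Functor.map_comp]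
      exact h3.trans ((tilde.functor R).map_id _)
    exact h4
  calc Scheme.Modules.fromTildeΓ N ≫ ψ ≫ inv (Scheme.Modules.fromTildeΓ M) ≫ tilde.map ℓ ≫
        Scheme.Modules.fromTildeΓ N
      = (Scheme.Modules.fromTildeΓ N ≫ ψ) ≫ inv (Scheme.Modules.fromTildeΓ M) ≫ tilde.map ℓ ≫
        Scheme.Modules.fromTildeΓ N := by rw [Category.assoc]
    _ = (tilde.map (Gmap ψ) ≫ Scheme.Modules.fromTildeΓ M) ≫ inv (Scheme.Modules.fromTildeΓ M) ≫
        tilde.map ℓ ≫ Scheme.Modules.fromTildeΓ N := by rw [nat]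
    _ = (tilde.map (Gmap ψ) ≫ tilde.map ℓ) ≫ Scheme.Modules.fromTildeΓ N := by
        simp only [Category.assoc, IsIso.hom_inv_id_assoc]
    _ = Scheme.Modules.fromTildeΓ N ≫ 𝟙 N := by rw [h2, Category.id_comp, Category.comp_id]

set_option backward.isDefEq.respectTransparency.types false in
theorem exists_retraction_spec' [M.IsQuasicoherent] [N.IsQuasicoherent] (ψ : N ⟶ M)
    (ℓ : Γ(M, ⊤) →+ Γ(N, ⊤)) (hℓ : ∀ (r : R) (m : Γ(M, ⊤)), ℓ (r • m) = r • ℓ m)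
    (h : ∀ x : Γ(N, ⊤), ℓ (ψ.app ⊤ x) = x) :
    ∃ r : M ⟶ N, ψ ≫ r = 𝟙 N := by
  let ℓl : Γ(M, ⊤) →ₗ[R] Γ(N, ⊤) :=
    { toFun := fun m => ℓ m
      map_add' := fun a b => ℓ.map_add a b
      map_smul' := fun r m => hℓ r m }
  let ℓ'' : ModuleCat.of R Γ(M, ⊤) ⟶ ModuleCat.of R Γ(N, ⊤) := ModuleCat.ofHom ℓl
  let ℓ' : GM M ⟶ GM N := ℓ''
  refine exists_retraction_spec ψ ℓ' ?_
  ext x
  exact h x

end spec

section affine

variable {Z : Scheme.{u}} {M N : Z.Modules} [M.IsQuasicoherent] [N.IsQuasicoherent] (ψ : N ⟶ M)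
  {U : Z.Opens} (hU : IsAffineOpen U)

theorem restrictFunctor_map_app' {X Y : Scheme.{u}} (j : X ⟶ Y) [IsOpenImmersion j]
    {P Q : Y.Modules} (φ : P ⟶ Q) (W : X.Opens) :
    ((Scheme.Modules.restrictFunctor j).map φ).app W = φ.app (j ''ᵁ W) := rfl

include hU in
theorem exists_retraction_fromSpec (ℓ : Γ(M, U) →+ Γ(N, U))
    (hℓ : ∀ (r : Γ(Z, U)) (m : Γ(M, U)), ℓ (r • m) = r • ℓ m)
    (h : ∀ x : Γ(N, U), ℓ (ψ.app U x) = x) :
    ∃ r : (Scheme.Modules.restrictFunctor hU.fromSpec).obj M ⟶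
        (Scheme.Modules.restrictFunctor hU.fromSpec).obj N,
      (Scheme.Modules.restrictFunctor hU.fromSpec).map ψ ≫ r = 𝟙 _ := by
  have e₁ : U ≤ hU.fromSpec ''ᵁ ⊤ := (fromSpec_image_top hU).ge
  have e₂ : hU.fromSpec ''ᵁ ⊤ ≤ U := (fromSpec_image_top hU).le
  let ℓS : Γ((Scheme.Modules.restrictFunctor hU.fromSpec).obj M, ⊤) →+
      Γ((Scheme.Modules.restrictFunctor hU.fromSpec).obj N, ⊤) :=
    ((res N e₂).comp ℓ).comp (res M e₁)
  refine exists_retraction_spec' ((Scheme.Modules.restrictFunctor hU.fromSpec).map ψ) ℓS ?_ ?_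
  · intro r m
    have h1 := smul_restrict_fromSpec M hU ⊤ r m
    have h2 := smul_restrict_fromSpec N hU ⊤ r (ℓS m)
    refine (congrArg ℓS h1).trans (Eq.trans ?_ h2.symm)
    have hid : ∀ s : Γ(Z, U), Z.presheaf.map (homOfLE (le_refl U)).op s = s := by
      intro s
      change (Z.presheaf.map (𝟙 _)) s = s
      rw [Z.presheaf.map_id]; rfl
    change res N e₂ (ℓ (res M e₁ (Z.presheaf.map (homOfLE (fromSpec_image_le hU ⊤)).op r •
      (show Γ(M, hU.fromSpec ''ᵁ ⊤) from m)))) =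
      Z.presheaf.map (homOfLE (fromSpec_image_le hU ⊤)).op r •
        res N e₂ (ℓ (res M e₁ (show Γ(M, hU.fromSpec ''ᵁ ⊤) from m)))
    rw [res_smul, map_map_apply, hid, hℓ, res_smul]
  · intro x
    change res N e₂ (ℓ (res M e₁ (ψ.app (hU.fromSpec ''ᵁ ⊤) x))) = x
    rw [← app_res ψ e₁ x, h, res_res]
    exact res_self N x

include hU in
theorem exists_retraction_ι (ℓ : Γ(M, U) →+ Γ(N, U))
    (hℓ : ∀ (r : Γ(Z, U)) (m : Γ(M, U)), ℓ (r • m) = r • ℓ m)
    (h : ∀ x : Γ(N, U), ℓ (ψ.app U x) = x) :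
    ∃ r : (Scheme.Modules.restrictFunctor U.ι).obj M ⟶
        (Scheme.Modules.restrictFunctor U.ι).obj N,
      (Scheme.Modules.restrictFunctor U.ι).map ψ ≫ r = 𝟙 _ := by
  obtain ⟨rS, hrS⟩ := exists_retraction_fromSpec ψ hU ℓ hℓ h
  let η : Scheme.Modules.restrictFunctor U.ι ≅
      Scheme.Modules.restrictFunctor hU.fromSpec ⋙ Scheme.Modules.restrictFunctor hU.isoSpec.hom :=
    Scheme.Modules.restrictFunctorCongr hU.isoSpec_hom_fromSpec.symm ≪≫
      Scheme.Modules.restrictFunctorComp hU.isoSpec.hom hU.fromSpec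
  refine ⟨η.hom.app M ≫ (Scheme.Modules.restrictFunctor hU.isoSpec.hom).map rS ≫ η.inv.app N, ?_⟩
  have nat := η.hom.naturality ψ
  rw [← Category.assoc, nat]
  change (η.hom.app N ≫ (Scheme.Modules.restrictFunctor hU.isoSpec.hom).map
    ((Scheme.Modules.restrictFunctor hU.fromSpec).map ψ)) ≫ _ = _
  rw [Category.assoc, ← Category.assoc ((Scheme.Modules.restrictFunctor hU.isoSpec.hom).map _),
    ← Functor.map_comp, hrS, CategoryTheory.Functor.map_id, Category.id_comp]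
  exact η.hom_inv_id_app N

end affine

end Groth.Agent.Helper19.RestrictRetract
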