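import Mathlib
import Groth.Agent.Helper19.RestrictRetract
import Groth.Agent.Lib.Helper29.QCohRestrict
import Groth.Agent.Lib.Helper29.QCohGen

/-!
# From a retraction of restricted sheaf maps to retractions on sections (helper19)
-/

set_option autoImplicit false
set_option linter.style.haveILetI false
universe u
open CategoryTheory CategoryTheory.Limits AlgebraicGeometry

namespace Groth.Agent.Helper19.ConSplit

open Groth.Agent.Lib.Helper29.QCoh

variable {Z : Scheme.{u}} {M N : Z.Modules} (ψ : N ⟶ M) (U : Z.Opens)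

theorem ι_image_preimage_of_le {W : Z.Opens} (hW : W ≤ U) : U.ι ''ᵁ (U.ι ⁻¹ᵁ W) = W := by
  rw [Scheme.Hom.image_preimage_eq_opensRange_inf, Scheme.Opens.opensRange_ι]
  exact inf_eq_right.mpr hW

set_option backward.isDefEq.respectTransparency.types false in
/-- A retraction of the restriction of `ψ` to an open `U` gives semilinear retractions on sections
over all opens inside `U`. -/
theorem exists_sections_retraction
    (r : (Scheme.Modules.restrictFunctor U.ι).obj M ⟶ (Scheme.Modules.restrictFunctor U.ι).obj N)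
    (hr : (Scheme.Modules.restrictFunctor U.ι).map ψ ≫ r = 𝟙 _) (W : Z.Opens) (hW : W ≤ U) :
    ∃ ℓ : Γ(M, W) →+ Γ(N, W), (∀ (c : Γ(Z, W)) (m : Γ(M, W)), ℓ (c • m) = c • ℓ m) ∧
      ∀ t, ℓ (ψ.app W t) = t := by
  set W' : U.toScheme.Opens := U.ι ⁻¹ᵁ W with hW'
  have himg : U.ι ''ᵁ W' = W := ι_image_preimage_of_le U hW
  have e₁ : U.ι ''ᵁ W' ≤ W := himg.le
  have e₂ : W ≤ U.ι ''ᵁ W' := himg.ge
  let rW : Γ(M, U.ι ''ᵁ W') →+ Γ(N, U.ι ''ᵁ W') := (r.app W').hom
  let ℓ : Γ(M, W) →+ Γ(N, W) := ((res N e₂).comp rW).comp (res M e₁)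
  have hrW : ∀ s : Γ(N, U.ι ''ᵁ W'), rW (ψ.app (U.ι ''ᵁ W') s) = s := by
    intro s
    have h1 := congrArg (fun k => (k.app W').hom s) hr
    exact h1
  have hsmul : ∀ (c : Γ(Z, U.ι ''ᵁ W')) (s : Γ(M, U.ι ''ᵁ W')), rW (c • s) = c • rW s := by
    intro c s
    let b : Γ(U.toScheme, W') := (U.ι.appIso W').hom c
    have hb : (U.ι.appIso W').inv b = c := by
      change ((U.ι.appIso W').hom ≫ (U.ι.appIso W').inv) c = c
      rw [Iso.hom_inv_id]; rfl
    have h1 := restrict_smul U.ι M W' b s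
    have h2 := restrict_smul U.ι N W' b (rW s)
    rw [hb] at h1 h2
    rw [← h1, ← h2]
    exact (appₗ r W').map_smul b s
  refine ⟨ℓ, ?_, ?_⟩
  · intro c m
    change res N e₂ (rW (res M e₁ (c • m))) = c • res N e₂ (rW (res M e₁ m))
    rw [res_smul, hsmul, res_smul, map_map_apply]
    congr 1
    change (Z.presheaf.map (𝟙 _)) c = c
    rw [Z.presheaf.map_id]; rfl
  · intro t
    change res N e₂ (rW (res M e₁ (ψ.app W t))) = t
    rw [← app_res ψ e₁ t, hrW, res_res]
    exact res_self N t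

end Groth.Agent.Helper19.ConSplit
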