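import Mathlib
import Groth.Agent.Helper19.ConSplit7
import Groth.Agent.Lib.Helper29.QCohExact

/-!
# From a local section of the cokernel map to retractions on sections (helper19)
-/

set_option autoImplicit false
set_option linter.style.haveILetI false
universe u
open CategoryTheory CategoryTheory.Limits AlgebraicGeometry

namespace Groth.Agent.Helper19.ConSplit

open Groth.Agent.Lib.Helper29.QCoh

variable {Z : Scheme.{u}}

set_option backward.isDefEq.respectTransparency.types false in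
/-- A section of the restriction of `ψ` to an open `U` gives semilinear sections on sections
over all opens inside `U`. -/
theorem exists_sections_section {M N : Z.Modules} (ψ : M ⟶ N) (U : Z.Opens)
    (s : (Scheme.Modules.restrictFunctor U.ι).obj N ⟶ (Scheme.Modules.restrictFunctor U.ι).obj M)
    (hs : s ≫ (Scheme.Modules.restrictFunctor U.ι).map ψ = 𝟙 _) (W : Z.Opens) (hW : W ≤ U) :
    ∃ σ : Γ(N, W) →+ Γ(M, W), (∀ (c : Γ(Z, W)) (m : Γ(N, W)), σ (c • m) = c • σ m) ∧
      ∀ t, ψ.app W (σ t) = t := by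
  set W' : U.toScheme.Opens := U.ι ⁻¹ᵁ W with hW'
  have himg : U.ι ''ᵁ W' = W := ι_image_preimage_of_le U hW
  have e₁ : U.ι ''ᵁ W' ≤ W := himg.le
  have e₂ : W ≤ U.ι ''ᵁ W' := himg.ge
  let sW : Γ(N, U.ι ''ᵁ W') →+ Γ(M, U.ι ''ᵁ W') := (s.app W').hom
  let σ : Γ(N, W) →+ Γ(M, W) := ((res M e₂).comp sW).comp (res N e₁)
  have hsW : ∀ t : Γ(N, U.ι ''ᵁ W'), ψ.app (U.ι ''ᵁ W') (sW t) = t := by
    intro t
    have h1 := congrArg (fun k => (k.app W').hom t) hs
    exact h1
  have hsmul : ∀ (c : Γ(Z, U.ι ''ᵁ W')) (t : Γ(N, U.ι ''ᵁ W')), sW (c • t) = c • sW t := by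
    intro c t
    let b : Γ(U.toScheme, W') := (U.ι.appIso W').hom c
    have hb : (U.ι.appIso W').inv b = c := by
      change ((U.ι.appIso W').hom ≫ (U.ι.appIso W').inv) c = c
      rw [Iso.hom_inv_id]; rfl
    have h1 := restrict_smul U.ι N W' b t
    have h2 := restrict_smul U.ι M W' b (sW t)
    rw [hb] at h1 h2
    rw [← h1, ← h2]
    exact (appₗ s W').map_smul b t
  refine ⟨σ, ?_, ?_⟩
  · intro c m
    change res M e₂ (sW (res N e₁ (c • m))) = c • res M e₂ (sW (res N e₁ m))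
    rw [res_smul, hsmul, res_smul, map_map_apply]
    congr 1
    change (Z.presheaf.map (𝟙 _)) c = c
    rw [Z.presheaf.map_id]; rfl
  · intro t
    change ψ.app W (res M e₂ (sW (res N e₁ t))) = t
    rw [app_res ψ e₂, hsW, res_res]
    exact res_self N t

/-- For a short exact sequence of modules whose epimorphism admits a section over `U`, the
monomorphism admits semilinear retractions on sections over all opens inside `U`. -/
theorem exists_retraction_of_section (S : ShortComplex Z.Modules) (hS : S.ShortExact)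
    (U : Z.Opens)
    (s : (Scheme.Modules.restrictFunctor U.ι).obj S.X₃ ⟶
      (Scheme.Modules.restrictFunctor U.ι).obj S.X₂)
    (hs : s ≫ (Scheme.Modules.restrictFunctor U.ι).map S.g = 𝟙 _) (W : Z.Opens) (hW : W ≤ U) :
    ∃ ℓ : Γ(S.X₂, W) →+ Γ(S.X₁, W), (∀ (c : Γ(Z, W)) (m : Γ(S.X₂, W)), ℓ (c • m) = c • ℓ m) ∧
      ∀ t, ℓ (S.f.app W t) = t := by
  obtain ⟨σ, hσl, hσ⟩ := exists_sections_section S.g U s hs W hW
  haveI := hS.mono_f
  have hinj : Function.Injective (S.f.app W) := (mono_iff_app_injective S.f).mp hS.mono_f W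
  have hex : Function.Exact (S.f.app W) (S.g.app W) := app_exact_of_exact_of_mono S hS.exact W
  have hfl : ∀ (c : Γ(Z, W)) (t : Γ(S.X₁, W)), S.f.app W (c • t) = c • S.f.app W t :=
    fun c t => (appₗ S.f W).map_smul c t
  have hgl : ∀ (c : Γ(Z, W)) (t : Γ(S.X₂, W)), S.g.app W (c • t) = c • S.g.app W t :=
    fun c t => (appₗ S.g W).map_smul c t
  have hfadd : ∀ t t' : Γ(S.X₁, W), S.f.app W (t + t') = S.f.app W t + S.f.app W t' :=
    fun t t' => (appₗ S.f W).map_add t t'
  have hgadd : ∀ t t' : Γ(S.X₂, W), S.g.app W (t + t') = S.g.app W t + S.g.app W t' :=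
    fun t t' => (appₗ S.g W).map_add t t'
  have hgsub : ∀ t t' : Γ(S.X₂, W), S.g.app W (t - t') = S.g.app W t - S.g.app W t' :=
    fun t t' => (appₗ S.g W).map_sub t t'
  have hgf : ∀ t, S.g.app W (S.f.app W t) = 0 := fun t => hex.apply_apply_eq_zero t
  have hpre : ∀ m : Γ(S.X₂, W), ∃ t, S.f.app W t = m - σ (S.g.app W m) := by
    intro m
    apply (hex _).mp
    rw [hgsub, hσ, sub_self]
  choose ℓ₀ hℓ₀ using hpre
  have hadd : ∀ m m', ℓ₀ (m + m') = ℓ₀ m + ℓ₀ m' := by
    intro m m'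
    apply hinj
    rw [hfadd, hℓ₀, hℓ₀, hℓ₀, hgadd, map_add]
    abel
  let ℓ : Γ(S.X₂, W) →+ Γ(S.X₁, W) := AddMonoidHom.mk' ℓ₀ hadd
  refine ⟨ℓ, ?_, ?_⟩
  · intro c m
    apply hinj
    change S.f.app W (ℓ₀ (c • m)) = S.f.app W (c • ℓ₀ m)
    rw [hfl, hℓ₀, hℓ₀, hgl, hσl, smul_sub]
  · intro t
    apply hinj
    change S.f.app W (ℓ₀ (S.f.app W t)) = S.f.app W t
    rw [hℓ₀, hgf, map_zero, sub_zero]

end Groth.Agent.Helper19.ConSplit
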