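import Mathlib
import Groth.Agent.S8919
import Groth.Agent.Helper19.ConSplit9
import Groth.Agent.Helper19.RestrictRetract
import Groth.Agent.Lib.Helper29.QCohPullback
import Groth.Agent.Lib.Helper28.DCohRes1

/-!
# Local splitting of the conormal sequence at a point where the first immersion is `H_1`-regular
(helper19)
-/

set_option autoImplicit false
set_option linter.style.haveILetI false
universe u
open CategoryTheory CategoryTheory.Limits AlgebraicGeometry TopologicalSpace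

namespace Groth.Agent.Helper19.ConSplit

open Groth.Agent.Lib.Helper29.QCoh Groth.Agent.Helper19.Conormal Groth.Agent.Helper19.OmegaAlg
open Groth.Agent.Helper19.OmegaD Groth.Agent.Helper19.OmegaLocal

section sections

variable {Z : Scheme.{u}}

/-- Sections-level: a semilinear section of `g_W` gives a semilinear retraction of `f_W`. -/
theorem exists_retraction_of_sections_section (S : ShortComplex Z.Modules) (W : Z.Opens)
    (hinj : Function.Injective (S.f.app W))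
    (hex : Function.Exact (S.f.app W) (S.g.app W))
    (σ : Γ(S.X₃, W) →+ Γ(S.X₂, W))
    (hσl : ∀ (c : Γ(Z, W)) (m : Γ(S.X₃, W)), σ (c • m) = c • σ m)
    (hσ : ∀ t, S.g.app W (σ t) = t) :
    ∃ ℓ : Γ(S.X₂, W) →+ Γ(S.X₁, W), (∀ (c : Γ(Z, W)) (m : Γ(S.X₂, W)), ℓ (c • m) = c • ℓ m) ∧
      ∀ t, ℓ (S.f.app W t) = t := by
  have hfl : ∀ (c : Γ(Z, W)) (t : Γ(S.X₁, W)), S.f.app W (c • t) = c • S.f.app W t :=
    fun c t => (appₗ S.f W).map_smul c t
  have hgl : ∀ (c : Γ(Z, W)) (t : Γ(S.X₂, W)), S.g.app W (c • t) = c • S.g.app W t :=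
    fun c t => (appₗ S.g W).map_smul c t
  have hfadd : ∀ t t' : Γ(S.X₁, W), S.f.app W (t + t') = S.f.app W t + S.f.app W t' :=
    fun t t' => (appₗ S.f W).map_add t t'
  have hgadd : ∀ t t' : Γ(S.X₂, W), S.g.app W (t + t') = S.g.app W t + S.g.app W t' :=
    fun t t' => (appₗ S.g W).map_add t t'
  have hgsub : ∀ t t' : Γ(S.X₂, W), S.g.app W (t - t') = S.g.app W t - S.g.app W t' :=
    fun t t' => (appₗ S.g W).map_sub t t'
  have hgf : ∀ t, S.g.app W (S.f.app W t) = 0 := fun t => hex.apply_apply_eq_zero t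
  have hpre : ∀ m : Γ(S.X₂, W), ∃ t, S.f.app W t = m - σ (S.g.app W m) := by
    intro m
    apply (hex _).mp
    rw [hgsub, hσ, sub_self]
  choose ℓ₀ hℓ₀ using hpre
  have hadd : ∀ m m', ℓ₀ (m + m') = ℓ₀ m + ℓ₀ m' := by
    intro m m'
    apply hinj
    rw [hfadd, hℓ₀, hℓ₀, hℓ₀, hgadd, map_add]
    abel
  let ℓ : Γ(S.X₂, W) →+ Γ(S.X₁, W) := AddMonoidHom.mk' ℓ₀ hadd
  refine ⟨ℓ, ?_, ?_⟩
  · intro c m
    apply hinj
    change S.f.app W (ℓ₀ (c • m)) = S.f.app W (c • ℓ₀ m)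
    rw [hfl, hℓ₀, hℓ₀, hgl, hσl, smul_sub]
  · intro t
    apply hinj
    change S.f.app W (ℓ₀ (S.f.app W t)) = S.f.app W t
    rw [hℓ₀, hgf, map_zero, sub_zero]

end sections

variable {Z Y X : Scheme.{u}} (i : Z ⟶ Y) (j : Y ⟶ X) [IsImmersion i] [IsImmersion j]
  [QuasiCompact i] [QuasiCompact j]

open Groth.Agent.S8919 in
theorem exists_h1Chart_at (z : Z) (hi : RegImm.IsRegularImmersionAt RegImm.Kind.h1 i z)
    (N : Z.Opens) (hz : z ∈ N) :
    ∃ U : X.Opens, H1Chart i j U ∧ z ∈ (i ≫ j) ⁻¹ᵁ U ∧ (i ≫ j) ⁻¹ᵁ U ≤ N := by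
  obtain ⟨UY, hizU, -, rs, hrs, hker⟩ := hi
  have hrs' : CAlgX.IsH1Regular rs.get := hrs
  obtain ⟨G', hG'o, hG'⟩ := j.isEmbedding.isInducing.isOpen_iff.mp (i.coborderRange ⊓ UY.1).2
  have hiz : i z ∈ i.coborderRange := subset_coborder ⟨z, rfl⟩
  have hmem : (i ≫ j) z ∈ (⟨G', hG'o⟩ : X.Opens) ⊓ j.coborderRange := by
    refine ⟨?_, subset_coborder ⟨i z, rfl⟩⟩
    have : i z ∈ (j : Y → X) ⁻¹' G' := by rw [hG']; exact ⟨hiz, hizU⟩
    exact this
  obtain ⟨U, hU, hUc, hUM, hzU, hUN⟩ := exists_cb (i ≫ j) z N hz _ hmem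
  have hUj : U ≤ j.coborderRange := hUM.trans inf_le_right
  have hV : IsAffineOpen (j ⁻¹ᵁ U) := isAffineOpen_preimage_of_le_coborder j hU hUj
  have hVG : ∀ y : Y, y ∈ j ⁻¹ᵁ U → y ∈ i.coborderRange ⊓ UY.1 := by
    intro y hy
    have h1 : j y ∈ G' := (hUM hy).1
    have : y ∈ (j : Y → X) ⁻¹' G' := h1
    rw [hG'] at this
    exact this
  have hVU : j ⁻¹ᵁ U ≤ UY.1 := fun y hy => (hVG y hy).2
  have hVi : j ⁻¹ᵁ U ≤ i.coborderRange := fun y hy => (hVG y hy).1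
  have e : j ⁻¹ᵁ U ≤ (𝟙 Y) ⁻¹ᵁ UY.1 := hVU
  refine ⟨U, ⟨hU, hUj, hUc, hVi, hV, rs.length,
    fun k => ((𝟙 Y : Y ⟶ Y).appLE UY.1 (j ⁻¹ᵁ U) e).hom (rs.get k), ?_, ?_⟩, hzU, hUN⟩
  · letI := algΓ (𝟙 Y) e
    haveI : Module.Flat Γ(Y, UY.1) Γ(Y, j ⁻¹ᵁ U) :=
      HasRingHomProperty.appLE (P := @Flat) (𝟙 Y) inferInstance UY ⟨j ⁻¹ᵁ U, hV⟩ e
    exact isH1Regular_of_flat rs.get hrs'
  · have h1 := i.ker.map_ideal (U := ⟨j ⁻¹ᵁ U, hV⟩) (V := UY) hVU
    rw [← h1, Scheme.Hom.ker_apply i UY, hker, Ideal.ofList, Ideal.map_span]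
    congr 1
    ext y
    constructor
    · rintro ⟨x, hx, rfl⟩
      obtain ⟨k, rfl⟩ := List.mem_iff_get.mp hx
      exact ⟨k, rfl⟩
    · rintro ⟨k, rfl⟩
      exact ⟨rs.get k, List.get_mem _ _, rfl⟩

variable (a : (Scheme.Modules.pullback i).obj (Omega.conormal j) ⟶ Omega.conormal (i ≫ j))
  (ha : OmegaSh.IsConormalMap (i ≫ j) j (𝟙 X) i a)
  (b : (Scheme.Modules.pullback (𝟙 Z)).obj (Omega.conormal (i ≫ j)) ⟶ Omega.conormal i)
  (hb : OmegaSh.IsConormalMap i (i ≫ j) j (𝟙 Z) b)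

include ha hb in
theorem conormal_seq_loc : ∀ W ∈ Groth.Agent.Helper19.Conormal.triB j i,
    Function.Exact (a.app W)
      (((Scheme.Modules.pullbackId Z).inv.app (Omega.conormal (i ≫ j)) ≫ b).app W) ∧
    Function.Surjective (b.app W) := by
  rintro W ⟨U, hU, hUf, hUjf, hVj, rfl⟩
  exact Groth.Agent.S5974.local_main j i a ha b hb hU hUf hUjf hVj

include ha hb in
/-- The conormal sequence is a complex. -/
theorem conormal_seq_zero :
    a ≫ ((Scheme.Modules.pullbackId Z).inv.app (Omega.conormal (i ≫ j)) ≫ b) = 0 := by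
  apply Groth.Agent.Helper19.OmegaD.hom_ext_of_basis _ (Groth.Agent.Helper19.Conormal.isBasis_triB j i)
  intro W hW m
  exact (((conormal_seq_loc i j a ha b hb W hW).1) _).mpr ⟨m, rfl⟩

include ha hb in
/-- The conormal sequence is exact in the middle. -/
theorem conormal_seq_exact
    (w : a ≫ ((Scheme.Modules.pullbackId Z).inv.app (Omega.conormal (i ≫ j)) ≫ b) = 0) :
    (ShortComplex.mk a _ w).Exact :=
  Groth.Agent.Helper19.OmegaD.exact_of_exact_on_basis _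
    (Groth.Agent.Helper19.Conormal.isBasis_triB j i) _
    (fun W hW => (conormal_seq_loc i j a ha b hb W hW).1)

include ha hb in
/-- The conormal sequence is right exact. -/
theorem conormal_seq_epi :
    Epi ((Scheme.Modules.pullbackId Z).inv.app (Omega.conormal (i ≫ j)) ≫ b) := by
  have hepib : Epi b := by
    apply Groth.Agent.Helper19.OmegaD.epi_of_surjective_on_basis b _
      (Groth.Agent.Helper19.Conormal.isBasis_triB j i)
    intro W hW
    exact (conormal_seq_loc i j a ha b hb W hW).2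
  exact epi_comp _ _

end Groth.Agent.Helper19.ConSplit
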