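import Mathlib
import Groth.Agent.Helper19.ConSplit11

/-!
# Local splitting of the conormal sequence at a point where the first immersion is `H_1`-regular,
main statement (helper19)
-/

set_option autoImplicit false
set_option linter.style.haveILetI false
universe u
open CategoryTheory CategoryTheory.Limits AlgebraicGeometry TopologicalSpace

namespace Groth.Agent.Helper19.ConSplit

open Groth.Agent.Lib.Helper29.QCoh Groth.Agent.Helper19.Conormal Groth.Agent.Helper19.OmegaAlg
open Groth.Agent.Helper19.OmegaD Groth.Agent.Helper19.OmegaLocal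
open Groth.Agent.Lib.Helper28.DCohRes

variable {Z Y X : Scheme.{u}} (i : Z ⟶ Y) (j : Y ⟶ X) [IsImmersion i] [IsImmersion j]
  [QuasiCompact i] [QuasiCompact j]
  (a : (Scheme.Modules.pullback i).obj (Omega.conormal j) ⟶ Omega.conormal (i ≫ j))
  (ha : OmegaSh.IsConormalMap (i ≫ j) j (𝟙 X) i a)
  (b : (Scheme.Modules.pullback (𝟙 Z)).obj (Omega.conormal (i ≫ j)) ⟶ Omega.conormal i)
  (hb : OmegaSh.IsConormalMap i (i ≫ j) j (𝟙 Z) b)

include ha hb in
theorem exists_splitting_at (z : Z) (hi : RegImm.IsRegularImmersionAt RegImm.Kind.h1 i z) :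
    ∃ U : Z.Opens, z ∈ U ∧
      ∀ w : (Scheme.Modules.restrictFunctor U.ι).map a ≫ (Scheme.Modules.restrictFunctor U.ι).map
        ((Scheme.Modules.pullbackId Z).inv.app (Omega.conormal (i ≫ j)) ≫ b) = 0,
        Nonempty (ShortComplex.mk ((Scheme.Modules.restrictFunctor U.ι).map a)
          ((Scheme.Modules.restrictFunctor U.ι).map
            ((Scheme.Modules.pullbackId Z).inv.app (Omega.conormal (i ≫ j)) ≫ b)) w).Splitting := by
  obtain ⟨UX, hc, hzU, -⟩ := exists_h1Chart_at i j z hi ⊤ trivial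
  have hW : IsAffineOpen ((i ≫ j) ⁻¹ᵁ UX) :=
    isAffineOpen_preimage_of_le_coborder (i ≫ j) hc.hU hc.hUij
  obtain ⟨hinj, hfin, hproj⟩ := Groth.Agent.S8919.local_h1 i j a ha hc
  obtain ⟨hexW, hsurjb⟩ :=
    Groth.Agent.S5974.local_main j i a ha b hb hc.hU hc.hUj hc.hUij hc.hVi
  have w₀ := conormal_seq_zero i j a ha b hb
  have hex₀ := conormal_seq_exact i j a ha b hb w₀
  have hepi₀ := conormal_seq_epi i j a ha b hb
  set W : Z.Opens := (i ≫ j) ⁻¹ᵁ UX with hWdef
  set g := (Scheme.Modules.pullbackId Z).inv.app (Omega.conormal (i ≫ j)) ≫ b with hg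
  -- surjectivity of `g` on sections
  have hsurj : Function.Surjective (g.app W) := by
    intro c
    obtain ⟨m, hm⟩ := hsurjb c
    refine ⟨((Scheme.Modules.pullbackId Z).hom.app (Omega.conormal (i ≫ j))).app W m, ?_⟩
    have h1 : (Scheme.Modules.pullbackId Z).hom.app (Omega.conormal (i ≫ j)) ≫ g = b := by
      rw [hg, ← Category.assoc, Iso.hom_inv_id_app, Category.id_comp]
    have h2 := congrArg (fun k => k.app W m) h1
    exact h2.trans hm
  -- a linear section
  haveI := hproj
  obtain ⟨σ, hσ⟩ := Module.projective_lifting_property (appₗ g W) LinearMap.id hsurj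
  obtain ⟨ℓ, hℓl, hℓ⟩ := exists_retraction_of_sections_section (ShortComplex.mk a g w₀) W hinj hexW
    σ.toAddMonoidHom (fun c m => σ.map_smul c m) (fun t => congrArg (fun k => k t) hσ)
  haveI := Groth.Agent.Helper19.Conormal.isQuasicoherent_conormal (i ≫ j)
  haveI := Groth.Agent.Helper19.Conormal.isQuasicoherent_conormal j
  obtain ⟨r, hr⟩ := Groth.Agent.Helper19.RestrictRetract.exists_retraction_ι a hW ℓ hℓl hℓ
  refine ⟨W, hzU, fun w => ⟨ShortComplex.Splitting.ofExactOfRetraction _ ?_ r hr ?_⟩⟩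
  · exact hex₀.map (Scheme.Modules.restrictFunctor W.ι)
  · haveI := hepi₀
    change Epi ((Scheme.Modules.restrictFunctor W.ι).map g)
    infer_instance

end Groth.Agent.Helper19.ConSplit
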