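import Mathlib
import Groth.Prelude.Def_CAlgX
import Groth.Agent.Helper19.ConSplit1
import Groth.Agent.Lib.Helper12.QuasiReg

/-!
# Conormal splitting ⇒ regular immersion: the ring-level core (helper19)
-/

set_option autoImplicit false
set_option linter.style.haveILetI false
universe u

open scoped TensorProduct

namespace Groth.Agent.Helper19.ConSplit

variable {A : Type u} [CommRing A] (I J : Ideal A)

/-- The residue-field fibre of `M ≅ I/I²` has the classes of a quasi-regular generating sequence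
as a basis. -/
theorem exists_basis_fibre (q : Ideal A) [q.IsPrime] (hIq : I ≤ q)
    {M : Type u} [AddCommGroup M] [Module A M]
    (μ : I →ₗ[A] M) (hμs : Function.Surjective μ) (hμ0 : ∀ x, μ x = 0 ↔ (x : A) ∈ I ^ 2)
    {r : ℕ} (h : Fin r → A) (hh : Ideal.span (Set.range h) = I) (hq : CAlgX.IsQuasiRegular h)
    (hhI : ∀ l, h l ∈ I) :
    ∃ u : Module.Basis (Fin r) q.ResidueField (q.ResidueField ⊗[A] M),
      ∀ l, u l = (1 : q.ResidueField) ⊗ₜ[A] μ ⟨h l, hhI l⟩ := by
  classical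
  set κ := q.ResidueField with hκ
  have hker : LinearMap.ker μ = LinearMap.ker I.toCotangent := by
    ext x
    rw [LinearMap.mem_ker, LinearMap.mem_ker, hμ0, Ideal.toCotangent_eq_zero]
  let Eμ := LinearMap.quotKerEquivOfSurjective μ hμs
  let ε : M →ₗ[A] I.Cotangent :=
    (Submodule.liftQ (LinearMap.ker μ) I.toCotangent hker.le) ∘ₗ Eμ.symm.toLinearMap
  have hε : ∀ x, ε (μ x) = I.toCotangent x := by
    intro x
    have h1 : Eμ.symm (μ x) = Submodule.Quotient.mk x := by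
      rw [LinearEquiv.symm_apply_eq]; rfl
    change (Submodule.liftQ (LinearMap.ker μ) I.toCotangent hker.le) (Eμ.symm (μ x)) = _
    rw [h1, Submodule.liftQ_apply]
  obtain ⟨hli, hsp⟩ := Groth.Agent.Lib.Helper12.QR.cotangent_basis_of_isQuasiRegular I
    (fun l => (⟨h l, hhI l⟩ : I)) hq hh
  let bC : Module.Basis (Fin r) (A ⧸ I) I.Cotangent := Module.Basis.mk hli (by rw [hsp])
  have hbC : ∀ l, bC l = I.toCotangent ⟨h l, hhI l⟩ := fun l => Module.Basis.mk_apply _ _ l
  have hle : (I : Submodule A A) ≤ LinearMap.ker (Algebra.linearMap A κ) := by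
    intro x hx
    rw [LinearMap.mem_ker, Algebra.linearMap_apply]
    have : x ∈ q := hIq hx
    exact (Ideal.algebraMap_residueField_eq_zero).mpr this
  let ψ : (A ⧸ I) →ₗ[A] κ := Submodule.liftQ I (Algebra.linearMap A κ) hle
  have hψ1 : ψ 1 = 1 := by
    change ψ (Submodule.Quotient.mk 1) = 1
    rw [Submodule.liftQ_apply, Algebra.linearMap_apply, map_one]
  let lam : Fin r → (M →ₗ[A] κ) := fun l => ψ ∘ₗ ((bC.coord l).restrictScalars A) ∘ₗ ε
  have hlam : ∀ l l', lam l (μ ⟨h l', hhI l'⟩) = if l' = l then 1 else 0 := by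
    intro l l'
    change ψ (bC.coord l (ε (μ ⟨h l', hhI l'⟩))) = _
    rw [hε, ← hbC, Module.Basis.coord_apply, Module.Basis.repr_self, Finsupp.single_apply]
    split_ifs
    · exact hψ1
    · exact map_zero ψ
  let Lam : Fin r → (κ ⊗[A] M →ₗ[κ] κ) := fun l => (lam l).liftBaseChange κ
  let uu : Fin r → κ ⊗[A] M := fun l => (1 : κ) ⊗ₜ[A] μ ⟨h l, hhI l⟩
  have hLam : ∀ l l', Lam l (uu l') = if l' = l then 1 else 0 := by
    intro l l'
    change (lam l).liftBaseChange κ ((1 : κ) ⊗ₜ[A] μ ⟨h l', hhI l'⟩) = _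
    rw [LinearMap.liftBaseChange_one_tmul, hlam]
  have huli : LinearIndependent κ uu := by
    rw [Fintype.linearIndependent_iff]
    intro g hg l
    have h1 := congrArg (Lam l) hg
    rw [map_sum, map_zero] at h1
    simp only [map_smul, hLam, smul_eq_mul, mul_ite, mul_one, mul_zero, Finset.sum_ite_eq',
      Finset.mem_univ, if_true] at h1
    exact h1
  have husp : ⊤ ≤ Submodule.span κ (Set.range uu) := by
    intro t ht
    clear ht
    induction t using TensorProduct.induction_on with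
    | zero => exact zero_mem _
    | add x y hx hy => exact add_mem hx hy
    | tmul c m =>
      obtain ⟨x, rfl⟩ := hμs m
      have hx : (x : A) ∈ Ideal.span (Set.range h) := by rw [hh]; exact x.2
      obtain ⟨a, ha⟩ := (Ideal.mem_span_range_iff_exists_fun).mp hx
      have hx' : x = ∑ l, a l • (⟨h l, hhI l⟩ : I) := by
        apply Subtype.ext
        rw [← ha]
        simp [Submodule.coe_sum]
      have h2 : c ⊗ₜ[A] μ x = ∑ l, (c * algebraMap A κ (a l)) • uu l := by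
        rw [hx', map_sum, TensorProduct.tmul_sum]
        refine Finset.sum_congr rfl fun l _ => ?_
        rw [map_smul, TensorProduct.tmul_smul, TensorProduct.smul_tmul', TensorProduct.smul_tmul',
          Algebra.smul_def, smul_eq_mul, mul_one, mul_comm]
      rw [h2]
      exact Submodule.sum_mem _ fun l _ => Submodule.smul_mem _ _ (Submodule.subset_span ⟨l, rfl⟩)
  refine ⟨Module.Basis.mk huli husp, fun l => ?_⟩
  rw [Module.Basis.mk_apply]

/-- The ring-level core. -/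
theorem core (hJI : J ≤ I) (hJfg : J.FG)
    (q : Ideal A) [q.IsPrime] (hIq : I ≤ q)
    {M N : Type u} [AddCommGroup M] [Module A M] [AddCommGroup N] [Module A N]
    (μ : I →ₗ[A] M) (hμs : Function.Surjective μ) (hμ0 : ∀ x, μ x = 0 ↔ (x : A) ∈ I ^ 2)
    (ν : J →ₗ[A] N) (hνs : Function.Surjective ν) (hν0 : ∀ x, ν x = 0 → (x : A) ∈ I * J)
    (α : N →ₗ[A] M) (ρ : M →ₗ[A] N) (hρ : ∀ y, ρ (α y) = y)
    (hαν : ∀ x : J, α (ν x) = μ ⟨x, hJI x.2⟩)
    {r : ℕ} (h : Fin r → A) (hh : Ideal.span (Set.range h) = I) (hq : CAlgX.IsQuasiRegular h) :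
    ∃ (a₀ : A) (n m : ℕ) (f : Fin n → A) (e : Fin m → Fin r), a₀ ∉ q ∧ n + m = r ∧
      (∀ k, f k ∈ J) ∧
      (∀ x ∈ I, a₀ * x ∈ Ideal.span (Set.range f ∪ Set.range (h ∘ e))) ∧
      (∀ x ∈ J, a₀ * x ∈ Ideal.span (Set.range f)) ∧
      (∀ (t : ℕ) (g : Fin t → A), Ideal.span (Set.range g) = J → n ≤ t) := by
  classical
  set κ := q.ResidueField with hκ
  have hhI : ∀ l, h l ∈ I := fun l => hh ▸ Ideal.subset_span ⟨l, rfl⟩
  obtain ⟨u, hu⟩ := exists_basis_fibre I q hIq μ hμs hμ0 h hh hq hhI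
  -- finiteness
  have hIfg : I.FG := by rw [← hh]; exact Submodule.fg_span (Set.finite_range h)
  haveI : Module.Finite A I := Module.Finite.iff_fg.mpr hIfg
  haveI : Module.Finite A J := Module.Finite.iff_fg.mpr hJfg
  haveI : Module.Finite A M := Module.Finite.of_surjective μ hμs
  haveI : Module.Finite A N := Module.Finite.of_surjective ν hνs
  -- a basis of the fibre of `N`
  let v : J → κ ⊗[A] N := fun x => (1 : κ) ⊗ₜ[A] ν x
  have hv : Submodule.span κ (Set.range v) = ⊤ := by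
    rw [eq_top_iff]
    intro t ht
    clear ht
    induction t using TensorProduct.induction_on with
    | zero => exact zero_mem _
    | add x y hx hy => exact add_mem hx hy
    | tmul c m =>
      obtain ⟨x, rfl⟩ := hνs m
      have : c ⊗ₜ[A] ν x = c • v x := by
        change _ = c • ((1 : κ) ⊗ₜ[A] ν x)
        rw [TensorProduct.smul_tmul', smul_eq_mul, mul_one]
      rw [this]
      exact Submodule.smul_mem _ _ (Submodule.subset_span ⟨x, rfl⟩)
  obtain ⟨n, a, hali, hasp⟩ := exists_fin_basis_of_span v hv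
  have hn_le : ∀ (t : ℕ) (g : Fin t → A), Ideal.span (Set.range g) = J → n ≤ t := by
    intro t g hg
    have hgJ : ∀ k, g k ∈ J := fun k => hg ▸ Ideal.subset_span ⟨k, rfl⟩
    let vg : Fin t → κ ⊗[A] N := fun k => v ⟨g k, hgJ k⟩
    have hvg : Submodule.span κ (Set.range vg) = ⊤ := by
      rw [eq_top_iff, ← hv]
      apply Submodule.span_le.mpr
      rintro _ ⟨x, rfl⟩
      have hx : (x : A) ∈ Ideal.span (Set.range g) := by rw [hg]; exact x.2
      obtain ⟨c, hc⟩ := (Ideal.mem_span_range_iff_exists_fun).mp hx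
      have hx' : x = ∑ k, c k • (⟨g k, hgJ k⟩ : J) := by
        apply Subtype.ext
        rw [← hc]
        simp
      have h2 : v x = ∑ k, (algebraMap A κ (c k)) • vg k := by
        change (1 : κ) ⊗ₜ[A] ν x = _
        rw [hx', map_sum, TensorProduct.tmul_sum]
        refine Finset.sum_congr rfl fun k _ => ?_
        change _ = algebraMap A κ (c k) • ((1 : κ) ⊗ₜ[A] ν ⟨g k, hgJ k⟩)
        rw [map_smul, TensorProduct.tmul_smul, TensorProduct.smul_tmul', TensorProduct.smul_tmul',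
          Algebra.smul_def, smul_eq_mul, mul_one]
      rw [SetLike.mem_coe, h2]
      exact Submodule.sum_mem _ fun k _ => Submodule.smul_mem _ _ (Submodule.subset_span ⟨k, rfl⟩)
    let Bn := Module.Basis.mk hali (by rw [hasp])
    have h1 : Module.finrank κ (κ ⊗[A] N) = n := by
      rw [Module.finrank_eq_card_basis Bn, Fintype.card_fin]
    have h2 := finrank_range_le_card (R := κ) vg
    rw [Set.finrank, hvg, finrank_top, h1, Fintype.card_fin] at h2
    exact h2
  let f : Fin n → A := fun k => (a k : A)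
  have hfJ : ∀ k, f k ∈ J := fun k => (a k).2
  have hfI : ∀ k, f k ∈ I := fun k => hJI (hfJ k)
  -- the images in the fibre of `M`
  let ακ : κ ⊗[A] N →ₗ[κ] κ ⊗[A] M := α.baseChange κ
  let ρκ : κ ⊗[A] M →ₗ[κ] κ ⊗[A] N := ρ.baseChange κ
  have hρκ : ∀ t, ρκ (ακ t) = t := by
    intro t
    have h1 : ρκ ∘ₗ ακ = LinearMap.id := by
      change ρ.baseChange κ ∘ₗ α.baseChange κ = _
      rw [← LinearMap.baseChange_comp]
      have : ρ ∘ₗ α = LinearMap.id := LinearMap.ext hρ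
      rw [this, LinearMap.baseChange_id]
    exact congrArg (fun ψ => ψ t) h1
  have hακinj : Function.Injective ακ := Function.LeftInverse.injective hρκ
  let w : Fin n → κ ⊗[A] M := fun k => (1 : κ) ⊗ₜ[A] μ ⟨f k, hfI k⟩
  have hwv : ∀ k, w k = ακ ((v ∘ a) k) := by
    intro k
    change _ = α.baseChange κ ((1 : κ) ⊗ₜ[A] ν (a k))
    rw [LinearMap.baseChange_tmul, hαν]
  have hwli : LinearIndependent κ w := by
    have := hali.map' ακ (LinearMap.ker_eq_bot.mpr hακinj)
    have e1 : w = ακ ∘ (v ∘ a) := funext hwv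
    rw [e1]; exact this
  obtain ⟨m, e, hnm, hspan⟩ := exists_extend_basis u w hwli
  -- the submodules
  let P : Ideal A := Ideal.span (Set.range f ∪ Set.range (h ∘ e))
  let P' : Ideal A := Ideal.span (Set.range f)
  have hPI : P ≤ I := by
    apply Ideal.span_le.mpr
    rintro x (⟨k, rfl⟩ | ⟨k, rfl⟩)
    · exact hfI k
    · exact hhI _
  have hP'J : P' ≤ J := Ideal.span_le.mpr (by rintro x ⟨k, rfl⟩; exact hfJ k)
  let M₀ : Submodule A M := Submodule.map μ (Submodule.comap I.subtype P)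
  let N₀ : Submodule A N := Submodule.map ν (Submodule.comap J.subtype P')
  have hM₀ : Submodule.span κ ((fun m : M => (1 : κ) ⊗ₜ[A] m) '' (M₀ : Set M)) = ⊤ := by
    rw [eq_top_iff, ← hspan]
    apply Submodule.span_mono
    rintro x (⟨k, rfl⟩ | ⟨k, rfl⟩)
    · refine ⟨μ ⟨f k, hfI k⟩, ⟨⟨f k, hfI k⟩, ?_, rfl⟩, rfl⟩
      exact Ideal.subset_span (Or.inl ⟨k, rfl⟩)
    · refine ⟨μ ⟨h (e k), hhI _⟩, ⟨⟨h (e k), hhI _⟩, ?_, rfl⟩, ?_⟩
      · exact Ideal.subset_span (Or.inr ⟨k, rfl⟩)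
      · change _ = u (e k)
        rw [hu]
  have hN₀ : Submodule.span κ ((fun m : N => (1 : κ) ⊗ₜ[A] m) '' (N₀ : Set N)) = ⊤ := by
    rw [eq_top_iff, ← hasp]
    apply Submodule.span_mono
    rintro x ⟨k, rfl⟩
    refine ⟨ν (a k), ⟨a k, ?_, rfl⟩, rfl⟩
    exact Ideal.subset_span ⟨k, rfl⟩
  obtain ⟨a₁, ha₁q, ha₁⟩ := exists_notMem_forall_smul_mem q M₀ hM₀
  obtain ⟨a₂, ha₂q, ha₂⟩ := exists_notMem_forall_smul_mem q N₀ hN₀
  -- translate to ideals
  have hI1 : ∀ x ∈ I, a₁ * x ∈ P ⊔ I * I := by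
    intro x hx
    obtain ⟨y, hy, hyx⟩ := ha₁ (μ ⟨x, hx⟩)
    have hy' : (y : A) ∈ P := hy
    have h1 : μ (a₁ • ⟨x, hx⟩ - y) = 0 := by
      rw [map_sub, map_smul, hyx, sub_self]
    rw [hμ0, pow_two] at h1
    have h2 : a₁ * x = (y : A) + (a₁ * x - y) := by ring
    rw [h2]
    exact Submodule.add_mem_sup hy' h1
  have hJ1 : ∀ x ∈ J, a₂ * x ∈ P' ⊔ I * J := by
    intro x hx
    obtain ⟨y, hy, hyx⟩ := ha₂ (ν ⟨x, hx⟩)
    have hy' : (y : A) ∈ P' := hy
    have h1 : ν (a₂ • ⟨x, hx⟩ - y) = 0 := by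
      rw [map_sub, map_smul, hyx, sub_self]
    have h1' := hν0 _ h1
    have h2 : a₂ * x = (y : A) + (a₂ * x - y) := by ring
    rw [h2]
    exact Submodule.add_mem_sup hy' h1'
  obtain ⟨d₁, c₁, hc₁, hb₁⟩ := exists_pow_add_mul_mem I I P hIfg a₁ hI1
  obtain ⟨d₂, c₂, hc₂, hb₂⟩ := exists_pow_add_mul_mem I J P' hJfg a₂ hJ1
  have hnot : ∀ (a c : A) (d : ℕ), a ∉ q → c ∈ I → a ^ d + c ∉ q := by
    intro a c d ha hc hmem
    have hcq : c ∈ q := hIq hc
    have : a ^ d ∈ q := by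
      have := q.sub_mem hmem hcq
      simpa using this
    exact ha (Ideal.IsPrime.mem_of_pow_mem inferInstance d this)
  refine ⟨(a₁ ^ d₁ + c₁) * (a₂ ^ d₂ + c₂), n, m, f, e, ?_, hnm, hfJ, ?_, ?_, hn_le⟩
  · intro hmem
    rcases Ideal.IsPrime.mem_or_mem inferInstance hmem with h1 | h1
    · exact hnot a₁ c₁ d₁ ha₁q hc₁ h1
    · exact hnot a₂ c₂ d₂ ha₂q hc₂ h1
  · intro x hx
    have := hb₁ x hx
    have h2 : (a₁ ^ d₁ + c₁) * (a₂ ^ d₂ + c₂) * x = (a₂ ^ d₂ + c₂) * ((a₁ ^ d₁ + c₁) * x) := by ring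
    rw [h2]
    exact Ideal.mul_mem_left _ _ this
  · intro x hx
    have := hb₂ x hx
    have h2 : (a₁ ^ d₁ + c₁) * (a₂ ^ d₂ + c₂) * x = (a₁ ^ d₁ + c₁) * ((a₂ ^ d₂ + c₂) * x) := by ring
    rw [h2]
    exact Ideal.mul_mem_left _ _ this

end Groth.Agent.Helper19.ConSplit
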