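import Mathlib
import Groth.Prelude.Def_RegImm
import Groth.Agent.Helper19.RegImmComp
import Groth.Agent.Lib.Helper16.KzInv5
import Groth.Agent.Lib.Helper16.TorPow

/-!
# Conormal splitting ⇒ regular immersion: the kind-specific ring lemmas (helper19)
-/

set_option autoImplicit false
set_option linter.style.haveILetI false
universe u

namespace Groth.Agent.Helper19.ConSplit

open Groth.Agent.Helper19.RegImmBC

/-- The ring-level properties of a kind of sequences used in the splitting argument. -/
structure KindOK (k : RegImm.Kind) : Prop where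
  flat : KindFlatStable.{u} k
  same : ∀ {R : Type u} [CommRing R] (l l' : List R), l.length = l'.length →
    Ideal.ofList l = Ideal.ofList l' → k.Seq R l' → k.Seq R l
  quot : ∀ {A B : Type u} [CommRing A] [CommRing B] (π : A →+* B), Function.Surjective π →
    ∀ fl gl : List A, RingHom.ker π = Ideal.ofList fl → k.Seq A (gl ++ fl) →
      (k = RegImm.Kind.koszul → k.Seq A fl) → k.Seq B (gl.map π)
  quasi : ∀ {R : Type u} [CommRing R] (l : List R), k.Seq R l → CAlgX.IsQuasiRegular l.get

theorem kreg_quot {A B : Type u} [CommRing A] [CommRing B] (π : A →+* B)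
    (hπ : Function.Surjective π) (fl gl : List A) (hker : RingHom.ker π = Ideal.ofList fl)
    (h : LCI.IsKoszulRegularSeq A (gl ++ fl)) (hf : LCI.IsKoszulRegularSeq A fl) :
    LCI.IsKoszulRegularSeq B (gl.map π) := by
  rw [Groth.Agent.Lib.Helper16.KzComp.kreg_append_iff fl gl hf] at h
  let e₁ : A ⧸ RingHom.ker π ≃+* B := RingHom.quotientKerEquivOfSurjective hπ
  let e₂ : A ⧸ Ideal.ofList fl ≃+* A ⧸ RingHom.ker π := Ideal.quotEquivOfEq hker.symm
  let e : A ⧸ Ideal.ofList fl ≃+* B := e₂.trans e₁
  have he : ∀ x : A, e (Ideal.Quotient.mk _ x) = π x := fun x => rfl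
  have h1 := Groth.Agent.Lib.Helper16.KzComp.kreg_map_ringEquiv e _ h
  have h2 : (gl.map (Ideal.Quotient.mk (Ideal.ofList fl))).map e = gl.map π := by
    rw [List.map_map]
    apply List.map_congr_left
    intro x _
    exact he x
  rw [h2] at h1
  exact h1

theorem kindOK_koszul : KindOK.{u} RegImm.Kind.koszul where
  flat := kindFlatStable_koszul
  same := fun l l' hlen hI hl' =>
    Groth.Agent.Lib.Helper16.KzInv.isKoszulRegularSeq_of_ofList_eq l' l hlen hI hl'
  quot := fun π hπ fl gl hker h hf => kreg_quot π hπ fl gl hker h (hf rfl)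
  quasi := fun l hl => Groth.Agent.Lib.Helper16.TorPow.isQuasiRegular_of_kreg l hl

end Groth.Agent.Helper19.ConSplit
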