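import Mathlib
import Groth.Agent.Helper19.Conormal8
import Groth.Agent.Helper19.PullUnit
import Groth.Agent.Helper19.RelRegImm7
import Groth.Agent.Helper19.ConSplit2
import Groth.Agent.Helper19.QuasiRegScheme

/-!
# Conormal splitting ⇒ regular immersion: the chart dictionary (helper19)
-/

set_option autoImplicit false
set_option linter.style.haveILetI false
set_option linter.unusedSectionVars false
universe u

open CategoryTheory CategoryTheory.Limits AlgebraicGeometry TopologicalSpace Opposite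
open scoped TensorProduct

namespace Groth.Agent.Helper19.ConSplit

open Groth.Agent.Lib.Helper29.QCoh Groth.Agent.Helper19.OmegaD Groth.Agent.Helper19.OmegaLocal
open Groth.Agent.Helper19.OmegaAlg Groth.Agent.Helper19.Conormal Groth.Agent.Helper19.KosLoc
open Groth.Agent.Helper19.PullUnit

variable {Z Y X : Scheme.{u}} (i : Z ⟶ Y) (j : Y ⟶ X) [IsImmersion i] [IsImmersion j]
  [QuasiCompact i] [QuasiCompact j]
  (a : (Scheme.Modules.pullback i).obj (Omega.conormal j) ⟶ Omega.conormal (i ≫ j))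
  (ha : OmegaSh.IsConormalMap (i ≫ j) j (𝟙 X) i a)

/-- A chart adapted to the pair of immersions. -/
structure Chart (U : X.Opens) : Prop where
  hU : IsAffineOpen U
  hUj : U ≤ j.coborderRange
  hUij : U ≤ (i ≫ j).coborderRange
  hVi : j ⁻¹ᵁ U ≤ i.coborderRange

set_option maxRecDepth 16000 in
set_option maxHeartbeats 1600000 in
include ha in
theorem local_core {U : X.Opens} (hc : Chart i j U) (z : Z) (hz : (i ≫ j) z ∈ U)
    (ℓ : Γ(Omega.conormal (i ≫ j), (i ≫ j) ⁻¹ᵁ U) →+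
      Γ((Scheme.Modules.pullback i).obj (Omega.conormal j), (i ≫ j) ⁻¹ᵁ U))
    (hℓ : ∀ (c : Γ(Z, (i ≫ j) ⁻¹ᵁ U)) (m : Γ(Omega.conormal (i ≫ j), (i ≫ j) ⁻¹ᵁ U)),
      ℓ (c • m) = c • ℓ m)
    (hℓa : ∀ t, ℓ (a.app ((i ≫ j) ⁻¹ᵁ U) t) = t)
    (hs : List Γ(X, U)) (hq : CAlgX.IsQuasiRegular hs.get)
    (hI : (i ≫ j).ker.ideal ⟨U, hc.hU⟩ = Ideal.ofList hs)
    (hJfg : (j.ker.ideal ⟨U, hc.hU⟩).FG) :
    ∃ (a₀ : Γ(X, U)) (n m : ℕ) (f : Fin n → Γ(X, U)) (e : Fin m → Fin hs.length),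
      (i ≫ j) z ∈ X.basicOpen a₀ ∧ n + m = hs.length ∧
      (∀ k, f k ∈ j.ker.ideal ⟨U, hc.hU⟩) ∧
      (∀ x ∈ (i ≫ j).ker.ideal ⟨U, hc.hU⟩,
        a₀ * x ∈ Ideal.span (Set.range f ∪ Set.range (hs.get ∘ e))) ∧
      (∀ x ∈ j.ker.ideal ⟨U, hc.hU⟩, a₀ * x ∈ Ideal.span (Set.range f)) ∧
      (∀ (t : ℕ) (g : Fin t → Γ(X, U)),
        Ideal.span (Set.range g) = j.ker.ideal ⟨U, hc.hU⟩ → n ≤ t) := by
  obtain ⟨hU, hUj, hUij, hVi⟩ := hc
  have hV : IsAffineOpen (j ⁻¹ᵁ U) := isAffineOpen_preimage_of_le_coborder j hU hUj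
  have hW : IsAffineOpen ((i ≫ j) ⁻¹ᵁ U) := isAffineOpen_preimage_of_le_coborder (i ≫ j) hU hUij
  have eW : (i ≫ j) ⁻¹ᵁ U ≤ i ⁻¹ᵁ (j ⁻¹ᵁ U) := le_rfl
  have eWW : (i ≫ j) ⁻¹ᵁ U ≤ (i ≫ j) ⁻¹ᵁ U := le_rfl
  have eVV : j ⁻¹ᵁ U ≤ j ⁻¹ᵁ U := le_rfl
  have cj : IsClosedChart j hU eVV := isClosedChart_of_eq j hU hUj rfl
  have cij : IsClosedChart (i ≫ j) hU eWW := isClosedChart_of_eq (i ≫ j) hU hUij rfl
  have ci : IsClosedChart i hV eW := isClosedChart_of_eq i hV hVi rfl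
  have hsurjj : Function.Surjective (j.app U).hom := app_surjective_of_le_coborder j hU hUj
  have hsurjij : Function.Surjective ((i ≫ j).app U).hom :=
    app_surjective_of_le_coborder (i ≫ j) hU hUij
  have hIj : j.ker.ideal ⟨U, hU⟩ = RingHom.ker (j.app U).hom := Scheme.Hom.ker_apply j ⟨U, hU⟩
  have hJc : (i ≫ j).ker.ideal ⟨U, hU⟩ =
      Ideal.comap (j.app U).hom (i.ker.ideal ⟨j ⁻¹ᵁ U, hV⟩) := by
    rw [Scheme.Hom.ker_apply (i ≫ j) ⟨U, hU⟩, Scheme.Hom.ker_apply i ⟨j ⁻¹ᵁ U, hV⟩,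
      RingHom.comap_ker]
    rfl
  have hJI : j.ker.ideal ⟨U, hU⟩ ≤ (i ≫ j).ker.ideal ⟨U, hU⟩ := by
    intro x hx
    rw [hIj, RingHom.mem_ker] at hx
    rw [hJc, Ideal.mem_comap, hx]
    exact zero_mem _
  have hJ0 : ∀ y : Γ(X, U), y ∈ (i ≫ j).ker.ideal ⟨U, hU⟩ → ((i ≫ j).app U).hom y = 0 := by
    intro y hy
    rw [Scheme.Hom.ker_apply (i ≫ j) ⟨U, hU⟩, RingHom.mem_ker] at hy
    exact hy
  -- notation
  let A := Γ(X, U)
  let φ : A →+* Γ(Z, (i ≫ j) ⁻¹ᵁ U) := ((i ≫ j).appLE U ((i ≫ j) ⁻¹ᵁ U) eWW).hom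
  have hφ : ∀ c : A, φ c = ((i ≫ j).app U).hom c := by
    intro c
    change ((i ≫ j).appLE U ((i ≫ j) ⁻¹ᵁ U) eWW).hom c = _
    rw [Scheme.Hom.appLE_eq_app]
  let Mm := Γ(Omega.conormal (i ≫ j), (i ≫ j) ⁻¹ᵁ U)
  let Nn := Γ((Scheme.Modules.pullback i).obj (Omega.conormal j), (i ≫ j) ⁻¹ᵁ U)
  letI modM : Module A Mm := Module.compHom Mm φ
  letI modN : Module A Nn := Module.compHom Nn φ
  have smulM : ∀ (c : A) (m : Mm), c • m = φ c • m := fun _ _ => rfl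
  have smulN : ∀ (c : A) (m : Nn), c • m = φ c • m := fun _ _ => rfl
  -- μ
  let μ : (i ≫ j).ker.ideal ⟨U, hU⟩ →ₗ[A] Mm :=
    { toFun := fun x => clsV (i ≫ j) hU eWW x
      map_add' := fun x y => clsV_add hW x y
      map_smul' := fun c x => by
        rw [RingHom.id_apply, smulM]
        exact clsV_smul hW c x }
  have hμs : Function.Surjective μ := by
    intro m
    obtain ⟨x, hx⟩ := exists_clsV_eq hW cij m
    exact ⟨x, hx.symm⟩
  have hμ0 : ∀ x, μ x = 0 ↔ (x : A) ∈ (i ≫ j).ker.ideal ⟨U, hU⟩ ^ 2 := fun x =>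
    clsV_eq_zero_iff hW cij x
  -- ν
  let νf : j.ker.ideal ⟨U, hU⟩ → Nn := fun x =>
    res _ eW (pullSect i (Omega.conormal j) (j ⁻¹ᵁ U) (cls j hU x))
  have hνadd : ∀ x y, νf (x + y) = νf x + νf y := by
    intro x y
    change res _ eW (pullSect i (Omega.conormal j) (j ⁻¹ᵁ U) (cls j hU (x + y))) = _
    rw [← clsV_self, clsV_add hV, map_add, map_add, clsV_self, clsV_self]
  have hνsmul : ∀ (c : A) x, νf (c • x) = φ c • νf x := by
    intro c x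
    change res _ eW (pullSect i (Omega.conormal j) (j ⁻¹ᵁ U) (cls j hU (c • x))) = _
    rw [← clsV_self, clsV_smul hV, pullSect_smul, res_smul, clsV_self]
    congr 1
    have h2 : (j.appLE U (j ⁻¹ᵁ U) eVV).hom c = (j.app U).hom c := by
      rw [Scheme.Hom.appLE_eq_app]
    rw [h2, hφ]
    have h3 : Z.presheaf.map (homOfLE eW).op = 𝟙 _ := Z.presheaf.map_id _
    rw [h3]
    rfl
  let ν : j.ker.ideal ⟨U, hU⟩ →ₗ[A] Nn :=
    { toFun := νf
      map_add' := hνadd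
      map_smul' := fun c x => by
        rw [RingHom.id_apply, smulN]
        exact hνsmul c x }
  have hνs : Function.Surjective ν := by
    intro t
    have hspan := pullback_span i (Omega.conormal j) hW hV eW t
    induction hspan using Submodule.span_induction with
    | mem t ht =>
      obtain ⟨s, rfl⟩ := ht
      obtain ⟨x, rfl⟩ := exists_clsV_eq hV cj s
      exact ⟨x, by change νf x = _; rw [clsV_self]⟩
    | zero => exact ⟨0, map_zero ν⟩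
    | add t₁ t₂ _ _ h₁ h₂ =>
      obtain ⟨x₁, rfl⟩ := h₁
      obtain ⟨x₂, rfl⟩ := h₂
      exact ⟨x₁ + x₂, map_add ν x₁ x₂⟩
    | smul c t _ h =>
      obtain ⟨x, rfl⟩ := h
      obtain ⟨α, rfl⟩ := hsurjij c
      refine ⟨α • x, ?_⟩
      change νf (α • x) = _
      rw [hνsmul, hφ]
      rfl
  -- α and ρ
  let α : Nn →ₗ[A] Mm :=
    { toFun := fun t => a.app ((i ≫ j) ⁻¹ᵁ U) t
      map_add' := fun x y => map_add _ x y
      map_smul' := fun c t => by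
        rw [RingHom.id_apply, smulN, smulM]
        exact (appₗ a ((i ≫ j) ⁻¹ᵁ U)).map_smul (φ c) t }
  let ρ : Mm →ₗ[A] Nn :=
    { toFun := fun t => ℓ t
      map_add' := fun x y => map_add ℓ x y
      map_smul' := fun c t => by
        rw [RingHom.id_apply, smulN, smulM]
        exact hℓ (φ c) t }
  have hρ : ∀ y, ρ (α y) = y := fun y => hℓa y
  have hαν : ∀ x : j.ker.ideal ⟨U, hU⟩, α (ν x) = μ ⟨x, hJI x.2⟩ := by
    intro x'
    have h := conormalMap_clsV (i ≫ j) j (𝟙 X) i a ha hU hU (le_refl U) eVV eWW eW x'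
      ⟨x'.1, hJI x'.2⟩ (id_appLE_apply U _ x'.1).symm
    rw [clsV_self] at h
    exact h
  -- kernel of ν
  have hν0 : ∀ x, ν x = 0 → (x : A) ∈ (i ≫ j).ker.ideal ⟨U, hU⟩ * j.ker.ideal ⟨U, hU⟩ := by
    intro x hx
    haveI := isQuasicoherent_conormal j
    letI algBC := (i.appLE (j ⁻¹ᵁ U) ((i ≫ j) ⁻¹ᵁ U) eW).hom.toAlgebra
    have h1 := pullbackSectionsEquiv_pullSect i (Omega.conormal j) hW hV eW (cls j hU x)
    have hx' : res _ eW (pullSect i (Omega.conormal j) (j ⁻¹ᵁ U) (cls j hU x)) = 0 := hx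
    rw [hx', map_zero] at h1
    have hsBC : Function.Surjective (algebraMap Γ(Y, j ⁻¹ᵁ U) Γ(Z, (i ≫ j) ⁻¹ᵁ U)) := ci.1
    have h2 := mem_smul_top_of_one_tmul_eq_zero (P := Γ(Y, j ⁻¹ᵁ U))
      (S := Γ(Z, (i ≫ j) ⁻¹ᵁ U)) hsBC (cls j hU x) h1.symm
    have hkerBC : RingHom.ker (algebraMap Γ(Y, j ⁻¹ᵁ U) Γ(Z, (i ≫ j) ⁻¹ᵁ U)) =
        i.ker.ideal ⟨j ⁻¹ᵁ U, hV⟩ := ci.2
    rw [hkerBC] at h2
    -- every element of `K • ⊤` is a class of an element of `I * J`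
    have key : ∀ m ∈ (i.ker.ideal ⟨j ⁻¹ᵁ U, hV⟩) •
        (⊤ : Submodule Γ(Y, j ⁻¹ᵁ U) Γ(Omega.conormal j, j ⁻¹ᵁ U)),
        ∃ y : j.ker.ideal ⟨U, hU⟩,
          (y : A) ∈ (i ≫ j).ker.ideal ⟨U, hU⟩ * j.ker.ideal ⟨U, hU⟩ ∧ m = cls j hU y := by
      intro m hm
      refine Submodule.smul_induction_on hm ?_ ?_
      · intro k hk m _
        obtain ⟨y, rfl⟩ := exists_clsV_eq hV cj m
        obtain ⟨kt, rfl⟩ := hsurjj k
        have hktI : kt ∈ (i ≫ j).ker.ideal ⟨U, hU⟩ := by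
          rw [hJc, Ideal.mem_comap]; exact hk
        refine ⟨kt • y, ?_, ?_⟩
        · change kt * (y : A) ∈ _
          exact Ideal.mul_mem_mul hktI y.2
        · rw [← clsV_self j hU (kt • y), clsV_smul hV]
          congr 1
          rw [Scheme.Hom.appLE_eq_app]
      · rintro m₁ m₂ ⟨y₁, hy₁, rfl⟩ ⟨y₂, hy₂, rfl⟩
        refine ⟨y₁ + y₂, Ideal.add_mem _ hy₁ hy₂, ?_⟩
        rw [← clsV_self j hU (y₁ + y₂), clsV_add hV, clsV_self, clsV_self]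
    obtain ⟨y, hy, hxy⟩ := key _ h2
    have h3 : clsV j hU eVV (x - y) = 0 := by
      have : x - y = x + (-1 : A) • y := by
        rw [neg_smul, one_smul, sub_eq_add_neg]
      rw [this, clsV_add hV, clsV_smul hV, clsV_self, clsV_self, hxy, map_neg, map_one, neg_smul,
        one_smul, add_neg_cancel]
    rw [clsV_eq_zero_iff hV cj] at h3
    have h4 : ((x - y : j.ker.ideal ⟨U, hU⟩) : A) ∈
        (i ≫ j).ker.ideal ⟨U, hU⟩ * j.ker.ideal ⟨U, hU⟩ := by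
      rw [pow_two] at h3
      exact Ideal.mul_mono_left hJI h3
    have h5 : (x : A) = ((x - y : j.ker.ideal ⟨U, hU⟩) : A) + (y : A) := by
      simp
    rw [h5]
    exact Ideal.add_mem _ h4 hy
  -- the prime
  let q : Ideal A := ptIdeal U ((i ≫ j) z) hz
  have hIq : (i ≫ j).ker.ideal ⟨U, hU⟩ ≤ q := by
    rw [Scheme.Hom.ker_apply (i ≫ j) ⟨U, hU⟩]
    exact Groth.Agent.Helper19.RelRegImm.ker_le_ptIdeal (i ≫ j) U z hz
  have hh : Ideal.span (Set.range hs.get) = (i ≫ j).ker.ideal ⟨U, hU⟩ := by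
    rw [hI, Ideal.ofList, Groth.Agent.Helper19.QuasiRegScheme.range_get]
  obtain ⟨a₀, n, m, f, e, ha₀, hnm, hfJ, h1, h2, h3⟩ :=
    core ((i ≫ j).ker.ideal ⟨U, hU⟩) (j.ker.ideal ⟨U, hU⟩) hJI hJfg q hIq μ hμs hμ0 ν hνs hν0
      α ρ hρ hαν hs.get hh hq
  refine ⟨a₀, n, m, f, e, ?_, hnm, hfJ, h1, h2, h3⟩
  exact (not_mem_ptIdeal_iff U _ hz a₀).mp ha₀

end Groth.Agent.Helper19.ConSplit
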