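import Mathlib
import Groth.Agent.Helper19.ConSplit3

/-!
# Conormal splitting ⇒ regular immersion: ring-level assembly (helper19)
-/

set_option autoImplicit false
set_option linter.style.haveILetI false
universe u

namespace Groth.Agent.Helper19.ConSplit

open Groth.Agent.Helper19.RegImmBC

theorem ofList_ofFn' {R : Type*} [CommRing R] {n : ℕ} (x : Fin n → R) :
    Ideal.ofList (List.ofFn x) = Ideal.span (Set.range x) := by
  unfold Ideal.ofList
  congr 1
  ext r
  simp [List.mem_ofFn]

theorem ofList_eq_span_range_get {R : Type*} [CommRing R] (l : List R) :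
    Ideal.ofList l = Ideal.span (Set.range l.get) := by
  unfold Ideal.ofList
  congr 1
  ext r
  simp [List.mem_iff_get]

set_option maxHeartbeats 800000 in
theorem ring_final (k : RegImm.Kind) (hk : KindOK.{u} k)
    {A A' B' : Type u} [CommRing A] [CommRing A'] [CommRing B']
    (ρ : A →+* A') (hρ : ρ.Flat) (a₀ : A) (ha₀ : IsUnit (ρ a₀))
    (I J : Ideal A) (hs : List A) (hhs : k.Seq A hs) (hI : I = Ideal.ofList hs)
    (hItop : I.map ρ ≠ ⊤)
    {n m : ℕ} (f : Fin n → A) (e : Fin m → Fin hs.length) (hnm : n + m = hs.length)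
    (hfJ : ∀ k', f k' ∈ J) (hJI : J ≤ I)
    (h1 : ∀ x ∈ I, a₀ * x ∈ Ideal.span (Set.range f ∪ Set.range (hs.get ∘ e)))
    (h2 : ∀ x ∈ J, a₀ * x ∈ Ideal.span (Set.range f))
    (π : A' →+* B') (hπ : Function.Surjective π) (hker : RingHom.ker π = J.map ρ)
    (hkz : k = RegImm.Kind.koszul → ∃ fl₂ : List A', n ≤ fl₂.length ∧
      LCI.IsKoszulRegularSeq A' fl₂ ∧ Ideal.ofList fl₂ = J.map ρ) :
    k.Seq B' (List.ofFn (fun k' => π (ρ (hs.get (e k'))))) ∧
      (I.map ρ).map π = Ideal.ofList (List.ofFn (fun k' => π (ρ (hs.get (e k'))))) := by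
  classical
  set fl : List A' := List.ofFn (fun k' => ρ (f k')) with hfl
  set gl : List A' := List.ofFn (fun k' => ρ (hs.get (e k'))) with hgl
  have hglπ : gl.map π = List.ofFn (fun k' => π (ρ (hs.get (e k')))) := by
    rw [hgl, List.map_ofFn]; rfl
  have hhsI : ∀ l, hs.get l ∈ I := fun l => by
    rw [hI]; exact Ideal.subset_span (List.get_mem _ _)
  -- the ideals
  have key : ∀ (L P : Ideal A), P ≤ L → (∀ x ∈ L, a₀ * x ∈ P) → L.map ρ = P.map ρ := by
    intro L P hPL hLP
    apply le_antisymm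
    · rw [Ideal.map_le_iff_le_comap]
      intro x hx
      rw [Ideal.mem_comap]
      have := Ideal.mem_map_of_mem ρ (hLP x hx)
      rw [map_mul] at this
      exact (Ideal.unit_mul_mem_iff_mem _ ha₀).mp this
    · exact Ideal.map_mono hPL
  have hP1 : Ideal.span (Set.range f ∪ Set.range (hs.get ∘ e)) ≤ I := by
    apply Ideal.span_le.mpr
    rintro x (⟨k', rfl⟩ | ⟨k', rfl⟩)
    · exact hJI (hfJ k')
    · exact hhsI _
  have hP2 : Ideal.span (Set.range f) ≤ J := Ideal.span_le.mpr (by rintro x ⟨k', rfl⟩; exact hfJ k')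
  have hI' : I.map ρ = Ideal.ofList (gl ++ fl) := by
    rw [key I _ hP1 h1, Ideal.map_span, Ideal.ofList_append, hgl, hfl, ofList_ofFn', ofList_ofFn',
      ← Ideal.span_union, Set.image_union, ← Set.range_comp, ← Set.range_comp, Set.union_comm]
    rfl
  have hJ' : J.map ρ = Ideal.ofList fl := by
    rw [key J _ hP2 h2, Ideal.map_span, hfl, ofList_ofFn', ← Set.range_comp]
    rfl
  -- the sequence `hs` after the base change
  have hhs' : k.Seq A' (hs.map ρ) := hk.flat ρ hρ hs hhs (by
    rw [← Ideal.map_ofList, ← hI]; exact hItop)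
  have hIhs' : I.map ρ = Ideal.ofList (hs.map ρ) := by rw [hI, Ideal.map_ofList]
  have hlen : (gl ++ fl).length = (hs.map ρ).length := by
    rw [List.length_append, hgl, hfl, List.length_ofFn, List.length_ofFn, List.length_map]
    omega
  have hseq : k.Seq A' (gl ++ fl) := hk.same _ _ hlen (by rw [← hI', hIhs']) hhs'
  have hJtop : J.map ρ ≠ ⊤ := fun h => hItop (top_le_iff.mp (h ▸ Ideal.map_mono hJI))
  have hflk : k = RegImm.Kind.koszul → k.Seq A' fl := by
    intro hkk
    obtain ⟨fl₂, hn, hreg, hfl₂⟩ := hkz hkk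
    subst hkk
    have hle : fl₂.length ≤ n := by
      have hreg' : LCI.IsKoszulRegularSeq A' (List.ofFn fl₂.get) := by
        rw [List.ofFn_get]; exact hreg
      refine Groth.Agent.Lib.Helper16.KzInv.length_le_of_kreg (J.map ρ) hJtop fl₂.get ?_ hreg'
        (fun k' => ρ (f k')) ?_
      · rw [← hfl₂, ofList_eq_span_range_get]
      · rw [hJ', hfl, ofList_ofFn']
    have hlen2 : fl.length = fl₂.length := by
      rw [hfl, List.length_ofFn]; omega
    exact kindOK_koszul.same fl fl₂ hlen2 (by rw [← hJ', hfl₂]) hreg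
  have hq := hk.quot π hπ fl gl (by rw [hker, hJ']) hseq hflk
  rw [hglπ] at hq
  refine ⟨hq, ?_⟩
  rw [hI', Ideal.map_ofList, List.map_append, Ideal.ofList_append, hglπ]
  have : Ideal.ofList (fl.map π) = ⊥ := by
    rw [← Ideal.map_ofList, ← hJ', ← hker]
    exact (Ideal.map_eq_bot_iff_le_ker π).mpr le_rfl
  rw [this, sup_bot_eq]

end Groth.Agent.Helper19.ConSplit
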