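import Mathlib
import Groth.Agent.Helper19.ConSplit4
import Groth.Agent.Helper19.ConSplit5
import Groth.Agent.Helper19.LciMor

/-!
# Conormal splitting ⇒ regular immersion: the scheme-level theorem (helper19)
-/

set_option autoImplicit false
set_option linter.style.haveILetI false
set_option linter.unusedSectionVars false
universe u

open CategoryTheory CategoryTheory.Limits AlgebraicGeometry TopologicalSpace Opposite
open scoped TensorProduct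

namespace Groth.Agent.Helper19.ConSplit

open Groth.Agent.Lib.Helper29.QCoh Groth.Agent.Helper19.OmegaD Groth.Agent.Helper19.OmegaLocal
open Groth.Agent.Helper19.OmegaAlg Groth.Agent.Helper19.Conormal Groth.Agent.Helper19.KosLoc
open Groth.Agent.Helper19.RegImmBC

variable {Z Y X : Scheme.{u}} (i : Z ⟶ Y) (j : Y ⟶ X) [IsImmersion i] [IsImmersion j]
  [QuasiCompact i] [QuasiCompact j]
  (a : (Scheme.Modules.pullback i).obj (Omega.conormal j) ⟶ Omega.conormal (i ≫ j))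
  (ha : OmegaSh.IsConormalMap (i ≫ j) j (𝟙 X) i a)

theorem flat_res (X : Scheme.{u}) {U W : X.Opens} (hU : IsAffineOpen U) (hW : IsAffineOpen W)
    (e : W ≤ U) : (X.presheaf.map (homOfLE e).op).hom.Flat := by
  have e' : W ≤ (𝟙 X) ⁻¹ᵁ U := e
  have := HasRingHomProperty.appLE (P := @Flat) (𝟙 X) inferInstance ⟨U, hU⟩ ⟨W, hW⟩ e'
  rwa [id_appLE_eq X e e'] at this

theorem ker_ideal_ne_top {Z X : Scheme.{u}} (i : Z ⟶ X) [QuasiCompact i] {U : X.Opens} (hU : IsAffineOpen U)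
    (z : Z) (hz : i z ∈ U) : i.ker.ideal ⟨U, hU⟩ ≠ ⊤ := by
  intro h
  have h1 : i.ker.ideal ⟨U, hU⟩ ≤ ptIdeal U (i z) hz := by
    rw [Scheme.Hom.ker_apply i ⟨U, hU⟩]
    exact Groth.Agent.Helper19.RelRegImm.ker_le_ptIdeal i U z hz
  rw [h] at h1
  exact (inferInstance : (ptIdeal U (i z) hz).IsPrime).ne_top (top_le_iff.mp h1)

set_option maxHeartbeats 1600000 in
include ha in
theorem isRegularImmersionAt_of_retraction (k : RegImm.Kind) (hk : KindOK.{u} k) (z : Z)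
    (hij : RegImm.IsRegularImmersionAt k (i ≫ j) z)
    (hJ : k = RegImm.Kind.koszul → RegImm.IsRegularImmersionAt RegImm.Kind.koszul j (i z))
    (U₀ : X.Opens) (hzU₀ : (i ≫ j) z ∈ U₀)
    (hJfg : ∀ (U : X.Opens) (hU : IsAffineOpen U), U ≤ U₀ → (j.ker.ideal ⟨U, hU⟩).FG)
    (N : Z.Opens) (hzN : z ∈ N)
    (hret : ∀ W : Z.Opens, W ≤ N →
      ∃ ℓ : Γ(Omega.conormal (i ≫ j), W) →+
          Γ((Scheme.Modules.pullback i).obj (Omega.conormal j), W),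
        (∀ (c : Γ(Z, W)) (m : Γ(Omega.conormal (i ≫ j), W)), ℓ (c • m) = c • ℓ m) ∧
          ∀ t, ℓ (a.app W t) = t) :
    RegImm.IsRegularImmersionAt k i z := by
  -- the Koszul chart of `j`
  obtain ⟨U₂, hzU₂, hU₂data⟩ : ∃ U₂ : X.Opens, (i ≫ j) z ∈ U₂ ∧
      (k = RegImm.Kind.koszul → ∃ (hU₂ : IsAffineOpen U₂) (fs : List Γ(X, U₂)),
        LCI.IsKoszulRegularSeq _ fs ∧ j.ker.ideal ⟨U₂, hU₂⟩ = Ideal.ofList fs) := by
    by_cases hkk : k = RegImm.Kind.koszul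
    · obtain ⟨U₂, hz₂, hcl₂, fs, hfs, hker₂⟩ := hJ hkk
      refine ⟨U₂.1, hz₂, fun _ => ⟨U₂.2, fs, hfs, ?_⟩⟩
      rw [Scheme.Hom.ker_apply j U₂]
      exact hker₂
    · exact ⟨⊤, trivial, fun h => absurd h hkk⟩
  obtain ⟨U₁, hzU₁, hcl₁, hs₁, hhs₁, hker₁⟩ := hij
  -- the chart
  obtain ⟨G', hG'o, hG'⟩ := j.isEmbedding.isInducing.isOpen_iff.mp (i.coborderRange).2
  have hiz : i z ∈ i.coborderRange := subset_coborder ⟨z, rfl⟩
  have hmem : (i ≫ j) z ∈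
      ((((⟨G', hG'o⟩ : X.Opens) ⊓ j.coborderRange) ⊓ U₁.1) ⊓ U₀) ⊓ U₂ := by
    refine ⟨⟨⟨⟨?_, subset_coborder ⟨i z, rfl⟩⟩, hzU₁⟩, hzU₀⟩, hzU₂⟩
    have : i z ∈ (j : Y → X) ⁻¹' G' := by rw [hG']; exact hiz
    exact this
  obtain ⟨U, hU, hUc, hUM, hzU, hUN⟩ := exists_cb (i ≫ j) z N hzN _ hmem
  have hUj : U ≤ j.coborderRange := hUM.trans (inf_le_left.trans (inf_le_left.trans
    (inf_le_left.trans inf_le_right)))
  have hUG : U ≤ (⟨G', hG'o⟩ : X.Opens) := hUM.trans (inf_le_left.trans (inf_le_left.trans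
    (inf_le_left.trans inf_le_left)))
  have hUU₁ : U ≤ U₁.1 := hUM.trans (inf_le_left.trans (inf_le_left.trans inf_le_right))
  have hUU₀ : U ≤ U₀ := hUM.trans (inf_le_left.trans inf_le_right)
  have hUU₂ : U ≤ U₂ := hUM.trans inf_le_right
  have hVi_of : ∀ U' : X.Opens, U' ≤ U → j ⁻¹ᵁ U' ≤ i.coborderRange := by
    intro U' hU' y hy
    have h1 : j y ∈ G' := hUG (hU' hy)
    have : y ∈ (j : Y → X) ⁻¹' G' := h1
    rw [hG'] at this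
    exact this
  have hc : Chart i j U := ⟨hU, hUj, hUc, hVi_of U le_rfl⟩
  have hzU' : (i ≫ j) z ∈ U := hzU
  -- restrict the sequence to `U`
  have hflat₁ := flat_res X U₁.2 hU hUU₁
  set res₁ := (X.presheaf.map (homOfLE hUU₁).op).hom with hres₁
  have hI : (i ≫ j).ker.ideal ⟨U, hU⟩ = Ideal.ofList (hs₁.map res₁) := by
    have h1 := (i ≫ j).ker.map_ideal (U := ⟨U, hU⟩) (V := U₁) hUU₁
    rw [← h1, Scheme.Hom.ker_apply (i ≫ j) U₁, hker₁, Ideal.map_ofList]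
    rfl
  have hseq : k.Seq Γ(X, U) (hs₁.map res₁) := hk.flat res₁ hflat₁ hs₁ hhs₁ (by
    rw [← hI]; exact ker_ideal_ne_top (i ≫ j) hU z hzU')
  -- the retraction
  obtain ⟨ℓ, hℓ, hℓa⟩ := hret ((i ≫ j) ⁻¹ᵁ U) hUN
  obtain ⟨a₀, n, m, f, e, hza₀, hnm, hfJ, h1, h2, h3⟩ :=
    local_core i j a ha hc z hzU' ℓ hℓ hℓa (hs₁.map res₁) (hk.quasi _ hseq) hI
      (hJfg U hU hUU₀)
  -- the smaller chart
  have hU' : IsAffineOpen (X.basicOpen a₀) := hU.basicOpen a₀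
  have hU'U : X.basicOpen a₀ ≤ U := X.basicOpen_le a₀
  have hU'j : X.basicOpen a₀ ≤ j.coborderRange := hU'U.trans hUj
  have hU'ij : X.basicOpen a₀ ≤ (i ≫ j).coborderRange := hU'U.trans hUc
  have hV'i : j ⁻¹ᵁ X.basicOpen a₀ ≤ i.coborderRange := hVi_of _ hU'U
  have hV' : IsAffineOpen (j ⁻¹ᵁ X.basicOpen a₀) :=
    isAffineOpen_preimage_of_le_coborder j hU' hU'j
  have hflat := flat_res X hU hU' hU'U
  set ρ := (X.presheaf.map (homOfLE hU'U).op).hom with hρ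
  have hunit : IsUnit (ρ a₀) := RingedSpace.isUnit_res_basicOpen _ a₀
  have hI' : ((i ≫ j).ker.ideal ⟨U, hU⟩).map ρ = (i ≫ j).ker.ideal ⟨X.basicOpen a₀, hU'⟩ :=
    (i ≫ j).ker.map_ideal (U := ⟨X.basicOpen a₀, hU'⟩) (V := ⟨U, hU⟩) hU'U
  have hJ' : (j.ker.ideal ⟨U, hU⟩).map ρ = j.ker.ideal ⟨X.basicOpen a₀, hU'⟩ :=
    j.ker.map_ideal (U := ⟨X.basicOpen a₀, hU'⟩) (V := ⟨U, hU⟩) hU'U
  have hItop : ((i ≫ j).ker.ideal ⟨U, hU⟩).map ρ ≠ ⊤ := by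
    rw [hI']; exact ker_ideal_ne_top (i ≫ j) hU' z hza₀
  have hJI : j.ker.ideal ⟨U, hU⟩ ≤ (i ≫ j).ker.ideal ⟨U, hU⟩ := by
    intro x hx
    rw [Scheme.Hom.ker_apply j ⟨U, hU⟩, RingHom.mem_ker] at hx
    rw [Scheme.Hom.ker_apply (i ≫ j) ⟨U, hU⟩, RingHom.mem_ker]
    change (i.app (j ⁻¹ᵁ U)).hom ((j.app U).hom x) = 0
    rw [hx, map_zero]
  have hπs : Function.Surjective (j.app (X.basicOpen a₀)).hom :=
    app_surjective_of_le_coborder j hU' hU'j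
  have hkerπ : RingHom.ker (j.app (X.basicOpen a₀)).hom = (j.ker.ideal ⟨U, hU⟩).map ρ := by
    rw [hJ', Scheme.Hom.ker_apply j ⟨X.basicOpen a₀, hU'⟩]
  have hkz : k = RegImm.Kind.koszul → ∃ fl₂ : List Γ(X, X.basicOpen a₀), n ≤ fl₂.length ∧
      LCI.IsKoszulRegularSeq _ fl₂ ∧ Ideal.ofList fl₂ = (j.ker.ideal ⟨U, hU⟩).map ρ := by
    intro hkk
    obtain ⟨hU₂, fs, hfs, hfsI⟩ := hU₂data hkk
    have hU'U₂ : X.basicOpen a₀ ≤ U₂ := hU'U.trans hUU₂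
    have hflat₂ := flat_res X hU₂ hU' hU'U₂
    have hflat₂U := flat_res X hU₂ hU hUU₂
    have hJ₂ : j.ker.ideal ⟨X.basicOpen a₀, hU'⟩ =
        Ideal.ofList (fs.map (X.presheaf.map (homOfLE hU'U₂).op).hom) := by
      have h1 := j.ker.map_ideal (U := ⟨X.basicOpen a₀, hU'⟩) (V := ⟨U₂, hU₂⟩) hU'U₂
      rw [← h1, hfsI, Ideal.map_ofList]
      rfl
    have hJ₂U : j.ker.ideal ⟨U, hU⟩ =
        Ideal.ofList (fs.map (X.presheaf.map (homOfLE hUU₂).op).hom) := by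
      have h1 := j.ker.map_ideal (U := ⟨U, hU⟩) (V := ⟨U₂, hU₂⟩) hUU₂
      rw [← h1, hfsI, Ideal.map_ofList]
      rfl
    refine ⟨fs.map (X.presheaf.map (homOfLE hU'U₂).op).hom, ?_, ?_, ?_⟩
    · have := h3 _ (fs.map (X.presheaf.map (homOfLE hUU₂).op).hom).get (by
        rw [hJ₂U, ofList_eq_span_range_get])
      rwa [List.length_map] at this ⊢
    · refine kindFlatStable_koszul _ hflat₂ fs hfs ?_
      rw [← hJ₂]
      exact ker_ideal_ne_top j hU' (i z) hza₀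
    · rw [← hJ₂, hJ']
  obtain ⟨hseqB, hkerB⟩ := ring_final k hk ρ hflat a₀ hunit ((i ≫ j).ker.ideal ⟨U, hU⟩)
    (j.ker.ideal ⟨U, hU⟩) (hs₁.map res₁) hseq hI hItop f e hnm hfJ hJI h1 h2
    (j.app (X.basicOpen a₀)).hom hπs hkerπ hkz
  -- conclusion
  have hcl : IsClosedImmersion (i ∣_ (j ⁻¹ᵁ X.basicOpen a₀)) :=
    Groth.Agent.Helper19.LciMor.isClosedImmersion_restrict_of_le_coborderRange i _ hV'i
  refine ⟨⟨j ⁻¹ᵁ X.basicOpen a₀, hV'⟩, hza₀, hcl, _, hseqB, ?_⟩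
  rw [← hkerB, hI']
  have hJc : (i ≫ j).ker.ideal ⟨X.basicOpen a₀, hU'⟩ =
      Ideal.comap (j.app (X.basicOpen a₀)).hom (i.ker.ideal ⟨j ⁻¹ᵁ X.basicOpen a₀, hV'⟩) := by
    rw [Scheme.Hom.ker_apply (i ≫ j) ⟨X.basicOpen a₀, hU'⟩,
      Scheme.Hom.ker_apply i ⟨j ⁻¹ᵁ X.basicOpen a₀, hV'⟩, RingHom.comap_ker]
    rfl
  rw [hJc, Ideal.map_comap_of_surjective _ hπs,
    Scheme.Hom.ker_apply i ⟨j ⁻¹ᵁ X.basicOpen a₀, hV'⟩]

end Groth.Agent.Helper19.ConSplit
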