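import Mathlib
import Groth.Agent.Helper19.ConSplit5
import Groth.Agent.Helper19.Conormal8
import Groth.Agent.Lib.Helper16.H1Loc4
import Groth.Agent.Lib.Helper23.QuasiRegReg
import Groth.Agent.Lib.Helper18.QRF1

/-!
# The kinds `h1` and `quasi` satisfy the ring-level requirements (helper19)
-/

set_option autoImplicit false
set_option linter.style.haveILetI false
universe u

namespace Groth.Agent.Helper19.ConSplit

open Groth.Agent.Helper19.RegImmBC

section h1

variable {A : Type u} [CommRing A]

/-- `H_1`-regularity only depends on the ideal, among sequences of the same length. -/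
theorem isH1Regular_of_span_eq {r : ℕ} (f g : Fin r → A) (hf : CAlgX.IsH1Regular f)
    (h : Ideal.span (Set.range g) = Ideal.span (Set.range f)) : CAlgX.IsH1Regular g := by
  have key : Groth.Agent.Lib.Helper16.H1Loc.H1Loc g (Submonoid.powers (1 : A)) := by
    apply Groth.Agent.Lib.Helper16.H1Loc.h1Loc_powers_of_forall_prime
    intro q _ _
    let T := Localization.AtPrime q
    have hfT : CAlgX.IsH1Regular (fun k => algebraMap A T (f k)) :=
      Groth.Agent.Helper19.OmegaAlg.isH1Regular_of_flat f hf
    have hfTq := Groth.Agent.Lib.Helper11.QReg.isQuasiRegular_of_isH1Regular _ hfT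
    have hspan : Ideal.span (Set.range fun k => algebraMap A T (g k)) =
        Ideal.span (Set.range fun k => algebraMap A T (f k)) := by
      have e1 : (Set.range fun k => algebraMap A T (g k)) = algebraMap A T '' Set.range g := by
        rw [← Set.range_comp]; rfl
      have e2 : (Set.range fun k => algebraMap A T (f k)) = algebraMap A T '' Set.range f := by
        rw [← Set.range_comp]; rfl
      rw [e1, e2, ← Ideal.map_span, ← Ideal.map_span, h]
    have hgTq : CAlgX.IsQuasiRegular (fun k => algebraMap A T (g k)) :=
      Groth.Agent.Lib.Helper12.QR.isQuasiRegular_of_span_eq _ _ hfTq hspan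
    have hgT : CAlgX.IsH1Regular (fun k => algebraMap A T (g k)) :=
      Groth.Agent.Lib.Helper16.H1Loc.isH1Regular_of_isQuasiRegular_of_span_eq _ _ hgTq hfT hspan
    exact Groth.Agent.Lib.Helper16.H1Loc.h1Loc_of_isH1Regular q.primeCompl T g hgT
  intro a ha
  obtain ⟨s, hs, hsa⟩ := key a ha
  obtain ⟨n, rfl⟩ := hs
  simp only [one_pow, one_smul] at hsa
  exact hsa

/-- `H_1`-regularity passes to the quotient by a final segment. -/
theorem isH1Regular_quot {B : Type u} [CommRing B] (π : A →+* B) (hπ : Function.Surjective π)
    {n m : ℕ} (f : Fin n → A) (g : Fin m → A) (hker : RingHom.ker π = Ideal.span (Set.range f))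
    (h : CAlgX.IsH1Regular (Fin.append g f)) : CAlgX.IsH1Regular (fun k => π (g k)) := by
  classical
  intro b hb
  choose bt hbt using fun k => hπ (b k)
  have hmem : ∑ k, bt k * g k ∈ RingHom.ker π := by
    rw [RingHom.mem_ker, map_sum]
    simp only [map_mul, hbt]
    exact hb
  rw [hker] at hmem
  obtain ⟨c, hc⟩ := (Ideal.mem_span_range_iff_exists_fun).mp hmem
  let v : Fin (m + n) → A := Fin.append bt (fun i => - c i)
  have hv : ∑ p, v p * (Fin.append g f) p = 0 := by
    rw [Fin.sum_univ_add]
    simp only [v, Fin.append_left, Fin.append_right, neg_mul, Finset.sum_neg_distrib]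
    rw [hc, add_neg_cancel]
  have hvk := h v hv
  have hfker : ∀ i, π (f i) = 0 := fun i => by
    rw [← RingHom.mem_ker, hker]; exact Ideal.subset_span ⟨i, rfl⟩
  -- the projection to the `g`-coordinates maps trivial relations to trivial relations
  have key : ∀ x ∈ Submodule.span A {v : Fin (m + n) → A | ∃ p q : Fin (m + n),
      v = Pi.single p ((Fin.append g f) q) - Pi.single q ((Fin.append g f) p)},
      (fun k => π (x (Fin.castAdd n k))) ∈ Submodule.span B {v : Fin m → B | ∃ p q : Fin m,
        v = Pi.single p (π (g q)) - Pi.single q (π (g p))} := by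
    intro x hx
    induction hx using Submodule.span_induction with
    | mem x hx =>
      obtain ⟨p, q, rfl⟩ := hx
      have hsingle : ∀ (p : Fin (m + n)) (y : A),
          (fun k => π ((Pi.single p y : Fin (m + n) → A) (Fin.castAdd n k))) =
            Fin.addCases (motive := fun _ => Fin m → B) (fun p' => Pi.single p' (π y))
              (fun _ => 0) p := by
        intro p y
        refine Fin.addCases (fun p' => ?_) (fun p' => ?_) p
        · rw [Fin.addCases_left]
          funext k
          by_cases hk : k = p'
          · subst hk; simp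
          · have : Fin.castAdd n k ≠ Fin.castAdd n p' := fun h => hk (Fin.castAdd_injective _ _ h)
            simp [Pi.single_apply, this, hk]
        · rw [Fin.addCases_right]
          funext k
          have : Fin.castAdd n k ≠ Fin.natAdd m p' := by
            intro h
            have := congrArg Fin.val h
            simp at this
            omega
          simp [Pi.single_apply, this]
      have hsub : (fun k => π ((Pi.single p ((Fin.append g f) q) -
          Pi.single q ((Fin.append g f) p) : Fin (m + n) → A) (Fin.castAdd n k))) =
          (fun k => π ((Pi.single p ((Fin.append g f) q) : Fin (m + n) → A) (Fin.castAdd n k))) -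
          (fun k => π ((Pi.single q ((Fin.append g f) p) : Fin (m + n) → A) (Fin.castAdd n k))) := by
        funext k
        simp only [Pi.sub_apply, map_sub]
      rw [hsub, hsingle, hsingle]
      refine Fin.addCases (fun p' => ?_) (fun p' => ?_) p <;>
        refine Fin.addCases (fun q' => ?_) (fun q' => ?_) q
      · rw [Fin.addCases_left, Fin.addCases_left, Fin.append_left, Fin.append_left]
        exact Submodule.subset_span ⟨p', q', rfl⟩
      · rw [Fin.addCases_left, Fin.addCases_right, Fin.append_right, hfker]
        simp
      · rw [Fin.addCases_right, Fin.addCases_left, Fin.append_right, hfker]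
        simp
      · rw [Fin.addCases_right, Fin.addCases_right]
        simp
    | zero =>
      have : (fun k => π ((0 : Fin (m + n) → A) (Fin.castAdd n k))) = 0 := by
        funext k; simp
      rw [this]; exact zero_mem _
    | add x y _ _ hx hy =>
      have : (fun k => π ((x + y) (Fin.castAdd n k))) =
          (fun k => π (x (Fin.castAdd n k))) + (fun k => π (y (Fin.castAdd n k))) := by
        funext k; simp
      rw [this]; exact add_mem hx hy
    | smul c x _ hx =>
      have : (fun k => π ((c • x) (Fin.castAdd n k))) =
          π c • (fun k => π (x (Fin.castAdd n k))) := by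
        funext k; simp
      rw [this]; exact Submodule.smul_mem _ _ hx
  have hfin := key v hvk
  have : (fun k => π (v (Fin.castAdd n k))) = b := by
    funext k
    simp only [v, Fin.append_left]
    exact hbt k
  rw [this] at hfin
  exact hfin

theorem get_append_eq {R : Type*} (l₁ l₂ : List R) (p : Fin (l₁ ++ l₂).length) :
    Fin.append l₁.get l₂.get (Fin.cast (List.length_append) p) = (l₁ ++ l₂).get p := by
  obtain ⟨p, hp⟩ := p
  by_cases h : p < l₁.length
  · have e : Fin.cast (List.length_append) (⟨p, hp⟩ : Fin (l₁ ++ l₂).length) =
        Fin.castAdd l₂.length ⟨p, h⟩ := rfl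
    rw [e, Fin.append_left]
    simp [List.getElem_append_left h]
  · have h' : l₁.length ≤ p := not_lt.mp h
    have hp' : p - l₁.length < l₂.length := by
      rw [List.length_append] at hp; omega
    have e : Fin.cast (List.length_append) (⟨p, hp⟩ : Fin (l₁ ++ l₂).length) =
        Fin.natAdd l₁.length ⟨p - l₁.length, hp'⟩ := by
      apply Fin.ext
      simp only [Fin.coe_cast, Fin.coe_natAdd]
      omega
    rw [e, Fin.append_right]
    simp [List.getElem_append_right h']

theorem kindOK_h1 : KindOK.{u} RegImm.Kind.h1 where
  flat := kindFlatStable_h1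
  same := fun {R} _ l l' hlen hI hl' => by
    have hl'' : CAlgX.IsH1Regular l'.get := hl'
    have h1 : CAlgX.IsH1Regular (fun p : Fin l.length => l'.get (Fin.cast hlen p)) :=
      isH1Regular_reindex hlen.symm l'.get _ (fun p => by simp) hl''
    refine (isH1Regular_of_span_eq _ l.get h1 ?_ : CAlgX.IsH1Regular l.get)
    rw [← ofList_eq_span_range_get, hI, ofList_eq_span_range_get]
    congr 1
    ext x
    constructor
    · rintro ⟨p, rfl⟩; exact ⟨Fin.cast hlen.symm p, by simp⟩
    · rintro ⟨p, rfl⟩; exact ⟨Fin.cast hlen p, rfl⟩
  quot := fun {A B} _ _ π hπ fl gl hker h _ => by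
    have h' : CAlgX.IsH1Regular (gl ++ fl).get := h
    have h1 : CAlgX.IsH1Regular (Fin.append gl.get fl.get) :=
      isH1Regular_reindex (List.length_append) (gl ++ fl).get _ (get_append_eq gl fl) h'
    have h2 := isH1Regular_quot π hπ fl.get gl.get (by rw [hker, ofList_eq_span_range_get]) h1
    exact (isH1Regular_reindex (List.length_map π).symm _ (gl.map π).get (fun p => by simp) h2 :
      CAlgX.IsH1Regular (gl.map π).get)
  quasi := fun l hl => Groth.Agent.Lib.Helper11.QReg.isQuasiRegular_of_isH1Regular l.get hl

end h1

section quasi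

variable {A : Type u} [CommRing A]

theorem range_get_cast {R : Type*} {l l' : List R} (hlen : l.length = l'.length) :
    (Set.range fun p : Fin l.length => l'.get (Fin.cast hlen p)) = Set.range l'.get := by
  ext x
  constructor
  · rintro ⟨p, rfl⟩; exact ⟨Fin.cast hlen p, rfl⟩
  · rintro ⟨p, rfl⟩; exact ⟨Fin.cast hlen.symm p, by simp⟩

/-- Quasi-regularity only depends on the ideal, among lists of the same length. -/
theorem qr_same (l l' : List A) (hlen : l.length = l'.length)
    (hI : Ideal.ofList l = Ideal.ofList l') (hl' : CAlgX.IsQuasiRegular l'.get) :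
    CAlgX.IsQuasiRegular l.get := by
  have h1 : CAlgX.IsQuasiRegular (fun p : Fin l.length => l'.get (Fin.cast hlen p)) :=
    isQuasiRegular_reindex hlen.symm l'.get _ (fun p => by simp) hl'
  refine Groth.Agent.Lib.Helper12.QR.isQuasiRegular_of_span_eq _ l.get h1 ?_
  rw [← ofList_eq_span_range_get, hI, ofList_eq_span_range_get, range_get_cast hlen]

theorem qr_map_get {B : Type u} [CommRing B] (π : A →+* B) (l : List A)
    (h : CAlgX.IsQuasiRegular (fun p => π (l.get p))) :
    CAlgX.IsQuasiRegular (l.map π).get :=
  isQuasiRegular_reindex (List.length_map π).symm _ (l.map π).get (fun p => by simp) h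

/-- Quasi-regularity passes to the quotient by a final segment. -/
theorem qr_quot : ∀ (n : ℕ) {A B : Type u} [CommRing A] [CommRing B] (π : A →+* B),
    Function.Surjective π → ∀ fl gl : List A, fl.length = n →
      RingHom.ker π = Ideal.ofList fl → CAlgX.IsQuasiRegular (gl ++ fl).get →
        CAlgX.IsQuasiRegular (gl.map π).get := by
  intro n
  induction n with
  | zero =>
    intro A B _ _ π hπ fl gl hn hker h
    have hfl : fl = [] := List.eq_nil_of_length_eq_zero hn
    subst hfl
    rw [List.append_nil] at h
    rw [Ideal.ofList_nil] at hker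
    have hinj : Function.Injective π := (RingHom.injective_iff_ker_eq_bot π).mpr hker
    let e : A ≃+* B := RingEquiv.ofBijective π ⟨hinj, hπ⟩
    have h1 := Groth.Agent.Lib.Helper18.QRF.isQuasiRegular_ringEquiv e gl.get h
    exact qr_map_get π gl h1
  | succ n ih =>
    intro A B _ _ π hπ fl gl hn hker h
    obtain ⟨x, fl', rfl⟩ : ∃ x fl', fl = x :: fl' := by
      cases fl with
      | nil => simp at hn
      | cons x fl' => exact ⟨x, fl', rfl⟩
    have hn' : fl'.length = n := by simpa using hn
    -- move `x` to the front
    have h1 : CAlgX.IsQuasiRegular (x :: (gl ++ fl')).get := by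
      refine qr_same _ (gl ++ x :: fl') (by simp; omega) ?_ h
      rw [Ideal.ofList_cons, Ideal.ofList_append, Ideal.ofList_append, Ideal.ofList_cons]
      rw [← sup_assoc, ← sup_assoc, sup_comm (Ideal.span {x})]
    have h2 : CAlgX.IsQuasiRegular (Fin.cons x (gl ++ fl').get : Fin ((gl ++ fl').length + 1) → A) := by
      have : (x :: (gl ++ fl')).get = Fin.cons x (gl ++ fl').get := by
        funext i
        refine Fin.cases ?_ (fun i => ?_) i
        · rfl
        · rfl
      rw [← this]
      exact h1
    have h3 := Groth.Agent.Lib.Helper23.QRR.isQuasiRegular_quotient x _ h2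
    let mk := Ideal.Quotient.mk (Ideal.span {x})
    have h4 : CAlgX.IsQuasiRegular ((gl ++ fl').map mk).get := qr_map_get mk _ h3
    rw [List.map_append] at h4
    have hxker : ∀ a ∈ Ideal.span {x}, π a = 0 := by
      intro a ha
      rw [← RingHom.mem_ker, hker, Ideal.ofList_cons]
      exact Ideal.mem_sup_left ha
    let π' : A ⧸ Ideal.span {x} →+* B := Ideal.Quotient.lift (Ideal.span {x}) π hxker
    have hπ'mk : ∀ a, π' (mk a) = π a := fun a => Ideal.Quotient.lift_mk _ _ _
    have hπ' : Function.Surjective π' := by
      intro b
      obtain ⟨a, rfl⟩ := hπ b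
      exact ⟨mk a, hπ'mk a⟩
    have hker' : RingHom.ker π' = Ideal.ofList (fl'.map mk) := by
      rw [← Ideal.map_ofList]
      apply le_antisymm
      · intro y hy
        obtain ⟨a, rfl⟩ := Ideal.Quotient.mk_surjective y
        rw [RingHom.mem_ker] at hy
        have hy' : π' (mk a) = 0 := hy
        rw [hπ'mk] at hy'
        have ha : a ∈ Ideal.ofList (x :: fl') := by rw [← hker]; exact hy'
        rw [Ideal.ofList_cons] at ha
        obtain ⟨u, hu, v, hv, rfl⟩ := Submodule.mem_sup.mp ha
        have hu0 : mk u = 0 := Ideal.Quotient.eq_zero_iff_mem.mpr hu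
        change mk (u + v) ∈ _
        rw [map_add, hu0, zero_add]
        exact Ideal.mem_map_of_mem _ hv
      · rw [Ideal.map_le_iff_le_comap]
        intro a ha
        rw [Ideal.mem_comap, RingHom.mem_ker]
        change π' (mk a) = 0
        rw [hπ'mk, ← RingHom.mem_ker, hker, Ideal.ofList_cons]
        exact Ideal.mem_sup_right ha
    have h5 := ih π' hπ' (fl'.map mk) (gl.map mk) (by simpa using hn') hker' h4
    have h6 : (gl.map mk).map π' = gl.map π := by
      rw [List.map_map]
      apply List.map_congr_left
      intro a _
      exact hπ'mk a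
    rw [h6] at h5
    exact h5

theorem kindOK_quasi : KindOK.{u} RegImm.Kind.quasi where
  flat := kindFlatStable_quasi
  same := fun l l' hlen hI hl' => qr_same l l' hlen hI hl'
  quot := fun π hπ fl gl hker h _ => qr_quot fl.length π hπ fl gl rfl hker h
  quasi := fun _ hl => hl

end quasi

end Groth.Agent.Helper19.ConSplit
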