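import Mathlib
import Groth.Agent.Helper19.CotClass1
import Groth.Agent.Helper19.UnivDer4
import Groth.Agent.Helper19.OmegaD4
import Groth.Agent.S9370
import Groth.Agent.S9386
set_option autoImplicit false
set_option linter.style.haveILetI false
set_option linter.unusedSectionVars false
universe u

open CategoryTheory CategoryTheory.Limits AlgebraicGeometry Opposite TopologicalSpace

/-! # Comparing two smooth factorisations through the fibre product (helper19) -/

namespace Groth.Agent.Helper19.CotClass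

open Groth.Agent.Lib.Helper29.QCoh Groth.Agent.Helper19.OmegaD

/-- Let `W = V ×_Y V'` with `V' → Y` smooth, `i₀ : X → W` an immersion with components
`i : X → V` and `i' : X → V'`.  With `i'' : X → W°` the closed immersion into the coborder,
there is a short exact sequence `0 → C_{X/V} → C_{X/W°} → i'^*Ω_{V'/Y} → 0`. -/
theorem side {X Y V V' W : Scheme.{u}} (g : V ⟶ Y) (g' : V' ⟶ Y) [Smooth g']
    (p₀ : W ⟶ V) (q₀ : W ⟶ V') (hpb : IsPullback q₀ p₀ g' g)
    (i₀ : X ⟶ W) [IsImmersion i₀] (i : X ⟶ V) [IsImmersion i] [QuasiCompact i] (i' : X ⟶ V')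
    (h₁ : i₀ ≫ p₀ = i) (h₂ : i₀ ≫ q₀ = i')
    (Ω' : V'.Modules) (d' : OmegaSh.Der g' Ω') (hd' : OmegaSh.IsUniversal d') :
    ∃ (a : Omega.conormal i ⟶ Omega.conormal i₀.liftCoborder)
      (b : Omega.conormal i₀.liftCoborder ⟶ (Scheme.Modules.pullback i').obj Ω') (w : a ≫ b = 0),
      (ShortComplex.mk a b w).ShortExact := by
  haveI : Smooth p₀ := MorphismProperty.of_isPullback (P := @Smooth) hpb inferInstance
  let ι := i₀.coborderRange.ι
  let i'' := i₀.liftCoborder
  let p := ι ≫ p₀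
  haveI : Smooth p := inferInstanceAs (Smooth (ι ≫ p₀))
  obtain ⟨ΩW, dW, hdW⟩ := UnivDer.exists_universal p₀
  have hsq : p₀ ≫ g = q₀ ≫ g' := hpb.w.symm
  obtain ⟨c₀, hc₀, -⟩ := Groth.Agent.S9370.result g' p₀ q₀ g hsq Ω' d' hd' ΩW dW hdW
  haveI : IsIso c₀ := Groth.Agent.S9386.result g' g q₀ p₀ hpb Ω' d' hd' ΩW dW hdW c₀ hc₀
  have hsq' : ι ≫ p₀ = p ≫ 𝟙 V := (Category.comp_id _).symm
  let dp := restrictDer p₀ ι (𝟙 V) p hsq' dW
  have hdp : OmegaSh.IsUniversal dp := isUniversal_restrictDer p₀ ι (𝟙 V) p hsq' dW hdW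
  have hι : i'' ≫ ι = i₀ := i₀.liftCoborder_ι
  have hij : i'' ≫ p = i := by
    change i'' ≫ ι ≫ p₀ = i
    rw [← Category.assoc, hι, h₁]
  obtain ⟨a, b, w, hS⟩ := exists_shortExact p i'' i hij (ΩW.restrict ι) dp hdp
  let e : (Scheme.Modules.pullback i'').obj (ΩW.restrict ι) ≅ (Scheme.Modules.pullback i').obj Ω' :=
    (Scheme.Modules.pullback i'').mapIso ((Scheme.Modules.restrictFunctorIsoPullback ι).app ΩW) ≪≫
    (Scheme.Modules.pullbackComp i'' ι).app ΩW ≪≫
    (Scheme.Modules.pullbackCongr hι).app ΩW ≪≫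
    (Scheme.Modules.pullback i₀).mapIso (asIso c₀).symm ≪≫
    (Scheme.Modules.pullbackComp i₀ q₀).app Ω' ≪≫
    (Scheme.Modules.pullbackCongr h₂).app Ω'
  have w' : a ≫ (b ≫ e.hom) = 0 := by rw [← Category.assoc, w, zero_comp]
  refine ⟨a, b ≫ e.hom, w', ?_⟩
  have hiso : ShortComplex.mk a b w ≅ ShortComplex.mk a (b ≫ e.hom) w' :=
    ShortComplex.isoMk (Iso.refl _) (Iso.refl _) e (by simp) (by simp)
  exact ShortComplex.shortExact_of_iso hiso hS

end Groth.Agent.Helper19.CotClass
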