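import Mathlib
set_option autoImplicit false
universe w v u

open CategoryTheory CategoryTheory.Limits HomologicalComplex ZeroObject

/-! # Two-term complexes: morphisms, short exact sequences, quasi-isomorphisms (helper19) -/

namespace Groth.Agent.Helper19.DoubleQis

variable {C : Type u} [Category.{v} C] [Abelian C]

/-- The relation `-1 → 0` in `ComplexShape.up ℤ`. -/
theorem rel : (ComplexShape.up ℤ).Rel (-1 : ℤ) 0 := neg_add_cancel (1 : ℤ)

theorem ne01 : (-1 : ℤ) ≠ 0 := by decide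

section map

variable {A₁ B₁ A₂ B₂ : C} (f₁ : A₁ ⟶ B₁) (f₂ : A₂ ⟶ B₂) (a : A₁ ⟶ A₂) (b : B₁ ⟶ B₂)
  (sq : f₁ ≫ b = a ≫ f₂)

/-- The morphism of two-term complexes given by a commutative square. -/
noncomputable def doubleMap : double f₁ rel ⟶ double f₂ rel :=
  mkHomFromDouble rel ne01 (a ≫ (doubleXIso₀ f₂ rel).inv) (b ≫ (doubleXIso₁ f₂ rel ne01).inv)
    (by
      rw [double_d f₂ rel ne01, Category.assoc, Iso.inv_hom_id_assoc, ← Category.assoc,
        ← Category.assoc, sq])
    (fun k _ => by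
      rw [double_d_eq_zero₀ f₂ rel 0 k ne01.symm, comp_zero])

@[simp]
theorem doubleMap_f₀ :
    (doubleMap f₁ f₂ a b sq).f (-1) =
      (doubleXIso₀ f₁ rel).hom ≫ a ≫ (doubleXIso₀ f₂ rel).inv := by
  unfold doubleMap
  rw [mkHomFromDouble_f₀]

@[simp]
theorem doubleMap_f₁ :
    (doubleMap f₁ f₂ a b sq).f 0 =
      (doubleXIso₁ f₁ rel ne01).hom ≫ b ≫ (doubleXIso₁ f₂ rel ne01).inv := by
  unfold doubleMap
  rw [mkHomFromDouble_f₁]

end map

section ses

variable {A₁ B₁ A₂ B₂ A₃ B₃ : C} (f₁ : A₁ ⟶ B₁) (f₂ : A₂ ⟶ B₂) (f₃ : A₃ ⟶ B₃)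
  (a : A₁ ⟶ A₂) (a' : A₂ ⟶ A₃) (b : B₁ ⟶ B₂) (b' : B₂ ⟶ B₃)
  (sq₁ : f₁ ≫ b = a ≫ f₂) (sq₂ : f₂ ≫ b' = a' ≫ f₃)
  (wa : a ≫ a' = 0) (wb : b ≫ b' = 0)

include wa wb in
theorem doubleMap_comp_eq_zero :
    doubleMap f₁ f₂ a b sq₁ ≫ doubleMap f₂ f₃ a' b' sq₂ = 0 := by
  apply from_double_hom_ext
  · rw [HomologicalComplex.comp_f, doubleMap_f₀, doubleMap_f₀]
    simp only [Category.assoc, Iso.inv_hom_id_assoc, HomologicalComplex.zero_f]
    rw [← Category.assoc a, wa, zero_comp, comp_zero]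
  · rw [HomologicalComplex.comp_f, doubleMap_f₁, doubleMap_f₁]
    simp only [Category.assoc, Iso.inv_hom_id_assoc, HomologicalComplex.zero_f]
    rw [← Category.assoc b, wb, zero_comp, comp_zero]

/-- The short complex of two-term complexes. -/
noncomputable def doubleSC : ShortComplex (CochainComplex C ℤ) :=
  ShortComplex.mk (doubleMap f₁ f₂ a b sq₁) (doubleMap f₂ f₃ a' b' sq₂)
    (doubleMap_comp_eq_zero f₁ f₂ f₃ a a' b b' sq₁ sq₂ wa wb)

variable (hA : (ShortComplex.mk a a' wa).ShortExact) (hB : (ShortComplex.mk b b' wb).ShortExact)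

include hA hB in
theorem doubleSC_shortExact : (doubleSC f₁ f₂ f₃ a a' b b' sq₁ sq₂ wa wb).ShortExact := by
  apply HomologicalComplex.shortExact_of_degreewise_shortExact
  intro k
  by_cases h₀ : k = -1
  · subst h₀
    have hiso : ShortComplex.mk a a' wa ≅
        (doubleSC f₁ f₂ f₃ a a' b b' sq₁ sq₂ wa wb).map (eval C (ComplexShape.up ℤ) (-1)) :=
      ShortComplex.isoMk (doubleXIso₀ f₁ rel).symm (doubleXIso₀ f₂ rel).symm
        (doubleXIso₀ f₃ rel).symm
        (by
          change _ ≫ (doubleMap f₁ f₂ a b sq₁).f (-1) = _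
          rw [doubleMap_f₀]
          simp only [Iso.symm_hom, Iso.inv_hom_id_assoc]
          rfl)
        (by
          change _ ≫ (doubleMap f₂ f₃ a' b' sq₂).f (-1) = _
          rw [doubleMap_f₀]
          simp only [Iso.symm_hom, Iso.inv_hom_id_assoc]
          rfl)
    exact ShortComplex.shortExact_of_iso hiso hA
  · by_cases h₁ : k = 0
    · subst h₁
      have hiso : ShortComplex.mk b b' wb ≅
          (doubleSC f₁ f₂ f₃ a a' b b' sq₁ sq₂ wa wb).map (eval C (ComplexShape.up ℤ) 0) :=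
        ShortComplex.isoMk (doubleXIso₁ f₁ rel ne01).symm (doubleXIso₁ f₂ rel ne01).symm
          (doubleXIso₁ f₃ rel ne01).symm
          (by
            change _ ≫ (doubleMap f₁ f₂ a b sq₁).f 0 = _
            rw [doubleMap_f₁]
            simp only [Iso.symm_hom, Iso.inv_hom_id_assoc]
            rfl)
          (by
            change _ ≫ (doubleMap f₂ f₃ a' b' sq₂).f 0 = _
            rw [doubleMap_f₁]
            simp only [Iso.symm_hom, Iso.inv_hom_id_assoc]
            rfl)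
      exact ShortComplex.shortExact_of_iso hiso hB
    · have z₁ : IsZero ((double f₁ rel).X k) := isZero_double_X f₁ rel k h₀ h₁
      have z₂ : IsZero ((double f₂ rel).X k) := isZero_double_X f₂ rel k h₀ h₁
      have z₃ : IsZero ((double f₃ rel).X k) := isZero_double_X f₃ rel k h₀ h₁
      exact
        { exact := ShortComplex.exact_of_isZero_X₂ _ z₂
          mono_f := ⟨fun _ _ _ => z₁.eq_of_tgt _ _⟩
          epi_g := ⟨fun _ _ _ => z₃.eq_of_src _ _⟩ }

end ses

section acyclic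

variable {A B : C} (f : A ⟶ B) [IsIso f]

theorem double_acyclic : (double f rel).Acyclic := by
  intro k
  by_cases h₀ : k = -1
  · subst h₀
    rw [HomologicalComplex.exactAt_iff' (double f rel) (-2) (-1) 0 (by simp) (by simp)]
    have hf : ((double f rel).sc' (-2) (-1) 0).f = 0 :=
      double_d_eq_zero₀ f rel (-2) (-1) (by decide)
    rw [ShortComplex.exact_iff_mono _ hf]
    change Mono ((double f rel).d (-1) 0)
    rw [double_d f rel ne01]
    infer_instance
  · by_cases h₁ : k = 0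
    · subst h₁
      rw [HomologicalComplex.exactAt_iff' (double f rel) (-1) 0 1 (by simp) (by simp)]
      have hg : ((double f rel).sc' (-1) 0 1).g = 0 :=
        double_d_eq_zero₀ f rel 0 1 (by decide)
      rw [ShortComplex.exact_iff_epi _ hg]
      change Epi ((double f rel).d (-1) 0)
      rw [double_d f rel ne01]
      infer_instance
    · exact HomologicalComplex.ExactAt.of_isZero (isZero_double_X f rel k h₀ h₁)

end acyclic

section derived

variable [HasDerivedCategory.{w} C]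

theorem isZero_Q_of_acyclic (K : CochainComplex C ℤ) (hK : K.Acyclic) :
    IsZero (DerivedCategory.Q.obj K) := by
  have hz : IsZero (0 : CochainComplex C ℤ) := isZero_zero _
  let z : K ⟶ (0 : CochainComplex C ℤ) := 0
  haveI : QuasiIso z := by
    rw [quasiIso_iff]
    intro i
    rw [quasiIsoAt_iff_exactAt z i (hK i)]
    exact (HomologicalComplex.acyclic_of_isZero _ hz) i
  haveI : IsIso (DerivedCategory.Q.map z) := by
    rw [DerivedCategory.isIso_Q_map_iff_quasiIso]; infer_instance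
  exact IsZero.of_iso (DerivedCategory.Q.map_isZero hz) (asIso (DerivedCategory.Q.map z))

open Pretriangulated in
theorem isIso_Q_map_of_shortExact (S : ShortComplex (CochainComplex C ℤ)) (hS : S.ShortExact)
    (h₃ : S.X₃.Acyclic) : IsIso (DerivedCategory.Q.map S.f) := by
  have hT := DerivedCategory.triangleOfSES_distinguished hS
  have hz : IsZero (DerivedCategory.triangleOfSES hS).obj₃ := isZero_Q_of_acyclic _ h₃
  exact (Triangle.isZero₃_iff_isIso₁ _ hT).mp hz

variable {A₁ B₁ A₂ B₂ A₃ B₃ : C} (f₁ : A₁ ⟶ B₁) (f₂ : A₂ ⟶ B₂) (f₃ : A₃ ⟶ B₃) [IsIso f₃]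
  (a : A₁ ⟶ A₂) (a' : A₂ ⟶ A₃) (b : B₁ ⟶ B₂) (b' : B₂ ⟶ B₃)
  (sq₁ : f₁ ≫ b = a ≫ f₂) (sq₂ : f₂ ≫ b' = a' ≫ f₃)
  (wa : a ≫ a' = 0) (wb : b ≫ b' = 0)
  (hA : (ShortComplex.mk a a' wa).ShortExact) (hB : (ShortComplex.mk b b' wb).ShortExact)

include sq₁ sq₂ hA hB in
/-- A map of two-term complexes whose cokernel is `[M ≅ M]` is an isomorphism in the derived
category. -/
theorem nonempty_iso_Q :
    Nonempty (DerivedCategory.Q.obj (double f₁ rel) ≅ DerivedCategory.Q.obj (double f₂ rel)) := by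
  have hS := doubleSC_shortExact f₁ f₂ f₃ a a' b b' sq₁ sq₂ wa wb hA hB
  have h : IsIso (DerivedCategory.Q.map (doubleSC f₁ f₂ f₃ a a' b b' sq₁ sq₂ wa wb).f) :=
    isIso_Q_map_of_shortExact _ hS (double_acyclic f₃)
  exact ⟨@asIso _ _ _ _ _ h⟩

end derived

end Groth.Agent.Helper19.DoubleQis
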