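import Mathlib
import Groth.Agent.Helper19.UnivDer4
import Groth.Agent.S9370
import Groth.Agent.S9386
import Groth.Agent.S5975
set_option autoImplicit false
set_option linter.style.haveILetI false
set_option linter.unusedSectionVars false
universe u

open CategoryTheory CategoryTheory.Limits AlgebraicGeometry Opposite TopologicalSpace

/-! # Differentials of a fibre product (helper19) -/

namespace Groth.Agent.Helper19.OmegaProd

open Groth.Agent.Lib.Helper29.QCoh Groth.Agent.Helper19.OmegaD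

section abelian

variable {C : Type*} [Category C] [Abelian C]

theorem exact_of_image_eq_kernel {A B D : C} (f : A ⟶ B) (g : B ⟶ D)
    (h : imageSubobject f = kernelSubobject g) :
    ∃ w : f ≫ g = 0, (ShortComplex.mk f g w).Exact := by
  have w : f ≫ g = 0 := by
    have h1 : f = factorThruImageSubobject f ≫ (imageSubobject f).arrow := by simp
    have h2 : (imageSubobject f).arrow =
        Subobject.ofLE _ _ h.le ≫ (kernelSubobject g).arrow := by simp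
    rw [h1, h2, Category.assoc, Category.assoc, kernelSubobject_arrow_comp, comp_zero, comp_zero]
  exact ⟨w, (ShortComplex.exact_iff_image_eq_kernel (ShortComplex.mk f g w)).mpr h⟩

/-- The abstract splitting argument. -/
theorem isIso_coprod_desc {A B E D₁ D₂ : C} (c₁ : A ⟶ B) (c₂ : E ⟶ B) (π₁ : B ⟶ D₁) (π₂ : B ⟶ D₂)
    [Epi π₁] (w₁ : c₁ ≫ π₁ = 0) (h₁ : (ShortComplex.mk c₁ π₁ w₁).Exact)
    [IsIso (c₂ ≫ π₁)] (w₂ : c₂ ≫ π₂ = 0) [IsIso (c₁ ≫ π₂)] :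
    IsIso (coprod.desc c₁ c₂) := by
  haveI : Mono (coprod.desc c₁ c₂) := by
    let L : B ⟶ A ⨿ E := π₂ ≫ inv (c₁ ≫ π₂) ≫ coprod.inl + π₁ ≫ inv (c₂ ≫ π₁) ≫ coprod.inr
    have hL : coprod.desc c₁ c₂ ≫ L = 𝟙 _ := by
      apply coprod.hom_ext
      · simp only [L, Preadditive.comp_add, coprod.inl_desc_assoc, Category.comp_id]
        rw [← Category.assoc c₁ π₂, IsIso.hom_inv_id_assoc, ← Category.assoc c₁ π₁, w₁, zero_comp,
          add_zero]
      · simp only [L, Preadditive.comp_add, coprod.inr_desc_assoc, Category.comp_id]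
        rw [← Category.assoc c₂ π₂, w₂, zero_comp, ← Category.assoc c₂ π₁, IsIso.hom_inv_id_assoc,
          zero_add]
    exact mono_of_mono_fac hL
  haveI : Epi (coprod.desc c₁ c₂) := by
    apply Preadditive.epi_of_cancel_zero
    intro T t ht
    have h1 : c₁ ≫ t = 0 := by
      rw [← coprod.inl_desc c₁ c₂, Category.assoc, ht, comp_zero]
    have h2 : c₂ ≫ t = 0 := by
      rw [← coprod.inr_desc c₁ c₂, Category.assoc, ht, comp_zero]
    have hcok := h₁.gIsCokernel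
    let t' : D₁ ⟶ T := hcok.desc (CokernelCofork.ofπ t h1)
    have ht' : π₁ ≫ t' = t := hcok.fac (CokernelCofork.ofπ t h1) WalkingParallelPair.one
    have h3 : (c₂ ≫ π₁) ≫ t' = 0 := by rw [Category.assoc, ht', h2]
    have h4 : t' = 0 := by
      rw [← cancel_epi (c₂ ≫ π₁), h3, comp_zero]
    rw [← ht', h4, comp_zero]
  exact isIso_of_mono_of_epi _

end abelian

section fund

variable {X Y Z : Scheme.{u}}

/-- The first fundamental sequence, with the composite named. -/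
theorem fund_seq (f : X ⟶ Y) (g : Y ⟶ Z) (h : X ⟶ Z) (w : f ≫ g = h)
    (ΩY : Y.Modules) (dY : OmegaSh.Der g ΩY) (hY : OmegaSh.IsUniversal dY)
    (ΩX : X.Modules) (dX : OmegaSh.Der h ΩX) (hX : OmegaSh.IsUniversal dX)
    (ΩXY : X.Modules) (dXY : OmegaSh.Der f ΩXY) (hXY : OmegaSh.IsUniversal dXY)
    (c₁ : (Scheme.Modules.pullback f).obj ΩY ⟶ ΩX) (hc₁ : OmegaSh.IsDiffCompat f dY dX c₁) :
    ∃ π : ΩX ⟶ ΩXY, (∀ (U : X.Opens) (s : Γ(X, U)), π.app U (dX.app U s) = dXY.app U s) ∧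
      Epi π ∧ ∃ w : c₁ ≫ π = 0, (ShortComplex.mk c₁ π w).Exact := by
  subst w
  have hsq : f ≫ g = (𝟙 X) ≫ (f ≫ g) := (Category.id_comp _).symm
  obtain ⟨c₂, hc₂, -⟩ := Groth.Agent.S9370.result (f ≫ g) f (𝟙 X) g hsq ΩX dX hX ΩXY dXY hXY
  obtain ⟨hepi, himg⟩ := Groth.Agent.S5975.result f g ΩY dY hY ΩX dX hX ΩXY dXY hXY c₁ hc₁ c₂ hc₂
  refine ⟨(Scheme.Modules.pullbackId X).inv.app ΩX ≫ c₂, ?_, ?_, exact_of_image_eq_kernel _ _ himg⟩
  · intro U s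
    change c₂.app U (((Scheme.Modules.pullbackId X).inv.app ΩX).app U (dX.app U s)) = _
    rw [pullbackId_inv_app_app]
    have h1 := hc₂ U s
    have h2 : (𝟙 X : X ⟶ X).app U s = s := by
      rw [Scheme.Hom.id_app]
      rfl
    rw [h2] at h1
    exact h1
  · haveI := hepi
    exact epi_comp _ _

end fund

section prod

variable {X Y S Z : Scheme.{u}} (a : X ⟶ S) (b : Y ⟶ S)
  (p : Z ⟶ X) (q : Z ⟶ Y) (h : Z ⟶ S) (wp : p ≫ a = h) (wq : q ≫ b = h) (hZ : IsPullback p q a b)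
  (ΩX : X.Modules) (dX : OmegaSh.Der a ΩX) (hX : OmegaSh.IsUniversal dX)
  (ΩY : Y.Modules) (dY : OmegaSh.Der b ΩY) (hY : OmegaSh.IsUniversal dY)
  (ΩZ : Z.Modules) (dZ : OmegaSh.Der h ΩZ) (hZu : OmegaSh.IsUniversal dZ)
  (c₁ : (Scheme.Modules.pullback p).obj ΩX ⟶ ΩZ) (hc₁ : OmegaSh.IsDiffCompat p dX dZ c₁)
  (c₂ : (Scheme.Modules.pullback q).obj ΩY ⟶ ΩZ) (hc₂ : OmegaSh.IsDiffCompat q dY dZ c₂)

include wp wq hZ hX hY hZu hc₁ hc₂ in
theorem isIso_coprod_desc_differentials : IsIso (coprod.desc c₁ c₂) := by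
  obtain ⟨ΩZX, dZX, hZX⟩ := UnivDer.exists_universal p
  obtain ⟨ΩZY, dZY, hZY⟩ := UnivDer.exists_universal q
  obtain ⟨π₁, hπ₁, hepi₁, w₁, hex₁⟩ :=
    fund_seq p a h wp ΩX dX hX ΩZ dZ hZu ΩZX dZX hZX c₁ hc₁
  obtain ⟨π₂, hπ₂, hepi₂, w₂, hex₂⟩ :=
    fund_seq q b h wq ΩY dY hY ΩZ dZ hZu ΩZY dZY hZY c₂ hc₂
  have hd1 : OmegaSh.IsDiffCompat q dY dZX (c₂ ≫ π₁) := by
    intro U s
    change π₁.app (q ⁻¹ᵁ U) (c₂.app (q ⁻¹ᵁ U) _) = _
    rw [hc₂ U s, hπ₁]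
  have hd2 : OmegaSh.IsDiffCompat p dX dZY (c₁ ≫ π₂) := by
    intro U s
    change π₂.app (p ⁻¹ᵁ U) (c₁.app (p ⁻¹ᵁ U) _) = _
    rw [hc₁ U s, hπ₂]
  haveI : IsIso (c₂ ≫ π₁) :=
    Groth.Agent.S9386.result b a q p hZ.flip ΩY dY hY ΩZX dZX hZX _ hd1
  haveI : IsIso (c₁ ≫ π₂) :=
    Groth.Agent.S9386.result a b p q hZ ΩX dX hX ΩZY dZY hZY _ hd2
  haveI := hepi₁
  exact isIso_coprod_desc c₁ c₂ π₁ π₂ w₁ hex₁ w₂

end prod

end Groth.Agent.Helper19.OmegaProd
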