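import Mathlib
import Groth.Agent.Helper19.OmegaProd
import Groth.Agent.Helper19.Conormal3
import Groth.Agent.S9776
set_option autoImplicit false
set_option linter.style.haveILetI false
set_option linter.unusedSectionVars false
universe u

open CategoryTheory CategoryTheory.Limits AlgebraicGeometry Opposite TopologicalSpace

/-! # Base change of differentials to an open subscheme of a fibre product; splittings (helper19) -/

namespace Groth.Agent.Helper19.OmegaProd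

open Groth.Agent.Lib.Helper29.QCoh Groth.Agent.Helper19.OmegaD

section openBC

variable {X S X' S' U : Scheme.{u}} (f : X ⟶ S) (g : S' ⟶ S) (g' : X' ⟶ X) (f' : X' ⟶ S')
  (hsq : IsPullback g' f' f g) (ι : U ⟶ X') [IsOpenImmersion ι]
  (Ω : X.Modules) (d : OmegaSh.Der f Ω) (hd : OmegaSh.IsUniversal d)
  (Ω₀ : U.Modules) (d₀ : OmegaSh.Der (ι ≫ f') Ω₀) (hd₀ : OmegaSh.IsUniversal d₀)
  (c : (Scheme.Modules.pullback (ι ≫ g')).obj Ω ⟶ Ω₀) (hc : OmegaSh.IsDiffCompat (ι ≫ g') d d₀ c)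

include hsq hd hd₀ hc in
/-- Base change of differentials for an open subscheme of a fibre product. -/
theorem isIso_of_open_in_pullback : IsIso c := by
  obtain ⟨Ω', d', hd'⟩ := UnivDer.exists_universal f'
  obtain ⟨c', hc', -⟩ := Groth.Agent.S9370.result f f' g' g hsq.w.symm Ω d hd Ω' d' hd'
  haveI : IsIso c' := Groth.Agent.S9386.result f g g' f' hsq Ω d hd Ω' d' hd' c' hc'
  have hsq2 : (ι ≫ f') ≫ 𝟙 S' = ι ≫ f' := Category.comp_id _
  obtain ⟨cι, hcι, -⟩ := Groth.Agent.S9370.result f' (ι ≫ f') ι (𝟙 S') hsq2 Ω' d' hd' Ω₀ d₀ hd₀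
  haveI : IsIso cι :=
    Groth.Agent.S9776.result f' (ι ≫ f') ι (𝟙 S') hsq2.symm Ω' d' hd' Ω₀ d₀ hd₀ cι hcι
  have hcomp := Groth.Agent.Helper19.Conormal.isDiffCompat_comp ι g' d d' d₀ c' hc' cι hcι
  have hsq3 : (ι ≫ f') ≫ g = (ι ≫ g') ≫ f := by
    rw [Category.assoc, Category.assoc, hsq.w]
  obtain ⟨c₀, -, huniq⟩ :=
    Groth.Agent.S9370.result f (ι ≫ f') (ι ≫ g') g hsq3 Ω d hd Ω₀ d₀ hd₀
  have h1 := huniq c hc
  have h2 := huniq _ hcomp
  rw [h1, ← h2]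
  infer_instance

end openBC

section splitting

variable {C : Type*} [Category C] [Abelian C]

/-- The splitting of `0 → A → B → D₁ → 0` coming from a complementary pair. -/
noncomputable def splittingOfPair {A B E D₁ D₂ : C} (c₁ : A ⟶ B) (c₂ : E ⟶ B) (π₁ : B ⟶ D₁)
    (π₂ : B ⟶ D₂) [Epi π₁] (w₁ : c₁ ≫ π₁ = 0) (h₁ : (ShortComplex.mk c₁ π₁ w₁).Exact)
    [IsIso (c₂ ≫ π₁)] (w₂ : c₂ ≫ π₂ = 0) [IsIso (c₁ ≫ π₂)] :
    (ShortComplex.mk c₁ π₁ w₁).Splitting where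
  r := π₂ ≫ inv (c₁ ≫ π₂)
  s := inv (c₂ ≫ π₁) ≫ c₂
  f_r := by
    change c₁ ≫ π₂ ≫ inv (c₁ ≫ π₂) = 𝟙 _
    rw [← Category.assoc, IsIso.hom_inv_id]
  s_g := by
    change (inv (c₂ ≫ π₁) ≫ c₂) ≫ π₁ = 𝟙 _
    rw [Category.assoc, IsIso.inv_hom_id]
  id := by
    change (π₂ ≫ inv (c₁ ≫ π₂)) ≫ c₁ + π₁ ≫ inv (c₂ ≫ π₁) ≫ c₂ = 𝟙 B
    haveI := isIso_coprod_desc c₁ c₂ π₁ π₂ w₁ h₁ w₂
    rw [← cancel_epi (coprod.desc c₁ c₂)]
    apply coprod.hom_ext
    · rw [coprod.inl_desc_assoc, Preadditive.comp_add, coprod.inl_desc_assoc, Category.comp_id]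
      rw [← Category.assoc c₁, ← Category.assoc c₁ π₂, IsIso.hom_inv_id, Category.id_comp,
        ← Category.assoc c₁ π₁, w₁, zero_comp, add_zero]
    · rw [coprod.inr_desc_assoc, Preadditive.comp_add, coprod.inr_desc_assoc, Category.comp_id]
      rw [← Category.assoc c₂, ← Category.assoc c₂ π₂, w₂, zero_comp, zero_comp,
        ← Category.assoc c₂ π₁, ← Category.assoc, IsIso.hom_inv_id, Category.id_comp, zero_add]

end splitting

end Groth.Agent.Helper19.OmegaProd
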