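import Mathlib
import Groth.Agent.Helper19.CotClass2
import Groth.Agent.Helper19.OmegaOpenBC
import Groth.Agent.Helper19.DoubleQis
import Groth.Agent.Helper19.PullUnit
set_option autoImplicit false
set_option linter.style.haveILetI false
set_option linter.unusedSectionVars false
universe u

open CategoryTheory CategoryTheory.Limits AlgebraicGeometry Opposite TopologicalSpace

/-! # The naive cotangent complex does not depend on the smooth factorisation (helper19) -/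

namespace Groth.Agent.Helper19.CotCx

open Groth.Agent.Lib.Helper29.QCoh Groth.Agent.Helper19.OmegaD Groth.Agent.Helper19.OmegaProd
open Groth.Agent.Helper19.CotClass Groth.Agent.Helper19.PullUnit

section ext

variable {Z X : Scheme.{u}} (i : Z ⟶ X)

/-- Maps out of the conormal sheaf are determined by their values on classes. -/
theorem conormal_hom_ext {F : Z.Modules} (α β : Omega.conormal i ⟶ F)
    (h : ∀ (U : X.Opens) (s : Γ(ClSub.idealMod i.ker, U)),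
      α.app (i ⁻¹ᵁ U) (OmegaSh.conormalSect i U s) = β.app (i ⁻¹ᵁ U) (OmegaSh.conormalSect i U s)) :
    α = β := by
  let adj := Scheme.Modules.pullbackPushforwardAdjunction i
  apply (adj.homEquiv (ClSub.idealMod i.ker) F).injective
  apply Scheme.Modules.hom_ext
  intro U
  ext s
  have e1 := Groth.Agent.S9370.homEquiv_app i α U s
  have e2 := Groth.Agent.S9370.homEquiv_app i β U s
  exact e1.trans ((h U s).trans e2.symm)

end ext

section ses

variable {Z X Y : Scheme.{u}} (p : X ⟶ Y) [Smooth p] (i : Z ⟶ X) (j : Z ⟶ Y) [IsImmersion i]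
  [IsImmersion j] [QuasiCompact i] [QuasiCompact j] (hij : i ≫ p = j)
  (Ω : X.Modules) (d : OmegaSh.Der p Ω) (hd : OmegaSh.IsUniversal d)
  (ψ : (Scheme.Modules.pullback (𝟙 Z)).obj (Omega.conormal j) ⟶ Omega.conormal i)
  (hψ : OmegaSh.IsConormalMap i j p (𝟙 Z) ψ)
  (φ : Omega.conormal i ⟶ (Scheme.Modules.pullback i).obj Ω) (hφ : OmegaSh.IsConormalDiff i d φ)

include hij hd hψ hφ in
theorem shortExact_of_maps :
    ∃ w : ((Scheme.Modules.pullbackId Z).inv.app (Omega.conormal j) ≫ ψ) ≫ φ = 0,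
      (ShortComplex.mk ((Scheme.Modules.pullbackId Z).inv.app (Omega.conormal j) ≫ ψ) φ
        w).ShortExact := by
  obtain ⟨w, hex, hepi⟩ := Groth.Agent.S9375.result p i j hij Ω d hd ψ hψ φ hφ
  haveI := mono_conormalMap p i j hij ψ hψ
  haveI := hepi
  let e := (Scheme.Modules.pullbackId Z).app (Omega.conormal j)
  have w' : (e.inv ≫ ψ) ≫ φ = 0 := by rw [Category.assoc, w, comp_zero]
  refine ⟨w', ?_⟩
  have hiso : ShortComplex.mk ψ φ w ≅ ShortComplex.mk (e.inv ≫ ψ) φ w' :=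
    ShortComplex.isoMk e (Iso.refl _) (Iso.refl _)
      (by simp) (by simp)
  exact ShortComplex.shortExact_of_iso hiso
    { exact := hex, mono_f := inferInstance, epi_g := inferInstance }

end ses

section square

variable {X V W Y : Scheme.{u}} (p : W ⟶ V) (i'' : X ⟶ W) [QuasiCompact i''] (i : X ⟶ V)
  (hij : i'' ≫ p = i) {g : V ⟶ Y} {r : W ⟶ Y}
  (Ω : V.Modules) (d : OmegaSh.Der g Ω) (Ωr : W.Modules) (dr : OmegaSh.Der r Ωr)
  (cp : (Scheme.Modules.pullback p).obj Ω ⟶ Ωr) (hcp : OmegaSh.IsDiffCompat p d dr cp)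
  (φ : Omega.conormal i ⟶ (Scheme.Modules.pullback i).obj Ω) (hφ : OmegaSh.IsConormalDiff i d φ)
  (φ'' : Omega.conormal i'' ⟶ (Scheme.Modules.pullback i'').obj Ωr)
  (hφ'' : OmegaSh.IsConormalDiff i'' dr φ'')
  (ψ : (Scheme.Modules.pullback (𝟙 X)).obj (Omega.conormal i) ⟶ Omega.conormal i'')
  (hψ : OmegaSh.IsConormalMap i'' i p (𝟙 X) ψ)

/-- The map `i^*Ω_{V/Y} → i''^*Ω_{W/Y}`. -/
noncomputable def gam : (Scheme.Modules.pullback i).obj Ω ⟶ (Scheme.Modules.pullback i'').obj Ωr :=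
  (Scheme.Modules.pullbackCongr hij.symm).hom.app Ω ≫ (Scheme.Modules.pullbackComp i'' p).inv.app Ω ≫
    (Scheme.Modules.pullback i'').map cp

include hcp in
theorem gam_app_pullSect (U : V.Opens) (a : Γ(V, U)) (hT : i ⁻¹ᵁ U ≤ i'' ⁻¹ᵁ (p ⁻¹ᵁ U)) :
    (gam p i'' i hij Ω Ωr cp).app (i ⁻¹ᵁ U) (pullSect i Ω U (d.app U a)) =
      res _ hT (pullSect i'' Ωr (p ⁻¹ᵁ U) (dr.app (p ⁻¹ᵁ U) (p.app U a))) := by
  have hT' : i ⁻¹ᵁ U ≤ (i'' ≫ p) ⁻¹ᵁ U := hT
  have s3 := step3 (F := Ω) hij.symm (i ⁻¹ᵁ U) le_rfl hT' (d.app U a)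
  rw [res_self] at s3
  have s4 := step4 p Ω i'' (i ⁻¹ᵁ U) hT' (d.app U a)
  have s5 := app_res ((Scheme.Modules.pullback i'').map cp) hT
    (pullSect i'' ((Scheme.Modules.pullback p).obj Ω) (p ⁻¹ᵁ U)
      (pullSect p Ω U (d.app U a)))
  have hc : cp.app (p ⁻¹ᵁ U) (pullSect p Ω U (d.app U a)) = dr.app (p ⁻¹ᵁ U) (p.app U a) :=
    hcp U a
  rw [pullSect_naturality, hc] at s5
  unfold gam
  erw [app_comp, app_comp]
  erw [s3, s4]
  exact s5

include hij hcp hφ hφ'' hψ in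
/-- The square `N_i → i^*Ω`, `N_{i''} → i''^*Ω_r` commutes. -/
theorem square_comm :
    φ ≫ gam p i'' i hij Ω Ωr cp =
      ((Scheme.Modules.pullbackId X).inv.app (Omega.conormal i) ≫ ψ) ≫ φ'' := by
  apply conormal_hom_ext i
  intro U s
  have hT : i ⁻¹ᵁ U ≤ i'' ⁻¹ᵁ (p ⁻¹ᵁ U) := by
    have : i ⁻¹ᵁ U ≤ (i'' ≫ p) ⁻¹ᵁ U := by rw [hij]
    exact this
  have hsq : (𝟙 X) ≫ i = i'' ≫ p := by rw [Category.id_comp, hij]
  obtain ⟨α, hα⟩ := ConMapEx.exists_idealPush i'' i p (𝟙 X) hsq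
  -- left side
  have L : (φ ≫ gam p i'' i hij Ω Ωr cp).app (i ⁻¹ᵁ U) (OmegaSh.conormalSect i U s) =
      res _ hT (pullSect i'' Ωr (p ⁻¹ᵁ U)
        (dr.app (p ⁻¹ᵁ U) (p.app U (OmegaSh.idealSect i.ker U s)))) := by
    have h1 : φ.app (i ⁻¹ᵁ U) (OmegaSh.conormalSect i U s) =
        pullSect i Ω U (d.app U (OmegaSh.idealSect i.ker U s)) := hφ U s
    rw [app_comp, h1]
    exact gam_app_pullSect p i'' i hij Ω d Ωr dr cp hcp U _ hT
  -- right side
  have R : (((Scheme.Modules.pullbackId X).inv.app (Omega.conormal i) ≫ ψ) ≫ φ'').app (i ⁻¹ᵁ U)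
      (OmegaSh.conormalSect i U s) =
      res _ hT (pullSect i'' Ωr (p ⁻¹ᵁ U)
        (dr.app (p ⁻¹ᵁ U) (p.app U (OmegaSh.idealSect i.ker U s)))) := by
    rw [app_comp, app_comp, pullbackId_inv_app_app]
    have k := ConMapEx.conormalMap_apply i'' i p (𝟙 X) hsq ψ hψ U s (α.app U s) (hα U s) hT
    have k2 := app_res φ'' hT (OmegaSh.conormalSect i'' (p ⁻¹ᵁ U) (α.app U s))
    have h2 : φ''.app (i'' ⁻¹ᵁ (p ⁻¹ᵁ U)) (OmegaSh.conormalSect i'' (p ⁻¹ᵁ U) (α.app U s)) =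
        pullSect i'' Ωr (p ⁻¹ᵁ U)
          (dr.app (p ⁻¹ᵁ U) (OmegaSh.idealSect i''.ker (p ⁻¹ᵁ U) (α.app U s))) :=
      hφ'' (p ⁻¹ᵁ U) (α.app U s)
    rw [h2, hα U s] at k2
    refine Eq.trans ?_ k2
    exact congrArg (fun t => φ''.app (i ⁻¹ᵁ U) t) k
  exact L.trans R.symm

end square

section side

open HomologicalComplex

variable {X Y V V' W : Scheme.{u}} (g : V ⟶ Y) (g' : V' ⟶ Y) [Smooth g']
  (p₀ : W ⟶ V) (q₀ : W ⟶ V') (hpb : IsPullback q₀ p₀ g' g)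
  (i₀ : X ⟶ W) [IsImmersion i₀] (i : X ⟶ V) [IsImmersion i] [QuasiCompact i]
  (h₁ : i₀ ≫ p₀ = i)
  (Ω : V.Modules) (d : OmegaSh.Der g Ω) (hd : OmegaSh.IsUniversal d)
  (φ : Omega.conormal i ⟶ (Scheme.Modules.pullback i).obj Ω) (hφ : OmegaSh.IsConormalDiff i d φ)
  (r : i₀.coborderRange.toScheme ⟶ Y) (hr : i₀.coborderRange.ι ≫ p₀ ≫ g = r)
  (Ωr : (i₀.coborderRange.toScheme).Modules) (dr : OmegaSh.Der r Ωr)
  (hdr : OmegaSh.IsUniversal dr)
  (φ'' : Omega.conormal i₀.liftCoborder ⟶ (Scheme.Modules.pullback i₀.liftCoborder).obj Ωr)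
  (hφ'' : OmegaSh.IsConormalDiff i₀.liftCoborder dr φ'')

include hpb h₁ hd hφ hr hdr hφ'' in
set_option maxHeartbeats 800000 in
/-- The two-term complex of `(i, g)` is isomorphic in the derived category to that of
`(i'', W° → Y)`. -/
theorem side [HasDerivedCategory X.Modules] :
    Nonempty (DerivedCategory.Q.obj (double φ DoubleQis.rel) ≅
      DerivedCategory.Q.obj (double φ'' DoubleQis.rel)) := by
  haveI : Smooth p₀ := MorphismProperty.of_isPullback (P := @Smooth) hpb inferInstance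
  have hι : i₀.liftCoborder ≫ i₀.coborderRange.ι = i₀ := i₀.liftCoborder_ι
  have hij : i₀.liftCoborder ≫ (i₀.coborderRange.ι ≫ p₀) = i := by
    rw [← Category.assoc, hι, h₁]
  have hrp : (i₀.coborderRange.ι ≫ p₀) ≫ g = r := by rw [Category.assoc, hr]
  have hrq : (i₀.coborderRange.ι ≫ q₀) ≫ g' = r := by
    rw [Category.assoc, hpb.w, hr]
  obtain ⟨Ω', d', hd'⟩ := UnivDer.exists_universal g'
  obtain ⟨Ωp, dp, hdp⟩ := UnivDer.exists_universal (i₀.coborderRange.ι ≫ p₀)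
  obtain ⟨Ωq, dq, hdq⟩ := UnivDer.exists_universal (i₀.coborderRange.ι ≫ q₀)
  have hsqp : r ≫ 𝟙 Y = (i₀.coborderRange.ι ≫ p₀) ≫ g := by rw [Category.comp_id, hrp]
  have hsqq : r ≫ 𝟙 Y = (i₀.coborderRange.ι ≫ q₀) ≫ g' := by rw [Category.comp_id, hrq]
  obtain ⟨cp, hcp, -⟩ :=
    Groth.Agent.S9370.result g r (i₀.coborderRange.ι ≫ p₀) (𝟙 Y) hsqp Ω d hd Ωr dr hdr
  obtain ⟨cq, hcq, -⟩ :=
    Groth.Agent.S9370.result g' r (i₀.coborderRange.ι ≫ q₀) (𝟙 Y) hsqq Ω' d' hd' Ωr dr hdr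
  obtain ⟨πp, hπp, hepip, wp, hexp⟩ :=
    fund_seq (i₀.coborderRange.ι ≫ p₀) g r hrp Ω d hd Ωr dr hdr Ωp dp hdp cp hcp
  obtain ⟨πq, hπq, hepiq, wq, hexq⟩ :=
    fund_seq (i₀.coborderRange.ι ≫ q₀) g' r hrq Ω' d' hd' Ωr dr hdr Ωq dq hdq cq hcq
  have hd1 : OmegaSh.IsDiffCompat (i₀.coborderRange.ι ≫ q₀) d' dp (cq ≫ πp) := by
    intro U s
    change πp.app _ (cq.app _ _) = _
    rw [hcq U s, hπp]
  have hd2 : OmegaSh.IsDiffCompat (i₀.coborderRange.ι ≫ p₀) d dq (cp ≫ πq) := by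
    intro U s
    change πq.app _ (cp.app _ _) = _
    rw [hcp U s, hπq]
  haveI : IsIso (cq ≫ πp) :=
    isIso_of_open_in_pullback g' g q₀ p₀ hpb i₀.coborderRange.ι Ω' d' hd' Ωp dp hdp _ hd1
  haveI : IsIso (cp ≫ πq) :=
    isIso_of_open_in_pullback g g' p₀ q₀ hpb.flip i₀.coborderRange.ι Ω d hd Ωq dq hdq _ hd2
  haveI := hepip
  -- the split sequence of differentials, pulled back to `X`
  let spl := splittingOfPair cp cq πp πq wp hexp wq
  have hB0 := (spl.map (Scheme.Modules.pullback i₀.liftCoborder)).shortExact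
  -- conormal maps
  have hsq : (𝟙 X) ≫ i = i₀.liftCoborder ≫ (i₀.coborderRange.ι ≫ p₀) := by
    rw [Category.id_comp, hij]
  obtain ⟨ψ, hψ⟩ :=
    ConMapEx.exists_conormalMap i₀.liftCoborder i (i₀.coborderRange.ι ≫ p₀) (𝟙 X) hsq
  have hb : OmegaSh.IsConormalDiff i₀.liftCoborder dp
      (φ'' ≫ (Scheme.Modules.pullback i₀.liftCoborder).map πp) := by
    intro U s
    have e1 : φ''.app (i₀.liftCoborder ⁻¹ᵁ U) (OmegaSh.conormalSect i₀.liftCoborder U s) =
        pullSect i₀.liftCoborder Ωr U (dr.app U (OmegaSh.idealSect i₀.liftCoborder.ker U s)) :=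
      hφ'' U s
    change ((Scheme.Modules.pullback i₀.liftCoborder).map πp).app (i₀.liftCoborder ⁻¹ᵁ U)
      (φ''.app (i₀.liftCoborder ⁻¹ᵁ U) (OmegaSh.conormalSect i₀.liftCoborder U s)) =
      pullSect i₀.liftCoborder Ωp U (dp.app U (OmegaSh.idealSect i₀.liftCoborder.ker U s))
    rw [e1, pullSect_naturality, hπp]
  haveI : Smooth (i₀.coborderRange.ι ≫ p₀) := inferInstance
  obtain ⟨wA, hA⟩ := shortExact_of_maps (i₀.coborderRange.ι ≫ p₀) i₀.liftCoborder i hij Ωp dp hdp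
    ψ hψ _ hb
  -- the sequence in degree 0
  let e : (Scheme.Modules.pullback i).obj Ω ≅
      (Scheme.Modules.pullback i₀.liftCoborder).obj
        ((Scheme.Modules.pullback (i₀.coborderRange.ι ≫ p₀)).obj Ω) :=
    (Scheme.Modules.pullbackCongr hij.symm).app Ω ≪≫
      ((Scheme.Modules.pullbackComp i₀.liftCoborder (i₀.coborderRange.ι ≫ p₀)).app Ω).symm
  have hγ : gam (i₀.coborderRange.ι ≫ p₀) i₀.liftCoborder i hij Ω Ωr cp =
      e.hom ≫ (Scheme.Modules.pullback i₀.liftCoborder).map cp := by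
    unfold gam
    simp only [e, Iso.trans_hom, Iso.app_hom, Iso.symm_hom, Iso.app_inv, Category.assoc]
  have wB : gam (i₀.coborderRange.ι ≫ p₀) i₀.liftCoborder i hij Ω Ωr cp ≫
      (Scheme.Modules.pullback i₀.liftCoborder).map πp = 0 := by
    rw [hγ, Category.assoc, ← Functor.map_comp, wp, Functor.map_zero, comp_zero]
  have hB : (ShortComplex.mk _ _ wB).ShortExact := by
    have hiso : (ShortComplex.mk cp πp wp).map (Scheme.Modules.pullback i₀.liftCoborder) ≅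
        ShortComplex.mk _ _ wB :=
      ShortComplex.isoMk e.symm (Iso.refl _) (Iso.refl _)
        (by
          change e.inv ≫ gam (i₀.coborderRange.ι ≫ p₀) i₀.liftCoborder i hij Ω Ωr cp =
            (Scheme.Modules.pullback i₀.liftCoborder).map cp ≫ 𝟙 _
          rw [hγ, Iso.inv_hom_id_assoc, Category.comp_id])
        (by
          change 𝟙 _ ≫ (Scheme.Modules.pullback i₀.liftCoborder).map πp =
            (Scheme.Modules.pullback i₀.liftCoborder).map πp ≫ 𝟙 _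
          rw [Category.id_comp, Category.comp_id])
    exact ShortComplex.shortExact_of_iso hiso hB0
  have sq₁ := square_comm (i₀.coborderRange.ι ≫ p₀) i₀.liftCoborder i hij Ω d Ωr dr cp hcp φ hφ
    φ'' hφ'' ψ hψ
  have sq₂ : φ'' ≫ (Scheme.Modules.pullback i₀.liftCoborder).map πp =
      (φ'' ≫ (Scheme.Modules.pullback i₀.liftCoborder).map πp) ≫
        𝟙 ((Scheme.Modules.pullback i₀.liftCoborder).obj Ωp) := (Category.comp_id _).symm
  exact DoubleQis.nonempty_iso_Q φ φ'' (𝟙 _) _ _ _ _ sq₁ sq₂ wA wB hA hB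

end side

end Groth.Agent.Helper19.CotCx
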