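import Mathlib
import Groth.Prelude.Def_OmegaPn
import Groth.Agent.Helper19.Conormal5
set_option autoImplicit false
set_option linter.style.haveILetI false
set_option linter.unusedSectionVars false
universe u

open CategoryTheory CategoryTheory.Limits AlgebraicGeometry Opposite TopologicalSpace
open scoped TensorProduct

/-! # Local dictionary for pullbacks of ideal modules (graded pieces of an immersion) (helper19) -/

namespace Groth.Agent.Helper19.GrDict

open Groth.Agent.Lib.Helper29.QCoh Groth.Agent.Helper19.OmegaD Groth.Agent.Helper19.OmegaLocal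
open Groth.Agent.Helper19.OmegaAlg Groth.Agent.Helper19.Conormal

section alg

variable {P S : Type u} [CommRing P] [CommRing S] [Algebra P S]

theorem exists_one_tmul_gen (hf : Function.Surjective (algebraMap P S)) {M : Type u}
    [AddCommGroup M] [Module P M] (t : S ⊗[P] M) : ∃ x : M, t = (1 : S) ⊗ₜ[P] x := by
  induction t using TensorProduct.induction_on with
  | zero => exact ⟨0, by rw [TensorProduct.tmul_zero]⟩
  | tmul c x =>
    obtain ⟨a, rfl⟩ := hf c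
    refine ⟨a • x, ?_⟩
    rw [TensorProduct.tmul_smul, TensorProduct.smul_tmul', Algebra.smul_def, mul_one]
  | add t₁ t₂ h₁ h₂ =>
    obtain ⟨x₁, rfl⟩ := h₁
    obtain ⟨x₂, rfl⟩ := h₂
    exact ⟨x₁ + x₂, by rw [TensorProduct.tmul_add]⟩

end alg

section D1

variable {Z X : Scheme.{u}} (i : Z ⟶ X) (J : X.IdealSheafData) {U : X.Opens} (hU : IsAffineOpen U)
  {V : Z.Opens} (e : V ≤ i ⁻¹ᵁ U)

/-- The pullback along `i` of the ideal module of `J`. -/
noncomputable abbrev PJ : Z.Modules := (Scheme.Modules.pullback i).obj (ClSub.idealMod J)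

/-- Sections of the pulled back ideal module over an affine `V ≤ i⁻¹ U`, `U` affine. -/
noncomputable def sectionsEquiv (hV : IsAffineOpen V) :
    letI := (i.appLE U V e).hom.toAlgebra
    Γ(PJ i J, V) ≃ₗ[Γ(Z, V)] Γ(Z, V) ⊗[Γ(X, U)] (J.ideal ⟨U, hU⟩) :=
  letI := (i.appLE U V e).hom.toAlgebra
  (pullbackSectionsEquiv i (ClSub.idealMod J) hV hU e) ≪≫ₗ
    TensorProduct.AlgebraTensorModule.congr (LinearEquiv.refl Γ(Z, V) Γ(Z, V))
      (idealModSectionsEquiv J ⟨U, hU⟩)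

/-- The class in `Γ(i^*J, i⁻¹U)` of an element of the ideal over an affine open `U`. -/
noncomputable def cls (x : J.ideal ⟨U, hU⟩) : Γ(PJ i J, i ⁻¹ᵁ U) :=
  OmegaSh.pullSect i (ClSub.idealMod J) U ((idealModSectionsEquiv J ⟨U, hU⟩).symm x)

/-- The class restricted to `V ≤ i⁻¹U`. -/
noncomputable def clsV (x : J.ideal ⟨U, hU⟩) : Γ(PJ i J, V) :=
  res (PJ i J) e (cls i J hU x)

theorem idealSect_symm (x : J.ideal ⟨U, hU⟩) :
    OmegaSh.idealSect J U ((idealModSectionsEquiv J ⟨U, hU⟩).symm x) = x.1 := by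
  have h : ((idealModSectionsEquiv J ⟨U, hU⟩ ((idealModSectionsEquiv J ⟨U, hU⟩).symm x) :
      J.ideal ⟨U, hU⟩) : Γ(X, U)) = x.1 := by
    rw [LinearEquiv.apply_symm_apply]
  exact h

set_option maxRecDepth 8000 in
theorem sectionsEquiv_clsV (hV : IsAffineOpen V) (x : J.ideal ⟨U, hU⟩) :
    letI := (i.appLE U V e).hom.toAlgebra
    sectionsEquiv i J hU e hV (clsV i J hU e x) = (1 : Γ(Z, V)) ⊗ₜ[Γ(X, U)] x := by
  letI := (i.appLE U V e).hom.toAlgebra
  have h2 : pullbackSectionsEquiv i (ClSub.idealMod J) hV hU e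
      (res ((Scheme.Modules.pullback i).obj (ClSub.idealMod J)) e
        (pullSect i (ClSub.idealMod J) U ((idealModSectionsEquiv J ⟨U, hU⟩).symm x))) =
        (1 : Γ(Z, V)) ⊗ₜ[Γ(X, U)] ((idealModSectionsEquiv J ⟨U, hU⟩).symm x) :=
    Groth.Agent.Helper19.PullUnit.pullbackSectionsEquiv_pullSect i (ClSub.idealMod J)
      hV hU e _
  change (TensorProduct.AlgebraTensorModule.congr (LinearEquiv.refl Γ(Z, V) Γ(Z, V))
      (idealModSectionsEquiv J ⟨U, hU⟩))
    (pullbackSectionsEquiv i (ClSub.idealMod J) hV hU e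
      (res ((Scheme.Modules.pullback i).obj (ClSub.idealMod J)) e
        (pullSect i (ClSub.idealMod J) U ((idealModSectionsEquiv J ⟨U, hU⟩).symm x)))) = _
  rw [h2, TensorProduct.AlgebraTensorModule.congr_tmul, LinearEquiv.refl_apply,
    LinearEquiv.apply_symm_apply]

variable {i J hU e}

theorem exists_clsV_eq (hV : IsAffineOpen V) (hc : Function.Surjective (i.appLE U V e).hom)
    (m : Γ(PJ i J, V)) : ∃ x : J.ideal ⟨U, hU⟩, m = clsV i J hU e x := by
  letI := (i.appLE U V e).hom.toAlgebra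
  obtain ⟨x, hx⟩ := exists_one_tmul_gen (P := Γ(X, U)) (S := Γ(Z, V)) hc
    (sectionsEquiv i J hU e hV m)
  refine ⟨x, (sectionsEquiv i J hU e hV).injective ?_⟩
  rw [hx, sectionsEquiv_clsV]

theorem clsV_add (hV : IsAffineOpen V) (x y : J.ideal ⟨U, hU⟩) :
    clsV i J hU e (x + y) = clsV i J hU e x + clsV i J hU e y := by
  letI := (i.appLE U V e).hom.toAlgebra
  apply (sectionsEquiv i J hU e hV).injective
  rw [map_add, sectionsEquiv_clsV, sectionsEquiv_clsV, sectionsEquiv_clsV,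
    TensorProduct.tmul_add]

theorem clsV_zero (hV : IsAffineOpen V) : clsV i J hU e 0 = 0 := by
  letI := (i.appLE U V e).hom.toAlgebra
  apply (sectionsEquiv i J hU e hV).injective
  rw [map_zero, sectionsEquiv_clsV, TensorProduct.tmul_zero]

theorem clsV_smul (hV : IsAffineOpen V) (a : Γ(X, U)) (x : J.ideal ⟨U, hU⟩) :
    clsV i J hU e (a • x) = (i.appLE U V e).hom a • clsV i J hU e x := by
  letI := (i.appLE U V e).hom.toAlgebra
  apply (sectionsEquiv i J hU e hV).injective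
  rw [map_smul, sectionsEquiv_clsV, sectionsEquiv_clsV,
    TensorProduct.tmul_smul, TensorProduct.smul_tmul', TensorProduct.smul_tmul']
  congr 1

end D1

section jmap

variable {Z X Z' X' : Scheme.{u}} (i : Z ⟶ X) (i' : Z' ⟶ X')
  (g : X ⟶ X') (gZ : Z ⟶ Z') (J : X.IdealSheafData) (J' : X'.IdealSheafData)
  (φ : (Scheme.Modules.pullback gZ).obj (PJ i' J') ⟶ PJ i J)

/-- The defining property of a canonical map between pulled back ideal modules. -/
def IsJMap : Prop :=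
  gZ ≫ i' = i ≫ g ∧
  ∀ (U' : X'.Opens) (s' : Γ(ClSub.idealMod J', U')) (s : Γ(ClSub.idealMod J, g ⁻¹ᵁ U')),
    OmegaSh.idealSect J (g ⁻¹ᵁ U') s = g.app U' (OmegaSh.idealSect J' U' s') →
    ∀ (V : Z.Opens) (h₁ : V ≤ gZ ⁻¹ᵁ (i' ⁻¹ᵁ U')) (h₂ : V ≤ i ⁻¹ᵁ (g ⁻¹ᵁ U')),
      (PJ i J).presheaf.map (homOfLE h₁).op
          (φ.app (gZ ⁻¹ᵁ (i' ⁻¹ᵁ U'))
            (OmegaSh.pullSect gZ (PJ i' J') (i' ⁻¹ᵁ U')
              (OmegaSh.pullSect i' (ClSub.idealMod J') U' s'))) =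
        (PJ i J).presheaf.map (homOfLE h₂).op (OmegaSh.pullSect i (ClSub.idealMod J) (g ⁻¹ᵁ U') s)

variable (hφ : IsJMap i i' g gZ J J' φ)
  (hJ : ∀ (U₁ : X.Opens) (hU₁ : IsAffineOpen U₁) (U₁' : X'.Opens) (hU₁' : IsAffineOpen U₁')
    (h : U₁ ≤ g ⁻¹ᵁ U₁') (x' : Γ(X', U₁')), x' ∈ J'.ideal ⟨U₁', hU₁'⟩ →
      (g.appLE U₁' U₁ h).hom x' ∈ J.ideal ⟨U₁, hU₁⟩)
  {U' : X'.Opens} (hU' : IsAffineOpen U') {U : X.Opens} (hU : IsAffineOpen U)
  (hUU' : U ≤ g ⁻¹ᵁ U') {V' : Z'.Opens} (eV' : V' ≤ i' ⁻¹ᵁ U') {V : Z.Opens} (eV : V ≤ i ⁻¹ᵁ U)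
  (hVV' : V ≤ gZ ⁻¹ᵁ V')

include hφ hJ in
/-- Local description of a canonical map of pulled back ideal modules on classes. -/
theorem jMap_clsV (x' : J'.ideal ⟨U', hU'⟩) (x : J.ideal ⟨U, hU⟩)
    (hx : x.1 = (g.appLE U' U hUU').hom x'.1) :
    φ.app V (res _ hVV' (pullSect gZ (PJ i' J') V' (clsV i' J' hU' eV' x'))) =
      clsV i J hU eV x := by
  obtain ⟨s, hs⟩ := exists_idealSect_eq J (g ⁻¹ᵁ U') ((g.app U').hom x'.1) (by
    intro U₁ hU₁ hU₁G
    have := hJ U₁ hU₁ U' hU' hU₁G x'.1 x'.2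
    exact this)
  let s' : Γ(ClSub.idealMod J', U') := (idealModSectionsEquiv J' ⟨U', hU'⟩).symm x'
  have hs' : OmegaSh.idealSect J' U' s' = x'.1 := idealSect_symm J' hU' x'
  have hss' : OmegaSh.idealSect J (g ⁻¹ᵁ U') s = g.app U' (OmegaSh.idealSect J' U' s') := by
    rw [hs, hs']
  have h₁ : V ≤ gZ ⁻¹ᵁ (i' ⁻¹ᵁ U') := hVV'.trans (gZ.preimage_mono eV')
  have h₂ : V ≤ i ⁻¹ᵁ (g ⁻¹ᵁ U') := eV.trans (i.preimage_mono hUU')
  have key := hφ.2 U' s' s hss' V h₁ h₂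
  have hL : φ.app V (res _ hVV' (pullSect gZ (PJ i' J') V' (clsV i' J' hU' eV' x'))) =
      res (PJ i J) h₁ (φ.app (gZ ⁻¹ᵁ (i' ⁻¹ᵁ U'))
        (pullSect gZ (PJ i' J') (i' ⁻¹ᵁ U') (OmegaSh.pullSect i' (ClSub.idealMod J') U' s'))) := by
    rw [← app_res]
    congr 1
    unfold clsV cls
    rw [pullSect_res, res_res]
  have hR : clsV i J hU eV x =
      res (PJ i J) h₂ (OmegaSh.pullSect i (ClSub.idealMod J) (g ⁻¹ᵁ U') s) := by
    unfold clsV cls
    have h5 : (idealModSectionsEquiv J ⟨U, hU⟩).symm x =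
        res (ClSub.idealMod J) hUU' s := by
      rw [LinearEquiv.symm_apply_eq]
      apply Subtype.ext
      rw [idealModSectionsEquiv_apply]
      have h6 : (ClSub.idealModι J).app U (res (ClSub.idealMod J) hUU' s) =
          res _ hUU' ((ClSub.idealModι J).app (g ⁻¹ᵁ U') s) := app_res _ hUU' s
      rw [h6, hx]
      have h7 : fromUnit ((ClSub.idealModι J).app (g ⁻¹ᵁ U') s) = (g.app U').hom x'.1 := hs
      change _ = X.presheaf.map (homOfLE hUU').op (fromUnit ((ClSub.idealModι J).app (g ⁻¹ᵁ U') s))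
      rw [h7]
      rfl
    rw [h5]
    have h8 : OmegaSh.pullSect i (ClSub.idealMod J) U (res (ClSub.idealMod J) hUU' s) =
        res (PJ i J) (i.preimage_mono hUU') (OmegaSh.pullSect i (ClSub.idealMod J) (g ⁻¹ᵁ U') s) :=
      pullSect_res i (ClSub.idealMod J) hUU' s
    rw [h8, res_res]
  rw [hL, hR]
  exact key

end jmap

/-- `IsGrMap` is an instance of `IsJMap`. -/
theorem isJMap_of_isGrMap {Y X Y' X' : Scheme.{u}} (i : Y ⟶ X) (i' : Y' ⟶ X') (g : X ⟶ X')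
    (gZ : Y ⟶ Y') (n : ℕ)
    (φ : (Scheme.Modules.pullback gZ).obj (PrinPart.grMod i' n) ⟶ PrinPart.grMod i n)
    (hφ : PrinPart.IsGrMap i i' g gZ n φ) :
    IsJMap i i' g gZ (i.ker ^ n) (i'.ker ^ n) φ := hφ

end Groth.Agent.Helper19.GrDict
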