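import Mathlib
import Groth.Agent.Helper19.LiftFLF10
set_option autoImplicit false
set_option linter.style.haveILetI false
set_option linter.unusedSectionVars false
universe u
open CategoryTheory CategoryTheory.Limits AlgebraicGeometry TopologicalSpace Opposite
open scoped TensorProduct
open Groth.Agent.Lib.Helper29.QCoh

/-! # Extensions by direct images along an arbitrary closed immersion split when `Ext¹` on the
closed subscheme vanishes (helper19) -/

namespace Groth.Agent.Helper19.DefVB

open Groth.Agent.Helper19.LiftFLF

variable {X Y : Scheme.{u}} (c : Y ⟶ X) [IsClosedImmersion c]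

/-- The counit `c^* c_* N ⟶ N` of a closed immersion is an isomorphism for quasi-coherent `N`. -/
theorem isIso_counit (N : Y.Modules) [N.IsQuasicoherent] :
    IsIso ((Scheme.Modules.pullbackPushforwardAdjunction c).counit.app N) := by
  let adj := Scheme.Modules.pullbackPushforwardAdjunction c
  haveI : ((Scheme.Modules.pushforward c).obj N).IsQuasicoherent :=
    isQuasicoherent_pushforward_of_isAffineHom _ _
  haveI hη : IsIso (adj.unit.app ((Scheme.Modules.pushforward c).obj N)) := by
    apply Groth.Agent.Helper19.ClImmUnit.isIso_unit_of_killed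
    intro U a ha s
    rw [Scheme.Hom.ker_apply, RingHom.mem_ker] at ha
    change toPush c N U.1 ((c.app U.1 a) • ofPush c N U.1 s) = 0
    have ha' : (c.app U.1) a = 0 := ha
    rw [ha', zero_smul]
    rfl
  have htri := adj.right_triangle_components N
  haveI : IsIso ((Scheme.Modules.pushforward c).map (adj.counit.app N)) := by
    have h : (Scheme.Modules.pushforward c).map (adj.counit.app N) =
        inv (adj.unit.app ((Scheme.Modules.pushforward c).obj N)) := by
      rw [← cancel_epi (adj.unit.app ((Scheme.Modules.pushforward c).obj N)), htri,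
        IsIso.hom_inv_id]
      rfl
    rw [h]
    infer_instance
  haveI : ((Scheme.Modules.pullback c).obj
      ((Scheme.Modules.pushforward c).obj N)).IsQuasicoherent :=
    isQuasicoherent_pullback _ _
  exact Groth.Agent.Lib.Helper17.PushCoh.isIso_of_isIso_pushforward_map c
    (M := (Scheme.Modules.pullback c).obj
      ((Scheme.Modules.pushforward c).obj N)) (N := N) (adj.counit.app N)

/-- A short exact sequence `0 → c_* N → P → E → 0` with `E` finite locally free splits as soon as
`Ext¹(c^* E, N) = 0` on the closed subscheme. -/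
theorem exists_retraction_of_ext_subsingleton {E P : X.Modules} (hE : FlatMod.IsFinLocFree E)
    [P.IsQuasicoherent] (N : Y.Modules) [N.IsQuasicoherent]
    (a : (Scheme.Modules.pushforward c).obj N ⟶ P) (b : P ⟶ E) (w : a ≫ b = 0)
    (hS : (ShortComplex.mk a b w).ShortExact) [HasExt.{u} Y.Modules]
    (h1 : Subsingleton (Abelian.Ext.{u} ((Scheme.Modules.pullback c).obj E) N 1)) :
    ∃ ρ : P ⟶ (Scheme.Modules.pushforward c).obj N, a ≫ ρ = 𝟙 _ := by
  let adj := Scheme.Modules.pullbackPushforwardAdjunction c
  let pb := Scheme.Modules.pullback c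
  haveI : ((Scheme.Modules.pushforward c).obj N).IsQuasicoherent :=
    isQuasicoherent_pushforward_of_isAffineHom _ _
  haveI hε := isIso_counit c N
  haveI hmono : Mono (pb.map a) := mono_pullback_map c hE a b w hS
  have w₀ : pb.map a ≫ pb.map b = 0 := by rw [← Functor.map_comp, w, Functor.map_zero]
  have h30 := (Functor.preservesFiniteColimits_tfae pb).out 3 0
  have hpf : PreservesFiniteColimits pb := inferInstance
  have hex := h30.mp hpf (ShortComplex.mk a b w) hS
  have hS₀ : (ShortComplex.mk (pb.map a) (pb.map b) w₀).ShortExact :=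
    { exact := hex.1
      mono_f := hmono
      epi_g := hex.2 }
  have w₁ : (inv (adj.counit.app N) ≫ pb.map a) ≫ pb.map b = 0 := by
    rw [Category.assoc, w₀, comp_zero]
  have hiso : ShortComplex.mk (pb.map a) (pb.map b) w₀ ≅
      ShortComplex.mk (inv (adj.counit.app N) ≫ pb.map a) (pb.map b) w₁ :=
    ShortComplex.isoMk (asIso (adj.counit.app N)) (Iso.refl _) (Iso.refl _) (by simp) (by simp)
  have hS₁ : (ShortComplex.mk (inv (adj.counit.app N) ≫ pb.map a) (pb.map b) w₁).ShortExact :=
    ShortComplex.shortExact_of_iso hiso hS₀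
  have h0 : hS₁.extClass = 0 := @Subsingleton.elim _ h1 _ _
  obtain ⟨σ, hσ⟩ := (Groth.Agent.Helper19.Ribbon.extClass_eq_zero_iff hS₁).mp h0
  haveI := hS₁.mono_f
  obtain ⟨r₀, hr₀⟩ := Groth.Agent.Helper19.OmegaAlg.exists_retraction_of_exact hS₁.exact σ hσ
  have hr₁ : pb.map a ≫ r₀ = adj.counit.app N := by
    have : (inv (adj.counit.app N) ≫ pb.map a) ≫ r₀ = 𝟙 _ := hr₀
    rw [Category.assoc, IsIso.inv_comp_eq, Category.comp_id] at this
    exact this
  refine ⟨adj.unit.app P ≫ (Scheme.Modules.pushforward c).map r₀, ?_⟩
  have hnat := adj.unit.naturality a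
  simp only [Functor.id_obj, Functor.id_map, Functor.comp_obj, Functor.comp_map] at hnat
  rw [← Category.assoc, hnat, Category.assoc, ← Functor.map_comp]
  change _ ≫ (Scheme.Modules.pushforward c).map (pb.map a ≫ r₀) = _
  rw [hr₁]
  exact adj.right_triangle_components N

end Groth.Agent.Helper19.DefVB
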