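import Mathlib
import Groth.Agent.Helper19.DefVB1
set_option autoImplicit false
set_option linter.style.haveILetI false
set_option linter.unusedSectionVars false
universe u
open CategoryTheory CategoryTheory.Limits AlgebraicGeometry TopologicalSpace Opposite
open scoped TensorProduct
open Groth.Agent.Lib.Helper29.QCoh Groth.Agent.Lib.Helper12.H12ModGlue

/-! # Uniqueness of finite locally free lifts over a square-zero thickening when the ideal is a
direct image from a smaller closed subscheme (helper19) -/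

namespace Groth.Agent.Helper19.DefVB

open Groth.Agent.Helper19.LiftFLF

variable {X Y : Scheme.{u}} (I : X.IdealSheafData) (hI : I ^ 2 = ⊥)
  (c : Y ⟶ X) [IsClosedImmersion c]

include hI in
theorem exists_hom_extension {E F : X.Modules} (hE : FlatMod.IsFinLocFree E)
    (hF : FlatMod.IsFinLocFree F) (N : Y.Modules) [N.IsQuasicoherent]
    (θ : (Scheme.Modules.pushforward I.subschemeι).obj (TT I F) ≅
      (Scheme.Modules.pushforward c).obj N)
    [HasExt.{u} Y.Modules]
    (h1 : Subsingleton (Abelian.Ext.{u} ((Scheme.Modules.pullback c).obj E) N 1))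
    (u₀ : (Scheme.Modules.pullback I.subschemeι).obj E ⟶
      (Scheme.Modules.pullback I.subschemeι).obj F) :
    ∃ u : E ⟶ F, (Scheme.Modules.pullback I.subschemeι).map u = u₀ := by
  let adj := Scheme.Modules.pullbackPushforwardAdjunction I.subschemeι
  haveI : E.IsQuasicoherent := isQuasicoherent_of_isFinLocFree hE
  haveI : F.IsQuasicoherent := isQuasicoherent_of_isFinLocFree hF
  have hflat := fun V => flat_sections_of_isFinLocFree hF V
  haveI : ((Scheme.Modules.pushforward I.subschemeι).obj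
      ((Scheme.Modules.pullback I.subschemeι).obj F)).IsQuasicoherent :=
    isQuasicoherent_pushforward_of_isAffineHom _ _
  haveI : ((Scheme.Modules.pushforward I.subschemeι).obj (TT I F)).IsQuasicoherent :=
    isQuasicoherent_pushforward_of_isAffineHom _ _
  let ut : E ⟶ (Scheme.Modules.pushforward I.subschemeι).obj
      ((Scheme.Modules.pullback I.subschemeι).obj F) := adj.homEquiv E _ u₀
  let κ := kap I hI F
  haveI : Epi (ηη I F) := epi_ηη I F
  haveI : Mono κ := mono_kap I hI F hflat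
  let pr₁ : pullback ut (ηη I F) ⟶ E := pullback.fst ut (ηη I F)
  let pr₂ : pullback ut (ηη I F) ⟶ F := pullback.snd ut (ηη I F)
  have hcond : pr₁ ≫ ut = pr₂ ≫ ηη I F := pullback.condition
  have ha0 : (0 : (Scheme.Modules.pushforward I.subschemeι).obj (TT I F) ⟶ E) ≫ ut =
      κ ≫ ηη I F := by rw [zero_comp, kap_ηη]
  let a' : (Scheme.Modules.pushforward I.subschemeι).obj (TT I F) ⟶ pullback ut (ηη I F) :=
    pullback.lift 0 κ ha0
  have ha1 : a' ≫ pr₁ = 0 := pullback.lift_fst _ _ _
  have ha2 : a' ≫ pr₂ = κ := pullback.lift_snd _ _ _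
  haveI : Mono a' := mono_of_mono_fac ha2
  haveI : Epi pr₁ := Abelian.epi_pullback_of_epi_g ut (ηη I F)
  have hfac : ∀ {Z : X.Modules} (t : Z ⟶ pullback ut (ηη I F)), t ≫ pr₁ = 0 →
      ∃ t₁ : Z ⟶ (Scheme.Modules.pushforward I.subschemeι).obj (TT I F), t₁ ≫ a' = t := by
    intro Z t ht
    have h2 : (t ≫ pr₂) ≫ ηη I F = 0 := by
      rw [Category.assoc, ← hcond, ← Category.assoc, ht, zero_comp]
    obtain ⟨t₁, ht₁⟩ := exists_factor I hI F hflat (t ≫ pr₂) h2
    refine ⟨t₁, ?_⟩
    apply pullback.hom_ext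
    · change (t₁ ≫ a') ≫ pr₁ = t ≫ pr₁
      rw [Category.assoc, ha1, comp_zero, ht]
    · change (t₁ ≫ a') ≫ pr₂ = t ≫ pr₂
      rw [Category.assoc, ha2, ht₁]
  have hlim : IsLimit (KernelFork.ofι a' ha1) :=
    KernelFork.IsLimit.ofι _ _
      (fun t ht => (hfac t ht).choose)
      (fun t ht => (hfac t ht).choose_spec)
      (fun t ht m hm => by
        rw [← cancel_mono a', hm, (hfac t ht).choose_spec])
  have hS : (ShortComplex.mk a' pr₁ ha1).ShortExact :=
    ShortComplex.ShortExact.mk (ShortComplex.exact_of_f_is_kernel _ hlim)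
  -- transport along `θ`
  have ha1' : (θ.inv ≫ a') ≫ pr₁ = 0 := by rw [Category.assoc, ha1, comp_zero]
  have hiso : ShortComplex.mk a' pr₁ ha1 ≅ ShortComplex.mk (θ.inv ≫ a') pr₁ ha1' :=
    ShortComplex.isoMk θ (Iso.refl _) (Iso.refl _) (by simp) (by simp)
  have hS' : (ShortComplex.mk (θ.inv ≫ a') pr₁ ha1').ShortExact :=
    ShortComplex.shortExact_of_iso hiso hS
  obtain ⟨ρ', hρ'⟩ := exists_retraction_of_ext_subsingleton c hE N (θ.inv ≫ a') pr₁ ha1' hS' h1
  have hρ : a' ≫ (ρ' ≫ θ.inv) = 𝟙 _ := by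
    have h3 : θ.hom ≫ ((θ.inv ≫ a') ≫ ρ') ≫ θ.inv = 𝟙 _ := by
      rw [hρ', Category.id_comp, θ.hom_inv_id]
    simpa using h3
  let spl := ShortComplex.Splitting.ofExactOfRetraction (ShortComplex.mk a' pr₁ ha1) hS.exact
    (ρ' ≫ θ.inv) hρ (inferInstanceAs (Epi pr₁))
  have hs : spl.s ≫ pr₁ = 𝟙 E := spl.s_g
  refine ⟨spl.s ≫ pr₂, ?_⟩
  apply (adj.homEquiv E _).injective
  change _ = ut
  rw [Adjunction.homEquiv_unit]
  have hnat := adj.unit.naturality (spl.s ≫ pr₂)
  simp only [Functor.id_obj, Functor.id_map, Functor.comp_obj, Functor.comp_map] at hnat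
  rw [← hnat, Category.assoc]
  change spl.s ≫ pr₂ ≫ ηη I F = ut
  rw [← hcond, ← Category.assoc, hs, Category.id_comp]

include hI in
/-- **Uniqueness of finite locally free lifts** over a square-zero thickening defined by `I`
when `ι_*(I₀ ⊗ ι^*E') ≅ c_* N` for a closed immersion `c : Y → X` and `Ext¹_Y(c^*E, N) = 0`. -/
theorem nonempty_iso_of_ext_subsingleton {E E' : X.Modules} (hE : FlatMod.IsFinLocFree E)
    (hE' : FlatMod.IsFinLocFree E')
    (e : (Scheme.Modules.pullback I.subschemeι).obj E ≅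
      (Scheme.Modules.pullback I.subschemeι).obj E')
    (N : Y.Modules) [N.IsQuasicoherent]
    (θ : (Scheme.Modules.pushforward I.subschemeι).obj (TT I E') ≅
      (Scheme.Modules.pushforward c).obj N)
    [HasExt.{u} Y.Modules]
    (h1 : Subsingleton (Abelian.Ext.{u} ((Scheme.Modules.pullback c).obj E) N 1)) :
    Nonempty (E ≅ E') := by
  obtain ⟨u, hu⟩ := exists_hom_extension I hI c hE hE' N θ h1 e.hom
  have hiso : IsIso ((Scheme.Modules.pullback I.subschemeι).map u) := by
    rw [hu]; infer_instance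
  haveI := isIso_of_isIso_pullback_map I hI hE hE' u hiso
  exact ⟨asIso u⟩

end Groth.Agent.Helper19.DefVB
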