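import Mathlib
import Groth.Agent.Lib.Helper17.ProjFormula
import Groth.Prelude.Def_DCoh4
import Groth.Agent.Helper19.LiftFLF10
set_option autoImplicit false
set_option linter.style.haveILetI false
set_option linter.unusedSectionVars false
universe u
open CategoryTheory CategoryTheory.Limits AlgebraicGeometry TopologicalSpace Opposite
open Groth.Agent.Lib.Helper29.QCoh

/-! # `Ext¹(P, O^n ⊗ B) = 0` when `Ext¹(P, B) = 0` (helper19) -/

namespace Groth.Agent.Helper19.DefVB

variable {Y : Scheme.{u}}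

theorem subsingleton_ext_tensor_free [HasExt.{u} Y.Modules] (P B : Y.Modules) (n : ℕ)
    (h : Subsingleton (Abelian.Ext.{u} P B 1)) :
    Subsingleton (Abelian.Ext.{u} P (CohB1.tensorMod (FlatMod.freeMod Y n) B) 1) := by
  let f : Fin n → Y.Modules := fun _ => Coh.structureModule Y
  let c₀ : Bicone f := Bicone.ofColimitCocone (coproductIsCoproduct f)
  have hc₀ : c₀.IsBilimit := biconeIsBilimitOfColimitCoconeOfIsColimit (coproductIsCoproduct f)
  let Φ : Y.Modules ⥤ Y.Modules := (DCoh.tensorBi (X := Y)).flip.obj B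
  haveI : Φ.Additive := ⟨by intros; simp [Φ]⟩
  let c₁ := Φ.mapBicone c₀
  have hc₁ : c₁.IsBilimit := isBilimitOfPreserves Φ hc₀
  have e := Abelian.Ext.addEquivBiproduct P hc₁ 1
  have hpi : Subsingleton (∀ i : Fin n, Abelian.Ext.{u} P ((Φ.obj ∘ f) i) 1) := by
    haveI : ∀ i : Fin n, Subsingleton (Abelian.Ext.{u} P ((Φ.obj ∘ f) i) 1) := by
      intro i
      have τ : B ≅ (Φ.obj ∘ f) i :=
        ((Groth.Agent.Lib.Helper17.ProjFormula.leftUnitNatIso (O := Y.sheaf)).app B).symm
      exact Groth.Agent.Helper19.LiftFLF.subsingleton_ext_of_iso τ 1 h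
    infer_instance
  have : Subsingleton (Abelian.Ext.{u} P c₁.pt 1) := e.toEquiv.subsingleton
  exact this

end Groth.Agent.Helper19.DefVB
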