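import Mathlib
import Groth.Agent.Helper19.DefVB2
import Groth.Agent.Lib.Helper5.ProjFormulaLF
import Groth.Agent.Lib.Helper5.LocBasisScheme
import Groth.Agent.Lib.Helper29.QCohLocFree
import Groth.Agent.Lib.Helper29.QCohIdealMod
import Groth.Prelude.Def_DCoh4
set_option autoImplicit false
set_option linter.style.haveILetI false
set_option linter.unusedSectionVars false
universe u
open CategoryTheory CategoryTheory.Limits AlgebraicGeometry TopologicalSpace Opposite
open scoped TensorProduct
open Groth.Agent.Lib.Helper29.QCoh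

/-! # The ideal sheaf as a direct image of a free module from a smaller closed subscheme
(helper19) -/

namespace Groth.Agent.Helper19.DefVB

open Groth.Agent.Helper19.LiftFLF

variable {X Y : Scheme.{u}} (c : Y ⟶ X) [IsClosedImmersion c] (I : X.IdealSheafData)

set_option maxRecDepth 8000 in
theorem isIso_pullback_map_of_lTensor_bijective {M N : X.Modules} [M.IsQuasicoherent]
    [N.IsQuasicoherent] (v : M ⟶ N)
    (hv : ∀ V : X.affineOpens,
      letI := (c.appLE V.1 (c ⁻¹ᵁ V.1) le_rfl).hom.toAlgebra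
      Function.Bijective (LinearMap.lTensor Γ(Y, c ⁻¹ᵁ V.1) (appₗ v V.1))) :
    IsIso ((Scheme.Modules.pullback c).map v) := by
  haveI : ((Scheme.Modules.pullback c).obj M).IsQuasicoherent := isQuasicoherent_pullback _ _
  haveI : ((Scheme.Modules.pullback c).obj N).IsQuasicoherent := isQuasicoherent_pullback _ _
  refine isIso_of_app_bijective_of_affine_cover ((Scheme.Modules.pullback c).map v)
    (fun V : X.affineOpens => c ⁻¹ᵁ V.1) (fun V => V.2.preimage c) ?_ ?_
  · intro y
    obtain ⟨V, hV, hx, -⟩ := Opens.isBasis_iff_nbhd.mp X.isBasis_affineOpens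
      (show c y ∈ (⊤ : X.Opens) from trivial)
    exact ⟨⟨V, hV⟩, hx⟩
  · intro V
    letI := (c.appLE V.1 (c ⁻¹ᵁ V.1) le_rfl).hom.toAlgebra
    have hU : IsAffineOpen (c ⁻¹ᵁ V.1) := V.2.preimage c
    have hb := hv V
    have hnat := Groth.Agent.Lib.Helper12.H12FlatLim.pullbackSectionsEquiv_map c v hU
      V.2 le_rfl
    have heq : ⇑(((Scheme.Modules.pullback c).map v).app (c ⁻¹ᵁ V.1)) =
        (pullbackSectionsEquiv c N hU V.2 le_rfl).symm ∘
          (LinearMap.lTensor Γ(Y, c ⁻¹ᵁ V.1) (appₗ v V.1)) ∘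
          (pullbackSectionsEquiv c M hU V.2 le_rfl) := by
      funext t
      simp only [Function.comp_apply]
      rw [← hnat, LinearEquiv.symm_apply_apply]
    rw [heq]
    exact (pullbackSectionsEquiv c N hU V.2 le_rfl).symm.bijective.comp
      (hb.comp (pullbackSectionsEquiv c M hU V.2 le_rfl).bijective)

theorem nonempty_idealMod_iso_push (n : ℕ) (v : FlatMod.freeMod X n ⟶ ClSub.idealMod I)
    (hkill : ∀ (U : X.affineOpens) (a : Γ(X, U.1)), a ∈ c.ker.ideal U →
      ∀ s : Γ(ClSub.idealMod I, U.1), a • s = 0)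
    (hv : ∀ V : X.affineOpens,
      letI := (c.appLE V.1 (c ⁻¹ᵁ V.1) le_rfl).hom.toAlgebra
      Function.Bijective (LinearMap.lTensor Γ(Y, c ⁻¹ᵁ V.1) (appₗ v V.1))) :
    Nonempty (ClSub.idealMod I ≅ (Scheme.Modules.pushforward c).obj (FlatMod.freeMod Y n)) := by
  let adj := Scheme.Modules.pullbackPushforwardAdjunction c
  haveI : (FlatMod.freeMod X n).IsQuasicoherent :=
    isQuasicoherent_of_isFinLocFree (isFinLocFree_freeMod X n)
  haveI hη : IsIso (adj.unit.app (ClSub.idealMod I)) :=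
    Groth.Agent.Helper19.ClImmUnit.isIso_unit_of_killed c (ClSub.idealMod I) hkill
  haveI hpv : IsIso ((Scheme.Modules.pullback c).map v) :=
    isIso_pullback_map_of_lTensor_bijective c v hv
  exact ⟨asIso (adj.unit.app (ClSub.idealMod I)) ≪≫
    (Scheme.Modules.pushforward c).mapIso ((asIso ((Scheme.Modules.pullback c).map v)).symm ≪≫
      pullbackFreeModIso c n)⟩

/-- The isomorphism `ι_*(I₀ ⊗ ι^*E') ≅ c_*(O^n ⊗ c^*E')`. -/
theorem nonempty_push_TT_iso (hI : I ^ 2 = ⊥) (n : ℕ)
    (φ : ClSub.idealMod I ≅ (Scheme.Modules.pushforward c).obj (FlatMod.freeMod Y n))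
    {E' : X.Modules} (hE' : FlatMod.IsFinLocFree E') :
    Nonempty ((Scheme.Modules.pushforward I.subschemeι).obj (TT I E') ≅
      (Scheme.Modules.pushforward c).obj
        (CohB1.tensorMod (FlatMod.freeMod Y n) ((Scheme.Modules.pullback c).obj E'))) := by
  haveI : E'.IsQuasicoherent := isQuasicoherent_of_isFinLocFree hE'
  haveI := isIso_cmpMap I hI E'
  let e1 : CohB1.tensorMod (ClSub.idealMod I) E' ≅
      (Scheme.Modules.pushforward I.subschemeι).obj (TT I E') := asIso (cmpMap I E')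
  let e2 : CohB1.tensorMod (ClSub.idealMod I) E' ≅
      CohB1.tensorMod ((Scheme.Modules.pushforward c).obj (FlatMod.freeMod Y n)) E' :=
    ((DCoh.tensorBi (X := X)).mapIso φ).app E'
  let e3 : CohB1.tensorMod ((Scheme.Modules.pushforward c).obj (FlatMod.freeMod Y n)) E' ≅
      (Scheme.Modules.pushforward c).obj
        (CohB1.tensorMod (FlatMod.freeMod Y n) ((Scheme.Modules.pullback c).obj E')) :=
    Groth.Agent.Lib.Helper5.ProjFormulaLF.PiIso c E' (FlatMod.freeMod Y n)
      (Groth.Agent.Lib.Helper5.LocBasisScheme.hasLocBases_of_isFinLocFree E' hE')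
  exact ⟨e1.symm ≪≫ e2 ≪≫ e3⟩

end Groth.Agent.Helper19.DefVB
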