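import Mathlib
set_option autoImplicit false
set_option linter.style.haveILetI false
set_option linter.unusedSectionVars false
universe u
open scoped TensorProduct

/-! # Minimal generators of an ideal of a local ring, and their behaviour under flat base change
(helper19) -/

namespace Groth.Agent.Helper19.DefVB

theorem exists_min_gens {R : Type u} [CommRing R] [IsLocalRing R] (J : Ideal R) (hJ : J.FG) :
    ∃ (ι : Type u) (_ : Fintype ι) (t : ι → R), (∀ i, t i ∈ J) ∧
      (∀ j ∈ J, ∃ x : ι → R, j = ∑ i, t i * x i) ∧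
      (∀ x : ι → R, ∑ i, t i * x i = 0 → ∀ i, x i ∈ IsLocalRing.maximalIdeal R) := by
  classical
  let s : Set R := Submodule.generators J
  have hsfin : s.Finite := Submodule.FG.finite_generators hJ
  have hspan : Submodule.span R s = J := Submodule.span_generators J
  have hcard : s.ncard = Submodule.spanFinrank J := Submodule.FG.generators_ncard hJ
  letI : Fintype s := hsfin.fintype
  refine ⟨s, inferInstance, Subtype.val, ?_, ?_, ?_⟩
  · intro i
    rw [← hspan]
    exact Submodule.subset_span i.2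
  · intro j hj
    rw [← hspan] at hj
    have hr : Set.range (Subtype.val : s → R) = s := Subtype.range_coe
    rw [← hr] at hj
    obtain ⟨c, hc⟩ := (Submodule.mem_span_range_iff_exists_fun R).mp hj
    refine ⟨c, ?_⟩
    rw [← hc]
    exact Finset.sum_congr rfl (fun i _ => by rw [smul_eq_mul, mul_comm])
  · intro x hx i₀
    by_contra hni
    have hu : IsUnit (x i₀) := by
      by_contra h
      exact hni ((IsLocalRing.mem_maximalIdeal _).mpr h)
    obtain ⟨u, hu⟩ := hu
    -- `t i₀` lies in the span of the others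
    have hmem : (i₀ : R) ∈ Submodule.span R (s \ {(i₀ : R)}) := by
      have h1 : (i₀ : R) * x i₀ = - ∑ i ∈ Finset.univ.erase i₀, (i : R) * x i := by
        rw [eq_neg_iff_add_eq_zero, ← hx, ← Finset.add_sum_erase Finset.univ _ (Finset.mem_univ i₀)]
      have h2 : (i₀ : R) = (↑u⁻¹ : R) * ((i₀ : R) * x i₀) := by
        rw [← hu, mul_left_comm, Units.inv_mul, mul_one]
      have h3 : (i₀ : R) = (↑u⁻¹ : R) * (- ∑ i ∈ Finset.univ.erase i₀, (i : R) * x i) := by
        rw [← h1]; exact h2
      have key : (↑u⁻¹ : R) * (- ∑ i ∈ Finset.univ.erase i₀, (i : R) * x i) ∈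
          Submodule.span R (s \ {(i₀ : R)}) := ?_
      · rwa [← h3] at key
      refine Submodule.smul_mem _ _ (Submodule.neg_mem _ (Submodule.sum_mem _ (fun i hi => ?_)))
      have hcomm : (i : R) * x i = x i • (i : R) := by rw [smul_eq_mul, mul_comm]
      rw [hcomm]
      refine Submodule.smul_mem _ (x i) (Submodule.subset_span ⟨i.2, ?_⟩)
      intro h
      exact (Finset.mem_erase.mp hi).1 (Subtype.ext (Set.mem_singleton_iff.mp h))
    have hspan' : Submodule.span R (s \ {(i₀ : R)}) = J := by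
      apply le_antisymm
      · rw [← hspan]
        exact Submodule.span_mono Set.diff_subset
      · rw [← hspan, Submodule.span_le]
        intro y hy
        by_cases hyi : y = (i₀ : R)
        · rw [hyi]; exact hmem
        · exact Submodule.subset_span ⟨hy, hyi⟩
    have hle := Submodule.spanFinrank_span_le_ncard_of_finite (R := R) (hsfin.diff (t := {(i₀ : R)}))
    rw [hspan', ← hcard] at hle
    have hlt : (s \ {(i₀ : R)}).ncard < s.ncard :=
      Set.ncard_diff_singleton_lt_of_mem i₀.2 hsfin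
    omega

section flat

variable {R B : Type u} [CommRing R] [CommRing B] (φ : R →+* B) (hφ : φ.Flat)
  (𝔪 J : Ideal R) (h𝔪J : 𝔪 * J = ⊥) {ι : Type u} [Fintype ι] (t : ι → R) (ht : ∀ i, t i ∈ J)
  (H1 : ∀ j ∈ J, ∃ x : ι → R, j = ∑ i, t i * x i)
  (H2 : ∀ x : ι → R, ∑ i, t i * x i = 0 → ∀ i, x i ∈ 𝔪)

include H1 in
theorem gen_map (b : B) (hb : b ∈ J.map φ) : ∃ x : ι → B, b = ∑ i, φ (t i) * x i := by
  refine Submodule.span_induction (p := fun z _ => ∃ x : ι → B, z = ∑ i, φ (t i) * x i)
    ?_ ?_ ?_ ?_ hb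
  · rintro _ ⟨y, hy, rfl⟩
    obtain ⟨x, hx⟩ := H1 y hy
    refine ⟨fun i => φ (x i), ?_⟩
    change φ y = _
    rw [hx, map_sum]
    exact Finset.sum_congr rfl (fun i _ => map_mul _ _ _)
  · exact ⟨0, by simp⟩
  · rintro z z' _ _ ⟨x, hx⟩ ⟨x', hx'⟩
    refine ⟨x + x', ?_⟩
    rw [hx, hx', ← Finset.sum_add_distrib]
    exact Finset.sum_congr rfl (fun i _ => by rw [Pi.add_apply, mul_add])
  · rintro r z _ ⟨x, hx⟩
    refine ⟨fun i => r * x i, ?_⟩
    rw [hx, smul_eq_mul, Finset.mul_sum]
    exact Finset.sum_congr rfl (fun i _ => by ring)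

include h𝔪J ht in
theorem rel_map_of_mem (x : ι → B) (hx : ∀ i, x i ∈ 𝔪.map φ) : ∑ i, φ (t i) * x i = 0 := by
  refine Finset.sum_eq_zero (fun i _ => ?_)
  refine Submodule.span_induction (p := fun z _ => φ (t i) * z = 0) ?_ ?_ ?_ ?_ (hx i)
  · rintro _ ⟨y, hy, rfl⟩
    change φ (t i) * φ y = 0
    rw [← map_mul]
    have : y * t i ∈ 𝔪 * J := Ideal.mul_mem_mul hy (ht i)
    rw [h𝔪J, Ideal.mem_bot] at this
    rw [mul_comm, this, map_zero]
  · rw [mul_zero]
  · intro z z' _ _ hz hz'
    rw [mul_add, hz, hz', add_zero]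
  · intro r z _ hz
    rw [smul_eq_mul, mul_left_comm, hz, mul_zero]

include hφ H2 in
theorem mem_of_rel_map (x : ι → B) (hx : ∑ i, φ (t i) * x i = 0) : ∀ i, x i ∈ 𝔪.map φ := by
  classical
  letI := φ.toAlgebra
  haveI : Module.Flat R B := hφ
  -- reindex by `Fin l`
  let e : ι ≃ Fin (Fintype.card ι) := Fintype.equivFin ι
  have hrel : ∑ k : Fin (Fintype.card ι), (t (e.symm k)) • x (e.symm k) = 0 := by
    rw [← hx, ← Equiv.sum_comp e.symm]
    exact Finset.sum_congr rfl (fun k _ => by rw [Algebra.smul_def]; rfl)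
  obtain ⟨k, aa, y, hy1, hy2⟩ :=
    (Module.Flat.iff_forall_isTrivialRelation (R := R) (M := B)).mp inferInstance hrel
  have haa : ∀ l j, aa l j ∈ 𝔪 := by
    intro l j
    have h := H2 (fun i => aa (e i) j) ?_ (e.symm l)
    · simpa using h
    · rw [← hy2 j, ← Equiv.sum_comp e.symm]
      exact Finset.sum_congr rfl (fun l _ => by simp)
  intro i
  have hi : x i = ∑ j, aa (e i) j • y j := by
    have h := hy1 (e i)
    simpa using h
  rw [hi]
  refine Ideal.sum_mem _ (fun j _ => ?_)
  rw [Algebra.smul_def]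
  exact Ideal.mul_mem_right _ _ (Ideal.mem_map_of_mem _ (haa (e i) j))

end flat

end Groth.Agent.Helper19.DefVB
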