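import Mathlib
import Groth.Agent.Helper19.DefVB6
import Groth.Agent.Helper19.RegImmBC
import Groth.Agent.Lib.Helper22.Adic.IdealIso
set_option autoImplicit false
set_option linter.style.haveILetI false
set_option linter.unusedSectionVars false
universe u
open CategoryTheory CategoryTheory.Limits AlgebraicGeometry TopologicalSpace Opposite

/-! # The ideal of the base change of a semismall extension along a flat morphism (helper19) -/

namespace Groth.Agent.Helper19.DefVB

open Groth.Agent.Lib.Helper22.Adic Groth.Agent.Lib.Helper29.QCoh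

section

variable {C' : Type u} [CommRing C'] {T' : Scheme.{u}} (f' : T' ⟶ Spec (CommRingCat.of C'))

/-- the ring map `C' → Γ(T', U)` -/
noncomputable def φU (U : T'.Opens) : C' →+* Γ(T', U) :=
  ((Scheme.ΓSpecIso (CommRingCat.of C')).inv ≫ f'.appLE ⊤ U le_top).hom

theorem rres_φU {U V : T'.Opens} (h : V ≤ U) (z : C') :
    rres T' h (φU f' U z) = φU f' V z := by
  have h1 := Scheme.Hom.appLE_map f' (U := ⊤) (V := U) (V' := V) le_top (homOfLE h).op
  have h2 := congrArg (fun k => k.hom ((Scheme.ΓSpecIso (CommRingCat.of C')).inv.hom z)) h1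
  exact h2

theorem flat_φU [Flat f'] (U : T'.affineOpens) : (φU f' U.1).Flat := by
  unfold φU
  have h1 : ((Scheme.ΓSpecIso (CommRingCat.of C')).inv).hom.Flat :=
    RingHom.Flat.of_bijective
      (ConcreteCategory.bijective_of_isIso (Scheme.ΓSpecIso (CommRingCat.of C')).inv)
  have h2 : (f'.appLE ⊤ U.1 le_top).hom.Flat :=
    HasRingHomProperty.appLE (P := @Flat) f' inferInstance
      ⟨⊤, isAffineOpen_top _⟩ U le_top
  exact RingHom.Flat.comp h1 h2

variable {C : Type u} [CommRing C] (π : C' →+* C) (hπ : Function.Surjective π)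
  {W : Scheme.{u}} (q : W ⟶ T') (w : W ⟶ Spec (CommRingCat.of C))
  (hq : IsPullback w q (Spec.map (CommRingCat.ofHom π)) f')

theorem ker_appTop_specMap :
    RingHom.ker ((Spec.map (CommRingCat.ofHom π)).app ⊤).hom =
      Ideal.map (Scheme.ΓSpecIso (CommRingCat.of C')).inv.hom (RingHom.ker π) := by
  have hnat := Scheme.ΓSpecIso_inv_naturality (CommRingCat.ofHom π)
  have hnat' : ∀ y : C', ((Spec.map (CommRingCat.ofHom π)).app ⊤).hom
      ((Scheme.ΓSpecIso (CommRingCat.of C')).inv.hom y) =
      (Scheme.ΓSpecIso (CommRingCat.of C)).inv.hom (π y) := by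
    intro y
    exact (congrArg (fun k => k.hom y) hnat).symm
  have hinj : Function.Injective (Scheme.ΓSpecIso (CommRingCat.of C)).inv.hom :=
    (ConcreteCategory.bijective_of_isIso (Scheme.ΓSpecIso (CommRingCat.of C)).inv).1
  apply le_antisymm
  · intro z hz
    rw [RingHom.mem_ker] at hz
    have hz' : z = (Scheme.ΓSpecIso (CommRingCat.of C')).inv.hom
        ((Scheme.ΓSpecIso (CommRingCat.of C')).hom.hom z) := by
      change z = ((Scheme.ΓSpecIso (CommRingCat.of C')).hom ≫
        (Scheme.ΓSpecIso (CommRingCat.of C')).inv).hom z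
      rw [Iso.hom_inv_id]
      rfl
    rw [hz']
    apply Ideal.mem_map_of_mem
    rw [RingHom.mem_ker]
    apply hinj
    rw [← hnat', ← hz', hz, map_zero]
    rfl
  · rw [Ideal.map_le_iff_le_comap]
    intro y hy
    rw [RingHom.mem_ker] at hy
    rw [Ideal.mem_comap, RingHom.mem_ker, hnat', hy, map_zero]
    rfl

include hπ hq in
theorem ker_app_eq (U : T'.affineOpens) :
    RingHom.ker (q.app U.1).hom = (RingHom.ker π).map (φU f' U.1) := by
  haveI : IsClosedImmersion (Spec.map (CommRingCat.ofHom π)) :=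
    IsClosedImmersion.spec_of_surjective _ hπ
  haveI : IsClosedImmersion (Spec.map (CommRingCat.ofHom π) ∣_ (⊤ : (Spec (CommRingCat.of C')).Opens)) :=
    IsZariskiLocalAtTarget.restrict ‹_› _
  have h := Groth.Agent.Helper19.RegImmBC.ker_app_baseChange hq
    ⟨⊤, isAffineOpen_top _⟩ U le_top
  rw [h, ker_appTop_specMap, Ideal.map_map]
  rfl

end

section main

variable {C' C K : Type u} [CommRing C'] [CommRing C] [CommRing K] [IsLocalRing C']
  [IsNoetherianRing C']
  (π : C' →+* C) (hπ : Function.Surjective π) (ρ : C' →+* K) (hρ : Function.Surjective ρ)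
  (hker : RingHom.ker ρ = IsLocalRing.maximalIdeal C')
  (hmJ : IsLocalRing.maximalIdeal C' * RingHom.ker π = ⊥)
  {T' W X₀ : Scheme.{u}} (f' : T' ⟶ Spec (CommRingCat.of C')) [Flat f']
  (q : W ⟶ T') [IsClosedImmersion q] (w : W ⟶ Spec (CommRingCat.of C))
  (hq : IsPullback w q (Spec.map (CommRingCat.ofHom π)) f')
  (c : X₀ ⟶ T') [IsClosedImmersion c] (x' : X₀ ⟶ Spec (CommRingCat.of K))
  (hc : IsPullback x' c (Spec.map (CommRingCat.ofHom ρ)) f')

include hπ hρ hker hmJ hq hc in
theorem exists_hyp : ∃ (ι : Type u) (_ : Fintype ι) (a : ι → Γ(T', ⊤)), Hyp q.ker c a := by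
  obtain ⟨ι, hι, t, ht, H1, H2⟩ := exists_min_gens (RingHom.ker π)
    (IsNoetherian.noetherian (RingHom.ker π))
  refine ⟨ι, hι, fun i => φU f' ⊤ (t i), ?_⟩
  have haU : ∀ (U : T'.Opens) (i : ι), aU (fun i => φU f' ⊤ (t i)) i U = φU f' U (t i) :=
    fun U i => rres_φU f' le_top (t i)
  have hqk : ∀ U : T'.affineOpens, q.ker.ideal U = (RingHom.ker π).map (φU f' U.1) := by
    intro U
    rw [Scheme.Hom.ker_apply]
    exact ker_app_eq f' π hπ q w hq U
  have hck : ∀ U : T'.affineOpens,
      RingHom.ker (c.app U.1).hom = (IsLocalRing.maximalIdeal C').map (φU f' U.1) := by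
    intro U
    rw [← hker]
    exact ker_app_eq f' ρ hρ c x' hc U
  refine ⟨?_, ?_, ?_⟩
  · intro U i
    rw [haU, hqk]
    exact Ideal.mem_map_of_mem _ (ht i)
  · intro U b hb
    rw [hqk] at hb
    obtain ⟨x, hx⟩ := gen_map (φU f' U.1) (RingHom.ker π) t H1 b hb
    refine ⟨x, ?_⟩
    rw [hx]
    exact Finset.sum_congr rfl (fun i _ => by rw [haU])
  · intro U x
    have hsum : ∑ i, aU (fun i => φU f' ⊤ (t i)) i U.1 * x i = ∑ i, φU f' U.1 (t i) * x i :=
      Finset.sum_congr rfl (fun i _ => by rw [haU])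
    rw [hsum]
    constructor
    · intro h i
      have := mem_of_rel_map (φU f' U.1) (flat_φU f' U) (IsLocalRing.maximalIdeal C') t H2 x h i
      rw [← hck U, RingHom.mem_ker] at this
      exact this
    · intro h
      refine rel_map_of_mem (φU f' U.1) (IsLocalRing.maximalIdeal C') (RingHom.ker π) hmJ t ht x ?_
      intro i
      rw [← hck U, RingHom.mem_ker]
      exact h i

end main

end Groth.Agent.Helper19.DefVB
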