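import Mathlib
import Groth.Agent.Helper19.DefVB4
import Groth.Agent.Helper19.DefVB5
import Groth.Agent.Helper19.DefVB7
set_option autoImplicit false
set_option linter.style.haveILetI false
set_option linter.unusedSectionVars false
universe u
open CategoryTheory CategoryTheory.Limits AlgebraicGeometry TopologicalSpace Opposite
open Groth.Agent.Lib.Helper29.QCoh

/-! # Uniqueness of finite locally free lifts along the base change of a semismall extension
(helper19) -/

namespace Groth.Agent.Helper19.DefVB

open Groth.Agent.Helper19.LiftFLF Groth.Agent.Lib.Helper22.Adic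

set_option backward.isDefEq.respectTransparency false in
theorem preservesBiproduct_of_additive' {C D : Type*} [Category C] [Category D] [Preadditive C]
    [Preadditive D] (F : C ⥤ D) [F.Additive] {J : Type*} [Fintype J] (f : J → C) :
    PreservesBiproduct f F :=
  { preserves := fun hb =>
      ⟨isBilimitOfTotal _ (by
        simp_rw [F.mapBicone_π, F.mapBicone_ι, ← F.map_comp]
        erw [← F.map_sum, ← F.map_id, IsBilimit.total hb])⟩ }

/-- `(c_* O_Y)^ι ≅ c_* (O_Y^n)`. -/
noncomputable def biproductPushIso {X Y : Scheme.{u}} (c : Y ⟶ X) {ι : Type u} [Fintype ι] :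
    (⨁ fun _ : ι => (Scheme.Modules.pushforward c).obj (unitM Y)) ≅
      (Scheme.Modules.pushforward c).obj (FlatMod.freeMod Y (Fintype.card ι)) := by
  haveI : (Scheme.Modules.pushforward c).Additive := inferInstance
  haveI := preservesBiproduct_of_additive' (Scheme.Modules.pushforward c) (fun _ : ι => unitM Y)
  let e1 := ((Scheme.Modules.pushforward c).mapBiproduct (fun _ : ι => unitM Y)).symm
  let e2 : (⨁ fun _ : ι => unitM Y) ≅ FlatMod.freeMod Y (Fintype.card ι) :=
    biproduct.isoCoproduct _ ≪≫
      Sigma.whiskerEquiv (f := fun _ : ι => unitM Y)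
        (g := fun _ : Fin (Fintype.card ι) => Coh.structureModule Y)
        (Fintype.equivFin ι) (fun _ => Iso.refl _)
  exact e1 ≪≫ (Scheme.Modules.pushforward c).mapIso e2

/-- Transport an isomorphism of pullbacks along a closed immersion `q` to the pullbacks along
the inclusion of the closed subscheme defined by `q.ker`. -/
noncomputable def pullbackKerIso {T' W : Scheme.{u}} (q : W ⟶ T') [IsClosedImmersion q]
    {E E' : T'.Modules}
    (e : (Scheme.Modules.pullback q).obj E ≅ (Scheme.Modules.pullback q).obj E') :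
    (Scheme.Modules.pullback q.ker.subschemeι).obj E ≅
      (Scheme.Modules.pullback q.ker.subschemeι).obj E' := by
  let ψ : W ≅ q.ker.subscheme := asIso q.toImage
  have hψ : ψ.inv ≫ q = q.ker.subschemeι := by
    rw [Iso.inv_comp_eq]
    exact q.toImage_imageι.symm
  exact (Scheme.Modules.pullbackCongr hψ).symm.app E ≪≫
    (Scheme.Modules.pullbackComp ψ.inv q).symm.app E ≪≫
    (Scheme.Modules.pullback ψ.inv).mapIso e ≪≫
    (Scheme.Modules.pullbackComp ψ.inv q).app E' ≪≫
    (Scheme.Modules.pullbackCongr hψ).app E'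

section main

variable {C' C K : Type u} [CommRing C'] [CommRing C] [CommRing K] [IsLocalRing C']
  [IsNoetherianRing C']
  (π : C' →+* C) (hπ : Function.Surjective π) (ρ : C' →+* K) (hρ : Function.Surjective ρ)
  (hker : RingHom.ker ρ = IsLocalRing.maximalIdeal C')
  (hmJ : IsLocalRing.maximalIdeal C' * RingHom.ker π = ⊥)
  {T' W X₀ : Scheme.{u}} (f' : T' ⟶ Spec (CommRingCat.of C')) [Flat f']
  (q : W ⟶ T') [IsClosedImmersion q] (w : W ⟶ Spec (CommRingCat.of C))
  (hq : IsPullback w q (Spec.map (CommRingCat.ofHom π)) f')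
  (c : X₀ ⟶ T') [IsClosedImmersion c] (x' : X₀ ⟶ Spec (CommRingCat.of K))
  (hc : IsPullback x' c (Spec.map (CommRingCat.ofHom ρ)) f')

include hπ hρ hker hmJ hq hc in
theorem nonempty_iso_of_semismall (hJ2 : q.ker ^ 2 = ⊥)
    {E E' : T'.Modules} (hE : FlatMod.IsFinLocFree E) (hE' : FlatMod.IsFinLocFree E')
    (e : (Scheme.Modules.pullback q).obj E ≅ (Scheme.Modules.pullback q).obj E')
    [HasExt.{u} X₀.Modules]
    (h1 : Subsingleton (Abelian.Ext.{u} ((Scheme.Modules.pullback c).obj E)
      ((Scheme.Modules.pullback c).obj E') 1)) :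
    Nonempty (E ≅ E') := by
  obtain ⟨ι, hι, a, hyp⟩ := exists_hyp π hπ ρ hρ hker hmJ f' q w hq c x' hc
  obtain ⟨φ₀⟩ := nonempty_idealMod_iso hyp
  let n := Fintype.card ι
  let φ : ClSub.idealMod q.ker ≅ (Scheme.Modules.pushforward c).obj (FlatMod.freeMod X₀ n) :=
    φ₀ ≪≫ biproductPushIso c
  obtain ⟨θ⟩ := nonempty_push_TT_iso c q.ker hJ2 n φ hE'
  have h1' := subsingleton_ext_tensor_free ((Scheme.Modules.pullback c).obj E)
    ((Scheme.Modules.pullback c).obj E') n h1
  haveI : E'.IsQuasicoherent := isQuasicoherent_of_isFinLocFree hE'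
  haveI : ((Scheme.Modules.pullback c).obj E').IsQuasicoherent := isQuasicoherent_pullback _ _
  haveI : (FlatMod.freeMod X₀ n).IsQuasicoherent :=
    isQuasicoherent_of_isFinLocFree (isFinLocFree_freeMod X₀ n)
  exact nonempty_iso_of_ext_subsingleton q.ker hJ2 c hE hE' (pullbackKerIso q e)
    (CohB1.tensorMod (FlatMod.freeMod X₀ n) ((Scheme.Modules.pullback c).obj E')) θ h1'

end main

end Groth.Agent.Helper19.DefVB
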