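import Mathlib

/-!
# Hilbert function of a complete intersection of two plane curves (helper19)
-/

set_option autoImplicit false
universe u

namespace Groth.Agent.Helper19.HilbPlane

open MvPolynomial

section dims

variable (k : Type u) [Field k] (σ : Type) [Fintype σ] [DecidableEq σ]

/-- dimension of the space of forms of degree `e` -/
theorem finrank_homogeneousSubmodule (e : ℕ) :
    Module.finrank k ↥(homogeneousSubmodule σ k e) = (Fintype.card σ + e - 1).choose e := by
  classical
  rw [homogeneousSubmodule_eq_finsupp_supported]
  rw [LinearEquiv.finrank_eq (AddMonoidAlgebra.supportedEquivFinsupp {d : σ →₀ ℕ | d.degree = e})]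
  letI : Fintype ↥{d : σ →₀ ℕ | d.degree = e} :=
    Fintype.ofFinset ((Finset.univ : Finset σ).finsuppAntidiag e) (by
      intro d
      simp [Finsupp.degree_eq_sum])
  rw [Module.finrank_finsupp_self]
  rw [Fintype.card_of_subtype ((Finset.univ : Finset σ).finsuppAntidiag e) (by
      intro d
      simp [Finsupp.degree_eq_sum])]
  rw [Finset.card_finsuppAntidiag_nat_eq_choose]
  simp

end dims

section count

variable {k : Type u} [Field k] {σ : Type} [Finite σ]

attribute [local instance] MvPolynomial.gradedAlgebra

theorem homogeneousComponent_mul_left {n : ℕ} (f a : MvPolynomial σ k) (hf : f.IsHomogeneous n)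
    (e : ℕ) : homogeneousComponent (n + e) (f * a) = f * homogeneousComponent e a := by
  classical
  have h := DirectSum.coe_decompose_mul_add_of_left_mem (homogeneousSubmodule σ k)
    (i := n) (j := e) (b := a) hf
  have h1 : ∀ (φ : MvPolynomial σ k) (i : ℕ),
      ((DirectSum.decompose (homogeneousSubmodule σ k) φ i : _) : MvPolynomial σ k) =
        homogeneousComponent i φ := fun φ i => decomposition.decompose'_apply φ i
  rw [h1, h1] at h
  exact h

theorem homogeneousComponent_self {e : ℕ} (a : MvPolynomial σ k) (ha : a.IsHomogeneous e) :
    homogeneousComponent e a = a := by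
  rw [homogeneousComponent_of_mem ha, if_pos rfl]

instance finite_homogeneousSubmodule (e : ℕ) :
    Module.Finite k ↥(homogeneousSubmodule σ k e) :=
  Module.Finite.iff_fg.mpr (homogeneousSubmodule_fg σ k e)

/-- multiplication by a form as a map of graded pieces -/
noncomputable def mulForm {n : ℕ} (f : MvPolynomial σ k) (hf : f.IsHomogeneous n) (e d : ℕ)
    (hd : n + e = d) :
    ↥(homogeneousSubmodule σ k e) →ₗ[k] ↥(homogeneousSubmodule σ k d) :=
  (LinearMap.mulLeft k f).restrict (p := homogeneousSubmodule σ k e)
    (q := homogeneousSubmodule σ k d) (by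
      intro x hx
      have : (f * x).IsHomogeneous (n + e) := hf.mul hx
      rw [hd] at this
      exact this)

@[simp] theorem mulForm_coe {n : ℕ} (f : MvPolynomial σ k) (hf : f.IsHomogeneous n) (e d : ℕ)
    (hd : n + e = d) (x : ↥(homogeneousSubmodule σ k e)) :
    ((mulForm f hf e d hd x : ↥(homogeneousSubmodule σ k d)) : MvPolynomial σ k) = f * x := rfl

/-- the Koszul-type dimension count for two coprime forms -/
theorem finrank_quotient_pair (n m t : ℕ) (f g : MvPolynomial σ k) (hf : f.IsHomogeneous n)
    (hg : g.IsHomogeneous m) (hg0 : g ≠ 0) (hfg : IsRelPrime f g) :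
    Module.finrank k (↥(homogeneousSubmodule σ k (n + m + t)) ⧸
        Submodule.comap (homogeneousSubmodule σ k (n + m + t)).subtype
          ((Ideal.span ({f, g} : Set (MvPolynomial σ k))).restrictScalars k)) +
      Module.finrank k ↥(homogeneousSubmodule σ k (m + t)) +
      Module.finrank k ↥(homogeneousSubmodule σ k (n + t)) =
    Module.finrank k ↥(homogeneousSubmodule σ k (n + m + t)) +
      Module.finrank k ↥(homogeneousSubmodule σ k t) := by
  classical
  set d := n + m + t with hd
  let mf := mulForm f hf (m + t) d (by omega)
  let mg := mulForm g hg (n + t) d (by omega)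
  let mg' := mulForm g hg t (m + t) rfl
  let mf' := mulForm f hf t (n + t) rfl
  let α : (↥(homogeneousSubmodule σ k (m + t)) × ↥(homogeneousSubmodule σ k (n + t))) →ₗ[k]
      ↥(homogeneousSubmodule σ k d) := mf.coprod mg
  let β : ↥(homogeneousSubmodule σ k t) →ₗ[k]
      (↥(homogeneousSubmodule σ k (m + t)) × ↥(homogeneousSubmodule σ k (n + t))) :=
    mg'.prod (-mf')
  set W := Submodule.comap (homogeneousSubmodule σ k d).subtype
          ((Ideal.span ({f, g} : Set (MvPolynomial σ k))).restrictScalars k) with hW
  -- range α = W
  have hrange : LinearMap.range α = W := by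
    apply le_antisymm
    · rintro _ ⟨⟨a, b⟩, rfl⟩
      show ((α (a, b) : ↥(homogeneousSubmodule σ k d)) : MvPolynomial σ k) ∈
        Ideal.span ({f, g} : Set (MvPolynomial σ k))
      have : ((α (a, b) : ↥(homogeneousSubmodule σ k d)) : MvPolynomial σ k) =
          f * a + g * b := by
        simp [α, mf, mg, LinearMap.coprod_apply]
      rw [this, Ideal.mem_span_pair]
      exact ⟨a, b, by ring⟩
    · rintro ⟨p, hp⟩ hpW
      have hpW' : p ∈ Ideal.span ({f, g} : Set (MvPolynomial σ k)) := hpW
      rw [Ideal.mem_span_pair] at hpW'
      obtain ⟨a', b', hab⟩ := hpW'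
      have h1 : homogeneousComponent d p = p := homogeneousComponent_self p hp
      have h2 : homogeneousComponent d (f * a') = f * homogeneousComponent (m + t) a' := by
        have := homogeneousComponent_mul_left f a' hf (m + t)
        rwa [show n + (m + t) = d by omega] at this
      have h3 : homogeneousComponent d (g * b') = g * homogeneousComponent (n + t) b' := by
        have := homogeneousComponent_mul_left g b' hg (n + t)
        rwa [show m + (n + t) = d by omega] at this
      refine ⟨(⟨homogeneousComponent (m + t) a', homogeneousComponent_isHomogeneous _ _⟩,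
        ⟨homogeneousComponent (n + t) b', homogeneousComponent_isHomogeneous _ _⟩), ?_⟩
      apply Subtype.ext
      show ((α (_, _) : ↥(homogeneousSubmodule σ k d)) : MvPolynomial σ k) = p
      have : ((α ((⟨homogeneousComponent (m + t) a', homogeneousComponent_isHomogeneous _ _⟩ :
          ↥(homogeneousSubmodule σ k (m + t))),
          (⟨homogeneousComponent (n + t) b', homogeneousComponent_isHomogeneous _ _⟩ :
          ↥(homogeneousSubmodule σ k (n + t)))) : ↥(homogeneousSubmodule σ k d)) :
          MvPolynomial σ k) =
          f * homogeneousComponent (m + t) a' + g * homogeneousComponent (n + t) b' := by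
        simp [α, mf, mg, LinearMap.coprod_apply]
      rw [this, ← h2, ← h3, ← map_add, ← h1]
      congr 1
      rw [← hab]
      ring
  -- ker α = range β
  have hker : LinearMap.ker α = LinearMap.range β := by
    apply le_antisymm
    · rintro ⟨a, b⟩ hab
      have hab' : f * (a : MvPolynomial σ k) + g * (b : MvPolynomial σ k) = 0 := by
        have h0 : ((α (a, b) : ↥(homogeneousSubmodule σ k d)) : MvPolynomial σ k) = 0 := by
          rw [LinearMap.mem_ker.mp hab]; rfl
        have : ((α (a, b) : ↥(homogeneousSubmodule σ k d)) : MvPolynomial σ k) =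
            f * a + g * b := by
          simp [α, mf, mg, LinearMap.coprod_apply]
        rw [← this, h0]
      have hdvd : g ∣ f * (a : MvPolynomial σ k) :=
        ⟨-(b : MvPolynomial σ k), by linear_combination hab'⟩
      have hga : g ∣ (a : MvPolynomial σ k) := hfg.symm.dvd_of_dvd_mul_left hdvd
      obtain ⟨h, hh⟩ := hga
      have hh' : (a : MvPolynomial σ k) = g * homogeneousComponent t h := by
        have h1 := homogeneousComponent_mul_left g h hg t
        rw [← hh, homogeneousComponent_self (a : MvPolynomial σ k) a.2] at h1
        exact h1
      have hb : (b : MvPolynomial σ k) = -(f * homogeneousComponent t h) := by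
        have h1 : g * ((b : MvPolynomial σ k) + f * homogeneousComponent t h) = 0 := by
          rw [hh'] at hab'
          linear_combination hab'
        rcases mul_eq_zero.mp h1 with h2 | h2
        · exact absurd h2 hg0
        · linear_combination h2
      refine ⟨⟨homogeneousComponent t h, homogeneousComponent_isHomogeneous _ _⟩, ?_⟩
      apply Prod.ext
      · apply Subtype.ext
        show g * homogeneousComponent t h = (a : MvPolynomial σ k)
        exact hh'.symm
      · apply Subtype.ext
        show ((-mf' ⟨homogeneousComponent t h, _⟩ : ↥(homogeneousSubmodule σ k (n + t))) :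
          MvPolynomial σ k) = (b : MvPolynomial σ k)
        rw [hb]
        rfl
    · rintro _ ⟨h, rfl⟩
      rw [LinearMap.mem_ker]
      apply Subtype.ext
      have : ((α (β h) : ↥(homogeneousSubmodule σ k d)) : MvPolynomial σ k) =
          f * (g * (h : MvPolynomial σ k)) + g * (-(f * (h : MvPolynomial σ k))) := by
        simp [α, β, mf, mg, mg', mf', LinearMap.coprod_apply]
      rw [this]
      show _ = (0 : MvPolynomial σ k)
      ring
  -- β injective
  have hβinj : Function.Injective β := by
    intro h h' hhh'
    have h1 : g * (h : MvPolynomial σ k) = g * (h' : MvPolynomial σ k) := by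
      have := congrArg (fun x => ((x.1 : ↥(homogeneousSubmodule σ k (m + t))) :
        MvPolynomial σ k)) hhh'
      exact this
    exact Subtype.ext (mul_left_cancel₀ hg0 h1)
  -- dimension count
  have e1 := Submodule.finrank_quotient_add_finrank W
  have e2 := LinearMap.finrank_range_add_finrank_ker α
  have e3 := LinearMap.finrank_range_of_inj hβinj
  rw [hrange] at e2
  rw [hker, e3] at e2
  rw [Module.finrank_prod] at e2
  omega

end count

end Groth.Agent.Helper19.HilbPlane
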