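import Mathlib
import Groth.Agent.Helper19.HilbPlane

/-!
# Dehomogenisation of plane curves (helper19)

Tools for comparing `k[x,y,t]/(f,g)` in large degrees with `k[x,y]/(f(x,y,1), g(x,y,1))`.
-/

set_option autoImplicit false
universe u

namespace Groth.Agent.Helper19.Dehomog

open MvPolynomial

variable {k : Type u} [Field k]

/-- inclusion of `k[x,y]` in `k[x,y,t]` -/
noncomputable def incl : MvPolynomial (Fin 2) k →ₐ[k] MvPolynomial (Fin 3) k :=
  rename Fin.castSucc

/-- the point `(x, y, c)` -/
noncomputable abbrev vv (c : MvPolynomial (Fin 2) k) : Fin 3 → MvPolynomial (Fin 2) k :=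
  Fin.cons (X 0) (Fin.cons (X 1) (Fin.cons c Fin.elim0))

theorem aeval_incl (v : Fin 3 → MvPolynomial (Fin 2) k) (h0 : v 0 = X 0) (h1 : v 1 = X 1)
    (p : MvPolynomial (Fin 2) k) : aeval v (incl p) = p := by
  unfold incl
  rw [aeval_rename]
  have : v ∘ Fin.castSucc = X := by
    funext i
    fin_cases i
    · exact h0
    · exact h1
  rw [this, aeval_X_left_apply]

theorem dvd_sub_incl (v : Fin 3 → MvPolynomial (Fin 2) k) (h0 : v 0 = X 0) (h1 : v 1 = X 1)
    (p : MvPolynomial (Fin 3) k) : (X 2 - incl (v 2)) ∣ p - incl (aeval v p) := by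
  induction p using MvPolynomial.induction_on with
  | C a =>
    have : incl (aeval v (C a : MvPolynomial (Fin 3) k)) = C a := by
      rw [aeval_C]
      unfold incl
      rw [algebraMap_eq, rename_C]
    rw [this, sub_self]
    exact dvd_zero _
  | add p q hp hq =>
    rw [map_add, map_add]
    have : p + q - (incl (aeval v p) + incl (aeval v q)) =
        (p - incl (aeval v p)) + (q - incl (aeval v q)) := by ring
    rw [this]
    exact dvd_add hp hq
  | mul_X p i hp =>
    rw [map_mul, map_mul, aeval_X]
    have hi : (X 2 - incl (v 2)) ∣ (X i : MvPolynomial (Fin 3) k) - incl (v i) := by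
      fin_cases i
      · show _ ∣ X 0 - incl (v 0)
        rw [h0]
        unfold incl
        rw [rename_X]
        simp
      · show _ ∣ X 1 - incl (v 1)
        rw [h1]
        unfold incl
        rw [rename_X]
        simp
      · exact dvd_refl _
    have : p * X i - incl (aeval v p) * incl (v i) =
        (p - incl (aeval v p)) * X i + incl (aeval v p) * (X i - incl (v i)) := by ring
    rw [this]
    exact dvd_add (Dvd.dvd.mul_right hp _) (Dvd.dvd.mul_left hi _)

theorem exists_mul_of_aeval_eq_zero (v : Fin 3 → MvPolynomial (Fin 2) k) (h0 : v 0 = X 0)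
    (h1 : v 1 = X 1) (p : MvPolynomial (Fin 3) k) (hp : aeval v p = 0) :
    ∃ c, p = (X 2 - incl (v 2)) * c := by
  obtain ⟨c, hc⟩ := dvd_sub_incl v h0 h1 p
  rw [hp, map_zero, sub_zero] at hc
  exact ⟨c, hc⟩

theorem not_isUnit_of_isHomogeneous {σ : Type*} {m : ℕ} (hm : 0 < m) (u : MvPolynomial σ k)
    (hu : u.IsHomogeneous m) : ¬ IsUnit u := by
  intro h
  have h1 : IsUnit (constantCoeff u) := h.map constantCoeff
  have h2 : constantCoeff u = 0 := by
    rw [constantCoeff_eq]
    apply hu.coeff_eq_zero
    simp only [map_zero]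
    omega
  rw [h2] at h1
  exact not_isUnit_zero h1

theorem isHomogeneous_vv_zero (i : Fin 3) :
    (vv (0 : MvPolynomial (Fin 2) k) i).IsHomogeneous 1 := by
  fin_cases i
  · exact isHomogeneous_X _ _
  · exact isHomogeneous_X _ _
  · exact isHomogeneous_zero _ _ _

theorem aeval_vv_zero_ne_zero {m : ℕ} (hm : 0 < m) (f g : MvPolynomial (Fin 3) k)
    (hg : g.IsHomogeneous m)
    (hT : IsRelPrime (aeval (vv (0 : MvPolynomial (Fin 2) k)) f)
      (aeval (vv (0 : MvPolynomial (Fin 2) k)) g)) :
    aeval (vv (0 : MvPolynomial (Fin 2) k)) f ≠ 0 := by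
  intro h0
  rw [h0, isRelPrime_zero_left] at hT
  have hh : (aeval (vv (0 : MvPolynomial (Fin 2) k)) g).IsHomogeneous (1 * m) :=
    hg.aeval (vv 0) isHomogeneous_vv_zero
  rw [one_mul] at hh
  exact not_isUnit_of_isHomogeneous hm _ hh hT

/-- `t` is a nonzerodivisor modulo `(f, g)` when the curves do not meet on the line `t = 0`. -/
theorem mem_of_X_mul_mem {m : ℕ} (hm : 0 < m) (f g : MvPolynomial (Fin 3) k)
    (hg : g.IsHomogeneous m)
    (hT : IsRelPrime (aeval (vv (0 : MvPolynomial (Fin 2) k)) f)
      (aeval (vv (0 : MvPolynomial (Fin 2) k)) g))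
    (h : MvPolynomial (Fin 3) k)
    (hh : X 2 * h ∈ Ideal.span ({f, g} : Set (MvPolynomial (Fin 3) k))) :
    h ∈ Ideal.span ({f, g} : Set (MvPolynomial (Fin 3) k)) := by
  obtain ⟨a, b, hab⟩ := Ideal.mem_span_pair.mp hh
  have hf0 : aeval (vv (0 : MvPolynomial (Fin 2) k)) f ≠ 0 :=
    aeval_vv_zero_ne_zero hm f g hg hT
  set e := aeval (R := k) (vv (0 : MvPolynomial (Fin 2) k)) with he
  have h1 : e a * e f + e b * e g = 0 := by
    rw [← map_mul, ← map_mul, ← map_add, hab, map_mul]
    have : e (X 2) = 0 := by rw [he, aeval_X]; rfl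
    rw [this, zero_mul]
  have h2 : e f ∣ e b * e g := ⟨- e a, by linear_combination h1⟩
  have h3 : e f ∣ e b := hT.dvd_of_dvd_mul_right h2
  obtain ⟨c, hc⟩ := h3
  have h4 : e a = - c * e g := by
    have : e f * (e a + c * e g) = 0 := by rw [hc] at h1; linear_combination h1
    rcases mul_eq_zero.mp this with h | h
    · exact absurd h hf0
    · linear_combination h
  obtain ⟨a', ha'⟩ := exists_mul_of_aeval_eq_zero (vv 0) rfl rfl (a + incl c * g) (by
    rw [map_add, map_mul, aeval_incl _ rfl rfl, ← he, h4]; ring)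
  obtain ⟨b', hb'⟩ := exists_mul_of_aeval_eq_zero (vv 0) rfl rfl (b - incl c * f) (by
    rw [map_sub, map_mul, aeval_incl _ rfl rfl, ← he, hc]; ring)
  have hX : (X 2 - incl (vv (0 : MvPolynomial (Fin 2) k) 2) : MvPolynomial (Fin 3) k) = X 2 := by
    show X 2 - incl 0 = X 2
    rw [map_zero, sub_zero]
  rw [hX] at ha' hb'
  have h5 : X 2 * h = X 2 * (a' * f + b' * g) := by
    rw [← hab]; linear_combination f * ha' + g * hb'
  have h6 := mul_left_cancel₀ (X_ne_zero (2 : Fin 3)) h5
  rw [h6]
  exact Ideal.mem_span_pair.mpr ⟨a', b', rfl⟩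

theorem homogeneousComponent_zero_X_mul (c : MvPolynomial (Fin 3) k) :
    homogeneousComponent 0 (X 2 * c) = 0 := by
  classical
  rw [homogeneousComponent_zero, coeff_X_mul']
  simp

theorem homogeneousComponent_succ_X_mul (c : MvPolynomial (Fin 3) k) (i : ℕ) :
    homogeneousComponent (i + 1) (X 2 * c) = X 2 * homogeneousComponent i c := by
  have := HilbPlane.homogeneousComponent_mul_left (X 2 : MvPolynomial (Fin 3) k) c
    (isHomogeneous_X k 2) i
  rwa [add_comm] at this

/-- a form lying in `I + (t - 1)` lies in `I`, for `I` homogeneous with `t` regular mod `I`. -/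
theorem mem_of_mem_sup (I : Ideal (MvPolynomial (Fin 3) k))
    (hI : ∀ p ∈ I, ∀ i, homogeneousComponent i p ∈ I)
    (hnzd : ∀ h, X 2 * h ∈ I → h ∈ I) (d : ℕ) (p : MvPolynomial (Fin 3) k)
    (hp : p.IsHomogeneous d)
    (hmem : p ∈ I ⊔ Ideal.span {(X 2 - 1 : MvPolynomial (Fin 3) k)}) : p ∈ I := by
  obtain ⟨q, hq, r, hr, hpe⟩ := Submodule.mem_sup.mp hmem
  obtain ⟨c, rfl⟩ := Ideal.mem_span_singleton'.mp hr
  -- the component equations
  have hE0 : homogeneousComponent 0 p = homogeneousComponent 0 q - homogeneousComponent 0 c := by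
    rw [← hpe, mul_sub, mul_one, mul_comm c, map_add, map_sub, homogeneousComponent_zero_X_mul]
    ring
  have hE : ∀ i, homogeneousComponent (i + 1) p =
      homogeneousComponent (i + 1) q + X 2 * homogeneousComponent i c -
        homogeneousComponent (i + 1) c := by
    intro i
    rw [← hpe, mul_sub, mul_one, mul_comm c, map_add, map_sub, homogeneousComponent_succ_X_mul]
    ring
  have hpc : ∀ i, i ≠ d → homogeneousComponent i p = 0 := by
    intro i hi
    rw [homogeneousComponent_of_mem hp, if_neg hi]
  have hup : ∀ i, i < d → homogeneousComponent i c ∈ I := by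
    intro i
    induction i with
    | zero =>
      intro h0
      have h1 := hE0
      rw [hpc 0 (by omega)] at h1
      have : homogeneousComponent 0 c = homogeneousComponent 0 q := by
        linear_combination h1
      rw [this]
      exact hI q hq 0
    | succ i ih =>
      intro hi
      have h1 := hE i
      rw [hpc (i + 1) (by omega)] at h1
      have : homogeneousComponent (i + 1) c =
          homogeneousComponent (i + 1) q + X 2 * homogeneousComponent i c := by
        linear_combination h1
      rw [this]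
      exact I.add_mem (hI q hq _) (I.mul_mem_left _ (ih (by omega)))
  have hdown : ∀ j i, d ≤ i → c.totalDegree < i + j → homogeneousComponent i c ∈ I := by
    intro j
    induction j with
    | zero =>
      intro i _ hi
      rw [homogeneousComponent_eq_zero _ _ (show c.totalDegree < i by omega)]
      exact I.zero_mem
    | succ j ih =>
      intro i hdi hi
      have h2 : homogeneousComponent (i + 1) c ∈ I := ih (i + 1) (by omega) (by omega)
      have h1 := hE i
      rw [hpc (i + 1) (by omega)] at h1
      apply hnzd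
      have : X 2 * homogeneousComponent i c =
          homogeneousComponent (i + 1) c - homogeneousComponent (i + 1) q := by
        linear_combination -h1
      rw [this]
      exact I.sub_mem h2 (hI q hq _)
  have hall : ∀ i, homogeneousComponent i c ∈ I := by
    intro i
    rcases lt_or_ge i d with h | h
    · exact hup i h
    · exact hdown (c.totalDegree + 1) i h (by omega)
  have hc : c ∈ I := by
    rw [← sum_homogeneousComponent c]
    exact I.sum_mem (fun i _ => hall i)
  rw [← hpe]
  exact I.add_mem hq (I.mul_mem_right _ hc)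

/-- the span of two forms is a homogeneous ideal -/
theorem homogeneousComponent_mem_span_pair {n m : ℕ} (f g : MvPolynomial (Fin 3) k)
    (hf : f.IsHomogeneous n) (hg : g.IsHomogeneous m) (p : MvPolynomial (Fin 3) k)
    (hp : p ∈ Ideal.span ({f, g} : Set (MvPolynomial (Fin 3) k))) (i : ℕ) :
    homogeneousComponent i p ∈ Ideal.span ({f, g} : Set (MvPolynomial (Fin 3) k)) := by
  classical
  letI := MvPolynomial.gradedAlgebra (σ := Fin 3) (R := k)
  have h : (Ideal.span ({f, g} : Set (MvPolynomial (Fin 3) k))).IsHomogeneous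
      (homogeneousSubmodule (Fin 3) k) := by
    apply Ideal.homogeneous_span
    intro x hx
    rcases hx with rfl | rfl
    · exact ⟨n, hf⟩
    · exact ⟨m, hg⟩
  have h1 := h i hp
  have h2 : ((DirectSum.decompose (homogeneousSubmodule (Fin 3) k) p i : _) :
      MvPolynomial (Fin 3) k) = homogeneousComponent i p :=
    decomposition.decompose'_apply p i
  rwa [h2] at h1

/-- homogenisation inside `k[x,y,t]` -/
theorem exists_form_aeval_eq (P : MvPolynomial (Fin 3) k) :
    ∃ Q : MvPolynomial (Fin 3) k, Q.IsHomogeneous P.totalDegree ∧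
      aeval (vv (1 : MvPolynomial (Fin 2) k)) Q = aeval (vv (1 : MvPolynomial (Fin 2) k)) P := by
  refine ⟨∑ i ∈ Finset.range (P.totalDegree + 1),
    X 2 ^ (P.totalDegree - i) * homogeneousComponent i P, ?_, ?_⟩
  · apply IsHomogeneous.sum
    intro i hi
    have hi' : i ≤ P.totalDegree := by
      have := Finset.mem_range.mp hi
      omega
    have h1 : ((X 2 : MvPolynomial (Fin 3) k) ^ (P.totalDegree - i)).IsHomogeneous
        (P.totalDegree - i) := isHomogeneous_X_pow _ _
    have h2 := h1.mul (homogeneousComponent_isHomogeneous i P)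
    rwa [show P.totalDegree - i + i = P.totalDegree by omega] at h2
  · rw [map_sum]
    conv_rhs => rw [← sum_homogeneousComponent P, map_sum]
    apply Finset.sum_congr rfl
    intro i _
    rw [map_mul, map_pow, aeval_X]
    have : vv (1 : MvPolynomial (Fin 2) k) 2 = 1 := rfl
    rw [this, one_pow, one_mul]

end Groth.Agent.Helper19.Dehomog
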