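import Mathlib

/-!
# Lifting standard étale algebras along surjections (helper19)

If `α : P₀ → A` is a surjective ring map and `B'` is a standard étale `A`-algebra, there is an étale
`P₀`-algebra `P'` with a surjection `P' → B'` whose kernel is the extension of `ker α`
(i.e. `B' = A ⊗_{P₀} P'`).
-/

set_option autoImplicit false
universe u

open Polynomial Function

namespace Groth.Agent.Helper19.EtLift

set_option maxHeartbeats 1000000 in
theorem exists_etale_lift {P₀ A B' : Type u} [CommRing P₀] [CommRing A] [CommRing B']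
    [Algebra A B'] (α : P₀ →+* A) (hα : Surjective α) [Algebra.IsStandardEtale A B'] :
    ∃ (P' : Type u) (_ : CommRing P') (_ : Algebra P₀ P'), Algebra.Etale P₀ P' ∧
      ∃ (α' : P' →+* B'), Surjective α' ∧
        α'.comp (algebraMap P₀ P') = (algebraMap A B').comp α ∧
        RingHom.ker α' = (RingHom.ker α).map (algebraMap P₀ P') := by
  classical
  letI algPA : Algebra P₀ A := α.toAlgebra
  letI algPB : Algebra P₀ B' := ((algebraMap A B').comp α).toAlgebra
  haveI : IsScalarTower P₀ A B' := IsScalarTower.of_algebraMap_eq' rfl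
  have hαalg : algebraMap P₀ A = α := rfl
  let SP : StandardEtalePresentation A B' :=
    (Algebra.IsStandardEtale.nonempty_standardEtalePresentation (R := A) (S := B')).some
  letI algPS : Algebra P₀ SP.P.Ring := ((algebraMap A SP.P.Ring).comp α).toAlgebra
  haveI : IsScalarTower P₀ A SP.P.Ring := IsScalarTower.of_algebraMap_eq' rfl
  obtain ⟨F, hF, -, hFm⟩ := lifts_and_natDegree_eq_and_monic
    ((mem_lifts SP.f).mpr (map_surjective α hα SP.f)) SP.monic_f
  obtain ⟨G, hG⟩ := map_surjective α hα SP.g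
  obtain ⟨p₁, p₂, n, hcond⟩ := SP.cond
  obtain ⟨P₁, hP₁⟩ := map_surjective α hα p₁
  obtain ⟨P₂, hP₂⟩ := map_surjective α hα p₂
  let PP : StandardEtalePair P₀ :=
    ⟨F, hFm, G * (derivative F * P₁ + F * P₂), P₁ * G, P₂ * G, 1, by ring⟩
  -- evaluation of lifted polynomials
  have haeval : ∀ (T : Type u) [CommRing T] [Algebra P₀ T] [Algebra A T] [IsScalarTower P₀ A T]
      (t : T) (H : P₀[X]), aeval t H = aeval t (H.map α) := by
    intro T _ _ _ _ t H
    rw [← hαalg, aeval_map_algebraMap]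
  have hx1 : aeval SP.x F = 0 := by
    rw [haeval B' SP.x F, hF]; exact SP.hasMap.1
  have hxG : aeval SP.x G = aeval SP.x SP.g := by rw [haeval B' SP.x G, hG]
  have hx2 : IsUnit (aeval SP.x (G * (derivative F * P₁ + F * P₂))) := by
    have e : aeval SP.x (G * (derivative F * P₁ + F * P₂)) = aeval SP.x SP.g ^ (n + 1) := by
      rw [haeval B' SP.x, Polynomial.map_mul, Polynomial.map_add, Polynomial.map_mul,
        Polynomial.map_mul, ← derivative_map, hF, hG, hP₁, hP₂, hcond, ← pow_succ', map_pow]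
    rw [e]
    exact SP.hasMap.2.pow _
  have hmap : PP.HasMap SP.x := ⟨hx1, hx2⟩
  let α'a : PP.Ring →ₐ[P₀] B' := PP.lift SP.x hmap
  have hα'X : α'a PP.X = SP.x := PP.lift_X SP.x hmap
  -- the quotient
  let J : Ideal PP.Ring := (RingHom.ker α).map (algebraMap P₀ PP.Ring)
  have hJle : J ≤ RingHom.ker α'a.toRingHom := by
    rw [Ideal.map_le_iff_le_comap]
    intro p hp
    rw [Ideal.mem_comap, RingHom.mem_ker]
    change α'a (algebraMap P₀ PP.Ring p) = 0
    rw [α'a.commutes]
    change algebraMap A B' (α p) = 0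
    rw [RingHom.mem_ker.mp hp, map_zero]
  let Q := PP.Ring ⧸ J
  let mkQ : PP.Ring →ₐ[P₀] Q := Ideal.Quotient.mkₐ P₀ J
  have hker : RingHom.ker α ≤ RingHom.ker (algebraMap P₀ Q) := by
    intro p hp
    rw [RingHom.mem_ker]
    change Ideal.Quotient.mk J (algebraMap P₀ PP.Ring p) = 0
    rw [Ideal.Quotient.eq_zero_iff_mem]
    exact Ideal.mem_map_of_mem _ hp
  let φQ : A →+* Q := RingHom.liftOfSurjective α hα ⟨algebraMap P₀ Q, hker⟩
  have hφQ : ∀ p : P₀, φQ (α p) = algebraMap P₀ Q p := fun p =>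
    RingHom.liftOfRightInverse_comp_apply _ _ _ _ p
  letI algAQ : Algebra A Q := φQ.toAlgebra
  haveI : IsScalarTower P₀ A Q := IsScalarTower.of_algebraMap_eq fun p => (hφQ p).symm
  -- the inverse map
  have hq1 : aeval (mkQ PP.X) SP.f = 0 := by
    rw [← hF, ← haeval Q, aeval_algHom_apply, PP.hasMap_X.1, map_zero]
  have hq2 : IsUnit (aeval (mkQ PP.X) SP.g) := by
    rw [← hG, ← haeval Q, aeval_algHom_apply]
    apply IsUnit.map
    have h := PP.hasMap_X.2
    change IsUnit (aeval PP.X (G * (derivative F * P₁ + F * P₂))) at h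
    rw [map_mul] at h
    exact isUnit_of_mul_isUnit_left h
  let β : SP.P.Ring →ₐ[A] Q := SP.P.lift (mkQ PP.X) ⟨hq1, hq2⟩
  have hβX : β SP.P.X = mkQ PP.X := SP.P.lift_X _ _
  -- the induced map on the quotient
  let ᾱ : Q →+* B' := Ideal.Quotient.lift J α'a.toRingHom (fun a ha => hJle ha)
  have hᾱmk : ∀ y : PP.Ring, ᾱ (mkQ y) = α'a y := fun y => Ideal.Quotient.lift_mk _ _ _
  have hᾱalg : ∀ a : A, ᾱ (algebraMap A Q a) = algebraMap A B' a := by
    intro a
    obtain ⟨p, rfl⟩ := hα a
    change ᾱ (φQ (α p)) = _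
    rw [hφQ]
    change ᾱ (mkQ (algebraMap P₀ PP.Ring p)) = _
    rw [hᾱmk, α'a.commutes]
    rfl
  let ᾱa : Q →ₐ[A] B' := { toRingHom := ᾱ, commutes' := hᾱalg }
  have hcomp1 : ᾱa.comp β = SP.equivRing.symm.toAlgHom := by
    apply SP.P.hom_ext
    change ᾱ (β SP.P.X) = SP.equivRing.symm SP.P.X
    rw [hβX, hᾱmk, hα'X, SP.equivRing_symm_X]
  have hcomp2 : ∀ y : PP.Ring, β (SP.equivRing (α'a y)) = mkQ y := by
    have h := PP.hom_ext (f := ((β.restrictScalars P₀).comp
      ((SP.equivRing.toAlgHom.restrictScalars P₀).comp α'a))) (g := mkQ) (by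
        change β (SP.equivRing (α'a PP.X)) = mkQ PP.X
        rw [hα'X, SP.equivRing_x, hβX])
    intro y
    exact congr($h y)
  refine ⟨PP.Ring, inferInstance, inferInstance, inferInstance, α'a.toRingHom, ?_, ?_, ?_⟩
  · intro b
    have : b = ᾱa (β (SP.equivRing b)) := by
      have := congr($hcomp1 (SP.equivRing b))
      change ᾱa (β (SP.equivRing b)) = SP.equivRing.symm (SP.equivRing b) at this
      rw [this, AlgEquiv.symm_apply_apply]
    obtain ⟨y, hy⟩ := Ideal.Quotient.mk_surjective (β (SP.equivRing b))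
    refine ⟨y, ?_⟩
    rw [this, ← hy]
    exact (hᾱmk y).symm
  · ext p
    change α'a (algebraMap P₀ PP.Ring p) = _
    rw [α'a.commutes]
    rfl
  · apply le_antisymm
    · intro y hy
      have h0 : α'a y = 0 := hy
      have h1 := hcomp2 y
      rw [h0, map_zero, map_zero] at h1
      have : Ideal.Quotient.mk J y = 0 := h1.symm
      rwa [Ideal.Quotient.eq_zero_iff_mem] at this
    · exact hJle

end Groth.Agent.Helper19.EtLift
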