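import Mathlib
import Groth.Agent.Lib.Helper29.QCohFP2
import Groth.Agent.Lib.Helper29.IsoCover
import Groth.Agent.Lib.Helper29.QCohRestrict
set_option autoImplicit false
set_option linter.style.haveILetI false
set_option linter.unusedSectionVars false
universe u

open CategoryTheory CategoryTheory.Limits AlgebraicGeometry Opposite TopologicalSpace

/-!
# Extension of finitely presented modules: basic tools

* `finitePresentation_of_ringEquiv`: finite presentation transfers across a ring isomorphism.
* `FPOn M U`: the module `M` is locally finitely presented on the open `U` (sectionwise on affines).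
* `IsoOn φ U`: `φ` is bijective on sections over all opens contained in `U`.
* sections of a pullback of sheaves of modules.
-/

namespace Groth.Agent.Helper19.FPExt

open Groth.Agent.Lib.Helper29.QCoh

theorem finitePresentation_of_ringEquiv {R S M : Type*} [CommRing R] [CommRing S] [AddCommGroup M]
    [Module R M] [Module S M] (e : R ≃+* S) (h : ∀ (r : R) (m : M), e r • m = r • m)
    [Module.FinitePresentation R M] : Module.FinitePresentation S M := by
  classical
  obtain ⟨n, f, hf⟩ := Module.Finite.exists_fin' R M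
  have hker : (LinearMap.ker f).FG := Module.FinitePresentation.fg_ker f hf
  have : RingHomSurjective (e : R →+* S) := ⟨e.surjective⟩
  let ψ : (Fin n → R) →ₛₗ[(e : R →+* S)] (Fin n → S) :=
    { toFun := fun v i => e (v i)
      map_add' := by intros; ext; simp
      map_smul' := by intros; ext; simp }
  let fS : (Fin n → S) →ₗ[S] M := Fintype.linearCombination S (fun i => f (Pi.single i 1))
  have hfS : ∀ v, fS (ψ v) = f v := by
    intro v
    have h1 : f v = ∑ i, v i • f (Pi.single i 1) := by
      conv_lhs => rw [← Finset.univ_sum_single v]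
      rw [map_sum]
      refine Finset.sum_congr rfl fun i _ => ?_
      rw [← map_smul]
      congr 1
      ext j
      simp [Pi.single_apply]
    rw [h1, Fintype.linearCombination_apply]
    refine Finset.sum_congr rfl fun i _ => ?_
    exact h (v i) _
  have hψsurj : Function.Surjective ψ := by
    intro w
    refine ⟨fun i => e.symm (w i), ?_⟩
    ext i
    simp [ψ]
  refine Module.finitePresentation_of_surjective fS ?_ ?_
  · intro m
    obtain ⟨v, rfl⟩ := hf m
    exact ⟨ψ v, hfS v⟩
  · have : LinearMap.ker fS = (LinearMap.ker f).map ψ := by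
      ext w
      constructor
      · intro hw
        obtain ⟨v, rfl⟩ := hψsurj w
        refine ⟨v, ?_, rfl⟩
        rw [SetLike.mem_coe, LinearMap.mem_ker, ← hfS]
        exact hw
      · rintro ⟨v, hv, rfl⟩
        rw [LinearMap.mem_ker, hfS]
        exact hv
    rw [this]
    exact hker.map ψ

variable {X : Scheme.{u}}

/-- Finite presentation of sections does not depend on the name of the open. -/
theorem fp_congr (M : X.Modules) {W₁ W₂ : X.Opens} (h : W₁ = W₂)
    (hfp : Module.FinitePresentation Γ(X, W₁) Γ(M, W₁)) :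
    Module.FinitePresentation Γ(X, W₂) Γ(M, W₂) := by
  subst h; exact hfp

/-- Sections over a basic open of a module with finitely presented sections. -/
theorem fp_basicOpen (M : X.Modules) [M.IsQuasicoherent] {W : X.Opens} (hW : IsAffineOpen W)
    (f : Γ(X, W)) (hfp : Module.FinitePresentation Γ(X, W) Γ(M, W)) :
    Module.FinitePresentation Γ(X, X.basicOpen f) Γ(M, X.basicOpen f) := by
  letI := sectionsModule M (X.basicOpen_le f)
  haveI : IsScalarTower Γ(X, W) Γ(X, X.basicOpen f) Γ(M, X.basicOpen f) :=
    IsScalarTower.of_algebraMap_smul fun _ _ => rfl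
  haveI := hW.isLocalization_basicOpen f
  haveI := isLocalizedModule_res_basicOpen M hW f
  exact FinitePresentation.of_isBaseChange (resₗ M (X.basicOpen_le f))
    (IsLocalizedModule.isBaseChange (Submonoid.powers f) _ _)

/-- Sections of a restriction along an open immersion vs. sections of the module. -/
theorem fp_of_fp_restrict {Y : Scheme.{u}} (f : Y ⟶ X) [IsOpenImmersion f] (M : X.Modules)
    (V : Y.Opens) (h : Module.FinitePresentation Γ(Y, V) Γ(M.restrict f, V)) :
    Module.FinitePresentation Γ(X, f ''ᵁ V) Γ(M, f ''ᵁ V) := by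
  letI : Module Γ(Y, V) Γ(M, f ''ᵁ V) := (inferInstance : Module Γ(Y, V) Γ(M.restrict f, V))
  haveI : Module.FinitePresentation Γ(Y, V) Γ(M, f ''ᵁ V) := h
  exact finitePresentation_of_ringEquiv (f.appIso V).symm.commRingCatIsoToRingEquiv
    (fun b m => (restrict_smul f M V b m).symm)

theorem fp_restrict_of_fp {Y : Scheme.{u}} (f : Y ⟶ X) [IsOpenImmersion f] (M : X.Modules)
    (V : Y.Opens) (h : Module.FinitePresentation Γ(X, f ''ᵁ V) Γ(M, f ''ᵁ V)) :
    Module.FinitePresentation Γ(Y, V) Γ(M.restrict f, V) := by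
  letI : Module Γ(X, f ''ᵁ V) Γ(M.restrict f, V) :=
    (inferInstance : Module Γ(X, f ''ᵁ V) Γ(M, f ''ᵁ V))
  haveI : Module.FinitePresentation Γ(X, f ''ᵁ V) Γ(M.restrict f, V) := h
  refine finitePresentation_of_ringEquiv (f.appIso V).commRingCatIsoToRingEquiv
    (fun b m => ?_)
  refine (restrict_smul f M V _ m).trans ?_
  change ((f.appIso V).inv ((f.appIso V).hom b)) • m = b • m
  rw [← ConcreteCategory.comp_apply, Iso.hom_inv_id]
  rfl

/-- `M` is locally finitely presented on the open `U`. -/
def FPOn (M : X.Modules) (U : X.Opens) : Prop :=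
  ∀ x ∈ U, ∃ W : X.Opens, IsAffineOpen W ∧ x ∈ W ∧ W ≤ U ∧
    Module.FinitePresentation Γ(X, W) Γ(M, W)

theorem FPOn.sup {M : X.Modules} {U₁ U₂ : X.Opens} (h₁ : FPOn M U₁) (h₂ : FPOn M U₂) :
    FPOn M (U₁ ⊔ U₂) := by
  rintro x (hx | hx)
  · obtain ⟨W, hW, hxW, hWU, hfp⟩ := h₁ x hx
    exact ⟨W, hW, hxW, hWU.trans le_sup_left, hfp⟩
  · obtain ⟨W, hW, hxW, hWU, hfp⟩ := h₂ x hx
    exact ⟨W, hW, hxW, hWU.trans le_sup_right, hfp⟩

theorem FPOn.mono {M : X.Modules} [M.IsQuasicoherent] {U U₂ : X.Opens} (h : FPOn M U)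
    (hle : U₂ ≤ U) : FPOn M U₂ := by
  intro x hx
  obtain ⟨W, hW, hxW, -, hfp⟩ := h x (hle hx)
  obtain ⟨f, hf, hxf⟩ := hW.exists_basicOpen_le ⟨x, hx⟩ hxW
  exact ⟨X.basicOpen f, hW.basicOpen f, hxf, hf, fp_basicOpen M hW f hfp⟩

theorem fpOn_bot (M : X.Modules) : FPOn M ⊥ := fun _ hx => (hx : False).elim

/-- A quasi-coherent module which is locally finitely presented on the whole scheme is finitely
presented. -/
theorem isFinitePresentation_of_fpOn_top (M : X.Modules) [M.IsQuasicoherent] (h : FPOn M ⊤) :
    M.IsFinitePresentation := by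
  let ι := {W : X.Opens // IsAffineOpen W ∧ Module.FinitePresentation Γ(X, W) Γ(M, W)}
  refine isFinitePresentation_of_module_finitePresentation M (fun W : ι => W.1) ?_
    (fun W => W.2.1) (fun W => W.2.2)
  rw [IsOpenCover, eq_top_iff]
  rintro x -
  obtain ⟨W, hW, hxW, -, hfp⟩ := h x trivial
  exact Opens.mem_iSup.mpr ⟨⟨W, hW, hfp⟩, hxW⟩

/-- A module whose restriction to `U` is finitely presented is locally finitely presented on
`U`. -/
theorem fpOn_of_restrict (M : X.Modules) (U : X.Opens)
    (h : (M.restrict U.ι).IsFinitePresentation) : FPOn M U := by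
  intro x hx
  obtain ⟨W', hW', hxW', -⟩ := exists_isAffineOpen_mem_and_subset
    (X := (U : Scheme.{u})) (x := ⟨x, hx⟩) (U := ⊤) trivial
  refine ⟨U.ι ''ᵁ W', hW'.image_of_isOpenImmersion U.ι, ⟨⟨x, hx⟩, hxW', rfl⟩, U.ι_image_le W', ?_⟩
  exact fp_of_fp_restrict U.ι M W' (module_finitePresentation_of_isFinitePresentation _ hW')

/-- `φ` is bijective on sections over all opens inside `U`. -/
def IsoOn {M N : X.Modules} (φ : M ⟶ N) (U : X.Opens) : Prop :=
  ∀ W : X.Opens, W ≤ U → Function.Bijective (φ.app W)

theorem isoOn_iff_isIso_restrict {M N : X.Modules} (φ : M ⟶ N) (U : X.Opens) :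
    IsoOn φ U ↔ IsIso ((Scheme.Modules.restrictFunctor U.ι).map φ) :=
  (isIso_restrict_iff φ U).symm

theorem IsoOn.mono {M N : X.Modules} {φ : M ⟶ N} {U U₂ : X.Opens} (h : IsoOn φ U)
    (hle : U₂ ≤ U) : IsoOn φ U₂ := fun W hW => h W (hW.trans hle)

theorem IsoOn.comp {M N P : X.Modules} {φ : M ⟶ N} {ψ : N ⟶ P} {U : X.Opens} (h₁ : IsoOn φ U)
    (h₂ : IsoOn ψ U) : IsoOn (φ ≫ ψ) U := by
  intro W hW
  have : (φ ≫ ψ).app W = (ψ.app W) ∘ (φ.app W) := by
    ext m; exact app_comp φ ψ W m
  rw [this]
  exact (h₂ W hW).comp (h₁ W hW)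

theorem isoOn_of_isIso {M N : X.Modules} (φ : M ⟶ N) [IsIso φ] (U : X.Opens) : IsoOn φ U :=
  fun W _ => app_bijective_of_isIso φ W

/-- For quasi-coherent modules it suffices to test bijectivity on affine opens. -/
theorem isoOn_of_affine {M N : X.Modules} [M.IsQuasicoherent] [N.IsQuasicoherent] (φ : M ⟶ N)
    (U : X.Opens) (h : ∀ W : X.Opens, IsAffineOpen W → W ≤ U → Function.Bijective (φ.app W)) :
    IsoOn φ U := by
  rw [isoOn_iff_isIso_restrict]
  haveI : (M.restrict U.ι).IsQuasicoherent := Scheme.Modules.isQuasicoherent_restrictFunctor U.ι M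
  haveI : (N.restrict U.ι).IsQuasicoherent := Scheme.Modules.isQuasicoherent_restrictFunctor U.ι N
  refine isIso_of_app_bijective_of_affine_cover (M := M.restrict U.ι) (N := N.restrict U.ι)
    ((Scheme.Modules.restrictFunctor U.ι).map φ)
    (fun T : (U : Scheme.{u}).affineOpens => (T : (U : Scheme.{u}).Opens)) (fun T => T.2)
    (fun x => ?_) (fun T => ?_)
  · obtain ⟨W', hW', hxW', -⟩ := exists_isAffineOpen_mem_and_subset
      (X := (U : Scheme.{u})) (x := x) (U := ⊤) trivial
    exact ⟨⟨W', hW'⟩, hxW'⟩
  · exact h (U.ι ''ᵁ T.1) (T.2.image_of_isOpenImmersion U.ι) (U.ι_image_le T.1)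

/-- Local finite presentation transfers along a morphism which is an isomorphism over `U`. -/
theorem FPOn.of_isoOn {M N : X.Modules} {φ : M ⟶ N} {U : X.Opens} (hφ : IsoOn φ U)
    (h : FPOn N U) : FPOn M U := by
  intro x hx
  obtain ⟨W, hW, hxW, hWU, hfp⟩ := h x hx
  refine ⟨W, hW, hxW, hWU, ?_⟩
  let e : Γ(M, W) ≃ₗ[Γ(X, W)] Γ(N, W) := LinearEquiv.ofBijective (appₗ φ W) (hφ W hWU)
  exact Module.FinitePresentation.of_equiv e.symm

section pullback

variable {A B C : X.Modules} (f : A ⟶ C) (g : B ⟶ C)

theorem pullback_app_ext (W : X.Opens) (s t : Γ(pullback f g, W))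
    (h1 : (pullback.fst f g).app W s = (pullback.fst f g).app W t)
    (h2 : (pullback.snd f g).app W s = (pullback.snd f g).app W t) : s = t := by
  have hP := (IsPullback.of_hasPullback f g).map (sectionsFunctor X W ⋙ forget AddCommGrpCat.{u})
  exact Limits.Types.ext_of_isPullback hP h1 h2

theorem pullback_app_exists (W : X.Opens) (a : Γ(A, W)) (b : Γ(B, W))
    (h : f.app W a = g.app W b) :
    ∃ s : Γ(pullback f g, W), (pullback.fst f g).app W s = a ∧ (pullback.snd f g).app W s = b := by
  have hP := (IsPullback.of_hasPullback f g).map (sectionsFunctor X W ⋙ forget AddCommGrpCat.{u})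
  exact Limits.Types.exists_of_isPullback hP a b h

/-- If `g` is bijective on sections over `W`, so is the first projection of the pullback. -/
theorem pullback_fst_app_bijective (W : X.Opens) (hg : Function.Bijective (g.app W)) :
    Function.Bijective ((pullback.fst f g).app W) := by
  constructor
  · intro s t hst
    refine pullback_app_ext f g W s t hst (hg.1 ?_)
    have hs : g.app W ((pullback.snd f g).app W s) = f.app W ((pullback.fst f g).app W s) := by
      rw [← app_comp, ← app_comp, pullback.condition]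
    have ht : g.app W ((pullback.snd f g).app W t) = f.app W ((pullback.fst f g).app W t) := by
      rw [← app_comp, ← app_comp, pullback.condition]
    rw [hs, ht, hst]
  · intro a
    obtain ⟨b, hb⟩ := hg.2 (f.app W a)
    obtain ⟨s, hs, -⟩ := pullback_app_exists f g W a b hb.symm
    exact ⟨s, hs⟩

theorem pullback_snd_app_bijective (W : X.Opens) (hf : Function.Bijective (f.app W)) :
    Function.Bijective ((pullback.snd f g).app W) := by
  constructor
  · intro s t hst
    refine pullback_app_ext f g W s t (hf.1 ?_) hst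
    have hs : f.app W ((pullback.fst f g).app W s) = g.app W ((pullback.snd f g).app W s) := by
      rw [← app_comp, ← app_comp, pullback.condition]
    have ht : f.app W ((pullback.fst f g).app W t) = g.app W ((pullback.snd f g).app W t) := by
      rw [← app_comp, ← app_comp, pullback.condition]
    rw [hs, ht, hst]
  · intro b
    obtain ⟨a, ha⟩ := hf.2 (g.app W b)
    obtain ⟨s, -, hs⟩ := pullback_app_exists f g W a b ha
    exact ⟨s, hs⟩

end pullback

end Groth.Agent.Helper19.FPExt
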