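import Mathlib
import Groth.Agent.Helper19.FPExt1
import Groth.Agent.S10848
import Groth.Agent.Lib.Helper29.QCohCrit
import Groth.Agent.Lib.Helper29.QCohLocFree
import Groth.Agent.Lib.Helper3.ExtendFT
set_option autoImplicit false
set_option linter.style.haveILetI false
set_option linter.unusedSectionVars false
universe u

open CategoryTheory CategoryTheory.Limits AlgebraicGeometry Opposite TopologicalSpace

/-!
# Extension of finitely presented modules: the affine case
-/

namespace Groth.Agent.Helper19.FPExt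

open Groth.Agent.Lib.Helper29.QCoh

variable {X : Scheme.{u}}

theorem finite_restrict_of_finite {Y : Scheme.{u}} (f : Y ⟶ X) [IsOpenImmersion f] (M : X.Modules)
    (V : Y.Opens) (h : Module.Finite Γ(X, f ''ᵁ V) Γ(M, f ''ᵁ V)) :
    Module.Finite Γ(Y, V) Γ(M.restrict f, V) := by
  letI : Module Γ(X, f ''ᵁ V) Γ(M.restrict f, V) :=
    (inferInstance : Module Γ(X, f ''ᵁ V) Γ(M, f ''ᵁ V))
  haveI : Module.Finite Γ(X, f ''ᵁ V) Γ(M.restrict f, V) := h
  refine Groth.Agent.Lib.Helper3.module_finite_of_surjective_ringHom (f.appIso V).inv.hom ?_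
    (fun b m => restrict_smul f M V b m)
  intro a
  refine ⟨(f.appIso V).hom a, ?_⟩
  change ((f.appIso V).inv ((f.appIso V).hom a)) = a
  rw [← ConcreteCategory.comp_apply, Iso.hom_inv_id]
  rfl

theorem finite_congr (M : X.Modules) {W₁ W₂ : X.Opens} (h : W₁ = W₂)
    (hfp : Module.Finite Γ(X, W₁) Γ(M, W₁)) : Module.Finite Γ(X, W₂) Γ(M, W₂) := by
  subst h; exact hfp

/-- `M` is locally finitely generated on the open `U`. -/
def FTOn (M : X.Modules) (U : X.Opens) : Prop :=
  ∀ x ∈ U, ∃ W : X.Opens, IsAffineOpen W ∧ x ∈ W ∧ W ≤ U ∧ Module.Finite Γ(X, W) Γ(M, W)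

theorem FPOn.ftOn {M : X.Modules} {U : X.Opens} (h : FPOn M U) : FTOn M U := by
  intro x hx
  obtain ⟨W, hW, hxW, hWU, hfp⟩ := h x hx
  exact ⟨W, hW, hxW, hWU, inferInstance⟩

theorem isFiniteType_restrict_of_ftOn (M : X.Modules) [M.IsQuasicoherent] (U : X.Opens)
    (h : FTOn M U) : (M.restrict U.ι).IsFiniteType := by
  haveI : (M.restrict U.ι).IsQuasicoherent := Scheme.Modules.isQuasicoherent_restrictFunctor U.ι M
  let ι := {W : X.Opens // IsAffineOpen W ∧ W ≤ U ∧ Module.Finite Γ(X, W) Γ(M, W)}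
  have e2 : ∀ W : ι, U.ι ''ᵁ (U.ι ⁻¹ᵁ W.1) = W.1 := fun W =>
    Groth.Agent.Lib.Helper3.ι_image_preimage_of_le U W.2.2.1
  refine isFiniteType_of_module_finite (M.restrict U.ι) (fun W : ι => U.ι ⁻¹ᵁ W.1) ?_
    (fun W => ?_) (fun W => ?_)
  · rw [IsOpenCover, eq_top_iff]
    rintro x -
    obtain ⟨W, hW, hxW, hWU, hfin⟩ := h x.1 x.2
    exact Opens.mem_iSup.mpr ⟨⟨W, hW, hWU, hfin⟩, hxW⟩
  · rw [← U.ι.isAffineOpen_iff_of_isOpenImmersion, e2 W]
    exact W.2.1
  · exact finite_restrict_of_finite U.ι M _ (finite_congr M (e2 W).symm W.2.2.2)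

/-- The free module of finite rank. -/
theorem isFinitePresentation_freeM (Y : Scheme.{u}) (n : ℕ) :
    (freeM Y (ULift.{u} (Fin n))).IsFinitePresentation :=
  isFinitePresentation_of_isFinLocFree
    (isFinLocFree_of_iso (freeModIso Y n) (isFinLocFree_freeMod Y n))

/-- The affine case: on an affine scheme, a quasi-coherent module which is locally finitely
presented on a quasi-compact open `U` receives a map from a finitely presented module which is an
isomorphism over `U`. -/
theorem exists_fp_isoOn_of_isAffine {Y : Scheme.{u}} [IsAffine Y] (N : Y.Modules)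
    [N.IsQuasicoherent] (U : Y.Opens) (hU : IsCompact (U : Set Y)) (hN : FPOn N U) :
    ∃ (G : Y.Modules) (π : G ⟶ N), G.IsFinitePresentation ∧ IsoOn π U := by
  classical
  -- Step 1: a finite type submodule `H'` of `N` agreeing with `N` over `U`
  haveI hNU : (N.restrict U.ι).IsQuasicoherent :=
    Scheme.Modules.isQuasicoherent_restrictFunctor U.ι N
  have hft : (N.restrict U.ι).IsFiniteType := isFiniteType_restrict_of_ftOn N U hN.ftOn
  obtain ⟨H', i, e, hmono, hHq, hHft, hcompat⟩ :=
    Groth.Agent.S10848.result U hU N (N.restrict U.ι) hft (𝟙 _)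
  haveI : H'.IsQuasicoherent := hHq
  haveI : H'.IsFiniteType := hHft
  haveI := hmono
  have hi : IsoOn i U := by
    rw [isoOn_iff_isIso_restrict, ← hcompat]
    infer_instance
  -- Step 2: a surjection from a free module
  have htop : IsAffineOpen (⊤ : Y.Opens) := isAffineOpen_top Y
  haveI : Module.Finite Γ(Y, ⊤) Γ(H', ⊤) := module_finite_of_isFiniteType H' htop
  obtain ⟨n, s, hs⟩ := Module.Finite.exists_fin (R := Γ(Y, ⊤)) (M := Γ(H', ⊤))
  let s' : ULift.{u} (Fin n) → Γ(H', ⊤) := fun j => s j.down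
  have hs' : Submodule.span Γ(Y, ⊤) (Set.range s') = ⊤ := by
    have : Set.range s' = Set.range s := by
      ext t
      constructor
      · rintro ⟨j, rfl⟩; exact ⟨j.down, rfl⟩
      · rintro ⟨j, rfl⟩; exact ⟨⟨j⟩, rfl⟩
    rw [this, hs]
  let F := freeM Y (ULift.{u} (Fin n))
  haveI hFfp : F.IsFinitePresentation := isFinitePresentation_freeM Y n
  haveI : F.IsQuasicoherent := inferInstance
  haveI : F.IsFiniteType := inferInstance
  let p : F ⟶ H' := homOfSections H' s'
  haveI hp : Epi p := epi_homOfSections_of_span H' s' fun x =>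
    span_germ_eq_top_of_span_eq_top H' htop s' hs' x trivial
  -- Step 3: the kernel is of finite type over `U`
  let K := kernel p
  let κ : K ⟶ F := kernel.ι p
  haveI : K.IsQuasicoherent := inferInstanceAs (kernel p).IsQuasicoherent
  have hκp : κ ≫ p = 0 := kernel.condition p
  let S : ShortComplex Y.Modules := ShortComplex.mk κ p hκp
  have hS : S.Exact := ShortComplex.exact_kernel p
  haveI : Mono S.f := inferInstanceAs (Mono (kernel.ι p))
  have hex : ∀ W : Y.Opens, Function.Exact (κ.app W) (p.app W) := fun W =>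
    app_exact_of_exact_of_mono S hS W
  have hκinj : ∀ W : Y.Opens, Function.Injective (κ.app W) :=
    (mono_iff_app_injective κ).mp (inferInstanceAs (Mono (kernel.ι p)))
  have hKft : FTOn K U := by
    intro x hx
    obtain ⟨W, hW, hxW, hWU, hfp⟩ := hN x hx
    refine ⟨W, hW, hxW, hWU, ?_⟩
    haveI : Module.FinitePresentation Γ(Y, W) Γ(H', W) :=
      Module.FinitePresentation.of_equiv
        (LinearEquiv.ofBijective (appₗ i W) (hi W hWU)).symm
    haveI : Module.Finite Γ(Y, W) Γ(F, W) := module_finite_of_isFiniteType F hW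
    have hsurj : Function.Surjective (appₗ p W) := app_surjective_of_epi p hW
    have hker : (LinearMap.ker (appₗ p W)).FG := Module.FinitePresentation.fg_ker _ hsurj
    have hrange : LinearMap.range (appₗ κ W) = LinearMap.ker (appₗ p W) := by
      ext a
      rw [LinearMap.mem_range, LinearMap.mem_ker]
      exact ((hex W) a).symm
    have hfg : (LinearMap.range (appₗ κ W)).FG := hrange ▸ hker
    haveI : Module.Finite Γ(Y, W) (LinearMap.range (appₗ κ W)) := Module.Finite.of_fg hfg
    exact Module.Finite.equiv (LinearEquiv.ofInjective (appₗ κ W) (hκinj W)).symm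
  haveI : (K.restrict U.ι).IsQuasicoherent :=
    Scheme.Modules.isQuasicoherent_restrictFunctor U.ι K
  have hKft' : (K.restrict U.ι).IsFiniteType := isFiniteType_restrict_of_ftOn K U hKft
  obtain ⟨K', i₂, e₂, hmono₂, hK'q, hK'ft, hcompat₂⟩ :=
    Groth.Agent.S10848.result U hU K (K.restrict U.ι) hKft' (𝟙 _)
  haveI : K'.IsQuasicoherent := hK'q
  haveI : K'.IsFiniteType := hK'ft
  have hi₂ : IsoOn i₂ U := by
    rw [isoOn_iff_isIso_restrict, ← hcompat₂]
    infer_instance
  -- Step 4: the quotient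
  let k' : K' ⟶ F := i₂ ≫ κ
  let G := cokernel k'
  let c : F ⟶ G := cokernel.π k'
  haveI : G.IsQuasicoherent := inferInstanceAs (cokernel k').IsQuasicoherent
  have hk'p : k' ≫ p = 0 := by
    change (i₂ ≫ κ) ≫ p = 0
    rw [Category.assoc, hκp, comp_zero]
  let π₀ : G ⟶ H' := cokernel.desc k' p hk'p
  have hcπ : c ≫ π₀ = p := cokernel.π_desc k' p hk'p
  have hk'c : k' ≫ c = 0 := cokernel.condition k'
  let S₂ : ShortComplex Y.Modules := ShortComplex.mk k' c hk'c
  have hS₂ : S₂.Exact := ShortComplex.exact_cokernel k'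
  haveI : S₂.X₁.IsQuasicoherent := inferInstanceAs K'.IsQuasicoherent
  haveI : S₂.X₂.IsQuasicoherent := inferInstanceAs F.IsQuasicoherent
  haveI : Epi c := inferInstanceAs (Epi (cokernel.π k'))
  have hex₂ : ∀ W : Y.Opens, IsAffineOpen W → Function.Exact (k'.app W) (c.app W) :=
    fun W hW => app_exact_of_exact S₂ hS₂ hW
  refine ⟨G, π₀ ≫ i, ?_, IsoOn.comp ?_ hi⟩
  · -- finite presentation
    refine isFinitePresentation_of_module_finitePresentation G (fun _ : PUnit.{u + 1} => ⊤) ?_
      (fun _ => htop) (fun _ => ?_)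
    · rw [IsOpenCover, eq_top_iff]
      rintro x -
      exact Opens.mem_iSup.mpr ⟨PUnit.unit, trivial⟩
    · haveI : Module.FinitePresentation Γ(Y, ⊤) Γ(F, ⊤) :=
        module_finitePresentation_of_isFinitePresentation F htop
      have hsurj : Function.Surjective (appₗ c ⊤) := app_surjective_of_epi c htop
      refine Module.finitePresentation_of_surjective (appₗ c ⊤) hsurj ?_
      have hrange : LinearMap.ker (appₗ c ⊤) = LinearMap.range (appₗ k' ⊤) := by
        ext a
        rw [LinearMap.mem_range, LinearMap.mem_ker]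
        exact (hex₂ ⊤ htop) a
      rw [hrange]
      haveI : Module.Finite Γ(Y, ⊤) Γ(K', ⊤) := module_finite_of_isFiniteType K' htop
      exact Submodule.fg_range _
  · -- isomorphism over `U`
    refine isoOn_of_affine π₀ U fun W hW hWU => ⟨?_, ?_⟩
    · rw [injective_iff_map_eq_zero]
      intro g hg
      obtain ⟨a, rfl⟩ := app_surjective_of_epi c hW g
      have hpa : p.app W a = 0 := by
        rw [← hcπ, app_comp]; exact hg
      obtain ⟨k, rfl⟩ := ((hex W) a).mp hpa
      obtain ⟨k₀, rfl⟩ := (hi₂ W hWU).2 k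
      have : c.app W (κ.app W (i₂.app W k₀)) = (k' ≫ c).app W k₀ := by
        rw [app_comp]; rfl
      rw [this, hk'c]
      rfl
    · intro h
      obtain ⟨a, ha⟩ := app_surjective_of_epi p hW h
      refine ⟨c.app W a, ?_⟩
      rw [← app_comp, hcπ, ha]

end Groth.Agent.Helper19.FPExt
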