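import Mathlib
import Groth.Agent.Helper19.FPExt2
import Groth.Agent.S9818
set_option autoImplicit false
set_option linter.style.haveILetI false
set_option linter.unusedSectionVars false
universe u

open CategoryTheory CategoryTheory.Limits AlgebraicGeometry Opposite TopologicalSpace

/-!
# Extension of finitely presented modules: the inductive step and the global statement
-/

namespace Groth.Agent.Helper19.FPExt

open Groth.Agent.Lib.Helper29.QCoh

variable {X : Scheme.{u}}

/-- Sections of a pushforward along an open immersion over an open inside the image. -/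
theorem fp_pushforward_of_fp {Y : Scheme.{u}} (f : Y ⟶ X) [IsOpenImmersion f] (M : Y.Modules)
    (T : X.Opens) (hT : T ≤ f.opensRange)
    (h : Module.FinitePresentation Γ(Y, f ⁻¹ᵁ T) Γ(M, f ⁻¹ᵁ T)) :
    Module.FinitePresentation Γ(X, T) Γ((Scheme.Modules.pushforward f).obj M, T) := by
  letI : Module Γ(Y, f ⁻¹ᵁ T) Γ((Scheme.Modules.pushforward f).obj M, T) :=
    (inferInstance : Module Γ(Y, f ⁻¹ᵁ T) Γ(M, f ⁻¹ᵁ T))
  haveI : Module.FinitePresentation Γ(Y, f ⁻¹ᵁ T) Γ((Scheme.Modules.pushforward f).obj M, T) := h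
  haveI := Scheme.Hom.isIso_app f T hT
  let e : Γ(X, T) ≃+* Γ(Y, f ⁻¹ᵁ T) := (asIso (f.app T)).commRingCatIsoToRingEquiv
  refine finitePresentation_of_ringEquiv e.symm (fun r m => ?_)
  have h1 : (e.symm r) • m = (f.app T).hom (e.symm r) • m := rfl
  rw [h1]
  have h2 : (f.app T).hom (e.symm r) = r := e.apply_symm_apply r
  rw [h2]

/-- The inductive step: make a quasi-coherent module finitely presented over one more affine
open, without changing it over the open where it is already locally finitely presented. -/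
theorem exists_step [QuasiSeparatedSpace X] (G : X.Modules) [G.IsQuasicoherent] (U' : X.Opens)
    (hU' : IsCompact (U' : Set X)) (V : X.Opens) (hV : IsAffineOpen V) (hG : FPOn G U') :
    ∃ (G' : X.Modules) (θ : G' ⟶ G), G'.IsQuasicoherent ∧ IsoOn θ U' ∧ FPOn G' (U' ⊔ V) := by
  haveI : IsAffine (V : Scheme.{u}) := hV
  haveI : QuasiCompact V.ι := inferInstance
  let j : (V : Scheme.{u}) ⟶ X := V.ι
  let N : (V : Scheme.{u}).Modules := G.restrict V.ι
  haveI : N.IsQuasicoherent := Scheme.Modules.isQuasicoherent_restrictFunctor V.ι G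
  let U'' : (V : Scheme.{u}).Opens := V.ι ⁻¹ᵁ U'
  have hU'' : IsCompact (U'' : Set (V : Scheme.{u})) := V.ι.isCompact_preimage hU'
  have hN : FPOn N U'' := by
    intro x' hx'
    have hx : V.ι x' ∈ U' ⊓ V := ⟨hx', x'.2⟩
    obtain ⟨W, hW, hxW, hWle, hfp⟩ := (hG.mono (inf_le_left : U' ⊓ V ≤ U')) _ hx
    have e2 : V.ι ''ᵁ (V.ι ⁻¹ᵁ W) = W :=
      Groth.Agent.Lib.Helper3.ι_image_preimage_of_le V (hWle.trans inf_le_right)
    refine ⟨V.ι ⁻¹ᵁ W, ?_, hxW, ?_, ?_⟩
    · rw [← V.ι.isAffineOpen_iff_of_isOpenImmersion, e2]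
      exact hW
    · intro y hy
      exact (hWle hy).1
    · exact fp_restrict_of_fp V.ι G _ (fp_congr G e2.symm hfp)
  obtain ⟨GY, π, hGY, hπ⟩ := exists_fp_isoOn_of_isAffine N U'' hU'' hN
  haveI : GY.IsFinitePresentation := hGY
  haveI : GY.IsQuasicoherent := inferInstance
  haveI : ((Scheme.Modules.pushforward V.ι).obj GY).IsQuasicoherent :=
    isQuasicoherent_pushforward_of_qcqs V.ι GY
  haveI : ((Scheme.Modules.pushforward V.ι).obj N).IsQuasicoherent :=
    isQuasicoherent_pushforward_of_qcqs V.ι N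
  obtain ⟨η, hη⟩ : ∃ η : G ⟶ (Scheme.Modules.pushforward V.ι).obj N,
      η = (Scheme.Modules.restrictAdjunction V.ι).unit.app G := ⟨_, rfl⟩
  obtain ⟨jπ, hjπ⟩ : ∃ jπ : (Scheme.Modules.pushforward V.ι).obj GY ⟶
      (Scheme.Modules.pushforward V.ι).obj N, jπ = (Scheme.Modules.pushforward V.ι).map π :=
    ⟨_, rfl⟩
  have hjπapp : ∀ (W : X.Opens) (m : Γ(GY, V.ι ⁻¹ᵁ W)),
      jπ.app W m = π.app (V.ι ⁻¹ᵁ W) m := by
    intro W m; rw [hjπ]; rfl
  have hηapp : ∀ (W : X.Opens) (m : Γ(G, W)),
      η.app W m = res G (V.ι.image_preimage_le W) m := by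
    intro W m; rw [hη]; rfl
  refine ⟨pullback η jπ, pullback.fst η jπ, Groth.Agent.S9818.isQuasicoherent_pullback η jπ, ?_, ?_⟩
  · -- isomorphism over `U'`
    intro W hW
    refine pullback_fst_app_bijective η jπ W ?_
    have hb := hπ (V.ι ⁻¹ᵁ W) (fun y hy => hW hy)
    constructor
    · intro a b hab
      apply hb.1
      rw [← hjπapp, ← hjπapp]
      exact hab
    · intro b
      obtain ⟨a, ha⟩ := hb.2 b
      exact ⟨a, (hjπapp W a).trans ha⟩
  · -- local finite presentation
    have h1 : IsoOn (pullback.fst η jπ) U' := by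
      intro W hW
      refine pullback_fst_app_bijective η jπ W ?_
      have hb := hπ (V.ι ⁻¹ᵁ W) (fun y hy => hW hy)
      constructor
      · intro a b hab
        apply hb.1
        rw [← hjπapp, ← hjπapp]
        exact hab
      · intro b
        obtain ⟨a, ha⟩ := hb.2 b
        exact ⟨a, (hjπapp W a).trans ha⟩
    refine FPOn.sup (FPOn.of_isoOn h1 hG) ?_
    intro x hx
    refine ⟨V, hV, hx, le_rfl, ?_⟩
    have e2 : V.ι ''ᵁ (V.ι ⁻¹ᵁ V) = V := Groth.Agent.Lib.Helper3.ι_image_preimage_of_le V le_rfl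
    have hηb : Function.Bijective (η.app V) := by
      constructor
      · intro a b hab
        rw [hηapp, hηapp] at hab
        exact res_injective_of_eq G e2 hab
      · intro b
        refine ⟨res G e2.ge (show Γ(G, V.ι ''ᵁ (V.ι ⁻¹ᵁ V)) from b), ?_⟩
        rw [hηapp, res_res]
        exact res_self G _
    have hsnd := pullback_snd_app_bijective η jπ V hηb
    have haff : IsAffineOpen (V.ι ⁻¹ᵁ V) := by
      rw [← V.ι.isAffineOpen_iff_of_isOpenImmersion, e2]
      exact hV
    have hfpY : Module.FinitePresentation Γ((V : Scheme.{u}), V.ι ⁻¹ᵁ V) Γ(GY, V.ι ⁻¹ᵁ V) :=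
      module_finitePresentation_of_isFinitePresentation GY haff
    haveI hfpX : Module.FinitePresentation Γ(X, V)
        Γ((Scheme.Modules.pushforward V.ι).obj GY, V) :=
      fp_pushforward_of_fp V.ι GY V (by rw [Scheme.Opens.opensRange_ι]) hfpY
    exact Module.FinitePresentation.of_equiv
      (LinearEquiv.ofBijective (appₗ (pullback.snd η jπ) V) hsnd).symm

/-- The iterated union of a list of opens. -/
def supList (L : List X.Opens) : X.Opens := L.foldr (· ⊔ ·) ⊥

theorem isCompact_supList (L : List X.Opens) (hL : ∀ V ∈ L, IsAffineOpen V) :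
    IsCompact (supList L : Set X) := by
  induction L with
  | nil => simp [supList]
  | cons V L ih =>
    have h1 : supList (V :: L) = V ⊔ supList L := rfl
    rw [h1, Opens.coe_sup]
    exact (hL V (List.mem_cons_self ..)).isCompact.union
      (ih fun W hW => hL W (List.mem_cons_of_mem _ hW))

theorem le_supList {L : List X.Opens} {V : X.Opens} (hV : V ∈ L) : V ≤ supList L := by
  induction L with
  | nil => cases hV
  | cons W L ih =>
    have h1 : supList (W :: L) = W ⊔ supList L := rfl
    rw [h1]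
    rcases List.mem_cons.mp hV with rfl | h
    · exact le_sup_left
    · exact (ih h).trans le_sup_right

theorem exists_of_list [QuasiSeparatedSpace X] (H : X.Modules) [H.IsQuasicoherent] (U : X.Opens)
    (hU : IsCompact (U : Set X)) (hH : FPOn H U) (L : List X.Opens)
    (hL : ∀ V ∈ L, IsAffineOpen V) :
    ∃ (G : X.Modules) (θ : G ⟶ H), G.IsQuasicoherent ∧ IsoOn θ U ∧ FPOn G (U ⊔ supList L) := by
  induction L with
  | nil =>
    refine ⟨H, 𝟙 H, inferInstance, isoOn_of_isIso _ U, ?_⟩
    have : U ⊔ supList ([] : List X.Opens) = U := by simp [supList]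
    rw [this]
    exact hH
  | cons V L ih =>
    obtain ⟨G, θ, hGq, hθ, hG⟩ := ih fun W hW => hL W (List.mem_cons_of_mem _ hW)
    haveI := hGq
    have hc : IsCompact ((U ⊔ supList L : X.Opens) : Set X) := by
      rw [Opens.coe_sup]
      exact hU.union (isCompact_supList L fun W hW => hL W (List.mem_cons_of_mem _ hW))
    obtain ⟨G', θ', hG'q, hθ', hG'⟩ :=
      exists_step G (U ⊔ supList L) hc V (hL V (List.mem_cons_self ..)) hG
    refine ⟨G', θ' ≫ θ, hG'q, IsoOn.comp (hθ'.mono le_sup_left) hθ, ?_⟩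
    have h1 : supList (V :: L) = V ⊔ supList L := rfl
    have h2 : U ⊔ supList (V :: L) = U ⊔ supList L ⊔ V := by
      rw [h1, sup_assoc, sup_comm (supList L) V]
    rw [h2]
    exact hG'

/-- On a quasi-compact quasi-separated scheme, a quasi-coherent module which is locally finitely
presented on a quasi-compact open `U` receives a map from a finitely presented module which is an
isomorphism over `U`. -/
theorem exists_fp_isoOn [CompactSpace X] [QuasiSeparatedSpace X] (H : X.Modules)
    [H.IsQuasicoherent] (U : X.Opens) (hU : IsCompact (U : Set X)) (hH : FPOn H U) :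
    ∃ (G : X.Modules) (θ : G ⟶ H), G.IsFinitePresentation ∧ IsoOn θ U := by
  obtain ⟨n, V, hV, -, hcov⟩ := exists_finite_affine_cover
    (X := X) (U := ⊤) (by simpa using (CompactSpace.isCompact_univ : IsCompact (Set.univ : Set X)))
  obtain ⟨G, θ, hGq, hθ, hG⟩ := exists_of_list H U hU hH (List.ofFn V) (by
    intro W hW
    obtain ⟨i, rfl⟩ := (List.mem_ofFn' V W).mp hW
    exact hV i)
  haveI := hGq
  refine ⟨G, θ, isFinitePresentation_of_fpOn_top G ?_, hθ⟩
  have htop : U ⊔ supList (List.ofFn V) = ⊤ := by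
    rw [eq_top_iff]
    refine hcov.trans ?_
    refine iSup_le fun i => ?_
    exact (le_supList ((List.mem_ofFn' V (V i)).mpr ⟨i, rfl⟩)).trans le_sup_right
  rw [htop] at hG
  exact hG

/-- Local finite presentation on `U` from an isomorphism of the restriction with a finitely
presented module. -/
theorem fpOn_of_restrict_iso (M : X.Modules) (U : X.Opens) (G : (U : Scheme.{u}).Modules)
    [G.IsFinitePresentation] (e : M.restrict U.ι ≅ G) : FPOn M U := by
  intro x hx
  obtain ⟨W', hW', hxW', -⟩ := exists_isAffineOpen_mem_and_subset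
    (X := (U : Scheme.{u})) (x := ⟨x, hx⟩) (U := ⊤) trivial
  refine ⟨U.ι ''ᵁ W', hW'.image_of_isOpenImmersion U.ι, ⟨⟨x, hx⟩, hxW', rfl⟩, U.ι_image_le W', ?_⟩
  apply fp_of_fp_restrict U.ι M W'
  haveI : Module.FinitePresentation Γ((U : Scheme.{u}), W') Γ(G, W') :=
    module_finitePresentation_of_isFinitePresentation G hW'
  exact Module.FinitePresentation.of_equiv
    (LinearEquiv.ofBijective (appₗ e.hom W') (app_bijective_of_isIso e.hom W')).symm

/-- **Extension of finitely presented modules** (Stacks 01PH). -/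
theorem exists_fp_extension [CompactSpace X] [QuasiSeparatedSpace X] (F : X.Modules)
    [F.IsQuasicoherent] (U : X.Opens) (hU : IsCompact (U : Set X))
    (G : (U : Scheme.{u}).Modules) [G.IsFinitePresentation] (φ : G ⟶ F.restrict U.ι) :
    ∃ (G' : X.Modules) (φ' : G' ⟶ F) (e : G'.restrict U.ι ≅ G), G'.IsFinitePresentation ∧
      e.hom ≫ φ = (Scheme.Modules.restrictFunctor U.ι).map φ' := by
  haveI : CompactSpace ((U : Scheme.{u}) : Type u) := isCompact_iff_compactSpace.mp hU
  haveI : QuasiCompact U.ι := inferInstance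
  haveI : G.IsQuasicoherent := inferInstance
  obtain ⟨H, ψ, e, hHq, hcompat⟩ := Groth.Agent.S9818.result U F G φ
  haveI : H.IsQuasicoherent := hHq
  have hH : FPOn H U := fpOn_of_restrict_iso H U G e
  obtain ⟨G', θ, hG', hθ⟩ := exists_fp_isoOn H U hU hH
  haveI : IsIso ((Scheme.Modules.restrictFunctor U.ι).map θ) :=
    (isoOn_iff_isIso_restrict θ U).mp hθ
  refine ⟨G', θ ≫ ψ, asIso ((Scheme.Modules.restrictFunctor U.ι).map θ) ≪≫ e, hG', ?_⟩
  rw [Iso.trans_hom, asIso_hom, Category.assoc, hcompat, Functor.map_comp]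

end Groth.Agent.Helper19.FPExt
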