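import Mathlib
import Groth.Agent.Helper19.FPExt3
set_option autoImplicit false
set_option linter.style.haveILetI false
set_option linter.unusedSectionVars false
universe u

open CategoryTheory CategoryTheory.Limits AlgebraicGeometry Opposite TopologicalSpace

/-!
# Finitely presented covers of finite type quasi-coherent modules
-/

namespace Groth.Agent.Helper19.FPExt

open Groth.Agent.Lib.Helper29.QCoh

variable {X : Scheme.{u}}

theorem app_add {M N : X.Modules} (α β : M ⟶ N) (W : X.Opens) (m : Γ(M, W)) :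
    (α + β).app W m = α.app W m + β.app W m := rfl

theorem app_zero {M N : X.Modules} (W : X.Opens) (m : Γ(M, W)) :
    (0 : M ⟶ N).app W m = 0 := rfl

theorem app_surjective_congr {M N : X.Modules} (φ : M ⟶ N) {W W' : X.Opens} (e : W = W')
    (h : Function.Surjective (φ.app W)) : Function.Surjective (φ.app W') := by
  subst e; exact h

/-- A morphism to a quasi-coherent module which is surjective on sections over the members of an
affine open cover is an epimorphism. -/
theorem epi_of_app_surjective_of_affine_cover {M N : X.Modules} [N.IsQuasicoherent]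
    (φ : M ⟶ N) {ι : Type*} (U : ι → X.Opens)
    (hU : ∀ i, IsAffineOpen (U i)) (hcov : ∀ x : X, ∃ i, x ∈ U i)
    (h : ∀ i, Function.Surjective (φ.app (U i))) : Epi φ := by
  rw [epi_iff_stalkMap_surjective]
  intro x t
  obtain ⟨i, hx⟩ := hcov x
  obtain ⟨r, n, hxr, e⟩ := exists_smul_germ_eq N (hU i) x hx t
  have hr := isUnit_germ_of_mem_basicOpen r x hx hxr
  obtain ⟨m, rfl⟩ := h i n
  obtain ⟨u, hu⟩ := hr
  refine ⟨(↑u⁻¹ : X.presheaf.stalk x) • M.presheaf.germ (U i) x hx m, ?_⟩
  rw [stalkMap_smul, stalkMap_germ, ← e, ← hu, smul_smul, Units.inv_mul, one_smul]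

/-- On an affine scheme, a quasi-coherent module of finite type is a quotient of a free module of
finite rank. -/
theorem exists_epi_free_of_isAffine {Y : Scheme.{u}} [IsAffine Y] (N : Y.Modules)
    [N.IsQuasicoherent] [N.IsFiniteType] :
    ∃ (n : ℕ) (p : freeM Y (ULift.{u} (Fin n)) ⟶ N), Epi p := by
  have htop : IsAffineOpen (⊤ : Y.Opens) := isAffineOpen_top Y
  haveI : Module.Finite Γ(Y, ⊤) Γ(N, ⊤) := module_finite_of_isFiniteType N htop
  obtain ⟨n, s, hs⟩ := Module.Finite.exists_fin (R := Γ(Y, ⊤)) (M := Γ(N, ⊤))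
  let s' : ULift.{u} (Fin n) → Γ(N, ⊤) := fun j => s j.down
  have hs' : Submodule.span Γ(Y, ⊤) (Set.range s') = ⊤ := by
    have : Set.range s' = Set.range s := by
      ext t
      constructor
      · rintro ⟨j, rfl⟩; exact ⟨j.down, rfl⟩
      · rintro ⟨j, rfl⟩; exact ⟨⟨j⟩, rfl⟩
    rw [this, hs]
  exact ⟨n, homOfSections N s', epi_homOfSections_of_span N s' fun x =>
    span_germ_eq_top_of_span_eq_top N htop s' hs' x trivial⟩

theorem ftOn_of_isFiniteType (F : X.Modules) [F.IsQuasicoherent] [F.IsFiniteType] (U : X.Opens) :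
    FTOn F U := by
  intro x hx
  obtain ⟨W, hW, hxW, hWU⟩ := exists_isAffineOpen_mem_and_subset (x := x) (U := U) hx
  exact ⟨W, hW, hxW, hWU, module_finite_of_isFiniteType F hW⟩

/-- A finitely presented module mapping onto the sections of `F` over a given affine open. -/
theorem exists_fp_surjective_on [CompactSpace X] [QuasiSeparatedSpace X] (F : X.Modules)
    [F.IsQuasicoherent] [F.IsFiniteType] (V : X.Opens) (hV : IsAffineOpen V) :
    ∃ (G : X.Modules) (φ : G ⟶ F), G.IsFinitePresentation ∧ Function.Surjective (φ.app V) := by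
  haveI : IsAffine (V : Scheme.{u}) := hV
  haveI : (F.restrict V.ι).IsQuasicoherent := Scheme.Modules.isQuasicoherent_restrictFunctor V.ι F
  haveI : (F.restrict V.ι).IsFiniteType :=
    isFiniteType_restrict_of_ftOn F V (ftOn_of_isFiniteType F V)
  obtain ⟨n, p, hp⟩ := exists_epi_free_of_isAffine (F.restrict V.ι)
  haveI := isFinitePresentation_freeM (V : Scheme.{u}) n
  obtain ⟨G', φ', e, hG', hcompat⟩ := exists_fp_extension F V hV.isCompact _ p
  haveI := hG'
  refine ⟨G', φ', hG', ?_⟩
  haveI : Epi ((Scheme.Modules.restrictFunctor V.ι).map φ') := by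
    rw [← hcompat]; infer_instance
  haveI : (G'.restrict V.ι).IsQuasicoherent :=
    Scheme.Modules.isQuasicoherent_restrictFunctor V.ι G'
  have h1 : Function.Surjective (((Scheme.Modules.restrictFunctor V.ι).map φ').app ⊤) :=
    app_surjective_of_epi (M := G'.restrict V.ι) (N := F.restrict V.ι) _
      (isAffineOpen_top (V : Scheme.{u}))
  have h2 : Function.Surjective (φ'.app (V.ι ''ᵁ ⊤)) := h1
  exact app_surjective_congr φ' (Scheme.Opens.ι_image_top V) h2

/-- The sum of two maps from finitely presented modules. -/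
theorem exists_fp_sum {F G₁ G₂ : X.Modules} [F.IsQuasicoherent] [G₁.IsFinitePresentation]
    [G₂.IsFinitePresentation] (φ₁ : G₁ ⟶ F) (φ₂ : G₂ ⟶ F) :
    ∃ (G : X.Modules) (φ : G ⟶ F), G.IsFinitePresentation ∧ ∀ W : X.Opens,
      (∀ a, ∃ s, φ.app W s = φ₁.app W a) ∧ (∀ b, ∃ s, φ.app W s = φ₂.app W b) := by
  let z₁ : G₁ ⟶ F := 0
  let z₂ : G₂ ⟶ F := 0
  haveI : G₁.IsQuasicoherent := inferInstance
  haveI : G₂.IsQuasicoherent := inferInstance
  haveI : (pullback z₁ z₂).IsQuasicoherent := Groth.Agent.S9818.isQuasicoherent_pullback z₁ z₂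
  refine ⟨pullback z₁ z₂, pullback.fst z₁ z₂ ≫ φ₁ + pullback.snd z₁ z₂ ≫ φ₂, ?_, fun W => ⟨?_, ?_⟩⟩
  · apply isFinitePresentation_of_fpOn_top
    intro x _
    obtain ⟨W, hW, hxW, -⟩ := exists_isAffineOpen_mem_and_subset (x := x) (U := ⊤) trivial
    refine ⟨W, hW, hxW, le_top, ?_⟩
    haveI : Module.FinitePresentation Γ(X, W) Γ(G₁, W) :=
      module_finitePresentation_of_isFinitePresentation G₁ hW
    haveI : Module.FinitePresentation Γ(X, W) Γ(G₂, W) :=
      module_finitePresentation_of_isFinitePresentation G₂ hW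
    let l : Γ(pullback z₁ z₂, W) →ₗ[Γ(X, W)] Γ(G₁, W) × Γ(G₂, W) :=
      LinearMap.prod (appₗ (pullback.fst z₁ z₂) W) (appₗ (pullback.snd z₁ z₂) W)
    have hl : Function.Bijective l := by
      constructor
      · intro s t hst
        have h1 : (pullback.fst z₁ z₂).app W s = (pullback.fst z₁ z₂).app W t :=
          congrArg Prod.fst hst
        have h2 : (pullback.snd z₁ z₂).app W s = (pullback.snd z₁ z₂).app W t :=
          congrArg Prod.snd hst
        exact pullback_app_ext z₁ z₂ W s t h1 h2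
      · rintro ⟨a, b⟩
        obtain ⟨s, hs1, hs2⟩ := pullback_app_exists z₁ z₂ W a b rfl
        exact ⟨s, Prod.ext hs1 hs2⟩
    exact Module.FinitePresentation.of_equiv (LinearEquiv.ofBijective l hl).symm
  · intro a
    obtain ⟨s, hs1, hs2⟩ := pullback_app_exists z₁ z₂ W a 0 rfl
    refine ⟨s, ?_⟩
    rw [app_add, app_comp, app_comp, hs1, hs2, map_zero, add_zero]
  · intro b
    obtain ⟨s, hs1, hs2⟩ := pullback_app_exists z₁ z₂ W 0 b rfl
    refine ⟨s, ?_⟩
    rw [app_add, app_comp, app_comp, hs1, hs2, map_zero, zero_add]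

theorem exists_fp_surjective_on_list [CompactSpace X] [QuasiSeparatedSpace X] (F : X.Modules)
    [F.IsQuasicoherent] [F.IsFiniteType] (L : List X.Opens) (hL : ∀ V ∈ L, IsAffineOpen V) :
    ∃ (G : X.Modules) (φ : G ⟶ F), G.IsFinitePresentation ∧
      ∀ V ∈ L, Function.Surjective (φ.app V) := by
  induction L with
  | nil =>
    exact ⟨freeM X (ULift.{u} (Fin 0)), 0, isFinitePresentation_freeM X 0, fun V hV => by cases hV⟩
  | cons V L ih =>
    obtain ⟨G₁, φ₁, hG₁, h₁⟩ := ih fun W hW => hL W (List.mem_cons_of_mem _ hW)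
    obtain ⟨G₂, φ₂, hG₂, h₂⟩ := exists_fp_surjective_on F V (hL V (List.mem_cons_self ..))
    haveI := hG₁
    haveI := hG₂
    obtain ⟨G, φ, hG, h⟩ := exists_fp_sum φ₁ φ₂
    refine ⟨G, φ, hG, fun W hW t => ?_⟩
    rcases List.mem_cons.mp hW with rfl | hW'
    · obtain ⟨b, rfl⟩ := h₂ t
      exact (h W).2 b
    · obtain ⟨a, rfl⟩ := h₁ W hW' t
      exact (h W).1 a

/-- On a quasi-compact quasi-separated scheme, every quasi-coherent module of finite type is a
quotient of a finitely presented module. -/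
theorem exists_fp_epi [CompactSpace X] [QuasiSeparatedSpace X] (F : X.Modules)
    [F.IsQuasicoherent] [F.IsFiniteType] :
    ∃ (G : X.Modules) (φ : G ⟶ F), G.IsFinitePresentation ∧ Epi φ := by
  obtain ⟨n, V, hV, -, hcov⟩ := exists_finite_affine_cover
    (X := X) (U := ⊤) (by simpa using (CompactSpace.isCompact_univ : IsCompact (Set.univ : Set X)))
  obtain ⟨G, φ, hG, h⟩ := exists_fp_surjective_on_list F (List.ofFn V) (by
    intro W hW
    obtain ⟨i, rfl⟩ := (List.mem_ofFn' V W).mp hW
    exact hV i)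
  refine ⟨G, φ, hG, epi_of_app_surjective_of_affine_cover φ V hV (fun x => ?_)
    (fun i => h (V i) ((List.mem_ofFn' V (V i)).mpr ⟨i, rfl⟩))⟩
  exact Opens.mem_iSup.mp (hcov (Opens.mem_top x))

/-- Sections of a kernel. -/
theorem kernel_app_exact {P Q : X.Modules} (p : P ⟶ Q) (W : X.Opens) :
    Function.Exact ((kernel.ι p).app W) (p.app W) := by
  let S : ShortComplex X.Modules := ShortComplex.mk (kernel.ι p) p (kernel.condition p)
  have hS : S.Exact := ShortComplex.exact_kernel p
  haveI : Mono S.f := inferInstanceAs (Mono (kernel.ι p))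
  exact app_exact_of_exact_of_mono S hS W

/-- The kernel of an epimorphism from a finite type module onto a module which is locally
finitely presented on `U` is locally finitely generated on `U`. -/
theorem ftOn_kernel {P Q : X.Modules} [P.IsQuasicoherent] [P.IsFiniteType] [Q.IsQuasicoherent]
    (p : P ⟶ Q) [Epi p] (U : X.Opens) (hQ : FPOn Q U) : FTOn (kernel p) U := by
  intro x hx
  obtain ⟨W, hW, hxW, hWU, hfp⟩ := hQ x hx
  refine ⟨W, hW, hxW, hWU, ?_⟩
  haveI := hfp
  haveI : Module.Finite Γ(X, W) Γ(P, W) := module_finite_of_isFiniteType P hW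
  have hsurj : Function.Surjective (appₗ p W) := app_surjective_of_epi p hW
  have hker : (LinearMap.ker (appₗ p W)).FG := Module.FinitePresentation.fg_ker _ hsurj
  have hrange : LinearMap.range (appₗ (kernel.ι p) W) = LinearMap.ker (appₗ p W) := by
    ext a
    rw [LinearMap.mem_range, LinearMap.mem_ker]
    exact ((kernel_app_exact p W) a).symm
  have hfg : (LinearMap.range (appₗ (kernel.ι p) W)).FG := hrange ▸ hker
  haveI : Module.Finite Γ(X, W) (LinearMap.range (appₗ (kernel.ι p) W)) := Module.Finite.of_fg hfg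
  have hinj : Function.Injective (appₗ (kernel.ι p) W) :=
    (mono_iff_app_injective (kernel.ι p)).mp inferInstance W
  exact Module.Finite.equiv (LinearEquiv.ofInjective (appₗ (kernel.ι p) W) hinj).symm

/-- Quotient of a finitely presented module by the image of a finite type module. -/
theorem quotient_fp_isoOn {P Q K' : X.Modules} [P.IsFinitePresentation] [Q.IsQuasicoherent]
    [K'.IsQuasicoherent] [K'.IsFiniteType] (p : P ⟶ Q) [Epi p] (k' : K' ⟶ P) (hk : k' ≫ p = 0)
    (U : X.Opens)
    (hU : ∀ W : X.Opens, IsAffineOpen W → W ≤ U → ∀ a : Γ(P, W), p.app W a = 0 →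
      ∃ k₀, k'.app W k₀ = a) :
    (cokernel k').IsFinitePresentation ∧ IsoOn (cokernel.desc k' p hk) U ∧
      Epi (cokernel.desc k' p hk) := by
  haveI : P.IsQuasicoherent := inferInstance
  haveI : P.IsFiniteType := inferInstance
  let G := cokernel k'
  let c : P ⟶ G := cokernel.π k'
  haveI : G.IsQuasicoherent := inferInstanceAs (cokernel k').IsQuasicoherent
  let π₀ : G ⟶ Q := cokernel.desc k' p hk
  have hcπ : c ≫ π₀ = p := cokernel.π_desc k' p hk
  have hk'c : k' ≫ c = 0 := cokernel.condition k'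
  let S₂ : ShortComplex X.Modules := ShortComplex.mk k' c hk'c
  have hS₂ : S₂.Exact := ShortComplex.exact_cokernel k'
  haveI : S₂.X₁.IsQuasicoherent := inferInstanceAs K'.IsQuasicoherent
  haveI : S₂.X₂.IsQuasicoherent := inferInstanceAs P.IsQuasicoherent
  haveI : Epi c := inferInstanceAs (Epi (cokernel.π k'))
  have hex₂ : ∀ W : X.Opens, IsAffineOpen W → Function.Exact (k'.app W) (c.app W) :=
    fun W hW => app_exact_of_exact S₂ hS₂ hW
  refine ⟨?_, ?_, ?_⟩
  · apply isFinitePresentation_of_fpOn_top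
    intro x _
    obtain ⟨W, hW, hxW, -⟩ := exists_isAffineOpen_mem_and_subset (x := x) (U := ⊤) trivial
    refine ⟨W, hW, hxW, le_top, ?_⟩
    haveI : Module.FinitePresentation Γ(X, W) Γ(P, W) :=
      module_finitePresentation_of_isFinitePresentation P hW
    have hsurj : Function.Surjective (appₗ c W) := app_surjective_of_epi c hW
    refine Module.finitePresentation_of_surjective (appₗ c W) hsurj ?_
    have hrange : LinearMap.ker (appₗ c W) = LinearMap.range (appₗ k' W) := by
      ext a
      rw [LinearMap.mem_range, LinearMap.mem_ker]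
      exact (hex₂ W hW) a
    rw [hrange]
    haveI : Module.Finite Γ(X, W) Γ(K', W) := module_finite_of_isFiniteType K' hW
    exact Submodule.fg_range _
  · refine isoOn_of_affine π₀ U fun W hW hWU => ⟨?_, ?_⟩
    · rw [injective_iff_map_eq_zero]
      intro g hg
      obtain ⟨a, rfl⟩ := app_surjective_of_epi c hW g
      have hpa : p.app W a = 0 := by
        rw [← hcπ, app_comp]; exact hg
      obtain ⟨k₀, rfl⟩ := hU W hW hWU a hpa
      have : c.app W (k'.app W k₀) = (k' ≫ c).app W k₀ := by
        rw [app_comp]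
      rw [this, hk'c]
      rfl
    · intro h
      obtain ⟨a, ha⟩ := app_surjective_of_epi p hW h
      refine ⟨c.app W a, ?_⟩
      rw [← app_comp, hcπ, ha]
  · exact epi_of_epi_fac hcπ

/-- **Stacks 01PK**: a finite type quasi-coherent module which is locally finitely presented on
a quasi-compact open `U` is a quotient of a finitely presented module by a map which is an
isomorphism over `U`. -/
theorem exists_fp_epi_isoOn [CompactSpace X] [QuasiSeparatedSpace X] (F : X.Modules)
    [F.IsQuasicoherent] [F.IsFiniteType] (U : X.Opens) (hU : IsCompact (U : Set X))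
    (hF : FPOn F U) :
    ∃ (G : X.Modules) (φ : G ⟶ F), G.IsFinitePresentation ∧ Epi φ ∧ IsoOn φ U := by
  obtain ⟨G₀, π, hG₀, hπ⟩ := exists_fp_epi F
  haveI := hG₀
  haveI := hπ
  haveI : G₀.IsQuasicoherent := inferInstance
  haveI : G₀.IsFiniteType := inferInstance
  let K := kernel π
  haveI : K.IsQuasicoherent := inferInstanceAs (kernel π).IsQuasicoherent
  have hKft : FTOn K U := ftOn_kernel π U hF
  haveI : (K.restrict U.ι).IsQuasicoherent :=
    Scheme.Modules.isQuasicoherent_restrictFunctor U.ι K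
  have hKft' : (K.restrict U.ι).IsFiniteType := isFiniteType_restrict_of_ftOn K U hKft
  obtain ⟨K', i₂, e₂, hmono₂, hK'q, hK'ft, hcompat₂⟩ :=
    Groth.Agent.S10848.result U hU K (K.restrict U.ι) hKft' (𝟙 _)
  haveI : K'.IsQuasicoherent := hK'q
  haveI : K'.IsFiniteType := hK'ft
  have hi₂ : IsoOn i₂ U := by
    rw [isoOn_iff_isIso_restrict, ← hcompat₂]
    infer_instance
  have hk : (i₂ ≫ kernel.ι π) ≫ π = 0 := by
    rw [Category.assoc, kernel.condition, comp_zero]
  obtain ⟨h1, h2, h3⟩ := quotient_fp_isoOn π (i₂ ≫ kernel.ι π) hk U (by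
    intro W hW hWU a ha
    obtain ⟨k, rfl⟩ := ((kernel_app_exact π W) a).mp ha
    obtain ⟨k₀, rfl⟩ := (hi₂ W hWU).2 k
    exact ⟨k₀, app_comp _ _ W k₀⟩)
  exact ⟨_, _, h1, h3, h2⟩

end Groth.Agent.Helper19.FPExt
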