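import Mathlib
import Groth.Agent.Helper19.FPExt4
import Groth.Agent.S9819
set_option autoImplicit false
set_option linter.style.haveILetI false
set_option linter.unusedSectionVars false
universe u

open CategoryTheory CategoryTheory.Limits AlgebraicGeometry Opposite TopologicalSpace

/-!
# A finite type quasi-coherent module as a directed colimit of finitely presented modules
with surjective transition maps (Stacks 01PJ)
-/

namespace Groth.Agent.Helper19.FPExt

open Groth.Agent.Lib.Helper29.QCoh

variable {X : Scheme.{u}}

attribute [local instance] Abelian.hasFiniteBiproducts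

theorem app_sum {M N : X.Modules} {ι : Type*} (s : Finset ι) (α : ι → (M ⟶ N)) (W : X.Opens)
    (m : Γ(M, W)) : (∑ i ∈ s, α i).app W m = ∑ i ∈ s, (α i).app W m := by
  classical
  induction s using Finset.induction_on with
  | empty => simp only [Finset.sum_empty]; rfl
  | insert a s ha ih =>
    rw [Finset.sum_insert ha, Finset.sum_insert ha, app_add, ih]

theorem app_id {M : X.Modules} (W : X.Opens) (m : Γ(M, W)) : (𝟙 M : M ⟶ M).app W m = m := rfl

/-- A finite biproduct of quasi-coherent modules is quasi-coherent. -/
theorem isQuasicoherent_biproduct {ι : Type u} [Fintype ι] (f : ι → X.Modules)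
    (h : ∀ i, (f i).IsQuasicoherent) : (⨁ f).IsQuasicoherent := by
  have h1 : (colimit (Discrete.functor f)).IsQuasicoherent := by
    apply isQuasicoherent_colimit (Discrete.functor f)
    rintro ⟨i⟩
    exact h i
  exact (SheafOfModules.isQuasicoherent X.ringCatSheaf).prop_of_iso
    (biproduct.isoCoproduct f).symm h1

/-- Sections of a finite biproduct are sums of sections of the summands. -/
theorem biproduct_app_eq_sum {ι : Type u} [Fintype ι] (f : ι → X.Modules) (W : X.Opens)
    (m : Γ(⨁ f, W)) :
    m = ∑ i, (biproduct.ι f i).app W ((biproduct.π f i).app W m) := by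
  classical
  have h : ∑ i : ι, biproduct.π f i ≫ biproduct.ι f i = 𝟙 (⨁ f) := by
    apply biproduct.hom_ext'
    intro j
    rw [Preadditive.comp_sum, Category.comp_id]
    rw [Finset.sum_eq_single j]
    · rw [biproduct.ι_π_self_assoc]
    · intro i _ hij
      rw [biproduct.ι_π_ne_assoc f (Ne.symm hij), zero_comp]
    · intro hj
      exact (hj (Finset.mem_univ j)).elim
  have h2 : (∑ i : ι, biproduct.π f i ≫ biproduct.ι f i).app W m = m := by
    rw [h]; rfl
  rw [app_sum] at h2
  refine h2.symm.trans ?_
  refine Finset.sum_congr rfl fun i _ => ?_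
  rw [app_comp]

/-- A finite biproduct of finite type quasi-coherent modules is of finite type. -/
theorem isFiniteType_biproduct {ι : Type u} [Fintype ι] (f : ι → X.Modules)
    (h : ∀ i, (f i).IsQuasicoherent) (h' : ∀ i, (f i).IsFiniteType) : (⨁ f).IsFiniteType := by
  classical
  haveI := isQuasicoherent_biproduct f h
  rw [isFiniteType_iff_forall_module_finite]
  intro W hW
  have hfin : ∀ i, Module.Finite Γ(X, W) Γ(f i, W) := fun i =>
    @module_finite_of_isFiniteType _ (f i) (h i) (h' i) _ hW
  have hsup : (⊤ : Submodule Γ(X, W) Γ(⨁ f, W)) =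
      ⨆ i, LinearMap.range (appₗ (biproduct.ι f i) W) := by
    rw [eq_comm, eq_top_iff]
    rintro m -
    rw [biproduct_app_eq_sum f W m]
    refine Submodule.sum_mem _ fun i _ => ?_
    exact Submodule.mem_iSup_of_mem i ⟨_, rfl⟩
  refine ⟨?_⟩
  rw [hsup]
  refine Submodule.fg_iSup _ fun i => ?_
  haveI := hfin i
  exact Submodule.fg_range _

/-- The cokernel of a map from a finite type quasi-coherent module to a finitely presented
module is finitely presented. -/
theorem cokernel_isFinitePresentation {P K' : X.Modules} [P.IsFinitePresentation]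
    [K'.IsQuasicoherent] [K'.IsFiniteType] (k' : K' ⟶ P) :
    (cokernel k').IsFinitePresentation := by
  haveI : P.IsQuasicoherent := inferInstance
  let c : P ⟶ cokernel k' := cokernel.π k'
  haveI : (cokernel k').IsQuasicoherent := inferInstance
  have hk'c : k' ≫ c = 0 := cokernel.condition k'
  let S₂ : ShortComplex X.Modules := ShortComplex.mk k' c hk'c
  have hS₂ : S₂.Exact := ShortComplex.exact_cokernel k'
  haveI : S₂.X₁.IsQuasicoherent := inferInstanceAs K'.IsQuasicoherent
  haveI : S₂.X₂.IsQuasicoherent := inferInstanceAs P.IsQuasicoherent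
  haveI : Epi c := inferInstanceAs (Epi (cokernel.π k'))
  apply isFinitePresentation_of_fpOn_top
  intro x _
  obtain ⟨W, hW, hxW, -⟩ := exists_isAffineOpen_mem_and_subset (x := x) (U := ⊤) trivial
  refine ⟨W, hW, hxW, le_top, ?_⟩
  haveI : Module.FinitePresentation Γ(X, W) Γ(P, W) :=
    module_finitePresentation_of_isFinitePresentation P hW
  have hsurj : Function.Surjective (appₗ c W) := app_surjective_of_epi c hW
  refine Module.finitePresentation_of_surjective (appₗ c W) hsurj ?_
  have hrange : LinearMap.ker (appₗ c W) = LinearMap.range (appₗ k' W) := by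
    ext a
    rw [LinearMap.mem_range, LinearMap.mem_ker]
    exact (app_exact_of_exact S₂ hS₂ hW) a
  rw [hrange]
  haveI : Module.Finite Γ(X, W) Γ(K', W) := module_finite_of_isFiniteType K' hW
  exact Submodule.fg_range _

/-- A morphism which vanishes on all sections over affine opens is zero. -/
theorem hom_eq_zero_of_affine {M N : X.Modules} (ψ : M ⟶ N)
    (h : ∀ (W : X.Opens), IsAffineOpen W → ∀ m : Γ(M, W), ψ.app W m = 0) : ψ = 0 := by
  have key : ∀ (W : X.Opens) (m : Γ(M, W)), ψ.app W m = 0 := by
    intro W m
    apply eq_zero_of_germ_eq_zero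
    intro x hx
    obtain ⟨W', hW', hxW', hle⟩ := exists_isAffineOpen_mem_and_subset (x := x) (U := W) hx
    rw [← germ_res N hle x hxW', ← app_res, h W' hW', map_zero]
  apply Scheme.Modules.hom_ext
  intro W
  ext m
  exact key W m

end Groth.Agent.Helper19.FPExt
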