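import Mathlib
import Groth.Agent.Helper19.FPExt5
set_option autoImplicit false
set_option linter.style.haveILetI false
set_option linter.unusedSectionVars false
universe u

open CategoryTheory CategoryTheory.Limits AlgebraicGeometry Opposite TopologicalSpace

/-!
# Stacks 01PJ: finite type quasi-coherent modules are directed colimits of finitely presented
modules with surjective transition maps
-/

namespace Groth.Agent.Helper19.FPExt

open Groth.Agent.Lib.Helper29.QCoh

variable {X : Scheme.{u}}

attribute [local instance] Abelian.hasFiniteBiproducts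

/-- Sections over affine opens. -/
abbrev Sec (K : X.Modules) : Type u := Σ W : X.affineOpens, Γ(K, W.1)

section choice

variable [CompactSpace X] [QuasiSeparatedSpace X] (K : X.Modules) [K.IsQuasicoherent]

theorem exists_sub (a : Sec K) : ∃ (S : X.Modules) (i : S ⟶ K), S.IsQuasicoherent ∧
    S.IsFiniteType ∧ ∃ g : Γ(S, a.1.1), i.app a.1.1 g = a.2 := by
  obtain ⟨G, i, -, hq, hft, g, hg⟩ := Groth.Agent.S9819.result K a.1 a.2
  exact ⟨G, i, hq, hft, g, hg⟩

/-- A chosen finite type quasi-coherent module mapping to `K` whose image contains the given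
section. -/
noncomputable def sub (a : Sec K) : X.Modules := (exists_sub K a).choose

noncomputable def subι (a : Sec K) : sub K a ⟶ K := (exists_sub K a).choose_spec.choose

theorem sub_spec (a : Sec K) : (sub K a).IsQuasicoherent ∧ (sub K a).IsFiniteType ∧
    ∃ g : Γ(sub K a, a.1.1), (subι K a).app a.1.1 g = a.2 :=
  (exists_sub K a).choose_spec.choose_spec

instance (a : Sec K) : (sub K a).IsQuasicoherent := (sub_spec K a).1

instance (a : Sec K) : (sub K a).IsFiniteType := (sub_spec K a).2.1

end choice

/-- **Stacks 01PJ.** -/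
theorem exists_directed_colimit_fp_epi [CompactSpace X] [QuasiSeparatedSpace X] (F : X.Modules)
    [F.IsQuasicoherent] [F.IsFiniteType] :
    ∃ (J : Type u) (_ : PartialOrder J) (_ : IsDirected J (· ≤ ·)) (_ : Nonempty J)
      (D : J ⥤ X.Modules) (ι : D ⟶ (Functor.const J).obj F),
      Nonempty (IsColimit (Cocone.mk F ι)) ∧
      (∀ j, (D.obj j).IsFinitePresentation) ∧ ∀ (j j' : J) (h : j ⟶ j'), Epi (D.map h) := by
  classical
  obtain ⟨G₀, π, hG₀, hπ⟩ := exists_fp_epi F
  haveI := hG₀
  haveI := hπ
  haveI : G₀.IsQuasicoherent := inferInstance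
  let K := kernel π
  haveI : K.IsQuasicoherent := inferInstanceAs (kernel π).IsQuasicoherent
  let κ : K ⟶ G₀ := kernel.ι π
  have hκπ : κ ≫ π = 0 := kernel.condition π
  let J := Finset (Sec K)
  let N : J → X.Modules := fun T => ⨁ (fun a : T => sub K a.1)
  let n : ∀ T : J, N T ⟶ G₀ := fun T => biproduct.desc (fun a : T => subι K a.1 ≫ κ)
  have hιn : ∀ (T : J) (a : T), biproduct.ι (fun a : T => sub K a.1) a ≫ n T = subι K a.1 ≫ κ :=
    fun T a => biproduct.ι_desc _ _
  have hnπ : ∀ T : J, n T ≫ π = 0 := by
    intro T
    apply biproduct.hom_ext'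
    intro a
    rw [← Category.assoc, hιn, Category.assoc, hκπ, comp_zero, comp_zero]
  have key : ∀ {T T' : J}, T ≤ T' → n T ≫ cokernel.π (n T') = 0 := by
    intro T T' h
    apply biproduct.hom_ext'
    intro a
    rw [← Category.assoc, hιn, comp_zero]
    have h1 : subι K a.1 ≫ κ =
        biproduct.ι (fun b : T' => sub K b.1) ⟨a.1, h a.2⟩ ≫ n T' := (hιn T' ⟨a.1, h a.2⟩).symm
    rw [h1, Category.assoc, cokernel.condition, comp_zero]
  let D : J ⥤ X.Modules :=
    { obj := fun T => cokernel (n T)
      map := fun {T T'} h => cokernel.desc (n T) (cokernel.π (n T')) (key (leOfHom h))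
      map_id := by
        intro T
        rw [← cancel_epi (cokernel.π (n T)), cokernel.π_desc, Category.comp_id]
      map_comp := by
        intro T T' T'' f g
        rw [← cancel_epi (cokernel.π (n T)), cokernel.π_desc, ← Category.assoc,
          cokernel.π_desc, cokernel.π_desc] }
  have hDmap : ∀ {T T' : J} (h : T ⟶ T'), cokernel.π (n T) ≫ D.map h = cokernel.π (n T') :=
    fun h => cokernel.π_desc _ _ _
  let ι : D ⟶ (Functor.const J).obj F :=
    { app := fun T => cokernel.desc (n T) π (hnπ T)
      naturality := by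
        intro T T' h
        rw [← cancel_epi (cokernel.π (n T))]
        change cokernel.π (n T) ≫ D.map h ≫ cokernel.desc (n T') π (hnπ T') =
          cokernel.π (n T) ≫ cokernel.desc (n T) π (hnπ T) ≫ 𝟙 F
        rw [← Category.assoc, hDmap, cokernel.π_desc, Category.comp_id, cokernel.π_desc] }
  have hιapp : ∀ T : J, cokernel.π (n T) ≫ ι.app T = π := fun T => cokernel.π_desc _ _ _
  haveI hNq : ∀ T : J, (N T).IsQuasicoherent := fun T =>
    isQuasicoherent_biproduct _ fun a => inferInstance
  haveI hNft : ∀ T : J, (N T).IsFiniteType := fun T =>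
    isFiniteType_biproduct _ (fun a => inferInstance) (fun a => inferInstance)
  refine ⟨J, inferInstance, inferInstance, ⟨∅⟩, D, ι, ⟨?_⟩, ?_, ?_⟩
  · -- the colimit property
    have hbot : ∀ T : J, (∅ : J) ≤ T := fun T => Finset.empty_subset T
    -- the candidate map out of `G₀`
    have hkill : ∀ (s : Cocone D), κ ≫ cokernel.π (n ∅) ≫ s.ι.app ∅ = 0 := by
      intro s
      apply hom_eq_zero_of_affine
      intro W hW m
      let a : Sec K := ⟨⟨W, hW⟩, m⟩
      let T : J := {a}
      obtain ⟨g, hg⟩ := (sub_spec K a).2.2
      have haT : a ∈ T := Finset.mem_singleton_self a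
      have h1 : cokernel.π (n ∅) ≫ s.ι.app ∅ = cokernel.π (n T) ≫ s.ι.app T := by
        have hw := s.w (homOfLE (hbot T))
        rw [← hw, ← Category.assoc, hDmap]
      rw [h1]
      have h2 : m = (subι K a).app W g := hg.symm
      have h3 : κ.app W m = (n T).app W
          ((biproduct.ι (fun b : T => sub K b.1) ⟨a, haT⟩).app W g) := by
        rw [← app_comp, hιn, app_comp, h2]
      rw [app_comp, h3, ← app_comp, ← Category.assoc, cokernel.condition, zero_comp]
      rfl
    exact
      { desc := fun s => Abelian.epiDesc π (cokernel.π (n ∅) ≫ s.ι.app ∅) (hkill s)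
        fac := by
          intro s T
          change ι.app T ≫ Abelian.epiDesc π (cokernel.π (n ∅) ≫ s.ι.app ∅) (hkill s) = s.ι.app T
          rw [← cancel_epi (cokernel.π (n T)), ← Category.assoc, hιapp, Abelian.comp_epiDesc]
          have hw := s.w (homOfLE (hbot T))
          rw [← hw, ← Category.assoc, hDmap]
        uniq := by
          intro s m hm
          rw [← cancel_epi π, Abelian.comp_epiDesc]
          have h1 := hm ∅
          change ι.app ∅ ≫ m = s.ι.app ∅ at h1
          rw [← h1, ← Category.assoc, hιapp] }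
  · intro T
    exact cokernel_isFinitePresentation (n T)
  · intro T T' h
    exact epi_of_epi_fac (hDmap h)

end Groth.Agent.Helper19.FPExt
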