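import Mathlib
import Groth.Agent.Helper19.FPExt6
import Groth.Agent.Lib.Helper17.ModSiteColim
set_option autoImplicit false
set_option linter.style.haveILetI false
set_option linter.unusedSectionVars false
universe u

open CategoryTheory CategoryTheory.Limits AlgebraicGeometry Opposite TopologicalSpace

/-!
# Tools for writing a quasi-coherent module as a filtered colimit of finitely presented modules
-/

namespace Groth.Agent.Helper19.FPExt

open Groth.Agent.Lib.Helper29.QCoh

variable {X : Scheme.{u}}

attribute [local instance] Abelian.hasFiniteBiproducts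

theorem biproduct_ι_π_app {ι : Type u} [Fintype ι] [DecidableEq ι] (f : ι → X.Modules)
    (W : X.Opens) (i j : ι) (m : Γ(f i, W)) :
    (biproduct.π f j).app W ((biproduct.ι f i).app W m) =
      if h : i = j then (h ▸ m : Γ(f j, W)) else 0 := by
  split_ifs with h
  · subst h
    rw [← app_comp, biproduct.ι_π_self]
    rfl
  · rw [← app_comp, biproduct.ι_π_ne f h]
    rfl

/-- A finite biproduct of finitely presented modules is finitely presented. -/
theorem isFinitePresentation_biproduct {ι : Type u} [Fintype ι] (f : ι → X.Modules)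
    (h : ∀ i, (f i).IsFinitePresentation) : (⨁ f).IsFinitePresentation := by
  classical
  haveI : (⨁ f).IsQuasicoherent := isQuasicoherent_biproduct f fun i =>
    @SheafOfModules.instIsQuasicoherentOfIsFinitePresentation _ _ _ _ _ _ (f i) (h i)
  apply isFinitePresentation_of_fpOn_top
  intro x _
  obtain ⟨W, hW, hxW, -⟩ := exists_isAffineOpen_mem_and_subset (x := x) (U := ⊤) trivial
  refine ⟨W, hW, hxW, le_top, ?_⟩
  haveI : ∀ i, Module.FinitePresentation Γ(X, W) Γ(f i, W) := fun i =>
    @module_finitePresentation_of_isFinitePresentation _ (f i) (h i) _ hW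
  let l : Γ(⨁ f, W) →ₗ[Γ(X, W)] (∀ i, Γ(f i, W)) :=
    LinearMap.pi fun i => appₗ (biproduct.π f i) W
  have hl : Function.Bijective l := by
    constructor
    · intro s t hst
      rw [biproduct_app_eq_sum f W s, biproduct_app_eq_sum f W t]
      refine Finset.sum_congr rfl fun i _ => ?_
      have : (biproduct.π f i).app W s = (biproduct.π f i).app W t := congrFun hst i
      rw [this]
    · intro v
      refine ⟨∑ i, (biproduct.ι f i).app W (v i), ?_⟩
      funext j
      change (biproduct.π f j).app W (∑ i, (biproduct.ι f i).app W (v i)) = v j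
      rw [map_sum, Finset.sum_eq_single j]
      · rw [biproduct_ι_π_app, dif_pos rfl]
      · intro i _ hij
        rw [biproduct_ι_π_app, dif_neg hij]
      · intro hj
        exact (hj (Finset.mem_univ j)).elim
  exact Module.FinitePresentation.of_equiv (LinearEquiv.ofBijective l hl).symm

/-- A morphism out of a quasi-coherent module vanishing on all sections over the members of an
affine open cover is zero. -/
theorem hom_eq_zero_of_affine_cover {N Z : X.Modules} [N.IsQuasicoherent] (ψ : N ⟶ Z)
    {ι : Type*} (V : ι → X.Opens) (hV : ∀ i, IsAffineOpen (V i)) (hcov : ∀ x : X, ∃ i, x ∈ V i)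
    (h : ∀ i (m : Γ(N, V i)), ψ.app (V i) m = 0) : ψ = 0 := by
  apply hom_eq_zero_of_affine
  intro W _ m
  apply eq_zero_of_germ_eq_zero
  intro x hx
  obtain ⟨i, hxi⟩ := hcov x
  rw [← stalkMap_germ]
  obtain ⟨r, m', hxr, e⟩ := exists_smul_germ_eq N (hV i) x hxi (N.presheaf.germ W x hx m)
  have hr := isUnit_germ_of_mem_basicOpen r x hxi hxr
  have h1 : stalkMap ψ x (X.presheaf.germ (V i) x hxi r • N.presheaf.germ W x hx m) = 0 := by
    rw [e, stalkMap_germ, h i m', map_zero]
  rw [stalkMap_smul] at h1
  exact eq_zero_of_isUnit_smul hr h1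

/-- The stalk functor preserves colimits. -/
theorem stalkFunctor_preservesColimits (x : X) :
    PreservesColimitsOfSize.{u, u} (stalkFunctor X x) := by
  classical
  have h1 : PreservesColimitsOfSize.{u, u} (toSheafAb X) :=
    Groth.Agent.Lib.Helper17.ModSiteColim.toSheaf_preservesColimits X.ringCatSheaf
  have h2 : PreservesColimitsOfSize.{u, u} (TopCat.Sheaf.forget AddCommGrpCat.{u} X ⋙
      TopCat.Presheaf.stalkFunctor AddCommGrpCat.{u} x) :=
    (stalkSkyscraperSheafAdjunction x).leftAdjoint_preservesColimits
  exact comp_preservesColimits _ _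

/-- Every germ of a filtered colimit comes from a germ at some stage. -/
theorem exists_stalk_rep {Λ : Type u} [SmallCategory Λ] [IsFiltered Λ] (D : Λ ⥤ X.Modules)
    (c : Cocone D) (hc : IsColimit c) (x : X) (t : c.pt.presheaf.stalk x) :
    ∃ (l : Λ) (tl : (D.obj l).presheaf.stalk x), stalkMap (c.ι.app l) x tl = t := by
  have := stalkFunctor_preservesColimits (X := X) x
  have hc' : IsColimit ((stalkFunctor X x).mapCocone c) := isColimitOfPreserves _ hc
  obtain ⟨l, tl, h⟩ := Concrete.isColimit_exists_rep (D ⋙ stalkFunctor X x) hc' t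
  exact ⟨l, tl, h⟩

section choice

variable [CompactSpace X] [QuasiSeparatedSpace X] (F : X.Modules) [F.IsQuasicoherent]

theorem exists_fp_through_section (a : Sec F) : ∃ (P : X.Modules) (ρ : P ⟶ F),
    P.IsFinitePresentation ∧ ∃ p : Γ(P, a.1.1), ρ.app a.1.1 p = a.2 := by
  obtain ⟨S, i, hSq, hSft, g, hg⟩ := exists_sub F a
  haveI := hSq
  haveI := hSft
  obtain ⟨P, φ, hP, hφ⟩ := exists_fp_epi S
  haveI := hP
  haveI := hφ
  haveI : P.IsQuasicoherent := inferInstance
  obtain ⟨p, hp⟩ := app_surjective_of_epi φ a.1.2 g
  exact ⟨P, φ ≫ i, hP, p, by rw [app_comp, hp, hg]⟩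

/-- A chosen finitely presented module mapping to `F` whose image contains the given section. -/
noncomputable def cov (a : Sec F) : X.Modules := (exists_fp_through_section F a).choose

noncomputable def covρ (a : Sec F) : cov F a ⟶ F :=
  (exists_fp_through_section F a).choose_spec.choose

theorem cov_spec (a : Sec F) : (cov F a).IsFinitePresentation ∧
    ∃ p : Γ(cov F a, a.1.1), (covρ F a).app a.1.1 p = a.2 :=
  (exists_fp_through_section F a).choose_spec.choose_spec

instance (a : Sec F) : (cov F a).IsFinitePresentation := (cov_spec F a).1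

end choice

end Groth.Agent.Helper19.FPExt
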