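import Mathlib
import Groth.Agent.Helper19.FPExt7
set_option autoImplicit false
set_option linter.style.haveILetI false
set_option linter.unusedSectionVars false
universe u

open CategoryTheory CategoryTheory.Limits AlgebraicGeometry Opposite TopologicalSpace

/-!
# Stacks 01PI: on a qcqs scheme every quasi-coherent module is a filtered colimit of finitely
presented modules
-/

namespace Groth.Agent.Helper19.FPExt

open Groth.Agent.Lib.Helper29.QCoh

variable {X : Scheme.{u}}

attribute [local instance] Abelian.hasFiniteBiproducts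

section main

variable [CompactSpace X] [QuasiSeparatedSpace X] (F : X.Modules) [F.IsQuasicoherent]

/-- The finite sums of the chosen finitely presented modules. -/
noncomputable def PT (T : Finset (Sec F)) : X.Modules := ⨁ (fun a : T => cov F a.1)

noncomputable def ρT (T : Finset (Sec F)) : PT F T ⟶ F :=
  biproduct.desc (fun a : T => covρ F a.1)

instance (T : Finset (Sec F)) : (PT F T).IsFinitePresentation :=
  isFinitePresentation_biproduct _ (fun _ => inferInstance)

instance (T : Finset (Sec F)) : (PT F T).IsQuasicoherent := inferInstance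

noncomputable def ιT (T : Finset (Sec F)) (a : T) : cov F a.1 ⟶ PT F T :=
  biproduct.ι (fun a : T => cov F a.1) a

theorem ιT_ρT (T : Finset (Sec F)) (a : T) : ιT F T a ≫ ρT F T = covρ F a.1 :=
  biproduct.ι_desc _ _

noncomputable def incl {T T' : Finset (Sec F)} (h : T ⊆ T') : PT F T ⟶ PT F T' :=
  biproduct.desc (fun a : T => ιT F T' ⟨a.1, h a.2⟩)

theorem ιT_incl {T T' : Finset (Sec F)} (h : T ⊆ T') (a : T) :
    ιT F T a ≫ incl F h = ιT F T' ⟨a.1, h a.2⟩ :=
  biproduct.ι_desc _ _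

theorem incl_ρT {T T' : Finset (Sec F)} (h : T ⊆ T') : incl F h ≫ ρT F T' = ρT F T := by
  apply biproduct.hom_ext'
  intro a
  change ιT F T a ≫ incl F h ≫ ρT F T' = ιT F T a ≫ ρT F T
  rw [← Category.assoc, ιT_incl, ιT_ρT, ιT_ρT]

theorem incl_refl (T : Finset (Sec F)) : incl F (Finset.Subset.refl T) = 𝟙 _ := by
  apply biproduct.hom_ext'
  intro a
  change ιT F T a ≫ incl F _ = ιT F T a ≫ 𝟙 _
  rw [ιT_incl, Category.comp_id]

theorem incl_comp {T T' T'' : Finset (Sec F)} (h : T ⊆ T') (h' : T' ⊆ T'') :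
    incl F h ≫ incl F h' = incl F (h.trans h') := by
  apply biproduct.hom_ext'
  intro a
  change ιT F T a ≫ incl F h ≫ incl F h' = ιT F T a ≫ incl F _
  rw [← Category.assoc, ιT_incl, ιT_incl, ιT_incl]

/-- The kernels. -/
noncomputable def KT (T : Finset (Sec F)) : X.Modules := kernel (ρT F T)

instance (T : Finset (Sec F)) : (KT F T).IsQuasicoherent :=
  inferInstanceAs (kernel (ρT F T)).IsQuasicoherent

noncomputable def κT (T : Finset (Sec F)) : KT F T ⟶ PT F T := kernel.ι (ρT F T)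

theorem κT_ρT (T : Finset (Sec F)) : κT F T ≫ ρT F T = 0 := kernel.condition _

/-- The index type. -/
structure Idx : Type u where
  T : Finset (Sec F)
  R : Finset (Sec (KT F T))

noncomputable def NI (i : Idx F) : X.Modules := ⨁ (fun r : i.2 => sub (KT F i.1) r.1)

instance (i : Idx F) : (NI F i).IsQuasicoherent :=
  isQuasicoherent_biproduct _ fun _ => inferInstance

instance (i : Idx F) : (NI F i).IsFiniteType :=
  isFiniteType_biproduct _ (fun _ => inferInstance) (fun _ => inferInstance)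

noncomputable def ιN (i : Idx F) (r : i.2) : sub (KT F i.1) r.1 ⟶ NI F i :=
  biproduct.ι (fun r : i.2 => sub (KT F i.1) r.1) r

noncomputable def nI (i : Idx F) : NI F i ⟶ PT F i.1 :=
  biproduct.desc (fun r : i.2 => subι (KT F i.1) r.1 ≫ κT F i.1)

theorem ιN_nI (i : Idx F) (r : i.2) : ιN F i r ≫ nI F i = subι (KT F i.1) r.1 ≫ κT F i.1 :=
  biproduct.ι_desc _ _

theorem nI_ρT (i : Idx F) : nI F i ≫ ρT F i.1 = 0 := by
  apply biproduct.hom_ext'
  intro r
  change ιN F i r ≫ nI F i ≫ ρT F i.1 = ιN F i r ≫ 0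
  rw [← Category.assoc, ιN_nI, Category.assoc, κT_ρT, comp_zero, comp_zero]

noncomputable def DI (i : Idx F) : X.Modules := cokernel (nI F i)

noncomputable def cI (i : Idx F) : PT F i.1 ⟶ DI F i := cokernel.π (nI F i)

instance (i : Idx F) : Epi (cI F i) := inferInstanceAs (Epi (cokernel.π (nI F i)))

theorem nI_cI (i : Idx F) : nI F i ≫ cI F i = 0 := cokernel.condition _

instance (i : Idx F) : (DI F i).IsFinitePresentation := cokernel_isFinitePresentation (nI F i)

instance (i : Idx F) : (DI F i).IsQuasicoherent := inferInstance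

noncomputable def ιI (i : Idx F) : DI F i ⟶ F := cokernel.desc (nI F i) (ρT F i.1) (nI_ρT F i)

theorem cI_ιI (i : Idx F) : cI F i ≫ ιI F i = ρT F i.1 := cokernel.π_desc _ _ _

noncomputable instance : Preorder (Idx F) where
  le i i' := ∃ h : i.1 ⊆ i'.1, nI F i ≫ incl F h ≫ cI F i' = 0
  le_refl i := ⟨Finset.Subset.refl _, by rw [incl_refl, Category.id_comp, nI_cI]⟩
  le_trans i i' i'' := by
    rintro ⟨h, e1⟩ ⟨h', e2⟩
    refine ⟨h.trans h', ?_⟩
    have hd : incl F h' ≫ cI F i'' =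
        cI F i' ≫ cokernel.desc (nI F i') (incl F h' ≫ cI F i'') e2 :=
      (cokernel.π_desc _ _ _).symm
    rw [← incl_comp F h h', Category.assoc, hd, ← Category.assoc, ← Category.assoc]
    rw [Category.assoc (nI F i), e1, zero_comp]

theorem le_def {i i' : Idx F} : i ≤ i' ↔ ∃ h : i.1 ⊆ i'.1, nI F i ≫ incl F h ≫ cI F i' = 0 :=
  Iff.rfl

noncomputable def Dmap {i i' : Idx F} (h : i ≤ i') : DI F i ⟶ DI F i' :=
  cokernel.desc (nI F i) (incl F h.choose ≫ cI F i') h.choose_spec

theorem cI_Dmap {i i' : Idx F} (h : i ≤ i') (hs : i.1 ⊆ i'.1) :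
    cI F i ≫ Dmap F h = incl F hs ≫ cI F i' :=
  cokernel.π_desc _ _ _

noncomputable def DF : Idx F ⥤ X.Modules where
  obj i := DI F i
  map f := Dmap F (leOfHom f)
  map_id i := by
    rw [← cancel_epi (cI F i), cI_Dmap F _ (Finset.Subset.refl _), incl_refl, Category.id_comp,
      Category.comp_id]
  map_comp {i i' i''} f g := by
    have h1 : i.1 ⊆ i'.1 := (leOfHom f).choose
    have h2 : i'.1 ⊆ i''.1 := (leOfHom g).choose
    rw [← cancel_epi (cI F i), cI_Dmap F _ (h1.trans h2), ← Category.assoc, cI_Dmap F _ h1,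
      Category.assoc, cI_Dmap F _ h2, ← Category.assoc, incl_comp]

theorem Dmap_ιI {i i' : Idx F} (h : i ≤ i') : Dmap F h ≫ ιI F i' = ιI F i := by
  rw [← cancel_epi (cI F i), ← Category.assoc, cI_Dmap F h h.choose, Category.assoc, cI_ιI,
    incl_ρT, cI_ιI]

noncomputable def coconeF : Cocone (DF F) where
  pt := F
  ι :=
    { app := fun i => ιI F i
      naturality := by
        intro i i' f
        change Dmap F (leOfHom f) ≫ ιI F i' = ιI F i ≫ 𝟙 F
        rw [Dmap_ιI, Category.comp_id] }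

/-- Enlarging the set of relations. -/
theorem le_of_subset (T : Finset (Sec F)) {R R' : Finset (Sec (KT F T))} (h : R ⊆ R') :
    (⟨T, R⟩ : Idx F) ≤ ⟨T, R'⟩ := by
  refine ⟨Finset.Subset.refl T, ?_⟩
  rw [incl_refl, Category.id_comp]
  apply biproduct.hom_ext'
  intro r
  change ιN F ⟨T, R⟩ r ≫ nI F ⟨T, R⟩ ≫ cI F ⟨T, R'⟩ = ιN F ⟨T, R⟩ r ≫ 0
  rw [← Category.assoc, ιN_nI, comp_zero]
  have h1 : subι (KT F T) r.1 ≫ κT F T = ιN F ⟨T, R'⟩ ⟨r.1, h r.2⟩ ≫ nI F ⟨T, R'⟩ :=
    (ιN_nI F ⟨T, R'⟩ ⟨r.1, h r.2⟩).symm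
  rw [h1, Category.assoc, nI_cI, comp_zero]

/-- A section of the kernel which belongs to the chosen relations dies in the quotient. -/
theorem cI_κT_eq_zero (i : Idx F) (r : Sec (KT F i.1)) (hr : r ∈ i.2) :
    (cI F i).app r.1.1 ((κT F i.1).app r.1.1 r.2) = 0 := by
  obtain ⟨g, hg⟩ := (sub_spec (KT F i.1) r).2.2
  have h1 : (κT F i.1).app r.1.1 r.2 =
      (nI F i).app r.1.1 ((ιN F i ⟨r, hr⟩).app r.1.1 g) := by
    rw [← app_comp, ιN_nI, app_comp, hg]
  rw [h1, ← app_comp, nI_cI]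
  rfl

/-- Any map from a finite type quasi-coherent module into the kernel is killed by finitely many
relations. -/
theorem exists_bound (T : Finset (Sec F)) {N : X.Modules} [N.IsQuasicoherent] [N.IsFiniteType]
    (ν : N ⟶ PT F T) (hν : ν ≫ ρT F T = 0) :
    ∃ R : Finset (Sec (KT F T)), ∀ R' : Finset (Sec (KT F T)), R ⊆ R' →
      ν ≫ cI F ⟨T, R'⟩ = 0 := by
  classical
  obtain ⟨n, V, hV, -, hcov⟩ := exists_finite_affine_cover
    (X := X) (U := ⊤) (by simpa using (CompactSpace.isCompact_univ : IsCompact (Set.univ : Set X)))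
  let lam : N ⟶ KT F T := kernel.lift (ρT F T) ν hν
  have hlam : lam ≫ κT F T = ν := kernel.lift_ι _ _ _
  have hfin : ∀ l, Module.Finite Γ(X, V l) Γ(N, V l) := fun l => module_finite_of_isFiniteType N (hV l)
  choose S hS using fun l => (hfin l).fg_top
  let R : Finset (Sec (KT F T)) := Finset.univ.biUnion fun l : Fin n =>
    (S l).image fun g => (⟨⟨V l, hV l⟩, lam.app (V l) g⟩ : Sec (KT F T))
  refine ⟨R, fun R' hR' => ?_⟩
  apply hom_eq_zero_of_affine_cover (ν ≫ cI F ⟨T, R'⟩) V hV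
    (fun x => Opens.mem_iSup.mp (hcov (Opens.mem_top x)))
  intro l m
  have hm : m ∈ Submodule.span Γ(X, V l) (S l : Set Γ(N, V l)) := by rw [hS l]; trivial
  have hle : Submodule.span Γ(X, V l) (S l : Set Γ(N, V l)) ≤
      LinearMap.ker (appₗ (ν ≫ cI F ⟨T, R'⟩) (V l)) := by
    rw [Submodule.span_le]
    intro g hg
    rw [SetLike.mem_coe, LinearMap.mem_ker, appₗ_apply, app_comp, ← hlam, app_comp]
    have hr : (⟨⟨V l, hV l⟩, lam.app (V l) g⟩ : Sec (KT F T)) ∈ R' := by
      apply hR'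
      refine Finset.mem_biUnion.mpr ⟨l, Finset.mem_univ l, ?_⟩
      exact Finset.mem_image.mpr ⟨g, hg, rfl⟩
    exact cI_κT_eq_zero F ⟨T, R'⟩ ⟨⟨V l, hV l⟩, lam.app (V l) g⟩ hr
  exact hle hm

instance : IsDirected (Idx F) (· ≤ ·) where
  directed i₁ i₂ := by
    classical
    let T' : Finset (Sec F) := i₁.1 ∪ i₂.1
    have h1 : i₁.1 ⊆ T' := Finset.subset_union_left
    have h2 : i₂.1 ⊆ T' := Finset.subset_union_right
    obtain ⟨R₁, hR₁⟩ := exists_bound F T' (nI F i₁ ≫ incl F h1) (by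
      rw [Category.assoc, incl_ρT, nI_ρT])
    obtain ⟨R₂, hR₂⟩ := exists_bound F T' (nI F i₂ ≫ incl F h2) (by
      rw [Category.assoc, incl_ρT, nI_ρT])
    refine ⟨⟨T', R₁ ∪ R₂⟩, ⟨h1, ?_⟩, ⟨h2, ?_⟩⟩
    · rw [← Category.assoc]
      exact hR₁ _ Finset.subset_union_left
    · rw [← Category.assoc]
      exact hR₂ _ Finset.subset_union_right

instance : Nonempty (Idx F) := ⟨⟨∅, ∅⟩⟩

end main

end Groth.Agent.Helper19.FPExt
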