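import Mathlib
import Groth.Agent.Helper19.FPExt8
set_option autoImplicit false
set_option linter.style.haveILetI false
set_option linter.unusedSectionVars false
universe u

open CategoryTheory CategoryTheory.Limits AlgebraicGeometry Opposite TopologicalSpace

/-!
# Stacks 01PI: the colimit property
-/

namespace Groth.Agent.Helper19.FPExt

open Groth.Agent.Lib.Helper29.QCoh

variable {X : Scheme.{u}}

attribute [local instance] Abelian.hasFiniteBiproducts

section main

variable [CompactSpace X] [QuasiSeparatedSpace X] (F : X.Modules) [F.IsQuasicoherent]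

/-- The comparison map from the colimit. -/
noncomputable def ξ : colimit (DF F) ⟶ F := colimit.desc (DF F) (coconeF F)

theorem ι_ξ (i : Idx F) : colimit.ι (DF F) i ≫ ξ F = ιI F i :=
  colimit.ι_desc (coconeF F) i

/-- The colimit inclusion, with source written as `DI F i`. -/
noncomputable def cι (i : Idx F) : DI F i ⟶ colimit (DF F) := colimit.ι (DF F) i

theorem cι_ξ (i : Idx F) : cι F i ≫ ξ F = ιI F i := ι_ξ F i

theorem cι_w {i i' : Idx F} (h : i ≤ i') : Dmap F h ≫ cι F i' = cι F i :=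
  colimit.w (DF F) (homOfLE h)

theorem cι_ξ_app (i : Idx F) (W : X.Opens) (d : Γ(DI F i, W)) :
    (ξ F).app W ((cι F i).app W d) = (ιI F i).app W d := by
  rw [← app_comp, cι_ξ]

theorem cI_ιI_app (i : Idx F) (W : X.Opens) (p : Γ(PT F i.1, W)) :
    (ιI F i).app W ((cI F i).app W p) = (ρT F i.1).app W p := by
  rw [← app_comp, cI_ιI]

theorem ιT_ρT_app (T : Finset (Sec F)) (a : T) (W : X.Opens) (p : Γ(cov F a.1, W)) :
    (ρT F T).app W ((ιT F T a).app W p) = (covρ F a.1).app W p := by
  rw [← app_comp, ιT_ρT]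

theorem cι_w_app {i i' : Idx F} (h : i ≤ i') (W : X.Opens) (d : Γ(DI F i, W)) :
    (cι F i).app W d = (cι F i').app W ((Dmap F h).app W d) := by
  rw [← app_comp, cι_w]

theorem cI_Dmap_app {i i' : Idx F} (h : i ≤ i') (hs : i.1 ⊆ i'.1) (W : X.Opens)
    (p : Γ(PT F i.1, W)) :
    (Dmap F h).app W ((cI F i).app W p) = (cI F i').app W ((incl F hs).app W p) := by
  rw [← app_comp, cI_Dmap F h hs, app_comp]

theorem stalkMap_germ_res {M N : X.Modules} (φ : M ⟶ N) (x : X) {U W : X.Opens} (hWU : W ≤ U)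
    (hxW : x ∈ W) (s : Γ(M, U)) :
    stalkMap φ x (M.presheaf.germ U x (hWU hxW) s) =
      N.presheaf.germ W x hxW (φ.app W (res M hWU s)) := by
  rw [stalkMap_germ, app_res, germ_res]

theorem epi_ξ : Epi (ξ F) := by
  classical
  refine epi_of_app_surjective_of_affine_cover (ξ F) (fun W : X.affineOpens => W.1)
    (fun W => W.2) (fun x => ?_) (fun W m => ?_)
  · obtain ⟨W, hW, hxW, -⟩ := exists_isAffineOpen_mem_and_subset (x := x) (U := ⊤) trivial
    exact ⟨⟨W, hW⟩, hxW⟩
  · let a : Sec F := ⟨W, m⟩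
    let i : Idx F := ⟨{a}, ∅⟩
    have ha : a ∈ i.1 := Finset.mem_singleton_self a
    obtain ⟨p, hp⟩ := (cov_spec F a).2
    refine ⟨(cι F i).app W.1 ((cI F i).app W.1 ((ιT F i.1 ⟨a, ha⟩).app W.1 p)), ?_⟩
    rw [cι_ξ_app, cI_ιI_app, ιT_ρT_app]
    exact hp

theorem mono_ξ : Mono (ξ F) := by
  classical
  rw [mono_iff_stalkMap_injective]
  intro x
  suffices h : ∀ t, stalkMap (ξ F) x t = 0 → t = 0 by
    intro t₁ t₂ h12
    have := h (t₁ - t₂) (by rw [map_sub, h12, sub_self])
    exact sub_eq_zero.mp this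
  intro t ht
  obtain ⟨i, ti, hti⟩ := exists_stalk_rep (DF F) (colimit.cocone (DF F))
    (colimit.isColimit (DF F)) x t
  have hti' : stalkMap (cι F i) x ti = t := hti
  obtain ⟨U, hxU, s, hs⟩ := (DI F i).presheaf.exists_germ_eq ti
  obtain ⟨W, hW, hxW, hWU⟩ := exists_isAffineOpen_mem_and_subset (x := x) (U := U) hxU
  obtain ⟨p, hp⟩ := app_surjective_of_epi (cI F i) hW (res (DI F i) hWU s)
  -- `t` as a germ over `W`
  have e1 : t = (colimit (DF F)).presheaf.germ W x hxW ((cι F i).app W ((cI F i).app W p)) := by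
    rw [← hti', ← hs, hp]
    exact stalkMap_germ_res (cι F i) x hWU hxW s
  -- the image of `t` in `F`
  have e2 : F.presheaf.germ W x hxW ((ρT F i.1).app W p) = 0 := by
    rw [← ht, e1, stalkMap_germ, cι_ξ_app, cI_ιI_app]
  obtain ⟨W₁, hW₁W, hxW₁, h0⟩ := exists_res_eq_zero_of_germ_eq_zero F x hxW _ e2
  obtain ⟨W', hW', hxW', hW'W₁⟩ := exists_isAffineOpen_mem_and_subset (x := x) (U := W₁) hxW₁
  have hW'W : W' ≤ W := hW'W₁.trans hW₁W
  have hp' : (ρT F i.1).app W' (res (PT F i.1) hW'W p) = 0 := by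
    rw [app_res, ← res_res F hW₁W hW'W₁, h0, map_zero]
  obtain ⟨k, hk⟩ := ((kernel_app_exact (ρT F i.1) W') _).mp hp'
  let r : Sec (KT F i.1) := ⟨⟨W', hW'⟩, k⟩
  let i' : Idx F := ⟨i.1, insert r i.2⟩
  have hle : i ≤ i' := le_of_subset F i.1 (Finset.subset_insert r i.2)
  have hzero : (cI F i').app W' (res (PT F i.1) hW'W p) = 0 := by
    have := cI_κT_eq_zero F i' r (Finset.mem_insert_self r i.2)
    rw [← hk]
    exact this
  -- restrict to `W'` and move along the transition map
  have e3 : res (colimit (DF F)) hW'W ((cι F i).app W ((cI F i).app W p)) = 0 := by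
    rw [← app_res, ← app_res, cι_w_app F hle, cI_Dmap_app F hle (Finset.Subset.refl _), incl_refl,
      app_id, hzero, map_zero]
  rw [e1, ← germ_res (colimit (DF F)) hW'W x hxW', e3, map_zero]

theorem isIso_ξ : IsIso (ξ F) := by
  haveI := epi_ξ F
  haveI := mono_ξ F
  exact isIso_of_mono_of_epi _

/-- The cocone of finitely presented modules over `F` is a colimit cocone. -/
noncomputable def isColimitCoconeF : IsColimit (coconeF F) := by
  haveI : IsIso ((colimit.isColimit (DF F)).desc (coconeF F)) := isIso_ξ F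
  exact IsColimit.ofPointIso (colimit.isColimit (DF F))

/-- **Stacks 01PI.** -/
theorem exists_filtered_colimit_fp :
    ∃ (I : Type u) (_ : SmallCategory I) (_ : IsFiltered I) (D : I ⥤ X.Modules) (c : Cocone D)
      (_ : IsColimit c), (∀ i, (D.obj i).IsFinitePresentation) ∧ c.pt = F :=
  ⟨Idx F, inferInstance, inferInstance, DF F, coconeF F, isColimitCoconeF F,
    fun i => inferInstanceAs (DI F i).IsFinitePresentation, rfl⟩

end main

end Groth.Agent.Helper19.FPExt
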