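import Mathlib
import Groth.Prelude.Def_MoreMor
import Groth.Agent.Lib.Helper11.FormalEtale
import Groth.Agent.S0440
set_option autoImplicit false
set_option linter.style.haveILetI false
set_option linter.unusedSectionVars false
universe u

open CategoryTheory CategoryTheory.Limits AlgebraicGeometry

namespace Groth.Agent.Helper19.FSGlue

open Groth.Agent.Lib.Helper11.FormalEtale Groth.Agent.Lib.Helper11.FormalLift

theorem comp_app_apply {X Y Z : Scheme.{u}} (f : X ⟶ Y) (g : Y ⟶ Z) (U : Z.Opens) (z : Γ(Z, U)) :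
    (f ≫ g).app U z = f.app (g ⁻¹ᵁ U) (g.app U z) := rfl

section sqz

variable {A' : Type u} [CommRing A'] (J' : Ideal A')

theorem ker_thick_sq_eq_bot (hJ' : J' ^ 2 = ⊥) : (thick J').ker ^ 2 = ⊥ := by
  apply Scheme.IdealSheafData.ext_of_isAffine
  rw [Scheme.IdealSheafData.ideal_pow, Scheme.IdealSheafData.ideal_bot]
  rw [Pi.pow_apply, Pi.bot_apply, Scheme.Hom.ker_apply, pow_two, eq_bot_iff, Ideal.mul_le]
  intro x hx y hy
  rw [RingHom.mem_ker] at hx hy
  rw [Ideal.mem_bot]
  have hnat := Scheme.ΓSpecIso_naturality (CommRingCat.ofHom (Ideal.Quotient.mk J'))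
  have hx' : (Scheme.ΓSpecIso (CommRingCat.of A')).hom x ∈ J' := by
    rw [← Ideal.Quotient.eq_zero_iff_mem]
    have := congr($hnat x)
    refine this.symm.trans ?_
    change (Scheme.ΓSpecIso _).hom ((thick J').app ⊤ x) = 0
    rw [hx]
    exact map_zero _
  have hy' : (Scheme.ΓSpecIso (CommRingCat.of A')).hom y ∈ J' := by
    rw [← Ideal.Quotient.eq_zero_iff_mem]
    have := congr($hnat y)
    refine this.symm.trans ?_
    change (Scheme.ΓSpecIso _).hom ((thick J').app ⊤ y) = 0
    rw [hy]
    exact map_zero _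
  have hxy : (Scheme.ΓSpecIso (CommRingCat.of A')).hom (x * y) = 0 := by
    rw [map_mul, ← Ideal.mem_bot, ← hJ', pow_two]
    exact Ideal.mul_mem_mul hx' hy'
  have hinj : Function.Injective (Scheme.ΓSpecIso (CommRingCat.of A')).hom :=
    (ConcreteCategory.bijective_of_isIso (Scheme.ΓSpecIso (CommRingCat.of A')).hom).1
  exact hinj (by rw [hxy, map_zero])

end sqz


section sqz2

variable {A' : Type u} [CommRing A'] (J' : Ideal A')

theorem mul_eq_zero_of_thick_app (hJ' : J' ^ 2 = ⊥) (O : (Spec (CommRingCat.of A')).Opens)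
    (u v : Γ(Spec (CommRingCat.of A'), O)) (hu : (thick J').app O u = 0)
    (hv : (thick J').app O v = 0) : u * v = 0 := by
  let ι := {U : (Spec (CommRingCat.of A')).affineOpens // U.1 ≤ O}
  have hcover : O ≤ ⨆ U : ι, U.1.1 := by
    intro x hx
    obtain ⟨_, ⟨U, hU, rfl⟩, hxU, hUO⟩ :=
      (Spec (CommRingCat.of A')).isBasis_affineOpens.exists_subset_of_mem_open hx O.isOpen
    exact TopologicalSpace.Opens.mem_iSup.mpr ⟨⟨⟨U, hU⟩, hUO⟩, hxU⟩
  have key := (Spec (CommRingCat.of A')).sheaf.eq_of_locally_eq' (fun U : ι => U.1.1) O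
    (fun U => homOfLE U.2) hcover (u * v) 0
  apply key
  intro U
  change ((Spec (CommRingCat.of A')).presheaf.map (homOfLE U.2).op) (u * v) =
    ((Spec (CommRingCat.of A')).presheaf.map (homOfLE U.2).op) 0
  rw [map_zero, map_mul]
  have hk : ∀ z : Γ(Spec (CommRingCat.of A'), O), (thick J').app O z = 0 →
      ((Spec (CommRingCat.of A')).presheaf.map (homOfLE U.2).op) z ∈ (thick J').ker.ideal U.1 := by
    intro z hz
    rw [Scheme.Hom.ker_apply, RingHom.mem_ker]
    have := (thick J').naturality (homOfLE U.2).op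
    have h2 := congr($this z)
    simp only [CommRingCat.comp_apply] at h2
    refine h2.trans ?_
    rw [hz, map_zero]
  have h1 := Ideal.mul_mem_mul (hk u hu) (hk v hv)
  rw [← pow_two, ← Pi.pow_apply, ← Scheme.IdealSheafData.ideal_pow, ker_thick_sq_eq_bot J' hJ',
    Scheme.IdealSheafData.ideal_bot, Pi.bot_apply, Ideal.mem_bot] at h1
  exact h1

end sqz2



variable {X Y : Scheme.{u}} (f : X ⟶ Y) {A : Type u} [CommRing A] (I : Ideal A)
  (a : Spec (CommRingCat.of (A ⧸ I)) ⟶ X) (b : Spec (CommRingCat.of A) ⟶ Y)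

/-- The graph section `T₀ ⟶ T ×_Y X`. -/
noncomputable def sigma0 (w : thick I ≫ b = a ≫ f) :
    Spec (CommRingCat.of (A ⧸ I)) ⟶ pullback b f :=
  pullback.lift (thick I) a w

instance (w : thick I ≫ b = a ≫ f) : IsImmersion (sigma0 f I a b w) := by
  haveI : IsImmersion (sigma0 f I a b w ≫ pullback.fst b f) := by
    unfold sigma0
    rw [pullback.lift_fst]
    infer_instance
  exact IsImmersion.of_comp _ (pullback.fst b f)

variable (w : thick I ≫ b = a ≫ f)

/-- The open subscheme of `T ×_Y X` in which the graph is closed. -/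
noncomputable abbrev Xo : Scheme.{u} := ((sigma0 f I a b w).coborderRange : Scheme.{u})

noncomputable def kap : Spec (CommRingCat.of (A ⧸ I)) ⟶ Xo f I a b w :=
  (sigma0 f I a b w).liftCoborder

instance : IsClosedImmersion (kap f I a b w) := by unfold kap; infer_instance

noncomputable def JJ : (Xo f I a b w).IdealSheafData := (kap f I a b w).ker

noncomputable abbrev EE : Scheme.{u} := ((JJ f I a b w) ^ 2).subscheme

noncomputable def ee : EE f I a b w ⟶ Xo f I a b w := ((JJ f I a b w) ^ 2).subschemeι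

instance : IsClosedImmersion (ee f I a b w) := by unfold ee; infer_instance

theorem JJ_sq_le : (JJ f I a b w) ^ 2 ≤ JJ f I a b w := by
  rw [Scheme.IdealSheafData.le_def]
  intro U
  rw [Scheme.IdealSheafData.ideal_pow]
  exact Ideal.pow_le_self two_ne_zero

noncomputable def kap' : Spec (CommRingCat.of (A ⧸ I)) ⟶ EE f I a b w :=
  IsClosedImmersion.lift (ee f I a b w) (kap f I a b w) (by
    unfold ee
    rw [Scheme.IdealSheafData.ker_subschemeι]
    exact JJ_sq_le f I a b w)

theorem kap'_ee : kap' f I a b w ≫ ee f I a b w = kap f I a b w :=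
  IsClosedImmersion.lift_fac _ _ _

instance : IsClosedImmersion (kap' f I a b w) := by
  haveI : IsClosedImmersion (kap' f I a b w ≫ ee f I a b w) := by
    rw [kap'_ee]; infer_instance
  exact IsClosedImmersion.of_comp _ (ee f I a b w)

theorem kap'_surjective : Function.Surjective (kap' f I a b w) := by
  intro x
  have h1 : (ee f I a b w) x ∈ Set.range (kap f I a b w) := by
    have h2 : Set.range (ee f I a b w) = ((JJ f I a b w) ^ 2).support := by
      unfold ee
      exact Scheme.IdealSheafData.range_subschemeι _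
    have h3 : (ee f I a b w) x ∈ ((JJ f I a b w) ^ 2).support := by
      rw [← SetLike.mem_coe, ← h2]; exact ⟨x, rfl⟩
    rw [Scheme.IdealSheafData.support_pow _ 2 two_ne_zero] at h3
    unfold JJ at h3
    rw [← SetLike.mem_coe, Scheme.Hom.support_ker] at h3
    have hcl : IsClosed (Set.range (kap f I a b w)) :=
      (kap f I a b w).isClosedEmbedding.isClosed_range
    rw [hcl.closure_eq] at h3
    exact h3
  obtain ⟨t, ht⟩ := h1
  refine ⟨t, ?_⟩
  apply (ee f I a b w).isClosedEmbedding.injective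
  rw [← ht, ← kap'_ee]
  rfl

instance : IsAffine (EE f I a b w) :=
  Groth.Agent.S0440.result (kap' f I a b w) (kap'_surjective f I a b w)


section factor

variable {A' : Type u} [CommRing A'] (ψ : A →+* A') (J' : Ideal A')
  (hle : I ≤ J'.comap ψ) (l : Spec (CommRingCat.of A') ⟶ X)

theorem thick_specMap :
    thick J' ≫ Spec.map (CommRingCat.ofHom ψ) =
      Spec.map (CommRingCat.ofHom (Ideal.quotientMap J' ψ hle)) ≫ thick I := by
  unfold thick
  rw [← Spec.map_comp, ← Spec.map_comp, ← CommRingCat.ofHom_comp, ← CommRingCat.ofHom_comp,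
    Ideal.quotientMap_comp_mk]

variable (hl : Solves f I a b ψ J' hle l)

/-- The morphism to `T ×_Y X` induced by a solution. -/
noncomputable def lW : Spec (CommRingCat.of A') ⟶ pullback b f :=
  pullback.lift (Spec.map (CommRingCat.ofHom ψ)) l hl.2.symm

include hl in
theorem thick_lW : thick J' ≫ lW f I a b ψ J' hle l hl =
    Spec.map (CommRingCat.ofHom (Ideal.quotientMap J' ψ hle)) ≫ sigma0 f I a b w := by
  apply pullback.hom_ext
  · rw [Category.assoc, Category.assoc]
    unfold lW sigma0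
    rw [pullback.lift_fst, pullback.lift_fst]
    exact thick_specMap I ψ J' hle
  · rw [Category.assoc, Category.assoc]
    unfold lW sigma0
    rw [pullback.lift_snd, pullback.lift_snd]
    exact hl.1

theorem range_lW (hJ' : J' ^ 2 = ⊥) : Set.range (lW f I a b ψ J' hle l hl) ⊆
    Set.range (sigma0 f I a b w).coborderRange.ι := by
  rintro _ ⟨p, rfl⟩
  obtain ⟨q, rfl⟩ := surjective_specMap_mk_of_sq_zero A' J' hJ' p
  have h1 := congrArg (fun φ : Spec (CommRingCat.of (A' ⧸ J')) ⟶ pullback b f => φ.base q)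
    (thick_lW f I a b w ψ J' hle l hl)
  have h2 : (lW f I a b ψ J' hle l hl) ((thick J') q) =
      (sigma0 f I a b w) ((Spec.map (CommRingCat.ofHom (Ideal.quotientMap J' ψ hle))) q) := h1
  change (lW f I a b ψ J' hle l hl) ((thick J') q) ∈ _
  rw [h2]
  have h3 := congrArg (fun φ : Spec (CommRingCat.of (A ⧸ I)) ⟶ pullback b f =>
    φ.base ((Spec.map (CommRingCat.ofHom (Ideal.quotientMap J' ψ hle))) q))
    (sigma0 f I a b w).liftCoborder_ι
  exact ⟨_, h3⟩

noncomputable def lo (hJ' : J' ^ 2 = ⊥) : Spec (CommRingCat.of A') ⟶ Xo f I a b w :=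
  IsOpenImmersion.lift (sigma0 f I a b w).coborderRange.ι (lW f I a b ψ J' hle l hl)
    (range_lW f I a b w ψ J' hle l hl hJ')

theorem lo_ι (hJ' : J' ^ 2 = ⊥) : lo f I a b w ψ J' hle l hl hJ' ≫
    (sigma0 f I a b w).coborderRange.ι = lW f I a b ψ J' hle l hl :=
  IsOpenImmersion.lift_fac _ _ _

theorem thick_lo (hJ' : J' ^ 2 = ⊥) : thick J' ≫ lo f I a b w ψ J' hle l hl hJ' =
    Spec.map (CommRingCat.ofHom (Ideal.quotientMap J' ψ hle)) ≫ kap f I a b w := by
  rw [← cancel_mono (sigma0 f I a b w).coborderRange.ι, Category.assoc, lo_ι, Category.assoc]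
  unfold kap
  rw [(sigma0 f I a b w).liftCoborder_ι]
  exact thick_lW f I a b w ψ J' hle l hl

theorem JJ_sq_le_ker_lo (hJ' : J' ^ 2 = ⊥) :
    (JJ f I a b w) ^ 2 ≤ (lo f I a b w ψ J' hle l hl hJ').ker := by
  unfold Scheme.Hom.ker
  rw [Scheme.IdealSheafData.le_ofIdeals_iff]
  intro U
  rw [Scheme.IdealSheafData.ideal_pow, Pi.pow_apply, pow_two, Ideal.mul_le]
  intro x hx y hy
  unfold JJ at hx hy
  rw [Scheme.Hom.ker_apply, RingHom.mem_ker] at hx hy
  rw [RingHom.mem_ker, map_mul]
  have key : ∀ z : Γ(Xo f I a b w, U.1), (kap f I a b w).app U.1 z = 0 →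
      (thick J').app ((lo f I a b w ψ J' hle l hl hJ') ⁻¹ᵁ U.1)
        ((lo f I a b w ψ J' hle l hl hJ').app U.1 z) = 0 := by
    intro z hz
    have h1 := Scheme.Hom.congr_app (thick_lo f I a b w ψ J' hle l hl hJ') U.1
    have e1 : ((Spec.map (CommRingCat.ofHom (Ideal.quotientMap J' ψ hle)) ≫
        kap f I a b w).app U.1) z = 0 := by
      rw [comp_app_apply, hz, map_zero]
      rfl
    have h2 := congr($h1 z)
    rw [CommRingCat.comp_apply, e1, map_zero, comp_app_apply] at h2
    exact h2
  exact mul_eq_zero_of_thick_app J' hJ' _ _ _ (key x hx) (key y hy)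

noncomputable def lE (hJ' : J' ^ 2 = ⊥) : Spec (CommRingCat.of A') ⟶ EE f I a b w :=
  IsClosedImmersion.lift (ee f I a b w) (lo f I a b w ψ J' hle l hl hJ') (by
    unfold ee
    rw [Scheme.IdealSheafData.ker_subschemeι]
    exact JJ_sq_le_ker_lo f I a b w ψ J' hle l hl hJ')

theorem lE_ee (hJ' : J' ^ 2 = ⊥) : lE f I a b w ψ J' hle l hl hJ' ≫ ee f I a b w =
    lo f I a b w ψ J' hle l hl hJ' :=
  IsClosedImmersion.lift_fac _ _ _

end factor


/-- First order neighbourhood data of the graph of `a` in `T ×_Y X`: an affine scheme `Spec C`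
through which all solutions of restricted lifting problems factor uniquely. -/
structure FOData (f : X ⟶ Y) {A : Type u} [CommRing A] (I : Ideal A)
    (a : Spec (CommRingCat.of (A ⧸ I)) ⟶ X) (b : Spec (CommRingCat.of A) ⟶ Y) where
  C : Type u
  [commRing : CommRing C]
  α : A →+* C
  π : C →+* A ⧸ I
  ε : Spec (CommRingCat.of C) ⟶ X
  π_α : π.comp α = Ideal.Quotient.mk I
  π_ε : Spec.map (CommRingCat.ofHom π) ≫ ε = a
  ε_f : ε ≫ f = Spec.map (CommRingCat.ofHom α) ≫ b
  exists_hom : ∀ {A' : Type u} [CommRing A'] (ψ : A →+* A') (J' : Ideal A') (_ : J' ^ 2 = ⊥)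
    (hle : I ≤ J'.comap ψ) (l : Spec (CommRingCat.of A') ⟶ X), Solves f I a b ψ J' hle l →
    ∃ φ : C →+* A', φ.comp α = ψ ∧
      (Ideal.Quotient.mk J').comp φ = (Ideal.quotientMap J' ψ hle).comp π ∧
      Spec.map (CommRingCat.ofHom φ) ≫ ε = l
  hom_ext : ∀ {A' : Type u} [CommRing A'] (φ₁ φ₂ : C →+* A'), φ₁.comp α = φ₂.comp α →
    Spec.map (CommRingCat.ofHom φ₁) ≫ ε = Spec.map (CommRingCat.ofHom φ₂) ≫ ε → φ₁ = φ₂

attribute [instance] FOData.commRing

section construct

/-- `Spec C ⟶ T ×_Y X`. -/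
noncomputable def toW : Spec Γ(EE f I a b w, ⊤) ⟶ pullback b f :=
  (EE f I a b w).isoSpec.inv ≫ ee f I a b w ≫ (sigma0 f I a b w).coborderRange.ι

instance : Mono (toW f I a b w) := by
  unfold toW
  infer_instance

noncomputable def toT0 : Spec (CommRingCat.of (A ⧸ I)) ⟶ Spec Γ(EE f I a b w, ⊤) :=
  kap' f I a b w ≫ (EE f I a b w).isoSpec.hom

theorem toT0_toW : toT0 f I a b w ≫ toW f I a b w = sigma0 f I a b w := by
  unfold toT0 toW
  rw [Category.assoc, Iso.hom_inv_id_assoc, ← Category.assoc, kap'_ee]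
  unfold kap
  exact (sigma0 f I a b w).liftCoborder_ι

include w in
theorem exists_foData : Nonempty (FOData f I a b) := by
  set αc := Spec.preimage (toW f I a b w ≫ pullback.fst b f) with hαc
  set πc := Spec.preimage (toT0 f I a b w) with hπc
  have hα : Spec.map αc = toW f I a b w ≫ pullback.fst b f := Spec.map_preimage _
  have hπ : Spec.map πc = toT0 f I a b w := Spec.map_preimage _
  refine ⟨{
    C := Γ(EE f I a b w, ⊤)
    α := αc.hom
    π := πc.hom
    ε := toW f I a b w ≫ pullback.snd b f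
    π_α := ?_
    π_ε := ?_
    ε_f := ?_
    exists_hom := ?_
    hom_ext := ?_ }⟩
  · have h1 : αc ≫ πc = CommRingCat.ofHom (Ideal.Quotient.mk I) := by
      apply Spec.map_injective
      rw [Spec.map_comp, hα, hπ, ← Category.assoc, toT0_toW]
      unfold sigma0
      rw [pullback.lift_fst]
    exact congrArg CommRingCat.Hom.hom h1
  · change Spec.map πc ≫ _ = _
    rw [hπ, ← Category.assoc, toT0_toW]
    unfold sigma0
    rw [pullback.lift_snd]
  · change _ = Spec.map αc ≫ b
    rw [hα, Category.assoc, Category.assoc, pullback.condition]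
  · intro A' _ ψ J' hJ' hle l hl
    set φc := Spec.preimage (lE f I a b w ψ J' hle l hl hJ' ≫ (EE f I a b w).isoSpec.hom) with hφc
    have hφ : Spec.map φc = lE f I a b w ψ J' hle l hl hJ' ≫ (EE f I a b w).isoSpec.hom :=
      Spec.map_preimage _
    have hφW : Spec.map φc ≫ toW f I a b w = lW f I a b ψ J' hle l hl := by
      rw [hφ]
      unfold toW
      rw [Category.assoc, Iso.hom_inv_id_assoc, ← Category.assoc, lE_ee, lo_ι]
    refine ⟨φc.hom, ?_, ?_, ?_⟩
    · have h1 : αc ≫ φc = CommRingCat.ofHom ψ := by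
        apply Spec.map_injective
        rw [Spec.map_comp, hα, ← Category.assoc, hφW]
        unfold lW
        rw [pullback.lift_fst]
      exact congrArg CommRingCat.Hom.hom h1
    · have h1 : φc ≫ CommRingCat.ofHom (Ideal.Quotient.mk J') =
          πc ≫ CommRingCat.ofHom (Ideal.quotientMap J' ψ hle) := by
        apply Spec.map_injective
        rw [Spec.map_comp, Spec.map_comp, hπ, ← cancel_mono (toW f I a b w), Category.assoc,
          Category.assoc, hφW, toT0_toW]
        exact thick_lW f I a b w ψ J' hle l hl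
      exact congrArg CommRingCat.Hom.hom h1
    · change Spec.map φc ≫ _ = _
      rw [← Category.assoc, hφW]
      unfold lW
      rw [pullback.lift_snd]
  · intro A' _ φ₁ φ₂ h1 h2
    have h3 : Spec.map (CommRingCat.ofHom φ₁) = Spec.map (CommRingCat.ofHom φ₂) := by
      rw [← cancel_mono (toW f I a b w)]
      apply pullback.hom_ext
      · rw [Category.assoc, Category.assoc, ← hα, ← Spec.map_comp, ← Spec.map_comp]
        congr 1
        ext x
        exact congrArg (fun φ : A →+* A' => φ x) h1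
      · rw [Category.assoc, Category.assoc]
        exact h2
    have h4 := Spec.map_injective h3
    exact congrArg CommRingCat.Hom.hom h4

end construct

end Groth.Agent.Helper19.FSGlue
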