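import Mathlib
set_option autoImplicit false
set_option linter.style.haveILetI false
set_option linter.unusedSectionVars false
universe u

open TensorProduct KaehlerDifferential

namespace Groth.Agent.Helper19.FSGlue

section ring

variable {A : Type u} [CommRing A] (I : Ideal A) {C : Type u} [CommRing C] [Algebra A C]
  (π : C →ₐ[A] A ⧸ I)

/-- The fibre product `A ×_{A/I} C`. -/
def EP : Subalgebra A (A × C) :=
  AlgHom.equalizer ((Ideal.Quotient.mkₐ A I).comp (AlgHom.fst A A C)) (π.comp (AlgHom.snd A A C))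

theorem mem_EP (x : A × C) : x ∈ EP I π ↔ Ideal.Quotient.mk I x.1 = π x.2 := Iff.rfl

def p1 : EP I π →ₐ[A] A := (AlgHom.fst A A C).comp (EP I π).val
def p2 : EP I π →ₐ[A] C := (AlgHom.snd A A C).comp (EP I π).val

theorem p1_apply (e : EP I π) : p1 I π e = e.1.1 := rfl
theorem p2_apply (e : EP I π) : p2 I π e = e.1.2 := rfl

theorem mk_p1 (e : EP I π) : Ideal.Quotient.mk I (p1 I π e) = π (p2 I π e) := e.2

theorem p2_surjective : Function.Surjective (p2 I π) := by
  intro c
  obtain ⟨a, ha⟩ := Ideal.Quotient.mk_surjective (π c)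
  exact ⟨⟨(a, c), ha⟩, rfl⟩

instance algEC : Algebra (EP I π) C := (p2 I π).toRingHom.toAlgebra

theorem algebraMap_EC (e : EP I π) : algebraMap (EP I π) C e = p2 I π e := rfl

instance : IsScalarTower A (EP I π) C :=
  IsScalarTower.of_algebraMap_eq' (by
    ext a
    exact ((p2 I π).commutes a).symm)

theorem ext_EP {e e' : EP I π} (h1 : p1 I π e = p1 I π e') (h2 : p2 I π e = p2 I π e') : e = e' :=
  Subtype.ext (Prod.ext h1 h2)

theorem p1_mem_of_mem_ker {k : EP I π} (hk : k ∈ RingHom.ker (algebraMap (EP I π) C)) :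
    p1 I π k ∈ I := by
  rw [RingHom.mem_ker, algebraMap_EC] at hk
  rw [← Ideal.Quotient.eq_zero_iff_mem, mk_p1, hk, map_zero]

theorem ker_sq (hI : I ^ 2 = ⊥) : RingHom.ker (algebraMap (EP I π) C) ^ 2 = ⊥ := by
  rw [pow_two, eq_bot_iff, Ideal.mul_le]
  intro k hk k' hk'
  rw [Ideal.mem_bot]
  apply ext_EP
  · rw [map_mul, map_zero]
    have : p1 I π k * p1 I π k' ∈ I ^ 2 := by
      rw [pow_two]
      exact Ideal.mul_mem_mul (p1_mem_of_mem_ker I π hk) (p1_mem_of_mem_ker I π hk')
    rwa [hI, Ideal.mem_bot] at this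
  · rw [RingHom.mem_ker, algebraMap_EC] at hk
    rw [map_mul, hk, zero_mul, map_zero]

/-- A section of `E → C` gives a solution. -/
theorem exists_of_section (g : C →ₐ[A] EP I π)
    (hg : (IsScalarTower.toAlgHom A (EP I π) C).comp g = AlgHom.id A C) :
    ∃ φ : C →ₐ[A] A, ∀ c, Ideal.Quotient.mk I (φ c) = π c := by
  refine ⟨(p1 I π).comp g, fun c => ?_⟩
  rw [AlgHom.comp_apply, mk_p1]
  congr 1
  exact congrArg (fun ψ : C →ₐ[A] C => ψ c) hg

/-! ### The module `P = A/I ⊗_E Ω_{E/A}` -/

instance algEA0 : Algebra (EP I π) (A ⧸ I) := (π.toRingHom.comp (p2 I π).toRingHom).toAlgebra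

theorem algebraMap_EA0 (e : EP I π) : algebraMap (EP I π) (A ⧸ I) e = π (p2 I π e) := rfl

theorem algebraMap_EA0' (e : EP I π) :
    algebraMap (EP I π) (A ⧸ I) e = Ideal.Quotient.mk I (p1 I π e) := (mk_p1 I π e).symm

instance : IsScalarTower A (EP I π) (A ⧸ I) :=
  IsScalarTower.of_algebraMap_eq' (by
    ext a
    rw [RingHom.comp_apply, algebraMap_EA0', (p1 I π).commutes]
    rfl)

theorem algebraMap_EA0_surjective : Function.Surjective (algebraMap (EP I π) (A ⧸ I)) := by
  intro x
  obtain ⟨c, hc⟩ : ∃ c, π c = x := by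
    obtain ⟨a, rfl⟩ := Ideal.Quotient.mk_surjective x
    exact ⟨algebraMap A C a, π.commutes a⟩
  obtain ⟨e, rfl⟩ := p2_surjective I π c
  exact ⟨e, hc⟩

/-- `P = A/I ⊗_E Ω_{E/A}`. -/
abbrev PP : Type u := (A ⧸ I) ⊗[EP I π] Ω[EP I π⁄A]

/-- `K = ker(E → C)`. -/
abbrev KK : Ideal (EP I π) := RingHom.ker (algebraMap (EP I π) C)

/-- `ι₀ : K → P`, `k ↦ 1 ⊗ dk`. -/
noncomputable def iota0 : KK I π →ₗ[EP I π] PP I π where
  toFun k := (1 : A ⧸ I) ⊗ₜ[EP I π] D A (EP I π) (k : EP I π)
  map_add' x y := by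
    rw [Submodule.coe_add, map_add, tmul_add]
  map_smul' e k := by
    rw [RingHom.id_apply, Submodule.coe_smul, smul_eq_mul, Derivation.leibniz, tmul_add,
      tmul_smul, tmul_smul]
    have hk : (k : EP I π) • ((1 : A ⧸ I) ⊗ₜ[EP I π] D A (EP I π) e) = 0 := by
      rw [smul_tmul', Algebra.smul_def, mul_one, algebraMap_EA0]
      have := k.2
      rw [RingHom.mem_ker, algebraMap_EC] at this
      rw [this, map_zero, zero_tmul]
    rw [hk, add_zero]

theorem iota0_apply (k : KK I π) :
    iota0 I π k = (1 : A ⧸ I) ⊗ₜ[EP I π] D A (EP I π) (k : EP I π) := rfl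

/-- `π` as an `E`-linear map. -/
def piE : C →ₗ[EP I π] A ⧸ I where
  toFun := π
  map_add' := map_add π
  map_smul' e c := by
    rw [RingHom.id_apply, Algebra.smul_def, Algebra.smul_def, map_mul, algebraMap_EC,
      algebraMap_EA0]

/-- `C ⊗_E Ω_{E/A} → A/I ⊗_E Ω_{E/A}`. -/
noncomputable def jj : C ⊗[EP I π] Ω[EP I π⁄A] →ₗ[EP I π] PP I π :=
  LinearMap.rTensor _ (piE I π)

theorem jj_kerToTensor (k : KK I π) : jj I π (kerToTensor A (EP I π) C k) = iota0 I π k := by
  rw [kerToTensor_apply, iota0_apply]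
  unfold jj
  rw [LinearMap.rTensor_tmul]
  congr 1
  exact map_one π

theorem exists_of_retraction (hI : I ^ 2 = ⊥) (ρ : PP I π →ₗ[EP I π] KK I π)
    (hρ : ∀ k, ρ (iota0 I π k) = k) :
    ∃ φ : C →ₐ[A] A, ∀ c, Ideal.Quotient.mk I (φ c) = π c := by
  let l : C ⊗[EP I π] Ω[EP I π⁄A] →ₗ[EP I π] KK I π := ρ ∘ₗ jj I π
  have hl : l ∘ₗ kerToTensor A (EP I π) C = LinearMap.id := by
    refine LinearMap.ext fun k => ?_
    simp only [l, LinearMap.comp_apply, jj_kerToTensor, hρ, LinearMap.id_apply]
  obtain ⟨g, hg⟩ := retractionKerToTensorEquivSection (R := A) (P := EP I π) (S := C)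
    (ker_sq I π hI) (p2_surjective I π) ⟨l, hl⟩
  exact exists_of_section I π g hg

/-- The image of `ι₀`, as an `A/I`-submodule of `P`. -/
noncomputable def R0 : Submodule (A ⧸ I) (PP I π) where
  carrier := Set.range (iota0 I π)
  add_mem' := by
    rintro _ _ ⟨x, rfl⟩ ⟨y, rfl⟩
    exact ⟨x + y, map_add _ _ _⟩
  zero_mem' := ⟨0, map_zero _⟩
  smul_mem' := by
    rintro a0 _ ⟨k, rfl⟩
    obtain ⟨e, rfl⟩ := algebraMap_EA0_surjective I π a0
    refine ⟨e • k, ?_⟩
    rw [map_smul, algebraMap_smul]

theorem mem_R0 (p : PP I π) : p ∈ R0 I π ↔ p ∈ LinearMap.range (iota0 I π) := Iff.rfl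

/-- `Q = P / ι₀(K)`: corepresents `A`-derivations of `C` into `A/I`-modules. -/
abbrev QQ : Type u := PP I π ⧸ R0 I π

theorem exists_retraction (hinj : Function.Injective (iota0 I π))
    [Module.Projective (A ⧸ I) (QQ I π)] :
    ∃ ρ : PP I π →ₗ[EP I π] KK I π, ∀ k, ρ (iota0 I π k) = k := by
  obtain ⟨s, hs⟩ := Module.projective_lifting_property (R0 I π).mkQ
    (LinearMap.id : QQ I π →ₗ[A ⧸ I] QQ I π) (Submodule.mkQ_surjective _)
  let τ : PP I π →ₗ[EP I π] PP I π :=
    LinearMap.id - (s ∘ₗ (R0 I π).mkQ).restrictScalars (EP I π)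
  have hτ : ∀ p, τ p ∈ LinearMap.range (iota0 I π) := by
    intro p
    rw [← mem_R0, ← Submodule.Quotient.mk_eq_zero]
    simp only [τ, LinearMap.sub_apply, LinearMap.id_apply, LinearMap.restrictScalars_apply,
      LinearMap.comp_apply, Submodule.Quotient.mk_sub]
    have := congrArg (fun ψ : QQ I π →ₗ[A ⧸ I] QQ I π => ψ ((R0 I π).mkQ p)) hs
    simp only [LinearMap.comp_apply, LinearMap.id_apply] at this
    rw [Submodule.mkQ_apply] at this ⊢
    rw [sub_eq_zero]
    exact this.symm
  refine ⟨(LinearEquiv.ofInjective (iota0 I π) hinj).symm.toLinearMap ∘ₗ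
    τ.codRestrict (LinearMap.range (iota0 I π)) hτ, fun k => ?_⟩
  rw [LinearMap.comp_apply, LinearEquiv.coe_coe, LinearEquiv.symm_apply_eq]
  apply Subtype.ext
  rw [LinearMap.codRestrict_apply, LinearEquiv.ofInjective_apply]
  simp only [τ, LinearMap.sub_apply, LinearMap.id_apply, LinearMap.restrictScalars_apply,
    LinearMap.comp_apply]
  have h0 : (R0 I π).mkQ (iota0 I π k) = 0 := by
    rw [Submodule.mkQ_apply, Submodule.Quotient.mk_eq_zero]
    exact ⟨k, rfl⟩
  rw [h0, map_zero, sub_zero]

section local_solution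

variable (s : A) (φ : C →ₐ[A] Localization.Away s)

/-- The extended ideal in the localization. -/
abbrev Is : Ideal (Localization.Away s) := I.map (algebraMap A (Localization.Away s))

/-- `A/I → A_s/I_s`. -/
abbrev qms : A ⧸ I →+* Localization.Away s ⧸ Is I s :=
  Ideal.quotientMap (Is I s) (algebraMap A (Localization.Away s)) Ideal.le_comap_map

variable (hφ : ∀ c, Ideal.Quotient.mk (Is I s) (φ c) = qms I s (π c))

/-- `E → A_s`. -/
def rhos : EP I π →+* Localization.Away s :=
  (algebraMap A (Localization.Away s)).comp (p1 I π).toRingHom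

include hφ in
theorem diff_mem (e : EP I π) : rhos I π s e - φ (p2 I π e) ∈ Is I s := by
  rw [← Ideal.Quotient.eq_zero_iff_mem, map_sub, hφ, ← mk_p1, sub_eq_zero]
  unfold rhos
  rw [RingHom.comp_apply, Ideal.quotientMap_mk]
  rfl

include hφ in
theorem algebraMap_p1_eq_zero_of_iota0_eq_zero (hI : I ^ 2 = ⊥) (k : KK I π)
    (hk : iota0 I π k = 0) : algebraMap A (Localization.Away s) (p1 I π k) = 0 := by
  letI : Algebra (EP I π) (Localization.Away s) := (rhos I π s).toAlgebra
  haveI : IsScalarTower A (EP I π) (Localization.Away s) :=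
    IsScalarTower.of_algebraMap_eq' (by
      ext a
      change _ = algebraMap A (Localization.Away s) (p1 I π (algebraMap A (EP I π) a))
      rw [(p1 I π).commutes a]
      rfl)
  letI : Module (A ⧸ I) (Is I s).Cotangent := Module.compHom _ (qms I s)
  have hsm : ∀ (a0 : A ⧸ I) (t : (Is I s).Cotangent), a0 • t = qms I s a0 • t := fun _ _ => rfl
  have hsmE : ∀ (e : EP I π) (t : (Is I s).Cotangent), e • t = rhos I π s e • t := by
    intro e t
    exact (algebraMap_smul (Localization.Away s) e t).symm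
  haveI : IsScalarTower (EP I π) (A ⧸ I) (Is I s).Cotangent := ⟨by
    intro e a0 t
    rw [hsm, hsm, hsmE, Algebra.smul_def, map_mul, mul_smul, algebraMap_EA0', Ideal.quotientMap_mk]
    exact algebraMap_smul (Localization.Away s ⧸ Is I s) _ _⟩
  -- the derivation
  let Ds : Derivation A (EP I π) (Is I s).Cotangent :=
    { toFun := fun e => (Is I s).toCotangent ⟨rhos I π s e - φ (p2 I π e), diff_mem I π s φ hφ e⟩
      map_add' := by
        intro e e'
        rw [← map_add]
        congr 1
        apply Subtype.ext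
        simp only [map_add, Submodule.coe_add]
        ring
      map_smul' := by
        intro a e
        rw [RingHom.id_apply]
        have key : ∀ t : (Is I s).Cotangent,
            a • t = algebraMap A (Localization.Away s) a • t :=
          fun t => (algebraMap_smul (Localization.Away s) a t).symm
        rw [key, ← map_smul]
        congr 1
        apply Subtype.ext
        rw [Submodule.coe_smul, smul_eq_mul, mul_sub]
        change rhos I π s (a • e) - φ (p2 I π (a • e)) = _
        have h1 : rhos I π s (a • e) = algebraMap A (Localization.Away s) a * rhos I π s e := by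
          unfold rhos
          rw [RingHom.comp_apply, RingHom.comp_apply]
          simp only [AlgHom.toRingHom_eq_coe, RingHom.coe_coe, map_smul, smul_eq_mul, map_mul]
        have h2 : φ (p2 I π (a • e)) = algebraMap A (Localization.Away s) a * φ (p2 I π e) := by
          rw [map_smul, map_smul, Algebra.smul_def]
        rw [h1, h2]
      map_one_eq_zero' := by
        change (Is I s).toCotangent _ = 0
        rw [Ideal.toCotangent_eq_zero]
        simp only [map_one, sub_self, Submodule.zero_mem]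
      leibniz' := by
        intro e e'
        change (Is I s).toCotangent _ = e • (Is I s).toCotangent _ + e' • (Is I s).toCotangent _
        rw [hsmE, hsmE, ← map_smul, ← map_smul, ← map_add, Ideal.toCotangent_eq]
        have h1 := diff_mem I π s φ hφ e
        have h2 := diff_mem I π s φ hφ e'
        have h3 := Ideal.mul_mem_mul h1 h2
        rw [← pow_two] at h3
        simp only [Submodule.coe_add, Submodule.coe_smul, smul_eq_mul, map_mul]
        have : rhos I π s e * rhos I π s e' - φ (p2 I π e) * φ (p2 I π e') -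
            (rhos I π s e * (rhos I π s e' - φ (p2 I π e')) +
              rhos I π s e' * (rhos I π s e - φ (p2 I π e))) =
            -((rhos I π s e - φ (p2 I π e)) * (rhos I π s e' - φ (p2 I π e'))) := by ring
        rw [this]
        exact neg_mem h3 }
  let Λ : PP I π →ₗ[A ⧸ I] (Is I s).Cotangent :=
    LinearMap.liftBaseChange (A ⧸ I) Ds.liftKaehlerDifferential
  have hΛ : Λ (iota0 I π k) = (Is I s).toCotangent
      ⟨rhos I π s k - φ (p2 I π k), diff_mem I π s φ hφ k⟩ := by
    rw [iota0_apply]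
    simp only [Λ, LinearMap.liftBaseChange_tmul, one_smul, Derivation.liftKaehlerDifferential_comp_D]
    rfl
  rw [hk, map_zero] at hΛ
  have h4 := ((Is I s).toCotangent_eq_zero _).mp hΛ.symm
  have hIs : Is I s ^ 2 = ⊥ := by
    rw [← Ideal.map_pow, hI, Ideal.map_bot]
  rw [hIs, Ideal.mem_bot] at h4
  have hk2 : p2 I π k = 0 := by
    have := k.2
    rwa [RingHom.mem_ker, algebraMap_EC] at this
  simp only at h4
  rw [hk2, map_zero, sub_zero] at h4
  exact h4

end local_solution

/-- Local solvability of the lifting problem. -/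
def LocallySolvable : Prop :=
  ∀ p : PrimeSpectrum A, ∃ s : A, s ∉ p.asIdeal ∧ ∃ φ : C →ₐ[A] Localization.Away s,
    ∀ c, Ideal.Quotient.mk (Is I s) (φ c) = qms I s (π c)

theorem iota0_injective (hI : I ^ 2 = ⊥) (hloc : LocallySolvable I π) :
    Function.Injective (iota0 I π) := by
  rw [injective_iff_map_eq_zero]
  intro k hk
  have hk2 : p2 I π k = 0 := by
    have := k.2
    rwa [RingHom.mem_ker, algebraMap_EC] at this
  have hk1 : p1 I π k = 0 := by
    by_contra hne
    have hann : (Ideal.span {p1 I π (k : EP I π)}).annihilator ≠ ⊤ := by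
      intro htop
      have h1 : (1 : A) ∈ (Ideal.span {p1 I π (k : EP I π)}).annihilator := by
        rw [htop]; trivial
      rw [Submodule.mem_annihilator_span_singleton, one_smul] at h1
      exact hne h1
    obtain ⟨m, hm, hle⟩ := Ideal.exists_le_maximal _ hann
    obtain ⟨s, hs, φ, hφ⟩ := hloc ⟨m, hm.isPrime⟩
    have h0 := algebraMap_p1_eq_zero_of_iota0_eq_zero I π s φ hφ hI k hk
    rw [IsLocalization.map_eq_zero_iff (Submonoid.powers s)] at h0
    obtain ⟨⟨_, n, rfl⟩, hn⟩ := h0
    have h2 : s ^ n ∈ (Ideal.span {p1 I π (k : EP I π)}).annihilator := by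
      rw [Submodule.mem_annihilator_span_singleton]
      exact hn
    exact hs (hm.isPrime.mem_of_pow_mem n (hle h2))
  apply Subtype.ext
  exact ext_EP I π (by rw [hk1]; rfl) (by rw [hk2]; rfl)

/-- **Ring-level gluing**: a locally solvable lifting problem with projective module of
differentials has a global solution. -/
theorem exists_global_solution (hI : I ^ 2 = ⊥) (hloc : LocallySolvable I π)
    [Module.Projective (A ⧸ I) (QQ I π)] :
    ∃ φ : C →ₐ[A] A, ∀ c, Ideal.Quotient.mk I (φ c) = π c := by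
  obtain ⟨ρ, hρ⟩ := exists_retraction I π (iota0_injective I π hI hloc)
  exact exists_of_retraction I π hI ρ hρ

end ring

end Groth.Agent.Helper19.FSGlue
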