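import Mathlib
import Groth.Agent.S0585
set_option autoImplicit false
set_option linter.style.haveILetI false
set_option linter.unusedSectionVars false
universe u

open TensorProduct

namespace Groth.Agent.Helper19.FSGlue

section zar

variable {R : Type u} [CommRing R] {ι : Type u} [Fintype ι] (s : ι → R)

theorem faithfullyFlat_pi_away (hs : Ideal.span (Set.range s) = ⊤) :
    Module.FaithfullyFlat R (Π i, Localization.Away (s i)) := by
  classical
  haveI : Module.Flat R (Π i, Localization.Away (s i)) :=
    Module.Flat.of_linearEquiv
      (DirectSum.linearEquivFunOnFintype R ι (fun i => Localization.Away (s i))).symm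
  apply Module.FaithfullyFlat.of_comap_surjective
  intro p
  obtain ⟨i, hi⟩ : ∃ i, s i ∉ p.asIdeal := by
    by_contra hcon
    push_neg at hcon
    have h1 : Ideal.span (Set.range s) ≤ p.asIdeal :=
      Ideal.span_le.mpr (by rintro _ ⟨i, rfl⟩; exact hcon i)
    rw [hs] at h1
    exact p.isPrime.ne_top (top_le_iff.mp h1)
  have h2 : p ∈ Set.range (PrimeSpectrum.comap (algebraMap R (Localization.Away (s i)))) := by
    rw [PrimeSpectrum.localization_away_comap_range _ (s i)]
    exact hi
  obtain ⟨q, hq⟩ := h2
  refine ⟨PrimeSpectrum.comap (Pi.evalRingHom _ i) q, ?_⟩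
  rw [← hq]
  rfl

end zar

section piproj

variable {ι : Type u} [Fintype ι] [DecidableEq ι] (L : ι → Type u) [∀ i, CommRing (L i)]

/-- `L i` as an algebra over the product. -/
@[reducible] def evalAlgebra (i : ι) : Algebra (Π i, L i) (L i) := (Pi.evalRingHom L i).toAlgebra

attribute [local instance] evalAlgebra

theorem evalAlgebra_smul (i : ι) (t : Π i, L i) (x : L i) : t • x = t i * x := rfl

variable {L}

/-- `L i ⊗ P → P`, `x ⊗ p ↦ single i x • p`. -/
noncomputable def tau (i : ι) (P : Type u) [AddCommGroup P] [Module (Π i, L i) P] :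
    L i ⊗[Π i, L i] P →ₗ[Π i, L i] P :=
  TensorProduct.lift (LinearMap.mk₂ (Π i, L i) (fun x p => (Pi.single i x : Π i, L i) • p)
    (by intro x y p; rw [Pi.single_add, add_smul])
    (by
      intro t x p
      rw [← mul_smul]
      congr 1
      ext j
      by_cases hj : j = i
      · subst hj
        simp [evalAlgebra_smul]
      · simp [hj])
    (by intro x p q; rw [smul_add])
    (by intro t x p; rw [smul_comm]))

theorem tau_tmul (i : ι) (P : Type u) [AddCommGroup P] [Module (Π i, L i) P] (x : L i) (p : P) :
    tau i P (x ⊗ₜ p) = (Pi.single i x : Π i, L i) • p := rfl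

theorem tau_natural (i : ι) {P P' : Type u} [AddCommGroup P] [Module (Π i, L i) P]
    [AddCommGroup P'] [Module (Π i, L i) P'] (f : P' →ₗ[Π i, L i] P) (z : L i ⊗[Π i, L i] P') :
    f (tau i P' z) = tau i P (LinearMap.baseChange (L i) f z) := by
  induction z using TensorProduct.induction_on with
  | zero => simp
  | tmul x p => rw [tau_tmul, LinearMap.baseChange_tmul, tau_tmul, map_smul]
  | add x y hx hy => rw [map_add, map_add, hx, hy, map_add, map_add]

theorem projective_pi (W : Type u) [AddCommGroup W] [Module (Π i, L i) W]
    (h : ∀ i, Module.Projective (L i) (L i ⊗[Π i, L i] W)) : Module.Projective (Π i, L i) W := by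
  refine Module.Projective.of_lifting_property'' fun f hf => ?_
  have hsurj : ∀ i, Function.Surjective (LinearMap.baseChange (L i) f) := by
    intro i
    exact LinearMap.lTensor_surjective (L i) hf
  choose g hg using fun i => Module.projective_lifting_property (LinearMap.baseChange (L i) f)
    (LinearMap.id : L i ⊗[Π i, L i] W →ₗ[L i] L i ⊗[Π i, L i] W) (hsurj i)
  refine ⟨∑ i, (tau i _) ∘ₗ ((g i).restrictScalars (Π i, L i)) ∘ₗ
    (TensorProduct.mk (Π i, L i) (L i) W 1), ?_⟩
  refine LinearMap.ext fun w => ?_
  rw [LinearMap.comp_apply, LinearMap.sum_apply, map_sum, LinearMap.id_apply]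
  have key : ∀ i, f ((tau i _ ∘ₗ ((g i).restrictScalars (Π i, L i)) ∘ₗ
      (TensorProduct.mk (Π i, L i) (L i) W 1)) w) = (Pi.single i (1 : L i) : Π i, L i) • w := by
    intro i
    rw [LinearMap.comp_apply, LinearMap.comp_apply, tau_natural, LinearMap.restrictScalars_apply]
    have := congrArg (fun ψ : L i ⊗[Π i, L i] W →ₗ[L i] L i ⊗[Π i, L i] W =>
      ψ ((TensorProduct.mk (Π i, L i) (L i) W 1) w)) (hg i)
    simp only [LinearMap.comp_apply, LinearMap.id_apply] at this
    rw [this, TensorProduct.mk_apply, tau_tmul]
  rw [Finset.sum_congr rfl fun i _ => key i, ← Finset.sum_smul, Finset.univ_sum_single]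
  exact one_smul _ _

end piproj

section zarproj

variable {R : Type u} [CommRing R] {ι : Type u} [Fintype ι] (s : ι → R)

attribute [local instance] evalAlgebra

/-- Zariski-local projectivity implies projectivity (via faithfully flat descent of
projectivity). -/
theorem projective_of_away (hs : Ideal.span (Set.range s) = ⊤) (M : Type u) [AddCommGroup M]
    [Module R M]
    (h : ∀ i, Module.Projective (Localization.Away (s i)) (Localization.Away (s i) ⊗[R] M)) :
    Module.Projective R M := by
  classical
  haveI := faithfullyFlat_pi_away s hs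
  haveI : ∀ i, IsScalarTower R (Π i, Localization.Away (s i)) (Localization.Away (s i)) :=
    fun i => IsScalarTower.of_algebraMap_eq' rfl
  haveI : Module.Projective (Π i, Localization.Away (s i))
      ((Π i, Localization.Away (s i)) ⊗[R] M) := by
    apply projective_pi
    intro i
    exact Module.Projective.of_equiv' (TensorProduct.AlgebraTensorModule.cancelBaseChange R
      (Π i, Localization.Away (s i)) (Localization.Away (s i)) (Localization.Away (s i)) M).symm
  exact Groth.Agent.S0585.result R (Π i, Localization.Away (s i)) M

end zarproj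

end Groth.Agent.Helper19.FSGlue
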