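import Mathlib
set_option autoImplicit false
set_option linter.style.haveILetI false
set_option linter.unusedSectionVars false
universe u

namespace Groth.Agent.Helper19.FSGlue

/-- Trivial square zero extension of a commutative ring by a module (wrapper around
`TrivSqZeroExt` that does not require an action of the opposite ring). -/
def TZ (L N : Type u) [CommRing L] [AddCommGroup N] [Module L N] : Type u := TrivSqZeroExt L N

namespace TZ

variable {L N : Type u} [CommRing L] [AddCommGroup N] [Module L N]

/-- The opposite action. -/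
@[reducible] def opModule (L N : Type u) [CommRing L] [AddCommGroup N] [Module L N] :
    Module Lᵐᵒᵖ N :=
  Module.compHom N ((RingHom.id L).fromOpposite fun a b => mul_comm a b)

attribute [local instance] opModule

theorem isCentralScalar (L N : Type u) [CommRing L] [AddCommGroup N] [Module L N] :
    IsCentralScalar L N := ⟨fun _ _ => rfl⟩

attribute [local instance] isCentralScalar

noncomputable instance : CommRing (TZ L N) := inferInstanceAs (CommRing (TrivSqZeroExt L N))

/-- constructor -/
def mk (x : L) (n : N) : TZ L N := ((x, n) : TrivSqZeroExt L N)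

/-- first projection -/
noncomputable def fst : TZ L N →+* L := (TrivSqZeroExt.fstHom L L N).toRingHom

/-- second projection -/
noncomputable def snd : TZ L N →+ N := (TrivSqZeroExt.sndHom L N).toAddMonoidHom

/-- inclusion of the ring -/
noncomputable def inl : L →+* TZ L N := TrivSqZeroExt.inlHom L N

@[simp] theorem fst_mk (x : L) (n : N) : fst (mk x n) = x := rfl
@[simp] theorem snd_mk (x : L) (n : N) : snd (mk x n) = n := rfl
@[simp] theorem fst_inl (x : L) : fst (inl x : TZ L N) = x := rfl
@[simp] theorem snd_inl (x : L) : snd (inl x : TZ L N) = 0 := rfl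

theorem ext {x y : TZ L N} (h1 : fst x = fst y) (h2 : snd x = snd y) : x = y :=
  TrivSqZeroExt.ext h1 h2

theorem snd_mul (x y : TZ L N) : snd (x * y) = fst x • snd y + fst y • snd x := by
  exact TrivSqZeroExt.snd_mul (R := L) (M := N) x y

theorem snd_one : snd (1 : TZ L N) = 0 := rfl

theorem mk_eq (x : TZ L N) : mk (fst x) (snd x) = x := ext rfl rfl

theorem fst_surjective : Function.Surjective (fst : TZ L N →+* L) := fun x => ⟨mk x 0, rfl⟩

theorem ker_fst_sq : RingHom.ker (fst : TZ L N →+* L) ^ 2 = ⊥ := by
  rw [pow_two, eq_bot_iff, Ideal.mul_le]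
  intro x hx y hy
  rw [RingHom.mem_ker] at hx hy
  rw [Ideal.mem_bot]
  apply ext
  · rw [map_mul, hx, zero_mul, map_zero]
  · rw [snd_mul, hx, hy, zero_smul, zero_smul, add_zero, map_zero]

/-- A ring hom into the trivial square zero extension from a ring hom and a "derivation". -/
noncomputable def ofDer {E : Type u} [CommRing E] (γ : E →+* L) (d : E →+ N)
    (hd : ∀ e e', d (e * e') = γ e • d e' + γ e' • d e) : E →+* TZ L N where
  toFun e := mk (γ e) (d e)
  map_one' := by
    apply ext
    · rw [fst_mk, map_one, map_one]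
    · rw [snd_mk, snd_one]
      have := hd 1 1
      rw [mul_one, γ.map_one, one_smul] at this
      exact left_eq_add.mp this
  map_mul' e e' := by
    apply ext
    · rw [fst_mk, map_mul, map_mul, fst_mk, fst_mk]
    · rw [snd_mk, snd_mul, fst_mk, fst_mk, snd_mk, snd_mk, hd]
  map_zero' := by
    apply ext
    · rw [fst_mk, map_zero, map_zero]
    · rw [snd_mk, map_zero, map_zero]
  map_add' e e' := by
    apply ext
    · rw [fst_mk, map_add, map_add, fst_mk, fst_mk]
    · rw [snd_mk, map_add, map_add, snd_mk, snd_mk]

@[simp] theorem fst_ofDer {E : Type u} [CommRing E] (γ : E →+* L) (d : E →+ N)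
    (hd : ∀ e e', d (e * e') = γ e • d e' + γ e' • d e) (e : E) :
    fst (ofDer γ d hd e) = γ e := rfl

@[simp] theorem snd_ofDer {E : Type u} [CommRing E] (γ : E →+* L) (d : E →+ N)
    (hd : ∀ e e', d (e * e') = γ e • d e' + γ e' • d e) (e : E) :
    snd (ofDer γ d hd e) = d e := rfl

variable {N' : Type u} [AddCommGroup N'] [Module L N']

/-- Functoriality in the module. -/
noncomputable def map (g : N →ₗ[L] N') : TZ L N →+* TZ L N' :=
  ofDer fst (g.toAddMonoidHom.comp snd) (by
    intro e e'
    simp only [AddMonoidHom.comp_apply, LinearMap.toAddMonoidHom_coe]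
    rw [snd_mul, map_add, map_smul, map_smul])

@[simp] theorem fst_map (g : N →ₗ[L] N') (x : TZ L N) : fst (map g x) = fst x := rfl
@[simp] theorem snd_map (g : N →ₗ[L] N') (x : TZ L N) : snd (map g x) = g (snd x) := rfl

theorem map_inl (g : N →ₗ[L] N') (x : L) : map g (inl x) = inl x := by
  apply ext
  · rfl
  · rw [snd_map, snd_inl, snd_inl, map_zero]

theorem map_surjective (g : N →ₗ[L] N') (hg : Function.Surjective g) :
    Function.Surjective (map g) := by
  intro y
  obtain ⟨n, hn⟩ := hg (snd y)
  refine ⟨mk (fst y) n, ext rfl ?_⟩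
  rw [snd_map, snd_mk, hn]

theorem ker_map_sq (g : N →ₗ[L] N') : RingHom.ker (map g) ^ 2 = ⊥ := by
  have hle : RingHom.ker (map g) ≤ RingHom.ker (fst : TZ L N →+* L) := by
    intro x hx
    rw [RingHom.mem_ker] at hx ⊢
    rw [← fst_map g, hx, map_zero]
  exact le_bot_iff.mp ((Ideal.pow_right_mono hle 2).trans ker_fst_sq.le)

end TZ

end Groth.Agent.Helper19.FSGlue
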