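import Mathlib
import Groth.Prelude.Def_MoreMor
import Groth.Agent.Helper19.FSGlue1
set_option autoImplicit false
set_option linter.style.haveILetI false
set_option linter.unusedSectionVars false
universe u

open CategoryTheory CategoryTheory.Limits AlgebraicGeometry

namespace Groth.Agent.Helper19.FSGlue

open Groth.Agent.Lib.Helper11.FormalEtale Groth.Agent.Lib.Helper11.FormalLift

theorem surjective_specMap_of_sq_zero {A'' B'' : Type u} [CommRing A''] [CommRing B'']
    (ρ : A'' →+* B'') (hρ : Function.Surjective ρ) (hker : RingHom.ker ρ ^ 2 = ⊥) :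
    Function.Surjective (Spec.map (CommRingCat.ofHom ρ)).base := by
  intro p
  have hp : RingHom.ker ρ ≤ p.asIdeal := by
    intro x hx
    have h2 : x ^ 2 ∈ RingHom.ker ρ ^ 2 := Ideal.pow_mem_pow hx 2
    rw [hker, Ideal.mem_bot] at h2
    exact p.isPrime.mem_of_pow_mem 2 (h2 ▸ p.asIdeal.zero_mem)
  have : p ∈ Set.range (PrimeSpectrum.comap ρ) := by
    rw [range_comap_of_surjective _ _ hρ]
    exact hp
  obtain ⟨q, hq⟩ := this
  exact ⟨q, hq⟩

/-- Lifting against a square zero surjection inside a formally smooth chart. -/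
theorem exists_lift_of_chart {X Y : Scheme.{u}} (f : X ⟶ Y) (U : X.Opens) (V : Y.Opens)
    (hU : IsAffineOpen U) (hV : IsAffineOpen V) (hUV : U ≤ f ⁻¹ᵁ V)
    (hsm : letI := (f.appLE V U hUV).hom.toAlgebra
      Algebra.FormallySmooth Γ(Y, V) Γ(X, U))
    {A'' B'' : Type u} [CommRing A''] [CommRing B''] (ρ : A'' →+* B'')
    (hρ : Function.Surjective ρ) (hker : RingHom.ker ρ ^ 2 = ⊥)
    (a'' : Spec (CommRingCat.of B'') ⟶ X) (b'' : Spec (CommRingCat.of A'') ⟶ Y)
    (w : Spec.map (CommRingCat.ofHom ρ) ≫ b'' = a'' ≫ f)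
    (hrange : Set.range a''.base ⊆ (U : Set X)) :
    ∃ l : Spec (CommRingCat.of A'') ⟶ X, Spec.map (CommRingCat.ofHom ρ) ≫ l = a'' ∧
      l ≫ f = b'' := by
  have ha_range : Set.range a''.base ⊆ Set.range hU.fromSpec.base := by
    rw [hU.range_fromSpec]
    exact hrange
  have hb_range : Set.range b''.base ⊆ Set.range hV.fromSpec.base := by
    rw [hV.range_fromSpec]
    rintro _ ⟨p, rfl⟩
    obtain ⟨q, rfl⟩ := surjective_specMap_of_sq_zero ρ hρ hker p
    have h1 := congrArg (fun φ : Spec (CommRingCat.of B'') ⟶ Y => φ.base q) w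
    have h2 : b''.base ((Spec.map (CommRingCat.ofHom ρ)).base q) = f.base (a''.base q) := h1
    rw [h2]
    exact hUV (hrange ⟨q, rfl⟩)
  set α := IsOpenImmersion.lift hU.fromSpec a'' ha_range with hα
  have hα_fac : α ≫ hU.fromSpec = a'' := IsOpenImmersion.lift_fac _ _ _
  set β := IsOpenImmersion.lift hV.fromSpec b'' hb_range with hβ
  have hβ_fac : β ≫ hV.fromSpec = b'' := IsOpenImmersion.lift_fac _ _ _
  set β' : Γ(Y, V) ⟶ CommRingCat.of A'' := Spec.preimage β with hβ'
  set α' : Γ(X, U) ⟶ CommRingCat.of B'' := Spec.preimage α with hα'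
  have hβ'm : Spec.map β' = β := Spec.map_preimage β
  have hα'm : Spec.map α' = α := Spec.map_preimage α
  have hcomm : f.appLE V U hUV ≫ α' = β' ≫ CommRingCat.ofHom ρ := by
    apply Spec.map_injective
    rw [Spec.map_comp, Spec.map_comp, hα'm, hβ'm, ← cancel_mono hV.fromSpec, Category.assoc,
      Category.assoc, hV.SpecMap_appLE_fromSpec f hU hUV, ← Category.assoc, hα_fac, hβ_fac, w]
  letI := (f.appLE V U hUV).hom.toAlgebra
  letI : Algebra Γ(Y, V) A'' := β'.hom.toAlgebra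
  letI : Algebra Γ(Y, V) B'' := (ρ.comp β'.hom).toAlgebra
  have hsm' : Algebra.FormallySmooth Γ(Y, V) Γ(X, U) := hsm
  let g : Γ(X, U) →ₐ[Γ(Y, V)] B'' :=
    { α'.hom with
      commutes' := by
        intro r
        have := congrArg (fun ψ => ψ.hom r) hcomm
        exact this }
  let ρa : A'' →ₐ[Γ(Y, V)] B'' := { ρ with commutes' := fun r => rfl }
  have hker' : IsNilpotent (RingHom.ker (ρa : A'' →+* B'')) := ⟨2, hker⟩
  set γ := Algebra.FormallySmooth.liftOfSurjective g ρa hρ hker' with hγdef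
  have hγ : ∀ x, ρ (γ x) = α'.hom x := fun x =>
    Algebra.FormallySmooth.liftOfSurjective_apply g ρa hρ hker' x
  have hγ1 : CommRingCat.ofHom γ.toRingHom ≫ CommRingCat.ofHom ρ = α' := by
    ext x
    exact hγ x
  have hγ2 : f.appLE V U hUV ≫ CommRingCat.ofHom γ.toRingHom = β' := by
    ext r
    exact γ.commutes r
  refine ⟨Spec.map (CommRingCat.ofHom γ.toRingHom) ≫ hU.fromSpec, ?_, ?_⟩
  · rw [← hα_fac, ← hα'm, ← hγ1, Spec.map_comp, Category.assoc]
  · rw [Category.assoc, ← hV.SpecMap_appLE_fromSpec f hU hUV, ← Category.assoc, ← Spec.map_comp,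
      hγ2, hβ'm, hβ_fac]

variable {X Y : Scheme.{u}} {f : X ⟶ Y} {A : Type u} [CommRing A] {I : Ideal A}
  {a : Spec (CommRingCat.of (A ⧸ I)) ⟶ X} {b : Spec (CommRingCat.of A) ⟶ Y}

/-- Surjection form of `FOData.exists_hom`. -/
theorem FOData.exists_hom' (D : FOData f I a b) {A' B' : Type u} [CommRing A'] [CommRing B']
    (ψ : A →+* A') (ρ' : A' →+* B') (hρ' : Function.Surjective ρ')
    (hker : RingHom.ker ρ' ^ 2 = ⊥) (χ : A ⧸ I →+* B')
    (hχ : χ.comp (Ideal.Quotient.mk I) = ρ'.comp ψ) (l : Spec (CommRingCat.of A') ⟶ X)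
    (hl1 : Spec.map (CommRingCat.ofHom ρ') ≫ l = Spec.map (CommRingCat.ofHom χ) ≫ a)
    (hl2 : l ≫ f = Spec.map (CommRingCat.ofHom ψ) ≫ b) :
    ∃ φ : D.C →+* A', φ.comp D.α = ψ ∧ ρ'.comp φ = χ.comp D.π ∧
      Spec.map (CommRingCat.ofHom φ) ≫ D.ε = l := by
  set J' := RingHom.ker ρ' with hJ'
  have hle : I ≤ J'.comap ψ := by
    intro i hi
    rw [Ideal.mem_comap, hJ', RingHom.mem_ker]
    have := congrArg (fun φ : A →+* B' => φ i) hχ
    simp only [RingHom.comp_apply] at this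
    rw [← this, Ideal.Quotient.eq_zero_iff_mem.mpr hi, map_zero]
  let e : A' ⧸ J' ≃+* B' := RingHom.quotientKerEquivOfSurjective hρ'
  have he : ∀ x, e (Ideal.Quotient.mk J' x) = ρ' x := fun x => rfl
  have he2 : (e : A' ⧸ J' →+* B').comp (Ideal.quotientMap J' ψ hle) = χ := by
    apply Ideal.Quotient.ringHom_ext
    ext x
    simp only [RingHom.comp_apply, Ideal.quotientMap_mk]
    have := congrArg (fun φ : A →+* B' => φ x) hχ
    simp only [RingHom.comp_apply] at this
    rw [this]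
    rfl
  have he3 : (e.symm : B' →+* A' ⧸ J').comp ρ' = Ideal.Quotient.mk J' := by
    ext x
    simp only [RingHom.comp_apply, RingHom.coe_coe]
    rw [RingEquiv.symm_apply_eq]
    rfl
  have he4 : (e.symm : B' →+* A' ⧸ J').comp χ = Ideal.quotientMap J' ψ hle := by
    rw [← he2]
    ext x
    simp
  have hsolves : Solves f I a b ψ J' hle l := by
    refine ⟨?_, hl2⟩
    unfold thick
    rw [← he3, CommRingCat.ofHom_comp, Spec.map_comp, Category.assoc, hl1, ← Category.assoc,
      ← Spec.map_comp, ← CommRingCat.ofHom_comp, he4]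
  obtain ⟨φ, h1, h2, h3⟩ := D.exists_hom ψ J' hker hle l hsolves
  refine ⟨φ, h1, ?_, h3⟩
  have : ρ' = (e : A' ⧸ J' →+* B').comp (Ideal.Quotient.mk J') := by
    ext x
    rfl
  rw [this, RingHom.comp_assoc, h2, ← RingHom.comp_assoc, he2]

end Groth.Agent.Helper19.FSGlue
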