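import Mathlib
import Groth.Agent.Helper19.FSGlue2
import Groth.Agent.Helper19.FSGlue4
set_option autoImplicit false
set_option linter.style.haveILetI false
set_option linter.unusedSectionVars false
universe u

open TensorProduct KaehlerDifferential

namespace Groth.Agent.Helper19.FSGlue

section dict

variable {A : Type u} [CommRing A] (I : Ideal A) {C : Type u} [CommRing C] [Algebra A C]
  (π : C →ₐ[A] A ⧸ I) (L : Type u) [CommRing L] [Algebra (A ⧸ I) L]

/-- The generators `1 ⊗ [1 ⊗ de]` of `L ⊗ Q`. -/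
noncomputable def gen (e : EP I π) : L ⊗[A ⧸ I] QQ I π :=
  (1 : L) ⊗ₜ[A ⧸ I] (R0 I π).mkQ ((1 : A ⧸ I) ⊗ₜ[EP I π] D A (EP I π) e)

/-- `E → A/I → L`. -/
noncomputable def gam : EP I π →+* L :=
  (algebraMap (A ⧸ I) L).comp (algebraMap (EP I π) (A ⧸ I))

theorem gam_apply (e : EP I π) : gam I π L e = algebraMap (A ⧸ I) L (π (p2 I π e)) := rfl

theorem gen_add (e e' : EP I π) : gen I π L (e + e') = gen I π L e + gen I π L e' := by
  unfold gen
  rw [map_add, tmul_add, map_add, tmul_add]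

theorem gen_zero : gen I π L 0 = 0 := by
  unfold gen
  rw [map_zero, tmul_zero, map_zero, tmul_zero]

/-- auxiliary: `1 ⊗ [1 ⊗ (e • ω)] = γ(e) • (1 ⊗ [1 ⊗ ω])`. -/
theorem one_tmul_mkQ_one_tmul_smul (e : EP I π) (ω : Ω[EP I π⁄A]) :
    (1 : L) ⊗ₜ[A ⧸ I] (R0 I π).mkQ ((1 : A ⧸ I) ⊗ₜ[EP I π] (e • ω)) =
      gam I π L e • ((1 : L) ⊗ₜ[A ⧸ I] (R0 I π).mkQ ((1 : A ⧸ I) ⊗ₜ[EP I π] ω)) := by
  have h1 : (1 : A ⧸ I) ⊗ₜ[EP I π] (e • ω) =
      algebraMap (EP I π) (A ⧸ I) e • ((1 : A ⧸ I) ⊗ₜ[EP I π] ω) := by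
    rw [TensorProduct.tmul_smul (R := EP I π) e (1 : A ⧸ I) ω, smul_tmul', smul_tmul',
      Algebra.smul_def, mul_one, smul_eq_mul, mul_one]
  rw [h1, map_smul, TensorProduct.tmul_smul (R := A ⧸ I) _ (1 : L) _, smul_tmul', smul_tmul',
    Algebra.smul_def, mul_one, smul_eq_mul, mul_one]
  rfl

theorem gen_mul (e e' : EP I π) :
    gen I π L (e * e') = gam I π L e • gen I π L e' + gam I π L e' • gen I π L e := by
  unfold gen
  rw [Derivation.leibniz, tmul_add, map_add, tmul_add, one_tmul_mkQ_one_tmul_smul,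
    one_tmul_mkQ_one_tmul_smul]

theorem gen_algebraMap (x : A) : gen I π L (algebraMap A (EP I π) x) = 0 := by
  unfold gen
  rw [Derivation.map_algebraMap, tmul_zero, map_zero, tmul_zero]

theorem gen_of_mem_ker (k : EP I π) (hk : k ∈ KK I π) : gen I π L k = 0 := by
  unfold gen
  have : (R0 I π).mkQ ((1 : A ⧸ I) ⊗ₜ[EP I π] D A (EP I π) k) = 0 := by
    rw [Submodule.mkQ_apply, Submodule.Quotient.mk_eq_zero]
    exact ⟨⟨k, hk⟩, rfl⟩
  rw [this, tmul_zero]

theorem gam_of_mem_ker (k : EP I π) (hk : k ∈ KK I π) : gam I π L k = 0 := by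
  rw [gam_apply]
  rw [RingHom.mem_ker, algebraMap_EC] at hk
  rw [hk, map_zero, map_zero]

theorem gam_algebraMap (x : A) :
    gam I π L (algebraMap A (EP I π) x) = algebraMap (A ⧸ I) L (Ideal.Quotient.mk I x) := by
  rw [gam_apply, (p2 I π).commutes, π.commutes]
  rfl

theorem span_gen : Submodule.span L (Set.range (gen I π L)) = ⊤ := by
  rw [eq_top_iff]
  intro w hw
  clear hw
  set Sp := Submodule.span L (Set.range (gen I π L)) with hSp
  have h3 : ∀ ω : Ω[EP I π⁄A],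
      (1 : L) ⊗ₜ[A ⧸ I] (R0 I π).mkQ ((1 : A ⧸ I) ⊗ₜ[EP I π] ω) ∈ Sp := by
    intro ω
    have hω : ω ∈ Submodule.span (EP I π) (Set.range (D A (EP I π))) := by
      rw [KaehlerDifferential.span_range_derivation]
      trivial
    induction hω using Submodule.span_induction with
    | mem x hx =>
      obtain ⟨e, rfl⟩ := hx
      exact Submodule.subset_span ⟨e, rfl⟩
    | zero =>
      rw [tmul_zero, map_zero, tmul_zero]
      exact Sp.zero_mem
    | add x y _ _ hx hy =>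
      rw [tmul_add, map_add, tmul_add]
      exact Sp.add_mem hx hy
    | smul e x _ hx =>
      rw [one_tmul_mkQ_one_tmul_smul]
      exact Sp.smul_mem _ hx
  have h2 : ∀ p : PP I π, (1 : L) ⊗ₜ[A ⧸ I] (R0 I π).mkQ p ∈ Sp := by
    intro p
    induction p using TensorProduct.induction_on with
    | zero =>
      rw [map_zero, tmul_zero]
      exact Sp.zero_mem
    | add x y hx hy =>
      rw [map_add, tmul_add]
      exact Sp.add_mem hx hy
    | tmul x ω =>
      have h1 : x ⊗ₜ[EP I π] ω = x • ((1 : A ⧸ I) ⊗ₜ[EP I π] ω) := by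
        rw [smul_tmul', smul_eq_mul, mul_one]
      rw [h1, map_smul, TensorProduct.tmul_smul (R := A ⧸ I) x (1 : L) _, smul_tmul',
        Algebra.smul_def, mul_one]
      have h4 : algebraMap (A ⧸ I) L x ⊗ₜ[A ⧸ I] (R0 I π).mkQ ((1 : A ⧸ I) ⊗ₜ[EP I π] ω) =
          algebraMap (A ⧸ I) L x •
            ((1 : L) ⊗ₜ[A ⧸ I] (R0 I π).mkQ ((1 : A ⧸ I) ⊗ₜ[EP I π] ω)) := by
        rw [smul_tmul', smul_eq_mul, mul_one]
      rw [h4]
      exact Sp.smul_mem _ (h3 ω)
  induction w using TensorProduct.induction_on with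
  | zero => exact Sp.zero_mem
  | add x y hx hy => exact Sp.add_mem hx hy
  | tmul x q =>
    obtain ⟨p, rfl⟩ := (R0 I π).mkQ_surjective q
    have h1 : x ⊗ₜ[A ⧸ I] (R0 I π).mkQ p = x • ((1 : L) ⊗ₜ[A ⧸ I] (R0 I π).mkQ p) := by
      rw [smul_tmul', smul_eq_mul, mul_one]
    rw [h1]
    exact Sp.smul_mem _ (h2 p)

theorem ext_W {N : Type u} [AddCommGroup N] [Module L N] {g h : L ⊗[A ⧸ I] QQ I π →ₗ[L] N}
    (H : ∀ e, g (gen I π L e) = h (gen I π L e)) : g = h := by
  apply LinearMap.ext_on (span_gen I π L)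
  rintro _ ⟨e, rfl⟩
  exact H e

variable {L}
variable {N : Type u} [AddCommGroup N] [Module L N]

/-- The ring hom `E → L ⊕ N` attached to a linear map `L ⊗ Q → N`. -/
noncomputable def PhiE (g : L ⊗[A ⧸ I] QQ I π →ₗ[L] N) : EP I π →+* TZ L N :=
  TZ.ofDer (gam I π L)
    { toFun := fun e => g (gen I π L e)
      map_zero' := by rw [gen_zero, map_zero]
      map_add' := fun e e' => by rw [gen_add, map_add] }
    (by
      intro e e'
      change g (gen I π L (e * e')) = gam I π L e • g (gen I π L e') + gam I π L e' • g (gen I π L e)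
      rw [gen_mul, map_add, map_smul, map_smul])

theorem fst_PhiE (g : L ⊗[A ⧸ I] QQ I π →ₗ[L] N) (e : EP I π) :
    TZ.fst (PhiE I π g e) = gam I π L e := rfl

theorem snd_PhiE (g : L ⊗[A ⧸ I] QQ I π →ₗ[L] N) (e : EP I π) :
    TZ.snd (PhiE I π g e) = g (gen I π L e) := rfl

theorem ker_le_ker_PhiE (g : L ⊗[A ⧸ I] QQ I π →ₗ[L] N) :
    RingHom.ker (algebraMap (EP I π) C) ≤ RingHom.ker (PhiE I π g) := by
  intro k hk
  rw [RingHom.mem_ker]
  apply TZ.ext
  · rw [fst_PhiE, gam_of_mem_ker I π L k hk, map_zero]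
  · rw [snd_PhiE, gen_of_mem_ker I π L k hk, map_zero, map_zero]

/-- The ring hom `C → L ⊕ N` attached to a linear map `L ⊗ Q → N`. -/
noncomputable def PhiC (g : L ⊗[A ⧸ I] QQ I π →ₗ[L] N) : C →+* TZ L N :=
  RingHom.liftOfSurjective (algebraMap (EP I π) C) (p2_surjective I π)
    ⟨PhiE I π g, ker_le_ker_PhiE I π g⟩

theorem PhiC_p2 (g : L ⊗[A ⧸ I] QQ I π →ₗ[L] N) (e : EP I π) :
    PhiC I π g (p2 I π e) = PhiE I π g e :=
  RingHom.liftOfRightInverse_comp_apply _ _ _ _ e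

theorem fst_PhiC (g : L ⊗[A ⧸ I] QQ I π →ₗ[L] N) (c : C) :
    TZ.fst (PhiC I π g c) = algebraMap (A ⧸ I) L (π c) := by
  obtain ⟨e, rfl⟩ := p2_surjective I π c
  rw [PhiC_p2, fst_PhiE, gam_apply]

theorem snd_PhiC_p2 (g : L ⊗[A ⧸ I] QQ I π →ₗ[L] N) (e : EP I π) :
    TZ.snd (PhiC I π g (p2 I π e)) = g (gen I π L e) := by
  rw [PhiC_p2, snd_PhiE]

theorem PhiC_algebraMap (g : L ⊗[A ⧸ I] QQ I π →ₗ[L] N) (x : A) :
    PhiC I π g (algebraMap A C x) = TZ.inl (algebraMap (A ⧸ I) L (Ideal.Quotient.mk I x)) := by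
  have h1 : algebraMap A C x = p2 I π (algebraMap A (EP I π) x) := ((p2 I π).commutes x).symm
  rw [h1, PhiC_p2]
  apply TZ.ext
  · rw [fst_PhiE, gam_algebraMap, TZ.fst_inl]
  · rw [snd_PhiE, gen_algebraMap, map_zero, TZ.snd_inl]

/-- Conversely, a ring hom `C → L ⊕ N` over `A` lifting `C → A/I → L` gives a linear map
`L ⊗ Q → N`. -/
theorem exists_linear_of_ringHom (φ : C →+* TZ L N)
    (h1 : ∀ c, TZ.fst (φ c) = algebraMap (A ⧸ I) L (π c))
    (h2 : ∀ x : A, φ (algebraMap A C x) =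
      TZ.inl (algebraMap (A ⧸ I) L (Ideal.Quotient.mk I x))) :
    ∃ h : L ⊗[A ⧸ I] QQ I π →ₗ[L] N, ∀ e, h (gen I π L e) = TZ.snd (φ (p2 I π e)) := by
  letI mA0 : Module (A ⧸ I) N := Module.compHom N (algebraMap (A ⧸ I) L)
  haveI : IsScalarTower (A ⧸ I) L N := IsScalarTower.of_algebraMap_smul fun _ _ => rfl
  letI mE : Module (EP I π) N := Module.compHom N (algebraMap (EP I π) (A ⧸ I))
  haveI : IsScalarTower (EP I π) (A ⧸ I) N := IsScalarTower.of_algebraMap_smul fun _ _ => rfl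
  letI mA : Module A N := Module.compHom N (algebraMap A (EP I π))
  haveI : IsScalarTower A (EP I π) N := IsScalarTower.of_algebraMap_smul fun _ _ => rfl
  have hsmE : ∀ (e : EP I π) (n : N), e • n = gam I π L e • n := fun _ _ => rfl
  have hsmA : ∀ (x : A) (n : N), x • n = gam I π L (algebraMap A (EP I π) x) • n :=
    fun _ _ => rfl
  let δ : Derivation A (EP I π) N :=
    { toFun := fun e => TZ.snd (φ (p2 I π e))
      map_add' := by
        intro e e'
        rw [map_add, map_add, map_add]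
      map_smul' := by
        intro x e
        rw [RingHom.id_apply, hsmA, gam_algebraMap, map_smul, Algebra.smul_def, map_mul, h2,
          TZ.snd_mul, TZ.fst_inl, TZ.snd_inl, smul_zero, add_zero]
      map_one_eq_zero' := by
        change TZ.snd (φ (p2 I π 1)) = 0
        rw [map_one, map_one, TZ.snd_one]
      leibniz' := by
        intro e e'
        change TZ.snd (φ (p2 I π (e * e'))) = e • TZ.snd (φ (p2 I π e')) +
          e' • TZ.snd (φ (p2 I π e))
        rw [map_mul, map_mul, TZ.snd_mul, h1, h1, hsmE, hsmE, gam_apply, gam_apply] }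
  have hδ : ∀ e, δ e = TZ.snd (φ (p2 I π e)) := fun _ => rfl
  let h0 : PP I π →ₗ[A ⧸ I] N := LinearMap.liftBaseChange (A ⧸ I) δ.liftKaehlerDifferential
  have hR0 : R0 I π ≤ LinearMap.ker h0 := by
    rintro _ ⟨k, rfl⟩
    rw [LinearMap.mem_ker, iota0_apply]
    simp only [h0, LinearMap.liftBaseChange_tmul, one_smul,
      Derivation.liftKaehlerDifferential_comp_D]
    rw [hδ]
    have hk := k.2
    rw [RingHom.mem_ker, algebraMap_EC] at hk
    rw [hk, map_zero, map_zero]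
  refine ⟨LinearMap.liftBaseChange L ((R0 I π).liftQ h0 hR0), fun e => ?_⟩
  unfold gen
  simp only [LinearMap.liftBaseChange_tmul, one_smul, Submodule.mkQ_apply, Submodule.liftQ_apply,
    h0, Derivation.liftKaehlerDifferential_comp_D]
  rfl

end dict

end Groth.Agent.Helper19.FSGlue
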