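import Mathlib
import Groth.Prelude.Def_MoreMor
import Groth.Agent.Helper19.FSGlue2
import Groth.Agent.Helper19.FSGlue3
import Groth.Agent.Helper19.FSGlue5
import Groth.Agent.Helper19.FSGlue6
set_option autoImplicit false
set_option linter.style.haveILetI false
set_option linter.unusedSectionVars false
universe u

open CategoryTheory CategoryTheory.Limits AlgebraicGeometry TensorProduct

namespace Groth.Agent.Helper19.FSGlue

open Groth.Agent.Lib.Helper11.FormalEtale Groth.Agent.Lib.Helper11.FormalLift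

variable {X Y : Scheme.{u}} {f : X ⟶ Y} {A : Type u} [CommRing A] {I : Ideal A}
  {a : Spec (CommRingCat.of (A ⧸ I)) ⟶ X} {b : Spec (CommRingCat.of A) ⟶ Y}

/-- `C` as an `A`-algebra. -/
@[reducible] def FOData.algebra (D : FOData f I a b) : Algebra A D.C := D.α.toAlgebra

attribute [local instance] FOData.algebra

/-- `π` as an `A`-algebra hom. -/
def FOData.πa (D : FOData f I a b) : D.C →ₐ[A] A ⧸ I :=
  { D.π with commutes' := fun r => congrArg (fun φ : A →+* A ⧸ I => φ r) D.π_α }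

theorem FOData.πa_apply (D : FOData f I a b) (c : D.C) : D.πa c = D.π c := rfl

/-- `s̄ ∈ A/I` is small: `a` maps `D(s̄)` into a formally smooth affine chart. -/
def Small (f : X ⟶ Y) (a : Spec (CommRingCat.of (A ⧸ I)) ⟶ X) (sb : A ⧸ I) : Prop :=
  ∃ (U : X.Opens) (V : Y.Opens) (_ : IsAffineOpen U) (_ : IsAffineOpen V) (hUV : U ≤ f ⁻¹ᵁ V),
    (letI := (f.appLE V U hUV).hom.toAlgebra; Algebra.FormallySmooth Γ(Y, V) Γ(X, U)) ∧
    Set.range (Spec.map (CommRingCat.ofHom (algebraMap (A ⧸ I) (Localization.Away sb))) ≫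
      a).base ⊆ (U : Set X)

theorem projective_local (D : FOData f I a b) (sb : A ⧸ I) (hs : Small f a sb) :
    Module.Projective (Localization.Away sb) (Localization.Away sb ⊗[A ⧸ I] QQ I D.πa) := by
  obtain ⟨U, V, hU, hV, hUV, hsm, hrange⟩ := hs
  refine Module.Projective.of_lifting_property'' fun fF hfF => ?_
  set L := Localization.Away sb with hL
  set W := L ⊗[A ⧸ I] QQ I D.πa with hW
  set ΦW : D.C →+* TZ L W := PhiC I D.πa (LinearMap.id : W →ₗ[L] W) with hΦW
  set loc : A ⧸ I →+* L := algebraMap (A ⧸ I) L with hloc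
  set ψW : A →+* TZ L W := TZ.inl.comp (loc.comp (Ideal.Quotient.mk I)) with hψW
  set ψF : A →+* TZ L (W →₀ L) := TZ.inl.comp (loc.comp (Ideal.Quotient.mk I)) with hψF
  set ρ : TZ L (W →₀ L) →+* TZ L W := TZ.map fF with hρ
  have hρψ : ρ.comp ψF = ψW := by
    ext x
    exact TZ.map_inl (N := W →₀ L) (N' := W) fF (loc (Ideal.Quotient.mk I x))
  have hΦα : ΦW.comp D.α = ψW := by
    ext x
    exact PhiC_algebraMap I D.πa (LinearMap.id : W →ₗ[L] W) x
  have hfstΦ : (TZ.fst : TZ L W →+* L).comp ΦW = loc.comp D.π := by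
    ext c
    exact fst_PhiC I D.πa (LinearMap.id : W →ₗ[L] W) c
  set lW := Spec.map (CommRingCat.ofHom ΦW) ≫ D.ε with hlW
  have hlWf : lW ≫ f = Spec.map (CommRingCat.ofHom ψW) ≫ b := by
    rw [hlW, Category.assoc, D.ε_f, ← Category.assoc, ← Spec.map_comp, ← CommRingCat.ofHom_comp,
      hΦα]
  have hfstlW : Spec.map (CommRingCat.ofHom (TZ.fst : TZ L W →+* L)) ≫ lW =
      Spec.map (CommRingCat.ofHom loc) ≫ a := by
    rw [hlW, ← Category.assoc, ← Spec.map_comp, ← CommRingCat.ofHom_comp, hfstΦ,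
      CommRingCat.ofHom_comp, Spec.map_comp, Category.assoc, D.π_ε]
  have hrangeW : Set.range lW.base ⊆ (U : Set X) := by
    rintro _ ⟨p, rfl⟩
    obtain ⟨q, rfl⟩ := surjective_specMap_of_sq_zero (TZ.fst : TZ L W →+* L) TZ.fst_surjective
      TZ.ker_fst_sq p
    have h1 := congrArg (fun φ : Spec (CommRingCat.of L) ⟶ X => φ.base q) hfstlW
    have h2 : lW.base ((Spec.map (CommRingCat.ofHom (TZ.fst : TZ L W →+* L))).base q) =
        (Spec.map (CommRingCat.ofHom loc) ≫ a).base q := h1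
    rw [h2]
    exact hrange ⟨q, rfl⟩
  have w : Spec.map (CommRingCat.ofHom ρ) ≫ (Spec.map (CommRingCat.ofHom ψF) ≫ b) = lW ≫ f := by
    rw [hlWf, ← Category.assoc, ← Spec.map_comp, ← CommRingCat.ofHom_comp, hρψ]
  obtain ⟨l'', hl1, hl2⟩ := exists_lift_of_chart f U V hU hV hUV hsm ρ
    (TZ.map_surjective fF hfF) (TZ.ker_map_sq fF) lW (Spec.map (CommRingCat.ofHom ψF) ≫ b) w
    hrangeW
  have hfstρ : (TZ.fst : TZ L W →+* L).comp ρ = TZ.fst := by
    ext x
    rfl
  obtain ⟨φ'', hφ1, hφ2, hφ3⟩ := D.exists_hom' ψF (TZ.fst : TZ L (W →₀ L) →+* L)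
    TZ.fst_surjective TZ.ker_fst_sq loc (by ext x; rfl) l''
    (by rw [← hfstρ, CommRingCat.ofHom_comp, Spec.map_comp, Category.assoc, hl1, hfstlW]) hl2
  have heq : ρ.comp φ'' = ΦW := D.hom_ext _ _ (by rw [RingHom.comp_assoc, hφ1, hρψ, hΦα])
    (by rw [CommRingCat.ofHom_comp, Spec.map_comp, Category.assoc, hφ3, hl1])
  obtain ⟨h, hh⟩ := exists_linear_of_ringHom I D.πa φ''
    (fun c => congrArg (fun φ : D.C →+* L => φ c) hφ2)
    (fun x => congrArg (fun φ : A →+* TZ L (W →₀ L) => φ x) hφ1)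
  refine ⟨h, ext_W I D.πa L fun e => ?_⟩
  rw [LinearMap.comp_apply, hh, LinearMap.id_apply]
  have h3 := congrArg (fun φ : D.C →+* TZ L W => TZ.snd (φ (p2 I D.πa e))) heq
  simp only [RingHom.comp_apply] at h3
  rw [hΦW, snd_PhiC_p2, LinearMap.id_apply] at h3
  exact h3

section main

variable (H : ∀ (U : X.Opens) (V : Y.Opens) (_ : IsAffineOpen U) (_ : IsAffineOpen V)
      (hUV : U ≤ f ⁻¹ᵁ V),
      letI := (f.appLE V U hUV).hom.toAlgebra
      Algebra.FormallySmooth Γ(Y, V) Γ(X, U))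

include H in
theorem exists_small (a : Spec (CommRingCat.of (A ⧸ I)) ⟶ X) (q : PrimeSpectrum (A ⧸ I)) :
    ∃ sb : A ⧸ I, sb ∉ q.asIdeal ∧ Small f a sb := by
  obtain ⟨_, ⟨V, hV, rfl⟩, hyV, -⟩ :=
    Y.isBasis_affineOpens.exists_subset_of_mem_open (Set.mem_univ (f.base (a.base q))) isOpen_univ
  have hxV : a.base q ∈ (f ⁻¹ᵁ V : X.Opens) := hyV
  obtain ⟨_, ⟨U, hU, rfl⟩, hxU, hUV : U ≤ f ⁻¹ᵁ V⟩ :=
    X.isBasis_affineOpens.exists_subset_of_mem_open hxV (f ⁻¹ᵁ V).isOpen
  have hO : IsOpen (a.base ⁻¹' (U : Set X)) := U.isOpen.preimage a.continuous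
  obtain ⟨_, ⟨_, ⟨sb, rfl⟩, rfl⟩, hqs, hsO⟩ :=
    PrimeSpectrum.isBasis_basic_opens.exists_subset_of_mem_open
      (show q ∈ a.base ⁻¹' (U : Set X) from hxU) hO
  refine ⟨sb, hqs, U, V, hU, hV, hUV, H U V hU hV hUV, ?_⟩
  rintro _ ⟨r, rfl⟩
  have h1 : (Spec.map (CommRingCat.ofHom (algebraMap (A ⧸ I) (Localization.Away sb)))).base r ∈
      PrimeSpectrum.basicOpen sb := by
    have h2 : (Spec.map (CommRingCat.ofHom (algebraMap (A ⧸ I) (Localization.Away sb)))).base r ∈
        Set.range (PrimeSpectrum.comap (algebraMap (A ⧸ I) (Localization.Away sb))) := ⟨r, rfl⟩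
    rw [PrimeSpectrum.localization_away_comap_range (Localization.Away sb) sb] at h2
    exact h2
  exact hsO h1

include H in
theorem projective_QQ (D : FOData f I a b) : Module.Projective (A ⧸ I) (QQ I D.πa) := by
  choose sb hsb hsmall using fun q => exists_small H a q
  have hspan : Ideal.span (Set.range sb) = ⊤ := by
    by_contra hne
    obtain ⟨m, hm, hle⟩ := Ideal.exists_le_maximal _ hne
    exact hsb ⟨m, hm.isPrime⟩ (hle (Ideal.subset_span ⟨_, rfl⟩))
  obtain ⟨t, ht, htspan⟩ := (Ideal.span_eq_top_iff_finite _).mp hspan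
  apply projective_of_away (ι := t) (fun i => i.1) (by
    have h0 : Set.range (fun i : t => (i.1 : A ⧸ I)) = (t : Set (A ⧸ I)) := Subtype.range_coe
    rw [h0]
    exact htspan)
  intro i
  obtain ⟨q, hq⟩ := ht i.2
  exact projective_local D i.1 (hq ▸ hsmall q)

include H in
theorem locallySolvable (hI : I ^ 2 = ⊥) (w : thick I ≫ b = a ≫ f) (D : FOData f I a b) :
    LocallySolvable I D.πa := by
  intro p
  obtain ⟨s, hps, l, hl⟩ := exists_local_solution f H I hI a b w p
  obtain ⟨φ, h1, h2, -⟩ := D.exists_hom (algebraMap A (Localization.Away s))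
    (I.map (algebraMap A (Localization.Away s))) (sq_map_eq_bot _ I hI) Ideal.le_comap_map l hl
  exact ⟨s, hps, { φ with commutes' := fun r => congrArg (fun ψ : A →+* Localization.Away s => ψ r) h1 },
    fun c => congrArg (fun ψ : D.C →+* _ => ψ c) h2⟩

include H in
/-- An affine-locally formally smooth morphism is formally smooth (lifting against affine square
zero thickenings). -/
theorem isFormallySmoothHom_of_formallySmooth_appLE : MoreMor.IsFormallySmoothHom f := by
  intro A _ I hI a b w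
  obtain ⟨D⟩ := exists_foData f I a b w
  haveI := projective_QQ H D
  obtain ⟨φ, hφ⟩ := exists_global_solution I D.πa hI (locallySolvable H hI w D)
  refine ⟨Spec.map (CommRingCat.ofHom φ.toRingHom) ≫ D.ε, ?_, ?_⟩
  · have h1 : (Ideal.Quotient.mk I).comp φ.toRingHom = D.π := RingHom.ext hφ
    rw [← Category.assoc, ← Spec.map_comp, ← CommRingCat.ofHom_comp, h1, D.π_ε]
  · have h1 : φ.toRingHom.comp D.α = RingHom.id A := by
      ext x
      exact φ.commutes x
    rw [Category.assoc, D.ε_f, ← Category.assoc, ← Spec.map_comp, ← CommRingCat.ofHom_comp, h1,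
      CommRingCat.ofHom_id, Spec.map_id, Category.id_comp]

end main

end Groth.Agent.Helper19.FSGlue
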