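import Mathlib
import Groth.Prelude.Def_MoreMor
import Groth.Agent.Lib.Helper11.FormalEtale
set_option autoImplicit false
universe u

open CategoryTheory AlgebraicGeometry

/-! # Formally smooth morphisms (lifting form) are affine-locally formally smooth -/

namespace Groth.Agent.Helper19.FSmooth

open Groth.Agent.Lib.Helper11.FormalEtale

theorem formallySmooth_appLE_of_isFormallySmoothHom {X Y : Scheme.{u}} (f : X ⟶ Y)
    (hf : MoreMor.IsFormallySmoothHom f) (U : X.Opens) (V : Y.Opens) (hU : IsAffineOpen U)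
    (hV : IsAffineOpen V) (hUV : U ≤ f ⁻¹ᵁ V) :
    letI := (f.appLE V U hUV).hom.toAlgebra
    Algebra.FormallySmooth Γ(Y, V) Γ(X, U) := by
  letI := (f.appLE V U hUV).hom.toAlgebra
  rw [Algebra.FormallySmooth.iff_comp_surjective]
  intro B _ _ J hJ g'
  set a := Spec.map (CommRingCat.ofHom g'.toRingHom) ≫ hU.fromSpec with ha
  set b := Spec.map (CommRingCat.ofHom (algebraMap Γ(Y, V) B)) ≫ hV.fromSpec with hb
  have hspec : ∀ (B' : Type u) [CommRing B'] [Algebra Γ(Y, V) B'] (g : Γ(X, U) →ₐ[Γ(Y, V)] B'),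
      (Spec.map (CommRingCat.ofHom g.toRingHom) ≫ hU.fromSpec) ≫ f =
        Spec.map (CommRingCat.ofHom (algebraMap Γ(Y, V) B')) ≫ hV.fromSpec := by
    intro B' _ _ g
    rw [Category.assoc, ← hV.SpecMap_appLE_fromSpec f hU hUV, ← Category.assoc, ← Spec.map_comp]
    congr 2
    ext r
    exact g.commutes r
  have w : thick J ≫ b = a ≫ f := by
    rw [ha, hspec (B ⧸ J) g', hb]
    unfold thick
    rw [← Category.assoc, ← Spec.map_comp, ← CommRingCat.ofHom_comp]
  obtain ⟨l, hl1, hl2⟩ := hf B J hJ a b w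
  obtain ⟨l', hl'1, hl'2⟩ := exists_lift_openImmersion hU.fromSpec J hJ l
    (Spec.map (CommRingCat.ofHom g'.toRingHom)) hl1
  set g₀ := Spec.preimage l' with hg₀def
  have hg₀ : Spec.map g₀ = l' := Spec.map_preimage _
  have hcomm : f.appLE V U hUV ≫ g₀ = CommRingCat.ofHom (algebraMap Γ(Y, V) B) := by
    apply Spec.map_injective
    rw [Spec.map_comp, hg₀, ← cancel_mono hV.fromSpec, Category.assoc,
      hV.SpecMap_appLE_fromSpec f hU hUV, ← Category.assoc, hl'1, hl2]
  let g : Γ(X, U) →ₐ[Γ(Y, V)] B :=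
    { g₀.hom with commutes' := fun r => congrArg (fun ψ => ψ.hom r) hcomm }
  refine ⟨g, ?_⟩
  have h1 : g₀ ≫ CommRingCat.ofHom (Ideal.Quotient.mk J) = CommRingCat.ofHom g'.toRingHom := by
    apply Spec.map_injective
    rw [Spec.map_comp, hg₀]
    exact hl'2
  ext x
  exact congrArg (fun ψ => ψ.hom x) h1

end Groth.Agent.Helper19.FSmooth
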