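import Mathlib
import Groth.Agent.Helper19.RelGCI16
import Groth.Agent.Lib.Helper16.SyntLCI2

/-!
# Stacks 00SY: equivalent local descriptions of syntomic ring maps at a prime (helper19)

`exists_away_mul`, `part32` ((3) ⇒ (2)), `part13` ((1) ⇒ (3)), `part21` ((2) ⇒ (1)); assembled in S9169.
-/

set_option autoImplicit false
set_option linter.style.haveILetI false
set_option linter.unusedSectionVars false
universe u
open TensorProduct MvPolynomial

namespace Groth.Agent.Helper19.RelGCI

section merge

variable (R : Type u) {S : Type u} [CommRing R] [CommRing S] [Algebra R S]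

/-- a principal localization of a principal localization is a principal localization -/
theorem exists_away_mul (g : S) (t : Localization.Away g) :
    ∃ s : S, (∃ k : ℕ, t * algebraMap S (Localization.Away g) g ^ k =
        algebraMap S (Localization.Away g) s) ∧
      Nonempty (Localization.Away (g * s) ≃ₐ[R] Localization.Away t) := by
  obtain ⟨k, s, hs⟩ := IsLocalization.Away.surj g t
  refine ⟨s, ⟨k, hs⟩, ?_⟩
  have hu : IsUnit (algebraMap S (Localization.Away g) g ^ k) :=
    (IsLocalization.Away.algebraMap_isUnit g).pow k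
  have hass : Associated (algebraMap S (Localization.Away g) s) t := by
    refine Associated.symm ⟨hu.unit, ?_⟩
    rw [IsUnit.unit_spec]
    exact hs
  haveI : IsLocalization.Away (g * s) (Localization.Away t) :=
    IsLocalization.Away.mul_of_associated g s t hass
  exact ⟨(IsLocalization.algEquiv (Submonoid.powers (g * s)) (Localization.Away (g * s))
    (Localization.Away t)).restrictScalars R⟩

end merge

section assembly

open Groth.Agent.Lib.Helper23.SyntF

variable (R S : Type u) [CommRing R] [CommRing S] [Algebra R S]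
  (p : Ideal R) [p.IsPrime] (q : Ideal S) [q.IsPrime]
  (Q : Ideal (p.Fiber S)) [Q.IsPrime]
  (hQ : Q.comap (Algebra.TensorProduct.includeRight.toRingHom) = q)

include hQ in
theorem one_tmul_mem_iff (a : S) : ((1 : p.ResidueField) ⊗ₜ[R] a : p.Fiber S) ∈ Q ↔ a ∈ q := by
  rw [← hQ, Ideal.mem_comap]
  rfl

theorem flat_atPrime_of_eq (I : Ideal S) [I.IsPrime] (h : I = q)
    (hflat : Module.Flat R (Localization.AtPrime q)) : Module.Flat R (Localization.AtPrime I) := by
  subst h
  exact hflat

include hQ in
/-- (3) ⇒ (2) of Stacks 00SY -/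
theorem part32 (g : S) (hg : g ∉ q) (hfp : Algebra.FinitePresentation R (Localization.Away g))
    (hflat : Module.Flat R (Localization.AtPrime q))
    (hCI : Synt.IsCIOver p.ResidueField (Localization.AtPrime Q)) :
    ∃ g' : S, g' ∉ q ∧ ∃ (m c : ℕ) (F : Fin c → MvPolynomial (Fin m) R), Synt.IsRelGCI R m c F ∧
      Nonempty (Localization.Away g' ≃ₐ[R] Synt.RelGCIRing R m c F) := by
  set b : p.Fiber S := (1 : p.ResidueField) ⊗ₜ[R] g with hbdef
  have hb : b ∉ Q := fun h => hg ((one_tmul_mem_iff R S p q Q hQ g).mp h)
  let e := IsLocalization.Away.tensorProductEquivTMulRight R p.ResidueField g (Localization.Away g)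
  obtain ⟨Qb, hQbp, hQbc, ⟨e1⟩⟩ := exists_prime_away (k := p.ResidueField) b Q hb
  set QT : Ideal (p.Fiber (Localization.Away g)) := Qb.comap e with hQT
  haveI : QT.IsPrime := Ideal.comap_isPrime _ _
  let e2 : Localization.AtPrime QT ≃ₐ[p.ResidueField] Localization.AtPrime Qb :=
    Localization.localAlgEquiv QT Qb e rfl
  have hCIT : Synt.IsCIOver p.ResidueField (Localization.AtPrime QT) :=
    isCIOver_of_algEquiv (e1.trans e2.symm) hCI
  set qT : Ideal (Localization.Away g) := QT.comap
    (Algebra.TensorProduct.includeRight : Localization.Away g →ₐ[R] p.Fiber (Localization.Away g))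
    with hqTdef
  haveI : qT.IsPrime := Ideal.comap_isPrime _ _
  have hmem : ∀ a : S, algebraMap S (Localization.Away g) a ∈ qT ↔ a ∈ q := by
    intro a
    rw [hqTdef, Ideal.mem_comap, hQT, Ideal.mem_comap, Algebra.TensorProduct.includeRight_apply,
      IsLocalization.Away.tensorProductEquivTMulRight_tmul, ← Ideal.mem_comap, hQbc,
      one_tmul_mem_iff R S p q Q hQ]
  have hqT : qT.comap (algebraMap S (Localization.Away g)) = q := by
    ext a
    rw [Ideal.mem_comap, hmem]
  have hflatT : Module.Flat R (Localization.AtPrime qT) := by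
    have e3 := IsLocalization.localizationLocalizationAtPrimeIsoLocalization (Submonoid.powers g) qT
    haveI := flat_atPrime_of_eq R S q _ hqT hflat
    exact Module.Flat.of_linearEquiv (e3.symm.toLinearEquiv.restrictScalars R)
  obtain ⟨t, ht, m, c, F, hG, ⟨eT⟩⟩ := exists_relGCI_away R (Localization.Away g) p QT hflatT hCIT
  obtain ⟨s, ⟨k, hk⟩, ⟨e4⟩⟩ := exists_away_mul R g t
  have hgq : algebraMap S (Localization.Away g) g ∉ qT := fun h => hg ((hmem g).mp h)
  have hs : s ∉ q := by
    intro hsq
    have h1 : algebraMap S (Localization.Away g) s ∈ qT := (hmem s).mpr hsq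
    rw [← hk] at h1
    rcases ‹qT.IsPrime›.mem_or_mem h1 with h1 | h1
    · exact ht h1
    · exact hgq (‹qT.IsPrime›.mem_of_pow_mem k h1)
  exact ⟨g * s, fun h => (‹q.IsPrime›.mem_or_mem h).elim hg hs, m, c, F, hG, ⟨e4.trans eT⟩⟩

theorem flat_atPrime_of_eq' (I : Ideal S) [I.IsPrime] (h : I = q)
    (hflat : Module.Flat R (Localization.AtPrime I)) : Module.Flat R (Localization.AtPrime q) := by
  subst h
  exact hflat

include hQ in
/-- (1) ⇒ (3) of Stacks 00SY -/
theorem part13 (g : S) (hg : g ∉ q) (h : Synt.IsSyntomic R (Localization.Away g)) :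
    Algebra.FinitePresentation R (Localization.Away g) ∧
      Module.Flat R (Localization.AtPrime q) ∧
      Synt.IsCIOver p.ResidueField (Localization.AtPrime Q) := by
  obtain ⟨hfl, hfp, hlci⟩ := h
  refine ⟨hfp, ?_, ?_⟩
  · have hdisj : Disjoint (Submonoid.powers g : Set S) (q : Set S) := by
      rw [Set.disjoint_left]
      rintro x ⟨n, rfl⟩ hx
      exact hg (‹q.IsPrime›.mem_of_pow_mem n hx)
    haveI hp' : (q.map (algebraMap S (Localization.Away g))).IsPrime :=
      IsLocalization.isPrime_of_isPrime_disjoint (Submonoid.powers g) _ q inferInstance hdisj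
    have hcomap : (q.map (algebraMap S (Localization.Away g))).comap
        (algebraMap S (Localization.Away g)) = q :=
      IsLocalization.comap_map_of_isPrime_disjoint (Submonoid.powers g) _ inferInstance hdisj
    have e3 := IsLocalization.localizationLocalizationAtPrimeIsoLocalization (Submonoid.powers g)
      (q.map (algebraMap S (Localization.Away g)))
    haveI : Module.Flat R (Localization.AtPrime (q.map (algebraMap S (Localization.Away g)))) :=
      Module.Flat.trans R (Localization.Away g) _
    have h1 : Module.Flat R (Localization.AtPrime ((q.map (algebraMap S (Localization.Away g))).comap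
        (algebraMap S (Localization.Away g)))) :=
      Module.Flat.of_linearEquiv (e3.toLinearEquiv.restrictScalars R)
    exact flat_atPrime_of_eq' R S q _ hcomap h1
  · set b : p.Fiber S := (1 : p.ResidueField) ⊗ₜ[R] g with hbdef
    have hb : b ∉ Q := fun h => hg ((one_tmul_mem_iff R S p q Q hQ g).mp h)
    let e := IsLocalization.Away.tensorProductEquivTMulRight R p.ResidueField g (Localization.Away g)
    have hL : Synt.IsLCIOver p.ResidueField (Localization.Away b) :=
      Groth.Agent.Lib.Helper23.FibProp0.isLCIOver_of_algEquiv e (hlci ⟨p, inferInstance⟩)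
    exact isCIOver_atPrime_of_away_isLCIOver Q b hb hL

/-- (2) ⇒ (1) of Stacks 00SY -/
theorem part21 (g : S) (m c : ℕ) (F : Fin c → MvPolynomial (Fin m) R) (hG : Synt.IsRelGCI R m c F)
    (e : Localization.Away g ≃ₐ[R] Synt.RelGCIRing R m c F) :
    Synt.IsSyntomic R (Localization.Away g) :=
  Groth.Agent.Lib.Helper16.SyntLCI.isSyntomic_of_algEquiv e.symm (isSyntomic_of_isRelGCI hG)

end assembly

end Groth.Agent.Helper19.RelGCI
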