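import Mathlib
import Groth.Agent.Helper19.RelGCI17

/-!
# Refined form of the local structure theorem, and finite syntomic algebras over a local ring (helper19)

`exists_relGCI_data_of_presentation`: the data behind `exists_relGCI_away_of_presentation`
(`c ≤ n` relations `f_i ∈ ker π`, an element `h` with `h · ker π ⊆ (f)` and `π h ∉ q`, and
`R[x,y]/(f, h y - 1)` a relative global complete intersection).
-/

set_option autoImplicit false
set_option linter.style.haveILetI false
set_option linter.unusedSectionVars false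
universe u
open TensorProduct MvPolynomial

namespace Groth.Agent.Helper19.RelGCI

section core'

open AlgebraicGeometry CategoryTheory Groth.Agent.Lib.Helper23.SyntF

variable {R T : Type u} [CommRing R] [CommRing T] [Algebra R T]
  (p : Ideal R) [p.IsPrime] {n : ℕ} (π : MvPolynomial (Fin n) R →ₐ[R] T)
  (Q : Ideal (p.Fiber T)) [Q.IsPrime]

/-- **Core of the local structure theorem** (Stacks 00SY (3) ⇒ (2), presentation form). -/
theorem exists_relGCI_data_of_presentation (hπ : Function.Surjective π)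
    (hI : (RingHom.ker π).FG)
    (hflat : Module.Flat R (Localization.AtPrime
      (Q.comap (Algebra.TensorProduct.includeRight : T →ₐ[R] p.Fiber T))))
    (hCI : Synt.IsCIOver p.ResidueField (Localization.AtPrime Q)) :
    ∃ (c : ℕ) (f : Fin c → MvPolynomial (Fin n) R) (h : MvPolynomial (Fin n) R), c ≤ n ∧
      (∀ i, f i ∈ RingHom.ker π) ∧
      π h ∉ Q.comap (Algebra.TensorProduct.includeRight : T →ₐ[R] p.Fiber T) ∧
      (∀ y ∈ RingHom.ker π, h * y ∈ Ideal.span (Set.range f)) ∧
      Synt.IsRelGCI R (n + 1) (c + 1) (awayRel R f h) := by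
  classical
  set q : Ideal T := Q.comap (Algebra.TensorProduct.includeRight : T →ₐ[R] p.Fiber T) with hqdef
  set I := RingHom.ker π with hIdef
  set Qb : Ideal (MvPolynomial (Fin n) p.ResidueField) := Q.comap (psi p π) with hQb
  haveI : Qb.IsPrime := Ideal.comap_isPrime _ _
  set q' : Ideal (MvPolynomial (Fin n) R) := q.comap π with hq'
  haveI : q'.IsPrime := Ideal.comap_isPrime _ _
  have hq : q' = Qb.comap (rho R p n) := (comap_rho_comap_psi p π Q).symm
  have hIq' : I ≤ q' := by
    intro x hx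
    rw [hq', Ideal.mem_comap, (RingHom.mem_ker).mp hx]
    exact zero_mem _
  -- step 1: regular sequence on the fibre
  obtain ⟨xs, hxs, hreg⟩ := exists_isRegular_ker_of_isCIOver (psi p π) (psi_surjective p π hπ) Q hCI
  rw [ker_psi p π hπ] at hxs
  -- step 2: flatness of the local ring of the presentation
  have hflat' : Module.Flat R (Localization.AtPrime q' ⧸
      I.map (algebraMap _ (Localization.AtPrime q'))) :=
    Module.Flat.of_linearEquiv (locQuotAlgEquiv R π q hπ).symm.toLinearEquiv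
  -- step 3: lift
  set c := xs.length with hc
  obtain ⟨f, hfI, hfmap, hfb⟩ := exists_lift_of_flat p q' Qb hq I hI hflat' xs hxs
  set J := Ideal.span (Set.range f) with hJ
  have hJI : J ≤ I := Ideal.span_le.mpr (by rintro _ ⟨i, rfl⟩; exact hfI i)
  -- step 4: height and dimension
  have hCM : LocCoh.IsCohenMacaulayModule (Localization.AtPrime Qb) (Localization.AtPrime Qb) :=
    Groth.Agent.Lib.Helper16.PDR.isCohenMacaulayModule_self_of_isRegularLocalRing _
  have hht : (c : ℕ∞) ≤ ((Ideal.span (Set.range fun i => rho R p n (f i))).map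
      (algebraMap _ (Localization.AtPrime Qb))).height := by
    rw [hfb, height_ofList_of_isRegular hCM xs hreg]
  have hJbQ : Ideal.span (Set.range fun i => rho R p n (f i)) ≤ Qb := by
    rw [Ideal.span_le]
    rintro _ ⟨i, rfl⟩
    change rho R p n (f i) ∈ Qb
    rw [← Ideal.mem_comap, ← hq]
    exact hIq' (hfI i)
  obtain ⟨hcn, hb, hbQ, hdim⟩ := exists_dim_away_le (fun i => rho R p n (f i)) Qb hJbQ hht
  obtain ⟨r, hr, h₁, hh₁⟩ := exists_smul_eq_rho R p n hb
  have hh₁q : h₁ ∉ q' := by
    intro hmem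
    rw [hq, Ideal.mem_comap, hh₁, smul_eq_C_mul'] at hmem
    rcases ‹Qb.IsPrime›.mem_or_mem hmem with hmem | hmem
    · exact ‹Qb.IsPrime›.ne_top (Ideal.eq_top_of_isUnit_mem _ hmem (isUnit_C_of_notMem R p n hr))
    · exact hbQ hmem
  -- step 5: the point of `T' = R[x]/(f)`
  have hJq' : J ≤ q' := hJI.trans hIq'
  have hker : RingHom.ker (Ideal.Quotient.mk J) ≤ q' := by rw [Ideal.mk_ker]; exact hJq'
  let q'' : Ideal (Synt.RelGCIRing R n c f) := q'.map (Ideal.Quotient.mk J)
  haveI hq''p : q''.IsPrime := Ideal.map_isPrime_of_surjective Ideal.Quotient.mk_surjective hker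
  have hq''c : q''.comap (Ideal.Quotient.mk J) = q' := by
    rw [Ideal.comap_map_of_surjective' (Ideal.Quotient.mk J) Ideal.Quotient.mk_surjective q',
      sup_eq_left]
    exact hker
  let z : Spec (CommRingCat.of (Synt.RelGCIRing R n c f)) := ⟨q'', hq''p⟩
  have hzp : (sm R (Synt.RelGCIRing R n c f)) z = ⟨p, inferInstance⟩ := by
    apply PrimeSpectrum.ext
    ext a
    change algebraMap R (Synt.RelGCIRing R n c f) a ∈ q'' ↔ a ∈ p
    rw [← C_mem_iff p q' Qb hq a, ← hq''c, Ideal.mem_comap]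
    rfl
  have hmem_iff : ∀ a : MvPolynomial (Fin n) R, Ideal.Quotient.mk J a ∈ q'' ↔ a ∈ q' := by
    intro a
    rw [← hq''c, Ideal.mem_comap]
  have hz1 : FlatMor.fibreDimAt (sm R (Synt.RelGCIRing R n c f)) z ≤ ((n - c : ℕ) : WithBot ℕ∞) := by
    refine (fibreDimAt_le_ringKrullDim_fiber_away R _ z (Ideal.Quotient.mk J h₁)
      (fun hmem => hh₁q ((hmem_iff h₁).mp hmem)) ⟨p, inferInstance⟩ hzp).trans ?_
    rw [ringKrullDim_fiber_away R f h₁ p]
    refine hdim _ ?_
    change hb ∣ rho R p n h₁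
    rw [hh₁, smul_eq_C_mul']
    exact Dvd.intro_left _ rfl
  -- step 6: the bad locus
  obtain ⟨Jbad, hJbad⟩ := exists_ideal_fibreDimAt R f (n - c)
  have hnot : ¬ Jbad ≤ q'' := fun hle => (hJbad z).mp hle hz1
  obtain ⟨jb, hjb, hjbq⟩ := SetLike.not_le_iff_exists.mp hnot
  obtain ⟨j₀, rfl⟩ := Ideal.Quotient.mk_surjective jb
  have hj₀q : j₀ ∉ q' := fun hmem => hjbq ((hmem_iff j₀).mpr hmem)
  -- step 7: the kernel is killed near `q'`
  obtain ⟨g₃, hg₃q, hg₃⟩ := exists_mul_mem_of_map_le_fg I J q' hI hfmap.ge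
  set hfin := j₀ * g₃ with hhfin
  have hfinq : hfin ∉ q' := fun hmem => (‹q'.IsPrime›.mem_or_mem hmem).elim hj₀q hg₃q
  have hfinJ : Ideal.Quotient.mk J hfin ∈ Jbad := by
    rw [hhfin, map_mul]
    exact Ideal.mul_mem_right _ _ hjb
  have hG := isRelGCI_away_of_mem R f hcn Jbad hJbad hfin hfinJ
  refine ⟨c, f, hfin, hcn, hfI, fun hmem => hfinq hmem, fun y hy => ?_, hG⟩
  rw [hhfin, mul_assoc]
  exact Ideal.mul_mem_left _ _ (hg₃ y hy)

end core'


section finiteCase

open AlgebraicGeometry CategoryTheory Groth.Agent.Lib.Helper23.SyntF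

variable {A B : Type u} [CommRing A] [CommRing B] [Algebra A B]

/-- the fibre rings of a quasi-finite algebra have dimension `≤ 0` -/
theorem ringKrullDim_fiber_le_zero_of_quasiFinite (S : Type u) [CommRing S] [Algebra A S]
    [Algebra.QuasiFinite A S] (p : Ideal A) [p.IsPrime] :
    ringKrullDim (p.Fiber S) ≤ 0 := by
  haveI : IsArtinianRing (p.Fiber S) := inferInstance
  exact Ring.krullDimLE_iff.mp inferInstance


/-- a prime `q ∌ g` gives a point of the fibre of `B_g` over `q ∩ A` -/
theorem nontrivial_fiber_away_of_notMem' (g : B) (q : Ideal B) [q.IsPrime] (hg : g ∉ q) :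
    Nontrivial ((q.under A).Fiber (Localization.Away g)) := by
  have hdisj : Disjoint (Submonoid.powers g : Set B) (q : Set B) := by
    rw [Set.disjoint_left]
    rintro _ ⟨k, rfl⟩ hk
    exact hg (‹q.IsPrime›.mem_of_pow_mem k hk)
  have hprime := IsLocalization.isPrime_of_isPrime_disjoint (Submonoid.powers g)
    (Localization.Away g) q inferInstance hdisj
  have hcomap := IsLocalization.comap_map_of_isPrime_disjoint (Submonoid.powers g)
    (Localization.Away g) inferInstance hdisj
  haveI : (q.map (algebraMap B (Localization.Away g))).LiesOver (q.under A) := by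
    refine ⟨?_⟩
    ext a
    rw [Ideal.under_def, Ideal.under_def, Ideal.mem_comap, Ideal.mem_comap,
      IsScalarTower.algebraMap_apply A B (Localization.Away g), ← Ideal.mem_comap (f := algebraMap B _)]
    rw [Ideal.under_def] at hcomap
    rw [hcomap]
  exact (PrimeSpectrum.primesOverOrderIsoFiber A (Localization.Away g) (q.under A)
    ⟨_, hprime, inferInstance⟩).nontrivial

/-- **Local square presentation data**: for a quasi-finite syntomic algebra `B = A[x_1..x_n]/I` and a
prime `q` of `B` there are exactly `n` elements `f_i ∈ I` and an `h` with `π h ∉ q`, `h I ⊆ (f)`. -/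
theorem exists_local_square_data [Algebra.QuasiFinite A B] (hS : Synt.IsSyntomic A B) {n : ℕ}
    (π : MvPolynomial (Fin n) A →ₐ[A] B) (hπ : Function.Surjective π)
    (hI : (RingHom.ker π).FG) (q : Ideal B) [q.IsPrime] :
    ∃ (f : Fin n → MvPolynomial (Fin n) A) (h : MvPolynomial (Fin n) A),
      (∀ i, f i ∈ RingHom.ker π) ∧ π h ∉ q ∧
      ∀ y ∈ RingHom.ker π, h * y ∈ Ideal.span (Set.range f) := by
  obtain ⟨hfl, hfp, hlci⟩ := hS
  set p : Ideal A := q.under A with hp
  haveI : q.LiesOver p := ⟨rfl⟩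
  let Q' := PrimeSpectrum.primesOverOrderIsoFiber A B p ⟨q, inferInstance, inferInstance⟩
  have hQq : Q'.asIdeal.comap (Algebra.TensorProduct.includeRight : B →ₐ[A] p.Fiber B) = q := by
    have := (PrimeSpectrum.primesOverOrderIsoFiber A B p).symm_apply_apply ⟨q, inferInstance, inferInstance⟩
    have h2 := congrArg Subtype.val this
    rw [PrimeSpectrum.coe_primesOverOrderIsoFiber_symm_apply] at h2
    exact h2
  haveI : Q'.asIdeal.IsPrime := Q'.2
  have hflat : Module.Flat A (Localization.AtPrime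
      (Q'.asIdeal.comap (Algebra.TensorProduct.includeRight : B →ₐ[A] p.Fiber B))) :=
    Module.Flat.trans A B _
  have hCI := isCIOver_atPrime_of_isLCIOver (hlci ⟨p, inferInstance⟩) Q'.asIdeal
  obtain ⟨c, f, h, hcn, hfI, hhq, hhI, hG⟩ :=
    exists_relGCI_data_of_presentation p π Q'.asIdeal hπ hI hflat hCI
  rw [hQq] at hhq
  -- the presentation `A[x]/(f) → B`
  have hJI : ∀ a ∈ Ideal.span (Set.range f), π a = 0 := by
    intro a ha
    have : Ideal.span (Set.range f) ≤ RingHom.ker π :=
      Ideal.span_le.mpr (by rintro _ ⟨i, rfl⟩; exact hfI i)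
    exact (RingHom.mem_ker).mp (this ha)
  let π' : Synt.RelGCIRing A n c f →ₐ[A] B := Ideal.Quotient.liftₐ _ π hJI
  have hπ' : Function.Surjective π' := by
    intro b
    obtain ⟨a, rfl⟩ := hπ b
    exact ⟨Ideal.Quotient.mk _ a, rfl⟩
  have hkill : ∀ x, π' x = 0 → Ideal.Quotient.mk (Ideal.span (Set.range f)) h * x = 0 := by
    intro x hx
    obtain ⟨y, rfl⟩ := Ideal.Quotient.mk_surjective x
    have hy : y ∈ RingHom.ker π := (RingHom.mem_ker).mpr hx
    rw [← map_mul, Ideal.Quotient.eq_zero_iff_mem]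
    exact hhI y hy
  obtain ⟨e₁⟩ := nonempty_away_algEquiv_of_surjective' π' hπ' (Ideal.Quotient.mk _ h) hkill
  have hπh : π' (Ideal.Quotient.mk _ h) = π h := rfl
  rw [hπh] at e₁
  let e : Synt.RelGCIRing A (n + 1) (c + 1) (awayRel A f h) ≃ₐ[A] Localization.Away (π h) :=
    (awayPresEquiv A f h).symm.trans e₁
  -- the fibre of `B_{π h}` over `p` is nontrivial of dimension `0`
  have hnt : Nontrivial (p.Fiber (Localization.Away (π h))) :=
    nontrivial_fiber_away_of_notMem' (π h) q hhq
  have hnt' : Nontrivial (p.Fiber (Synt.RelGCIRing A (n + 1) (c + 1) (awayRel A f h))) :=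
    nontrivial_fiber_congr A e p hnt
  obtain ⟨-, hdim⟩ := hG ⟨p, inferInstance⟩ hnt'
  have hdim0 : ringKrullDim (p.Fiber (Synt.RelGCIRing A (n + 1) (c + 1) (awayRel A f h))) ≤ 0 := by
    rw [ringKrullDim_fiber_congr A e p]
    exact ringKrullDim_fiber_le_zero_of_quasiFinite _ p
  have hcn' : c = n := by
    change ringKrullDim (p.Fiber (Synt.RelGCIRing A (n + 1) (c + 1) (awayRel A f h))) = _ at hdim
    rw [hdim] at hdim0
    have h0 : ((n + 1 - (c + 1) : ℕ) : WithBot ℕ∞) ≤ ((0 : ℕ) : WithBot ℕ∞) := hdim0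
    have h1 : (n + 1 - (c + 1) : ℕ) ≤ 0 := by exact_mod_cast h0
    omega
  subst hcn'
  exact ⟨f, h, hfI, hhq, hhI⟩


/-- **Nakayama, colon form**: if `I ≤ J ⊔ N I` with `I` finitely generated, then some `r ≡ 1 mod N`
has `r I ⊆ J`. -/
theorem exists_sub_one_mem_and_mul_mem {P : Type u} [CommRing P] (I J N : Ideal P) (hI : I.FG)
    (hle : I ≤ J ⊔ N * I) : ∃ r : P, r - 1 ∈ N ∧ ∀ y ∈ I, r * y ∈ J := by
  have hfg : (Submodule.map J.mkQ I).FG := Submodule.FG.map _ hI
  have hin : Submodule.map J.mkQ I ≤ N • Submodule.map J.mkQ I := by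
    rw [← Submodule.map_smul'']
    rintro _ ⟨y, hy, rfl⟩
    obtain ⟨j, hj, z, hz, rfl⟩ := Submodule.mem_sup.mp (hle hy)
    refine ⟨z, hz, ?_⟩
    have hj0 : J.mkQ j = 0 := by
      rw [Submodule.mkQ_apply, Submodule.Quotient.mk_eq_zero]
      exact hj
    rw [map_add, hj0, zero_add]
  obtain ⟨r, hr, hr0⟩ :=
    Submodule.exists_sub_one_mem_and_smul_eq_zero_of_fg_of_le_smul N _ hfg hin
  refine ⟨r, hr, fun y hy => ?_⟩
  have := hr0 (J.mkQ y) ⟨y, hy, rfl⟩
  rw [← map_smul, Submodule.mkQ_apply, Submodule.Quotient.mk_eq_zero] at this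
  exact this

/-- **Finite syntomic algebras over a local ring have square presentations**. -/
theorem exists_square_presentation_of_finite [IsLocalRing A] [Module.Finite A B]
    (hS : Synt.IsSyntomic A B) :
    ∃ (n : ℕ) (F : Fin n → MvPolynomial (Fin n) A), Nonempty (B ≃ₐ[A] Synt.RelGCIRing A n n F) := by
  classical
  obtain ⟨n, π, hπ, hI⟩ := hS.2.1.out
  set I := RingHom.ker π with hIdef
  -- index set: primes of `B` over the maximal ideal
  let ι := {q : Ideal B // q ∈ (IsLocalRing.maximalIdeal A).primesOver B}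
  haveI : Finite ι := (Algebra.QuasiFinite.finite_primesOver (IsLocalRing.maximalIdeal A)).to_subtype
  haveI : Fintype ι := Fintype.ofFinite ι
  have hprime : ∀ i : ι, i.1.IsPrime := fun i => i.2.1
  have hmax : ∀ i : ι, i.1.IsMaximal := fun i => by
    haveI := i.2.1
    haveI := i.2.2
    refine Ideal.isMaximal_of_isIntegral_of_isMaximal_comap (R := A) i.1 ?_
    rw [← Ideal.under_def, ← i.2.2.over]
    exact IsLocalRing.maximalIdeal.isMaximal A
  let N : ι → Ideal (MvPolynomial (Fin n) A) := fun i => i.1.comap π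
  have hNmax : ∀ i, (N i).IsMaximal := fun i => by
    haveI := hmax i
    exact Ideal.comap_isMaximal_of_surjective π hπ
  have hIN : ∀ i, I ≤ N i := fun i x hx => by
    change π x ∈ i.1
    rw [(RingHom.mem_ker).mp hx]
    exact zero_mem _
  have hcop : Pairwise (Function.onFun IsCoprime N) := by
    intro i j hij
    change IsCoprime (N i) (N j)
    rw [Ideal.isCoprime_iff_sup_eq]
    refine (hNmax i).coprime_of_ne (hNmax j) fun heq => hij ?_
    exact Subtype.ext (Ideal.comap_injective_of_surjective π hπ heq)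
  -- local data
  have hloc : ∀ i : ι, ∃ (f : Fin n → MvPolynomial (Fin n) A) (h : MvPolynomial (Fin n) A),
      (∀ k, f k ∈ I) ∧ π h ∉ i.1 ∧ ∀ y ∈ I, h * y ∈ Ideal.span (Set.range f) := fun i => by
    haveI := hprime i
    exact exists_local_square_data hS π hπ hI i.1
  choose f h hfI hhq hhI using hloc
  -- CRT
  have hcrt : ∀ i : ι, ∃ a : MvPolynomial (Fin n) A, ∀ j, a - (if j = i then 1 else 0) ∈ N j :=
    fun i => Ideal.exists_forall_sub_mem_ideal hcop _
  choose a ha using hcrt
  let F : Fin n → MvPolynomial (Fin n) A := fun k => ∑ i, a i * f i k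
  set J := Ideal.span (Set.range F) with hJ
  have hFI : ∀ k, F k ∈ I := fun k =>
    Ideal.sum_mem _ fun i _ => Ideal.mul_mem_left _ _ (hfI i k)
  have hJI : J ≤ I := Ideal.span_le.mpr (by rintro _ ⟨k, rfl⟩; exact hFI k)
  -- Nakayama at each maximal ideal
  have hnak : ∀ i : ι, I ≤ J ⊔ N i * I := by
    intro i
    have hfi : ∀ k, f i k ∈ J ⊔ N i * I := by
      intro k
      have : f i k = F k - ∑ j, (a j - (if i = j then 1 else 0)) * f j k := by
        simp only [sub_mul, Finset.sum_sub_distrib, ite_mul, one_mul, zero_mul]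
        rw [Finset.sum_ite_eq Finset.univ i (fun x => f x k)]
        simp only [Finset.mem_univ, if_true]
        change f i k = (∑ j, a j * f j k) - _
        ring
      rw [this]
      refine Ideal.sub_mem _ (Ideal.mem_sup_left (Ideal.subset_span ⟨k, rfl⟩))
        (Ideal.mem_sup_right (Ideal.sum_mem _ fun j _ => Ideal.mul_mem_mul (ha j i) (hfI j k)))
    have hspan : Ideal.span (Set.range (f i)) ≤ J ⊔ N i * I :=
      Ideal.span_le.mpr (by rintro _ ⟨k, rfl⟩; exact hfi k)
    intro y hy
    have hhN : h i ∉ N i := hhq i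
    obtain ⟨u, z, hz, huz⟩ := (hNmax i).exists_inv hhN
    have : y = u * (h i * y) + z * y := by
      rw [← mul_assoc, ← add_mul, huz, one_mul]
    rw [this]
    exact Ideal.add_mem _ (Ideal.mul_mem_left _ _ (hspan (hhI i y hy)))
      (Ideal.mem_sup_right (Ideal.mul_mem_mul hz hy))
  have hr : ∀ i : ι, ∃ r : MvPolynomial (Fin n) A, r - 1 ∈ N i ∧ ∀ y ∈ I, r * y ∈ J :=
    fun i => exists_sub_one_mem_and_mul_mem I J (N i) hI (hnak i)
  -- the colon ideal is comaximal with `I`
  let 𝔞 : Ideal (MvPolynomial (Fin n) A) := J.colon (I : Set (MvPolynomial (Fin n) A))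
  have hsup : 𝔞 ⊔ I = ⊤ := by
    by_contra hne
    obtain ⟨M, hM, hle⟩ := Ideal.exists_le_maximal _ hne
    have hIM : I ≤ M := le_sup_right.trans hle
    have hcm : (M.map π).comap π = M := by
      rw [Ideal.comap_map_of_surjective' π hπ M, sup_eq_left]
      exact hIM
    have hM' : (M.map π).IsMaximal := by
      rcases Ideal.map_eq_top_or_isMaximal_of_surjective π hπ hM with htop | hmax'
      · exfalso
        rw [htop, Ideal.comap_top] at hcm
        exact hM.ne_top hcm.symm
      · exact hmax'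
    have hover : (M.map π).LiesOver (IsLocalRing.maximalIdeal A) := by
      refine ⟨?_⟩
      have := Ideal.isMaximal_comap_of_isIntegral_of_isMaximal (R := A) (M.map π)
      exact (IsLocalRing.eq_maximalIdeal this).symm
    let i : ι := ⟨M.map π, hM'.isPrime, hover⟩
    have hNi : N i = M := hcm
    obtain ⟨r, hr1, hr2⟩ := hr i
    have hra : r ∈ 𝔞 := Submodule.mem_colon.mpr fun y hy => hr2 y hy
    have hrM : r ∈ M := hle (Ideal.mem_sup_left hra)
    rw [hNi] at hr1
    have : (1 : MvPolynomial (Fin n) A) ∈ M := by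
      have := M.sub_mem hrM hr1
      rwa [sub_sub_cancel] at this
    exact hM.ne_top ((Ideal.eq_top_iff_one _).mpr this)
  obtain ⟨g, hg, y₀, hy₀, hgy⟩ := Submodule.mem_sup.mp (hsup ▸ Submodule.mem_top : (1 : MvPolynomial (Fin n) A) ∈ 𝔞 ⊔ I)
  have hπg : π g = 1 := by
    have := congrArg π hgy
    rw [map_add, (RingHom.mem_ker).mp hy₀, add_zero, map_one] at this
    exact this
  have hgI : ∀ y ∈ I, g * y ∈ J := fun y hy => Submodule.mem_colon.mp hg y hy
  -- the isomorphism
  have hJ0 : ∀ a ∈ Ideal.span (Set.range F), π a = 0 := fun a ha => (RingHom.mem_ker).mp (hJI ha)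
  let π' : Synt.RelGCIRing A n n F →ₐ[A] B := Ideal.Quotient.liftₐ _ π hJ0
  have hπ' : Function.Surjective π' := by
    intro b
    obtain ⟨a, rfl⟩ := hπ b
    exact ⟨Ideal.Quotient.mk _ a, rfl⟩
  have hkill : ∀ x, π' x = 0 → Ideal.Quotient.mk (Ideal.span (Set.range F)) g * x = 0 := by
    intro x hx
    obtain ⟨y, rfl⟩ := Ideal.Quotient.mk_surjective x
    have hy : y ∈ RingHom.ker π := (RingHom.mem_ker).mpr hx
    rw [← map_mul, Ideal.Quotient.eq_zero_iff_mem]
    exact hgI y hy
  obtain ⟨e₁⟩ := nonempty_away_algEquiv_of_surjective' π' hπ' (Ideal.Quotient.mk _ g) hkill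
  have hπh : π' (Ideal.Quotient.mk _ g) = 1 := hπg
  rw [hπh] at e₁
  let e₀ : B ≃ₐ[A] Localization.Away (1 : B) :=
    (IsLocalization.atUnits B (Submonoid.powers (1 : B)) (S := Localization.Away (1 : B)) (by
      rintro _ ⟨k, rfl⟩
      simp)).restrictScalars A
  exact ⟨n + 1, awayRel A F g, ⟨e₀.trans (e₁.symm.trans (awayPresEquiv A F g))⟩⟩

end finiteCase

end Groth.Agent.Helper19.RelGCI
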