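import Mathlib
import Groth.Prelude.Def_Fitting
set_option autoImplicit false
set_option linter.style.haveILetI false
set_option linter.unusedSectionVars false
universe u v

namespace Groth.Agent.Helper19.FittLib

variable {R : Type u} [CommRing R] {M : Type v} [AddCommGroup M] [Module R M]

/-- `z` is a relation vector among the `x i`. -/
def IsRel {ι : Type*} [Fintype ι] (x : ι → M) (z : ι → R) : Prop := ∑ i, z i • x i = 0

lemma isRel_add {ι : Type*} [Fintype ι] {x : ι → M} {z z' : ι → R} (h : IsRel x z)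
    (h' : IsRel x z') : IsRel x (z + z') := by
  simp only [IsRel, Pi.add_apply, add_smul, Finset.sum_add_distrib] at *
  rw [h, h', add_zero]

lemma isRel_smul {ι : Type*} [Fintype ι] {x : ι → M} {z : ι → R} (c : R) (h : IsRel x z) :
    IsRel x (c • z) := by
  simp only [IsRel, Pi.smul_apply, smul_eq_mul, mul_smul] at *
  rw [← Finset.smul_sum, h, smul_zero]

lemma isRel_zero {ι : Type*} [Fintype ι] (x : ι → M) : IsRel x (0 : ι → R) := by
  simp [IsRel]

/-- The ideal generated by the `s × s` minors of relation matrices. -/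
def Mn (R : Type u) [CommRing R] {M : Type v} [AddCommGroup M] [Module R M]
    {ι : Type*} [Fintype ι] (x : ι → M) (s : ℕ) : Ideal R :=
  Ideal.span {d | ∃ (z : Fin s → ι → R) (e : Fin s → ι),
    (∀ j, ∑ i, z j i • x i = 0) ∧ d = (Matrix.of fun a b => z b (e a)).det}

lemma minor_mem_Mn {ι : Type*} [Fintype ι] (x : ι → M) (s : ℕ) (z : Fin s → ι → R)
    (e : Fin s → ι) (hz : ∀ j, IsRel x (z j)) :
    (Matrix.of fun a b => z b (e a)).det ∈ Mn R x s :=
  Ideal.subset_span ⟨z, e, hz, rfl⟩

lemma minor_mem_Mn' {ι : Type*} [Fintype ι] (x : ι → M) (s : ℕ) (z : Fin s → ι → R)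
    (e : Fin s → ι) (hz : ∀ j, IsRel x (z j)) :
    (Matrix.of fun a b => z a (e b)).det ∈ Mn R x s := by
  rw [← Matrix.det_transpose]
  exact minor_mem_Mn x s z e hz

lemma Mn_succ_le {ι : Type*} [Fintype ι] (x : ι → M) (s : ℕ) : Mn R x (s + 1) ≤ Mn R x s := by
  rw [Mn, Ideal.span_le]
  rintro _ ⟨z, e, hz, rfl⟩
  rw [Matrix.det_succ_row_zero]
  refine Ideal.sum_mem _ fun j _ => ?_
  refine Ideal.mul_mem_left _ _ ?_
  exact minor_mem_Mn x s (fun b => z (j.succAbove b)) (fun a => e a.succ) (fun b => hz _)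

lemma Mn_antitone {ι : Type*} [Fintype ι] (x : ι → M) {s t : ℕ} (h : s ≤ t) :
    Mn R x t ≤ Mn R x s := by
  induction t, h using Nat.le_induction with
  | base => exact le_rfl
  | succ t _ ih => exact (Mn_succ_le x t).trans ih

/-- The ideal generated by determinants of square matrices with at most `r` free rows,
the other rows being relations. -/
def Dg (R : Type u) [CommRing R] {M : Type v} [AddCommGroup M] [Module R M]
    {ι : Type*} [Fintype ι] [DecidableEq ι] (x : ι → M) (r : ℕ) : Ideal R :=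
  Ideal.span {d | ∃ (a : Matrix ι ι R) (S : Finset ι), S.card ≤ r ∧
    (∀ i, i ∉ S → IsRel x (a i)) ∧ d = a.det}

lemma det_mem_Dg {ι : Type*} [Fintype ι] [DecidableEq ι] (x : ι → M) (r : ℕ)
    (a : Matrix ι ι R) (S : Finset ι) (hS : S.card ≤ r) (ha : ∀ i, i ∉ S → IsRel x (a i)) :
    a.det ∈ Dg R x r :=
  Ideal.subset_span ⟨a, S, hS, ha, rfl⟩

lemma Dg_reindex_le {ι κ : Type*} [Fintype ι] [DecidableEq ι] [Fintype κ] [DecidableEq κ]
    (e : ι ≃ κ) (x : κ → M) (r : ℕ) : Dg R (x ∘ e) r ≤ Dg R x r := by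
  rw [Dg, Ideal.span_le]
  rintro _ ⟨a, S, hS, ha, rfl⟩
  have h1 : a.det = (a.submatrix e.symm e.symm).det := (Matrix.det_submatrix_equiv_self e.symm a).symm
  rw [h1]
  refine det_mem_Dg x r _ (S.map e.toEmbedding) (by simpa using hS) ?_
  intro i hi
  have hi' : e.symm i ∉ S := by
    intro h
    apply hi
    rw [Finset.mem_map]
    exact ⟨e.symm i, h, by simp⟩
  have := ha _ hi'
  simp only [IsRel, Function.comp_apply] at this ⊢
  rw [← this]
  change ∑ j, a (e.symm i) (e.symm j) • x j = _
  rw [← Equiv.sum_comp e (fun j => a (e.symm i) (e.symm j) • x j)]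
  simp

lemma Dg_reindex {ι κ : Type*} [Fintype ι] [DecidableEq ι] [Fintype κ] [DecidableEq κ]
    (e : ι ≃ κ) (x : κ → M) (r : ℕ) : Dg R (x ∘ e) r = Dg R x r := by
  refine le_antisymm (Dg_reindex_le e x r) ?_
  have := Dg_reindex_le (R := R) e.symm (x ∘ e) r
  have h2 : (x ∘ e) ∘ e.symm = x := by
    funext i
    simp
  rwa [h2] at this


section cons

variable {n : ℕ} (x : Fin n → M) (w : M) (c : Fin n → R)

lemma isRel_cons_iff (t : R) (v : Fin n → R) :
    IsRel (Fin.cons w x : Fin (n + 1) → M) (Fin.cons t v : Fin (n + 1) → R) ↔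
      t • w + ∑ j, v j • x j = 0 := by
  simp [IsRel, Fin.sum_univ_succ]

lemma isRel_cons_iff' (z : Fin (n + 1) → R) :
    IsRel (Fin.cons w x : Fin (n + 1) → M) z ↔
      z 0 • w + ∑ j : Fin n, z j.succ • x j = 0 := by
  simp [IsRel, Fin.sum_univ_succ]

/-- the unimodular column operation -/
def Umat : Matrix (Fin (n + 1)) (Fin (n + 1)) R :=
  Matrix.of (Fin.cons (Fin.cons 1 c) (fun i => Fin.cons 0 (Pi.single i 1)))

lemma det_Umat : (Umat c).det = 1 := by
  rw [Matrix.det_succ_column_zero, Fin.sum_univ_succ]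
  have h1 : (Umat c).submatrix (Fin.succAbove 0) Fin.succ = 1 := by
    ext i j
    simp [Umat, Matrix.one_apply, Pi.single_apply, eq_comm]
  have h2 : ∀ i : Fin n, Umat c i.succ 0 = 0 := by
    intro i
    simp [Umat]
  have h3 : Umat c 0 0 = 1 := by simp [Umat]
  simp only [h2, mul_zero, zero_mul, Finset.sum_const_zero, add_zero, h3, h1, Matrix.det_one,
    Fin.val_zero, pow_zero, mul_one]

lemma mul_Umat_zero (a : Matrix (Fin (n + 1)) (Fin (n + 1)) R) (i : Fin (n + 1)) :
    (a * Umat c) i 0 = a i 0 := by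
  rw [Matrix.mul_apply, Fin.sum_univ_succ]
  simp [Umat]

lemma mul_Umat_succ (a : Matrix (Fin (n + 1)) (Fin (n + 1)) R) (i : Fin (n + 1)) (j : Fin n) :
    (a * Umat c) i j.succ = a i 0 * c j + a i j.succ := by
  rw [Matrix.mul_apply, Fin.sum_univ_succ]
  simp [Umat, Pi.single_apply, eq_comm]

variable (hw : ∑ i, c i • x i = w)
include hw

lemma isRel_mul_Umat (a : Matrix (Fin (n + 1)) (Fin (n + 1)) R) (i : Fin (n + 1))
    (h : IsRel (Fin.cons w x : Fin (n + 1) → M) (a i)) :
    IsRel x (fun j => (a * Umat c) i j.succ) := by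
  rw [isRel_cons_iff'] at h
  simp only [IsRel, mul_Umat_succ, add_smul, Finset.sum_add_distrib, mul_smul]
  rw [← Finset.smul_sum, hw]
  exact h

lemma Dg_cons_le (r : ℕ) : Dg R (Fin.cons w x : Fin (n + 1) → M) r ≤ Dg R x r := by
  rw [Dg, Ideal.span_le]
  rintro _ ⟨a, S, hS, ha, rfl⟩
  have hdet : a.det = (a * Umat c).det := by
    rw [Matrix.det_mul, det_Umat, mul_one]
  rw [hdet, Matrix.det_succ_column_zero]
  refine Ideal.sum_mem _ fun i _ => ?_
  refine Ideal.mul_mem_left _ _ ?_
  classical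
  refine det_mem_Dg x r _ (Finset.univ.filter fun j => i.succAbove j ∈ S) ?_ ?_
  · refine le_trans ?_ hS
    apply Finset.card_le_card_of_injOn i.succAbove
    · intro j hj
      simpa using hj
    · exact fun _ _ _ _ h => Fin.succAbove_right_injective h
  · intro j hj
    have hj' : i.succAbove j ∉ S := by simpa using hj
    exact isRel_mul_Umat x w c hw a _ (ha _ hj')

lemma Dg_le_cons (r : ℕ) : Dg R x r ≤ Dg R (Fin.cons w x : Fin (n + 1) → M) r := by
  rw [Dg, Ideal.span_le]
  rintro _ ⟨a, S, hS, ha, rfl⟩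
  obtain ⟨a', ha'⟩ : ∃ a' : Matrix (Fin (n + 1)) (Fin (n + 1)) R,
      a' = Matrix.of (Fin.cons (Fin.cons (-1) c) (fun i => Fin.cons 0 (a i))) := ⟨_, rfl⟩
  have hdet : a'.det = - a.det := by
    rw [Matrix.det_succ_column_zero, Fin.sum_univ_succ]
    have h1 : a'.submatrix (Fin.succAbove 0) Fin.succ = a := by
      ext i j
      simp [ha']
    have h2 : ∀ i : Fin n, a' i.succ 0 = 0 := by
      intro i
      simp [ha']
    have h3 : a' 0 0 = -1 := by simp [ha']
    simp only [h2, mul_zero, zero_mul, Finset.sum_const_zero, add_zero, h3, h1,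
      Fin.val_zero, pow_zero, one_mul, neg_mul]
  have : a.det = - a'.det := by rw [hdet, neg_neg]
  rw [this]
  refine (Dg R (Fin.cons w x : Fin (n + 1) → M) r).neg_mem ?_
  refine det_mem_Dg _ r a' (S.map (Fin.succEmb n)) (by simpa using hS) ?_
  intro i hi
  rcases Fin.eq_zero_or_eq_succ i with rfl | ⟨j, rfl⟩
  · have : a' 0 = Fin.cons (-1) c := by
      rw [ha']; rfl
    rw [this, isRel_cons_iff, hw]
    simp
  · have hj : j ∉ S := by
      intro h
      apply hi
      rw [Finset.mem_map]
      exact ⟨j, h, rfl⟩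
    have : a' j.succ = Fin.cons 0 (a j) := by
      rw [ha']; rfl
    rw [this, isRel_cons_iff, zero_smul, zero_add]
    exact ha j hj

end cons


section indep

lemma Dg_cons_eq {n : ℕ} (x : Fin n → M) (hx : Submodule.span R (Set.range x) = ⊤) (w : M)
    (r : ℕ) : Dg R (Fin.cons w x : Fin (n + 1) → M) r = Dg R x r := by
  have hw : w ∈ Submodule.span R (Set.range x) := by rw [hx]; trivial
  obtain ⟨c, hc⟩ := (Submodule.mem_span_range_iff_exists_fun R).mp hw
  exact le_antisymm (Dg_cons_le x w c hc r) (Dg_le_cons x w c hc r)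

lemma span_comp_equiv {ι κ : Type*} (e : ι ≃ κ) (x : κ → M)
    (hx : Submodule.span R (Set.range x) = ⊤) : Submodule.span R (Set.range (x ∘ e)) = ⊤ := by
  rw [Set.range_comp, e.range_eq_univ, Set.image_univ, hx]

lemma Dg_option {ι : Type} [Fintype ι] [DecidableEq ι] (x : ι → M)
    (hx : Submodule.span R (Set.range x) = ⊤) (w : M) (r : ℕ) :
    Dg R (fun o : Option ι => o.elim w x) r = Dg R x r := by
  let e : ι ≃ Fin (Fintype.card ι) := Fintype.equivFin ι
  let x' : Fin (Fintype.card ι) → M := x ∘ e.symm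
  have hx' : Submodule.span R (Set.range x') = ⊤ := span_comp_equiv e.symm x hx
  have h1 : x = x' ∘ e := by
    funext i
    simp [x']
  let eo : Option ι ≃ Fin (Fintype.card ι + 1) :=
    (Equiv.optionCongr e).trans (finSuccEquiv (Fintype.card ι)).symm
  have h2 : (fun o : Option ι => o.elim w x) =
      (Fin.cons w x' : Fin (Fintype.card ι + 1) → M) ∘ eo := by
    funext o
    cases o with
    | none => simp [eo]
    | some i => simp [eo, x']
  calc Dg R (fun o : Option ι => o.elim w x) r
      = Dg R ((Fin.cons w x' : Fin (Fintype.card ι + 1) → M) ∘ eo) r := by rw [h2]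
    _ = Dg R (Fin.cons w x' : Fin (Fintype.card ι + 1) → M) r := Dg_reindex eo _ r
    _ = Dg R x' r := Dg_cons_eq x' hx' w r
    _ = Dg R (x' ∘ e) r := (Dg_reindex e x' r).symm
    _ = Dg R x r := by rw [← h1]

lemma span_sumElim {ι κ : Type*} (x : ι → M) (y : κ → M)
    (hx : Submodule.span R (Set.range x) = ⊤) :
    Submodule.span R (Set.range (Sum.elim x y)) = ⊤ := by
  rw [eq_top_iff, ← hx]
  apply Submodule.span_mono
  rintro _ ⟨i, rfl⟩
  exact ⟨Sum.inl i, rfl⟩

lemma Dg_sumElim (r : ℕ) : ∀ (m : ℕ) {ι : Type} [Fintype ι] [DecidableEq ι] (x : ι → M)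
    (_ : Submodule.span R (Set.range x) = ⊤) (y : Fin m → M),
    Dg R (Sum.elim x y) r = Dg R x r := by
  intro m
  induction m with
  | zero =>
    intro ι _ _ x hx y
    have h : Sum.elim x y = x ∘ (Equiv.sumEmpty ι (Fin 0)) := by
      funext o
      cases o with
      | inl i => simp
      | inr j => exact j.elim0
    rw [h, Dg_reindex]
  | succ m ih =>
    intro ι _ _ x hx y
    let e : ι ⊕ Fin (m + 1) ≃ Option (ι ⊕ Fin m) :=
      (Equiv.sumCongr (Equiv.refl ι) (finSuccEquiv m)).trans
        ((Equiv.sumCongr (Equiv.refl ι) (Equiv.optionEquivSumPUnit.{0, 0} (Fin m))).trans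
          ((Equiv.sumAssoc ι (Fin m) PUnit.{1}).symm.trans
            (Equiv.optionEquivSumPUnit.{0, 0} (ι ⊕ Fin m)).symm))
    have h : Sum.elim x y =
        (fun o : Option (ι ⊕ Fin m) => o.elim (y 0) (Sum.elim x (Fin.tail y))) ∘ e := by
      funext o
      cases o with
      | inl i => simp [e]
      | inr j =>
        refine Fin.cases ?_ (fun j' => ?_) j
        · simp [e]
        · simp [e, Fin.tail]
    rw [h, Dg_reindex, Dg_option _ (span_sumElim x (Fin.tail y) hx), ih x hx]

theorem Dg_indep {n m : ℕ} (x : Fin n → M) (y : Fin m → M)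
    (hx : Submodule.span R (Set.range x) = ⊤) (hy : Submodule.span R (Set.range y) = ⊤)
    (r : ℕ) : Dg R x r = Dg R y r := by
  rw [← Dg_sumElim r m x hx y, ← Dg_sumElim r n y hy x]
  have h : Sum.elim x y = Sum.elim y x ∘ (Equiv.sumComm (Fin n) (Fin m)) := by
    funext o
    cases o <;> simp
  rw [h, Dg_reindex]

end indep


section laplace

lemma one_mem_Mn_zero {ι : Type*} [Fintype ι] (x : ι → M) : (1 : R) ∈ Mn R x 0 := by
  have := minor_mem_Mn (R := R) x 0 (fun j => j.elim0) (fun j => j.elim0) (fun j => j.elim0)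
  simpa using this

lemma Mn_zero {ι : Type*} [Fintype ι] (x : ι → M) : Mn R x 0 = ⊤ :=
  (Ideal.eq_top_iff_one _).mpr (one_mem_Mn_zero x)

lemma det_mem_Mn_of_rows {n : ℕ} (x : Fin n → M) : ∀ (N : ℕ) (b : Matrix (Fin N) (Fin N) R)
    (col : Fin N → Fin n) (S : Finset (Fin N)) (z : Fin N → Fin n → R),
    (∀ i, i ∉ S → IsRel x (z i) ∧ ∀ j, b i j = z i (col j)) → b.det ∈ Mn R x (N - S.card) := by
  intro N
  induction N with
  | zero =>
    intro b col S z _
    rw [Nat.zero_sub, Mn_zero]
    trivial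
  | succ N ih =>
    intro b col S z h
    classical
    by_cases hS : S = ∅
    · subst hS
      have hb : b = Matrix.of fun a b' => z a (col b') := by
        ext i j
        exact (h i (by simp)).2 j
      rw [hb, Finset.card_empty, Nat.sub_zero]
      exact minor_mem_Mn' x (N + 1) z col (fun i => (h i (by simp)).1)
    · obtain ⟨i₀, hi₀⟩ := Finset.nonempty_iff_ne_empty.mpr hS
      rw [Matrix.det_succ_row b i₀]
      refine Ideal.sum_mem _ fun j _ => ?_
      refine Ideal.mul_mem_left _ _ ?_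
      obtain ⟨S', hS'⟩ : ∃ S' : Finset (Fin N), S' = Finset.univ.filter
          (fun i => i₀.succAbove i ∈ S) := ⟨_, rfl⟩
      have hcard : S'.card + 1 ≤ S.card := by
        have h1 : S'.card ≤ (S.erase i₀).card := by
          apply Finset.card_le_card_of_injOn i₀.succAbove
          · intro i hi
            rw [hS'] at hi
            simp only [Finset.coe_filter, Finset.mem_univ, true_and, Set.mem_ofPred_eq] at hi
            simp only [Finset.coe_erase, Set.mem_diff, Finset.mem_coe, Set.mem_singleton_iff]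
            exact ⟨hi, Fin.succAbove_ne i₀ i⟩
          · exact fun _ _ _ _ h => Fin.succAbove_right_injective h
        rw [Finset.card_erase_of_mem hi₀] at h1
        have : 0 < S.card := Finset.card_pos.mpr ⟨i₀, hi₀⟩
        omega
      have hmem := ih (b.submatrix i₀.succAbove j.succAbove) (col ∘ j.succAbove) S'
        (z ∘ i₀.succAbove) (by
          intro i hi
          have hi' : i₀.succAbove i ∉ S := by
            rw [hS'] at hi
            simpa using hi
          refine ⟨(h _ hi').1, fun j' => ?_⟩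
          simp only [Matrix.submatrix_apply, Function.comp_apply]
          exact (h _ hi').2 _)
      exact Mn_antitone x (by omega) hmem

lemma Dg_le_Mn {n : ℕ} (x : Fin n → M) (r : ℕ) : Dg R x r ≤ Mn R x (n - r) := by
  rw [Dg, Ideal.span_le]
  rintro _ ⟨a, S, hS, ha, rfl⟩
  have := det_mem_Mn_of_rows x n a id S a (fun i hi => ⟨ha i hi, fun j => rfl⟩)
  exact Mn_antitone x (by omega) this

end laplace


section first

/-- the "first rows" version, as in the definition of `Fitt.ideal` -/
def Dfirst (R : Type u) [CommRing R] {M : Type v} [AddCommGroup M] [Module R M] {n : ℕ}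
    (x : Fin n → M) (r : ℕ) : Ideal R :=
  Ideal.span {d | ∃ a : Matrix (Fin n) (Fin n) R,
    (∀ i : Fin n, (i : ℕ) < n - r → ∑ j, a i j • x j = 0) ∧ d = a.det}

lemma Dfirst_le_Dg {n : ℕ} (x : Fin n → M) (r : ℕ) : Dfirst R x r ≤ Dg R x r := by
  rw [Dfirst, Ideal.span_le]
  rintro _ ⟨a, ha, rfl⟩
  refine det_mem_Dg x r a (Finset.univ.filter fun i : Fin n => n - r ≤ (i : ℕ)) ?_ ?_
  · have : (Finset.univ.filter fun i : Fin n => n - r ≤ (i : ℕ)).card ≤ (Finset.range r).card := by
      apply Finset.card_le_card_of_injOn (fun i : Fin n => (i : ℕ) - (n - r))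
      · intro i hi
        simp only [Finset.coe_filter, Finset.mem_univ, true_and, Set.mem_ofPred_eq] at hi
        simp only [Finset.coe_range, Set.mem_Iio]
        have := i.2
        omega
      · intro i hi i' hi' h
        simp only [Finset.coe_filter, Finset.mem_univ, true_and, Set.mem_ofPred_eq] at hi hi'
        apply Fin.ext
        simp only at h
        omega
    simpa using this
  · intro i hi
    have : (i : ℕ) < n - r := by
      simp only [Finset.mem_filter, Finset.mem_univ, true_and, not_le] at hi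
      exact hi
    exact ha i this

lemma det_last_row {N : ℕ} (B : Matrix (Fin (N + 1)) (Fin (N + 1)) R)
    (hB : ∀ j, B (Fin.last N) j = if Fin.last N = j then 1 else 0) :
    B.det = (B.submatrix Fin.castSucc Fin.castSucc).det := by
  rw [Matrix.det_succ_row B (Fin.last N), Finset.sum_eq_single (Fin.last N)]
  · rw [hB, if_pos rfl, Fin.succAbove_last]
    have h1 : ((-1 : R) ^ ((Fin.last N : ℕ) + (Fin.last N : ℕ))) = 1 := by
      rw [← two_mul, pow_mul]
      simp
    rw [h1, one_mul, one_mul]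
  · intro j _ hj
    rw [hB, if_neg (Ne.symm hj)]
    simp
  · simp

lemma det_eq_det_topLeft (s : ℕ) : ∀ (k : ℕ) (B : Matrix (Fin (s + k)) (Fin (s + k)) R),
    (∀ i j : Fin (s + k), s ≤ (i : ℕ) → B i j = if i = j then 1 else 0) →
    B.det = (B.submatrix (Fin.castAdd k) (Fin.castAdd k)).det := by
  intro k
  induction k with
  | zero =>
    intro B _
    congr 1
  | succ k ih =>
    intro B hB
    rw [det_last_row (N := s + k) B (fun j => hB _ _ (by simp))]
    rw [ih (B.submatrix Fin.castSucc Fin.castSucc) (by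
      intro i j hi
      simp only [Matrix.submatrix_apply]
      rw [hB _ _ (by simpa using hi)]
      simp [Fin.ext_iff])]
    rfl

/-- version with explicit number of relation rows -/
def Dfirst' (R : Type u) [CommRing R] {M : Type v} [AddCommGroup M] [Module R M] {n : ℕ}
    (x : Fin n → M) (s : ℕ) : Ideal R :=
  Ideal.span {d | ∃ a : Matrix (Fin n) (Fin n) R,
    (∀ i : Fin n, (i : ℕ) < s → ∑ j, a i j • x j = 0) ∧ d = a.det}

lemma Dfirst_eq {n : ℕ} (x : Fin n → M) (r : ℕ) : Dfirst R x r = Dfirst' R x (n - r) := rfl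

lemma Mn_le_Dfirst'_aux (s k : ℕ) (x : Fin (s + k) → M) : Mn R x s ≤ Dfirst' R x s := by
  rw [Mn, Ideal.span_le]
  rintro _ ⟨z, e, hz, rfl⟩
  by_cases he : Function.Injective e
  · classical
    obtain ⟨σ, hσ⟩ := Equiv.Perm.exists_extending_pair (Fin.castAdd k) e
      (Fin.castAdd_injective s k) he
    obtain ⟨A, hA⟩ : ∃ A : Matrix (Fin (s + k)) (Fin (s + k)) R, A = Matrix.of fun i : Fin (s + k) =>
        if h : (i : ℕ) < s then z ⟨i, h⟩ else Pi.single (σ i) 1 := ⟨_, rfl⟩
    have hArow : ∀ i : Fin (s + k), A i =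
        if h : (i : ℕ) < s then z ⟨i, h⟩ else Pi.single (σ i) 1 := by
      intro i
      rw [hA]
      rfl
    have hArel : ∀ i : Fin (s + k), (i : ℕ) < s → ∑ j, A i j • x j = 0 := by
      intro i hi
      have : A i = z ⟨i, hi⟩ := by
        rw [hArow, dif_pos hi]
      rw [this]
      exact hz _
    have hdetA : A.det ∈ Dfirst' R x s := Ideal.subset_span ⟨A, hArel, rfl⟩
    have hB : ∀ i j : Fin (s + k), s ≤ (i : ℕ) →
        (A.submatrix id σ) i j = if i = j then 1 else 0 := by
      intro i j hi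
      have : A i = Pi.single (σ i) 1 := by
        rw [hArow, dif_neg (not_lt.mpr hi)]
      simp only [Matrix.submatrix_apply, id_eq, this, Pi.single_apply]
      by_cases hij : i = j
      · simp [hij]
      · rw [if_neg hij, if_neg]
        intro h
        exact hij (σ.injective h).symm
    have h1 := det_eq_det_topLeft s k (A.submatrix id σ) hB
    rw [Matrix.det_permute'] at h1
    have h2 : ((A.submatrix id σ).submatrix (Fin.castAdd k) (Fin.castAdd k)) =
        (Matrix.of fun a b => z b (e a)).transpose := by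
      ext b a
      simp only [Matrix.submatrix_apply, id_eq, Matrix.transpose_apply, Matrix.of_apply, hσ]
      have : A (Fin.castAdd k b) = z b := by
        rw [hArow, dif_pos (by simp)]
        rfl
      rw [this]
    rw [h2, Matrix.det_transpose] at h1
    rw [← h1]
    exact Ideal.mul_mem_left _ _ hdetA
  · rw [Function.Injective] at he
    push Not at he
    obtain ⟨a, a', h, hne⟩ := he
    have : (Matrix.of fun a b => z b (e a)).det = 0 :=
      Matrix.det_zero_of_row_eq hne (by funext b; simp [h])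
    rw [this]
    exact zero_mem _

lemma Mn_le_Dfirst' {n : ℕ} (x : Fin n → M) (s : ℕ) (hs : s ≤ n) :
    Mn R x s ≤ Dfirst' R x s := by
  obtain ⟨k, rfl⟩ : ∃ k, n = s + k := ⟨n - s, by omega⟩
  exact Mn_le_Dfirst'_aux s k x

lemma Mn_le_Dfirst {n : ℕ} (x : Fin n → M) (r : ℕ) : Mn R x (n - r) ≤ Dfirst R x r := by
  rw [Dfirst_eq]
  exact Mn_le_Dfirst' x (n - r) (Nat.sub_le n r)

end first

section main

theorem ideal_eq_Mn {n : ℕ} (x : Fin n → M) (hx : Submodule.span R (Set.range x) = ⊤) (r : ℕ) :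
    Fitt.ideal R M r = Mn R x (n - r) := by
  apply le_antisymm
  · rw [Fitt.ideal, Ideal.span_le]
    rintro _ ⟨m, y, a, hy, ha, rfl⟩
    have h1 : a.det ∈ Dfirst R y r := Ideal.subset_span ⟨a, ha, rfl⟩
    have h2 := Dfirst_le_Dg y r h1
    rw [Dg_indep y x hy hx r] at h2
    exact Dg_le_Mn x r h2
  · refine (Mn_le_Dfirst x r).trans ?_
    rw [Dfirst, Ideal.span_le]
    rintro _ ⟨a, ha, rfl⟩
    exact Ideal.subset_span ⟨n, x, a, hx, ha, rfl⟩

end main

end Groth.Agent.Helper19.FittLib
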