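import Mathlib
import Groth.Agent.Helper19.FittLib
set_option autoImplicit false
set_option linter.style.haveILetI false
set_option linter.unusedSectionVars false
universe u v w

namespace Groth.Agent.Helper19.FittLib

variable {R : Type u} [CommRing R] {M : Type v} [AddCommGroup M] [Module R M]

section gens

lemma multilinear_mem_span {s : ℕ} {N P : Type*} [AddCommMonoid N] [Module R N]
    [AddCommMonoid P] [Module R P]
    (f : MultilinearMap R (fun _ : Fin s => N) P) (W : Set N) (z : Fin s → N)
    (hz : ∀ b, z b ∈ Submodule.span R W) :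
    f z ∈ Submodule.span R {p | ∃ w : Fin s → N, (∀ b, w b ∈ W) ∧ p = f w} := by
  choose n c g hg using fun b => Submodule.mem_span_set'.mp (hz b)
  have : z = fun b => ∑ i, c b i • (g b i : N) := funext fun b => (hg b).symm
  rw [this, MultilinearMap.map_sum]
  refine Submodule.sum_mem _ fun r _ => ?_
  rw [MultilinearMap.map_smul_univ]
  exact Submodule.smul_mem _ _
    (Submodule.subset_span ⟨fun b => g b (r b), fun b => (g b (r b)).2, rfl⟩)

/-- the minor as a multilinear map of the relation vectors -/
noncomputable def minorMap {ι : Type*} [Fintype ι] (s : ℕ) (e : Fin s → ι) :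
    MultilinearMap R (fun _ : Fin s => (ι → R)) R :=
  (Matrix.detRowAlternating (n := Fin s) (R := R)).toMultilinearMap.compLinearMap
    (fun _ => LinearMap.funLeft R R e)

lemma minorMap_apply {ι : Type*} [Fintype ι] (s : ℕ) (e : Fin s → ι) (z : Fin s → ι → R) :
    minorMap s e z = (Matrix.of fun a b => z b (e a)).det := by
  rw [← Matrix.det_transpose]
  rfl

lemma isRel_iff_mem_ker {ι : Type*} [Fintype ι] (x : ι → M) (z : ι → R) :
    IsRel x z ↔ z ∈ LinearMap.ker (Fintype.linearCombination R x) := by
  rw [LinearMap.mem_ker, Fintype.linearCombination_apply]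
  rfl

lemma Mn_eq_span_gens {ι : Type*} [Fintype ι] (x : ι → M) (W : Set (ι → R))
    (hW : Submodule.span R W = LinearMap.ker (Fintype.linearCombination R x)) (s : ℕ) :
    Mn R x s = Ideal.span {d | ∃ (z : Fin s → ι → R) (e : Fin s → ι),
      (∀ j, z j ∈ W) ∧ d = (Matrix.of fun a b => z b (e a)).det} := by
  apply le_antisymm
  · rw [Mn, Ideal.span_le]
    rintro _ ⟨z, e, hz, rfl⟩
    have hz' : ∀ b, z b ∈ Submodule.span R W := by
      intro b
      rw [hW, ← isRel_iff_mem_ker]
      exact hz b
    have := multilinear_mem_span (minorMap s e) W z hz'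
    rw [minorMap_apply] at this
    refine Submodule.span_mono ?_ this
    rintro _ ⟨w, hw, rfl⟩
    exact ⟨w, e, hw, minorMap_apply s e w⟩
  · rw [Ideal.span_le]
    rintro _ ⟨z, e, hz, rfl⟩
    refine minor_mem_Mn x s z e fun j => ?_
    rw [isRel_iff_mem_ker, ← hW]
    exact Submodule.subset_span (hz j)

lemma Mn_fg {ι : Type*} [Fintype ι] (x : ι → M)
    (hK : (LinearMap.ker (Fintype.linearCombination R x)).FG) (s : ℕ) : (Mn R x s).FG := by
  classical
  obtain ⟨W, hW⟩ := hK
  rw [Mn_eq_span_gens x (W : Set (ι → R)) hW s]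
  apply Submodule.fg_span
  refine Set.Finite.subset (Set.finite_range
    (fun p : (Fin s → (W : Set (ι → R))) × (Fin s → ι) =>
      (Matrix.of fun a b => (p.1 b : ι → R) (p.2 a)).det)) ?_
  rintro _ ⟨z, e, hz, rfl⟩
  exact ⟨(fun b => ⟨z b, hz b⟩, e), rfl⟩

end gens

section basic

lemma ideal_eq_top_of_le {n : ℕ} (x : Fin n → M) (hx : Submodule.span R (Set.range x) = ⊤)
    {k : ℕ} (h : n ≤ k) : Fitt.ideal R M k = ⊤ := by
  rw [ideal_eq_Mn x hx k, Nat.sub_eq_zero_of_le h, Mn_zero]

lemma linearCombination_surjective {ι : Type*} [Fintype ι] (x : ι → M)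
    (hx : Submodule.span R (Set.range x) = ⊤) :
    Function.Surjective (Fintype.linearCombination R x) := by
  rw [← LinearMap.range_eq_top, Fintype.range_linearCombination, hx]

lemma ideal_fg [Module.FinitePresentation R M] (k : ℕ) : (Fitt.ideal R M k).FG := by
  obtain ⟨n, x, hx⟩ := Module.Finite.exists_fin (R := R) (M := M)
  rw [ideal_eq_Mn x hx k]
  exact Mn_fg x (Module.FinitePresentation.fg_ker _ (linearCombination_surjective x hx)) _

lemma Mn_le_Mn_comp {M' : Type w} [AddCommGroup M'] [Module R M'] {ι : Type*} [Fintype ι]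
    (x : ι → M) (f : M →ₗ[R] M') (s : ℕ) : Mn R x s ≤ Mn R (f ∘ x) s := by
  rw [Mn, Ideal.span_le]
  rintro _ ⟨z, e, hz, rfl⟩
  refine minor_mem_Mn _ s z e fun j => ?_
  have := congrArg f (hz j)
  simpa [IsRel, map_sum] using this

lemma ideal_mono_of_surjective {M' : Type w} [AddCommGroup M'] [Module R M'] [Module.Finite R M]
    (f : M →ₗ[R] M') (hf : Function.Surjective f) (k : ℕ) :
    Fitt.ideal R M k ≤ Fitt.ideal R M' k := by
  obtain ⟨n, x, hx⟩ := Module.Finite.exists_fin (R := R) (M := M)
  have hx' : Submodule.span R (Set.range (f ∘ x)) = ⊤ := by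
    rw [Set.range_comp, ← Submodule.map_span, hx, Submodule.map_top, LinearMap.range_eq_top]
    exact hf
  rw [ideal_eq_Mn x hx k, ideal_eq_Mn (f ∘ x) hx' k]
  exact Mn_le_Mn_comp x f _

lemma ideal_mono [Module.Finite R M] {k l : ℕ} (h : k ≤ l) :
    Fitt.ideal R M k ≤ Fitt.ideal R M l := by
  obtain ⟨n, x, hx⟩ := Module.Finite.exists_fin (R := R) (M := M)
  rw [ideal_eq_Mn x hx k, ideal_eq_Mn x hx l]
  exact Mn_antitone x (by omega)

end basic

section zero

/-- A square matrix whose rows are all relations has determinant killing every generator. -/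
lemma det_smul_eq_zero {ι : Type*} [Fintype ι] [DecidableEq ι] (x : ι → M) (a : Matrix ι ι R)
    (ha : ∀ i, ∑ j, a i j • x j = 0) (j : ι) : a.det • x j = 0 := by
  have h1 : ∀ i l : ι, (a.adjugate * a) i l = if i = l then a.det else 0 := by
    intro i l
    rw [Matrix.adjugate_mul, Matrix.smul_apply, Matrix.one_apply]
    simp
  calc a.det • x j = ∑ l, (a.adjugate * a) j l • x l := by
        simp only [h1, ite_smul, zero_smul, Finset.sum_ite_eq, Finset.mem_univ, if_true]
    _ = ∑ l, ∑ i, (a.adjugate j i * a i l) • x l := by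
        simp only [Matrix.mul_apply, Finset.sum_smul]
    _ = ∑ i, a.adjugate j i • ∑ l, a i l • x l := by
        rw [Finset.sum_comm]
        simp only [Finset.smul_sum, mul_smul]
    _ = 0 := by simp only [ha, smul_zero, Finset.sum_const_zero]

lemma ideal_zero_le_annihilator : Fitt.ideal R M 0 ≤ Module.annihilator R M := by
  rw [Fitt.ideal, Ideal.span_le]
  rintro _ ⟨n, x, a, hx, ha, rfl⟩
  rw [SetLike.mem_coe, Module.mem_annihilator]
  intro m
  have hm : m ∈ Submodule.span R (Set.range x) := by rw [hx]; trivial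
  induction hm using Submodule.span_induction with
  | mem y hy =>
    obtain ⟨j, rfl⟩ := hy
    exact det_smul_eq_zero x a (fun i => ha i (by simpa using i.2)) j
  | zero => simp
  | add y z _ _ hy hz => rw [smul_add, hy, hz, add_zero]
  | smul c y _ hy => rw [smul_comm, hy, smul_zero]

lemma pow_mem_ideal_zero {n : ℕ} (x : Fin n → M) (hx : Submodule.span R (Set.range x) = ⊤)
    (c : R) (hc : c ∈ Module.annihilator R M) : c ^ n ∈ Fitt.ideal R M 0 := by
  have : c ^ n = (Matrix.diagonal fun _ : Fin n => c).det := by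
    simp
  rw [this]
  refine Ideal.subset_span ⟨n, x, _, hx, fun i _ => ?_, rfl⟩
  rw [Finset.sum_eq_single i]
  · rw [Matrix.diagonal_apply_eq]
    exact Module.mem_annihilator.mp hc _
  · intro j _ hj
    rw [Matrix.diagonal_apply_ne _ (Ne.symm hj), zero_smul]
  · simp

lemma zeroLocus_ideal_zero [Module.Finite R M] :
    PrimeSpectrum.zeroLocus (Fitt.ideal R M 0 : Set R) = Module.support R M := by
  rw [Module.support_eq_zeroLocus]
  apply le_antisymm
  · intro p hp
    rw [PrimeSpectrum.mem_zeroLocus] at hp ⊢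
    obtain ⟨n, x, hx⟩ := Module.Finite.exists_fin (R := R) (M := M)
    intro c hc
    exact p.2.mem_of_pow_mem n (hp (pow_mem_ideal_zero x hx c hc))
  · exact PrimeSpectrum.zeroLocus_anti_mono ideal_zero_le_annihilator

lemma ideal_zero_quotient (I : Ideal R) : Fitt.ideal R (R ⧸ I) 0 = I := by
  apply le_antisymm
  · refine ideal_zero_le_annihilator.trans ?_
    rw [Ideal.annihilator_quotient]
  · intro c hc
    have : c = (Matrix.of fun _ _ : Fin 1 => c).det := by
      simp
    rw [this]
    refine Ideal.subset_span ⟨1, fun _ => (1 : R ⧸ I), _, ?_, fun i _ => ?_, rfl⟩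
    · rw [eq_top_iff]
      rintro y -
      obtain ⟨r, rfl⟩ := Ideal.Quotient.mk_surjective y
      have : (Ideal.Quotient.mk I r) = r • (1 : R ⧸ I) := by
        rw [Algebra.smul_def, mul_one]
        rfl
      rw [this]
      exact Submodule.smul_mem _ _ (Submodule.subset_span ⟨0, rfl⟩)
    · simp only [Finset.univ_unique, Matrix.of_apply, Finset.sum_singleton]
      rw [Algebra.smul_def, mul_one]
      exact Ideal.Quotient.eq_zero_iff_mem.mpr hc

end zero

end Groth.Agent.Helper19.FittLib
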