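import Mathlib
import Groth.Agent.Helper19.FittLib2
set_option autoImplicit false
set_option linter.style.haveILetI false
set_option linter.unusedSectionVars false
universe u v w

namespace Groth.Agent.Helper19.FittLib

variable {R : Type u} [CommRing R] {M : Type v} [AddCommGroup M] [Module R M]

section baseChange

open TensorProduct

variable (R' : Type w) [CommRing R'] [Algebra R R']

lemma linearCombination_tmul_eq {ι : Type*} [Fintype ι] [DecidableEq ι] (x : ι → M) :
    Fintype.linearCombination R' (fun i => (1 : R') ⊗ₜ[R] x i) =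
      ((Fintype.linearCombination R x).baseChange R') ∘ₗ
        (TensorProduct.piScalarRight R R' R' ι).symm.toLinearMap := by
  refine LinearMap.pi_ext fun i r => ?_
  rw [Fintype.linearCombination_apply_single, LinearMap.comp_apply, LinearEquiv.coe_coe,
    TensorProduct.piScalarRight_symm_single, LinearMap.baseChange_tmul,
    Fintype.linearCombination_apply_single, one_smul, TensorProduct.smul_tmul', smul_eq_mul,
    mul_one]

lemma span_tmul_eq_top {ι : Type*} [Fintype ι] (x : ι → M)
    (hx : Submodule.span R (Set.range x) = ⊤) :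
    Submodule.span R' (Set.range fun i => (1 : R') ⊗ₜ[R] x i) = ⊤ := by
  classical
  rw [← Fintype.range_linearCombination, linearCombination_tmul_eq, LinearMap.range_eq_top]
  rw [LinearMap.coe_comp]
  refine Function.Surjective.comp ?_ (LinearEquiv.surjective _)
  rw [LinearMap.baseChange_eq_ltensor]
  exact LinearMap.lTensor_surjective _ (linearCombination_surjective x hx)

lemma ker_tmul_eq_span {ι : Type*} [Fintype ι] (x : ι → M)
    (hx : Submodule.span R (Set.range x) = ⊤) :
    LinearMap.ker (Fintype.linearCombination R' (fun i => (1 : R') ⊗ₜ[R] x i)) =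
      Submodule.span R' ((fun z : ι → R => (algebraMap R R') ∘ z) ''
        (LinearMap.ker (Fintype.linearCombination R x) : Set (ι → R))) := by
  classical
  apply le_antisymm
  · intro z' hz'
    rw [LinearMap.mem_ker, linearCombination_tmul_eq, LinearMap.comp_apply,
      LinearEquiv.coe_coe] at hz'
    have hex := lTensor_exact R' (LinearMap.exact_subtype_ker_map (Fintype.linearCombination R x))
      (linearCombination_surjective x hx)
    have hz'' : (LinearMap.lTensor R' (Fintype.linearCombination R x))
        ((TensorProduct.piScalarRight R R' R' ι).symm z') = 0 := by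
      rw [← LinearMap.baseChange_eq_ltensor]
      exact hz'
    obtain ⟨t, ht⟩ := (hex _).mp hz''
    have hz3 : z' = TensorProduct.piScalarRight R R' R' ι
        (LinearMap.lTensor R' (LinearMap.ker (Fintype.linearCombination R x)).subtype t) := by
      rw [ht, LinearEquiv.apply_symm_apply]
    rw [hz3]
    clear hz3 ht hz'' hz'
    induction t using TensorProduct.induction_on with
    | zero => simp
    | tmul r k =>
      rw [LinearMap.lTensor_tmul, TensorProduct.piScalarRight_apply,
        TensorProduct.piScalarRightHom_tmul]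
      have : (fun j => (k : ι → R) j • r) = r • ((algebraMap R R') ∘ (k : ι → R)) := by
        funext j
        simp [Algebra.smul_def, mul_comm]
      rw [Submodule.subtype_apply, this]
      exact Submodule.smul_mem _ _ (Submodule.subset_span ⟨k.1, k.2, rfl⟩)
    | add a b ha hb =>
      rw [map_add, map_add]
      exact add_mem ha hb
  · rw [Submodule.span_le]
    rintro _ ⟨z, hz, rfl⟩
    rw [SetLike.mem_coe, LinearMap.mem_ker, Fintype.linearCombination_apply] at hz ⊢
    have : ∀ i, ((algebraMap R R') ∘ z) i • ((1 : R') ⊗ₜ[R] x i) = (1 : R') ⊗ₜ[R] (z i • x i) := by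
      intro i
      rw [Function.comp_apply, algebraMap_smul, TensorProduct.tmul_smul]
    simp only [this]
    rw [← TensorProduct.tmul_sum, hz, TensorProduct.tmul_zero]

lemma Mn_tmul {ι : Type*} [Fintype ι] (x : ι → M)
    (hx : Submodule.span R (Set.range x) = ⊤) (s : ℕ) :
    Mn R' (fun i => (1 : R') ⊗ₜ[R] x i) s = (Mn R x s).map (algebraMap R R') := by
  rw [Mn_eq_span_gens _ _ (ker_tmul_eq_span R' x hx).symm s, Mn, Ideal.map_span]
  congr 1
  ext d
  constructor
  · rintro ⟨z', e, hz', rfl⟩
    choose z hz hzz using hz'
    refine ⟨(Matrix.of fun a b => z b (e a)).det, ⟨z, e, fun j => ?_, rfl⟩, ?_⟩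
    · have := hz j
      rwa [SetLike.mem_coe, LinearMap.mem_ker, Fintype.linearCombination_apply] at this
    · rw [RingHom.map_det]
      congr 1
      ext a b
      simp [← hzz]
  · rintro ⟨_, ⟨z, e, hz, rfl⟩, rfl⟩
    refine ⟨fun j => (algebraMap R R') ∘ z j, e, fun j => ⟨z j, ?_, rfl⟩, ?_⟩
    · rw [SetLike.mem_coe, LinearMap.mem_ker, Fintype.linearCombination_apply]
      exact hz j
    · rw [RingHom.map_det]
      congr 1

theorem ideal_baseChange [Module.Finite R M] (k : ℕ) :
    Fitt.ideal R' (R' ⊗[R] M) k = (Fitt.ideal R M k).map (algebraMap R R') := by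
  obtain ⟨n, x, hx⟩ := Module.Finite.exists_fin (R := R) (M := M)
  rw [ideal_eq_Mn x hx k, ideal_eq_Mn (fun i => (1 : R') ⊗ₜ[R] x i) (span_tmul_eq_top R' x hx) k,
    Mn_tmul R' x hx]

end baseChange

end Groth.Agent.Helper19.FittLib
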