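import Mathlib
import Groth.Agent.Helper19.FittLib3
set_option autoImplicit false
set_option linter.style.haveILetI false
set_option linter.unusedSectionVars false
universe u v w

namespace Groth.Agent.Helper19.FittLib

variable {R : Type u} [CommRing R] {M : Type v} [AddCommGroup M] [Module R M]

section cramer

variable {ι : Type*} [Fintype ι] {s : ℕ} (x : ι → M) (z : Fin s → ι → R)

/-- the `s × s` minor of the relation vectors `z` at the rows `e` -/
def minor (z : Fin s → ι → R) (e : Fin s → ι) : R := (Matrix.of fun a b => z b (e a)).det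

lemma minor_mem (hz : ∀ b, IsRel x (z b)) (e : Fin s → ι) : minor z e ∈ Mn R x s :=
  minor_mem_Mn x s z e hz

lemma minor_eq_zero_of_not_injective (e : Fin s → ι) (he : ¬ Function.Injective e) :
    minor z e = 0 := by
  rw [Function.Injective] at he
  push Not at he
  obtain ⟨a, a', h, hne⟩ := he
  exact Matrix.det_zero_of_row_eq hne (by funext b; simp [h])

/-- Cramer's rule for relations. -/
lemma cramer_rel (hz : ∀ b, IsRel x (z b)) (e : Fin s → ι) (a : Fin s) :
    ∑ i, minor z (Function.update e a i) • x i = 0 := by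
  have h1 : ∀ i, minor z (Function.update e a i) =
      ∑ b, (Matrix.of fun a' b => z b (e a')).transpose.adjugate a b * z b i := by
    intro i
    have : (Matrix.of fun a' b => z b (Function.update e a i a')) =
        (Matrix.of fun a' b => z b (e a')).updateRow a (fun b => z b i) := by
      ext a' b
      by_cases h : a' = a
      · subst h
        simp
      · simp [h]
    rw [minor, this, ← Matrix.cramer_transpose_apply, Matrix.cramer_eq_adjugate_mulVec]
    rfl
  simp only [h1, Finset.sum_smul, mul_smul]
  rw [Finset.sum_comm]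
  simp only [← Finset.smul_sum]
  refine Finset.sum_eq_zero fun b _ => ?_
  rw [show ∑ i, z b i • x i = 0 from hz b, smul_zero]

/-- consequence: `d • x (e a)` lies in the span of the `x i`, `i ∉ range e`, with coefficients
minors -/
lemma cramer_rel' [DecidableEq ι] (hz : ∀ b, IsRel x (z b)) (e : Fin s → ι)
    (he : Function.Injective e) (a : Fin s) :
    minor z e • x (e a) +
      ∑ i ∈ (Finset.univ.image e)ᶜ, minor z (Function.update e a i) • x i = 0 := by
  have h := cramer_rel x z hz e a
  rw [← Finset.sum_add_sum_compl (Finset.univ.image e)] at h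
  rw [← h]
  congr 1
  rw [Finset.sum_image (fun a' _ a'' _ h => he h), Finset.sum_eq_single a]
  · rw [Function.update_eq_self]
  · intro a' _ ha'
    rw [minor_eq_zero_of_not_injective, zero_smul]
    intro hinj
    apply ha'
    apply hinj
    rw [Function.update_self, Function.update_of_ne ha']
  · simp

end cramer

section gen

variable {ι : Type*} [Fintype ι] [DecidableEq ι] {s : ℕ} (x : ι → M)

lemma minor_smul_mem_span (hx : Submodule.span R (Set.range x) = ⊤) (z : Fin s → ι → R)
    (hz : ∀ b, IsRel x (z b)) (e : Fin s → ι) (he : Function.Injective e) (m : M) :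
    minor z e • m ∈ Submodule.span R (x '' ((Finset.univ.image e)ᶜ : Finset ι)) := by
  have hm : m ∈ Submodule.span R (Set.range x) := by rw [hx]; trivial
  induction hm using Submodule.span_induction with
  | mem y hy =>
    obtain ⟨j, rfl⟩ := hy
    by_cases hj : j ∈ Finset.univ.image e
    · obtain ⟨a, -, rfl⟩ := Finset.mem_image.mp hj
      have h := cramer_rel' x z hz e he a
      rw [add_eq_zero_iff_eq_neg] at h
      rw [h]
      refine Submodule.neg_mem _ (Submodule.sum_mem _ fun i hi => ?_)
      exact Submodule.smul_mem _ _ (Submodule.subset_span ⟨i, hi, rfl⟩)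
    · exact Submodule.smul_mem _ _ (Submodule.subset_span ⟨j, by simpa using hj, rfl⟩)
  | zero => simp
  | add y y' _ _ hy hy' => rw [smul_add]; exact add_mem hy hy'
  | smul c y _ hy => rw [smul_comm]; exact Submodule.smul_mem _ _ hy

lemma exists_fin_of_card_le {A : Type*} [Semiring A] {N : Type*} [AddCommMonoid N] [Module A N]
    (T : Finset N) (k : ℕ) (hT : T.card ≤ k) (hspan : Submodule.span A (T : Set N) = ⊤) :
    ∃ g : Fin k → N, Submodule.span A (Set.range g) = ⊤ := by
  classical
  refine ⟨fun j => if h : (j : ℕ) < T.card then (T.equivFin.symm ⟨j, h⟩ : N) else 0, ?_⟩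
  rw [eq_top_iff, ← hspan]
  apply Submodule.span_mono
  intro t ht
  refine ⟨⟨(T.equivFin ⟨t, ht⟩ : ℕ), lt_of_lt_of_le (T.equivFin ⟨t, ht⟩).2 hT⟩, ?_⟩
  simp

lemma card_image_compl_le [DecidableEq M] {n : ℕ} (y : Fin n → M) {s : ℕ} (e : Fin s → Fin n)
    (he : Function.Injective e) :
    (((Finset.univ.image e)ᶜ : Finset (Fin n)).image y).card ≤ n - s := by
  refine Finset.card_image_le.trans ?_
  rw [Finset.card_compl, Finset.card_image_of_injective _ he]
  simp

end gen

section loc

variable (S : Submonoid R)

lemma span_localized_eq_top (N : Submodule R M) (d : R) (hd : d ∈ S) (h : ∀ m : M, d • m ∈ N)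
    (T : Set M) (hT : Submodule.span R T = N) :
    Submodule.span (Localization S) ((LocalizedModule.mkLinearMap S M) '' T) = ⊤ := by
  rw [eq_top_iff]
  rintro y -
  induction y using LocalizedModule.induction_on with
  | h m t =>
    have h1 : LocalizedModule.mk m t =
        (Localization.mk 1 (t * ⟨d, hd⟩)) • LocalizedModule.mkLinearMap S M (d • m) := by
      rw [LocalizedModule.mkLinearMap_apply, LocalizedModule.mk_smul_mk, one_smul, mul_one]
      exact (LocalizedModule.mk_cancel_common_right t ⟨d, hd⟩ m).symm
    rw [h1]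
    refine Submodule.smul_mem _ _ ?_
    have h2 : d • m ∈ Submodule.span R T := by rw [hT]; exact h m
    have h3 : LocalizedModule.mkLinearMap S M (d • m) ∈
        Submodule.span R ((LocalizedModule.mkLinearMap S M) '' T) := by
      rw [Submodule.span_image]
      exact Submodule.mem_map_of_mem h2
    exact Submodule.span_subset_span R (Localization S) _ h3

end loc

section free

lemma ideal_le_of_surjective' {M' : Type w} [AddCommGroup M'] [Module R M']
    (f : M →ₗ[R] M') (hf : Function.Surjective f) (k : ℕ) :
    Fitt.ideal R M k ≤ Fitt.ideal R M' k := by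
  rw [Fitt.ideal, Ideal.span_le]
  rintro _ ⟨n, x, a, hx, ha, rfl⟩
  refine Ideal.subset_span ⟨n, f ∘ x, a, ?_, fun i hi => ?_, rfl⟩
  · rw [Set.range_comp, ← Submodule.map_span, hx, Submodule.map_top, LinearMap.range_eq_top]
    exact hf
  · have := congrArg f (ha i hi)
    simpa [map_sum] using this

lemma ideal_congr {M' : Type w} [AddCommGroup M'] [Module R M'] (e : M ≃ₗ[R] M') (k : ℕ) :
    Fitt.ideal R M k = Fitt.ideal R M' k :=
  le_antisymm (ideal_le_of_surjective' e.toLinearMap e.surjective k)
    (ideal_le_of_surjective' e.symm.toLinearMap e.symm.surjective k)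

lemma Mn_eq_bot_of_linearIndependent {ι : Type*} [Fintype ι] (x : ι → M)
    (hx : LinearIndependent R x) {s : ℕ} (hs : 0 < s) : Mn R x s = ⊥ := by
  rw [Mn, Ideal.span_eq_bot]
  rintro _ ⟨z, e, hz, rfl⟩
  have h1 : ∀ j i, z j i = 0 := fun j i => Fintype.linearIndependent_iff.mp hx (z j) (hz j) i
  have h2 : Matrix.of (fun a b => z b (e a)) = 0 := by
    ext a b
    simp [h1]
  rw [h2]
  haveI : Nonempty (Fin s) := ⟨⟨0, hs⟩⟩
  exact Matrix.det_zero

lemma ideal_of_basis {d : ℕ} (b : Module.Basis (Fin d) R M) (k : ℕ) :
    Fitt.ideal R M k = if d ≤ k then ⊤ else ⊥ := by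
  split_ifs with h
  · exact ideal_eq_top_of_le b b.span_eq h
  · rw [ideal_eq_Mn b b.span_eq k]
    exact Mn_eq_bot_of_linearIndependent b b.linearIndependent (by omega)

lemma linearIndependent_of_Mn_one_eq_bot {ι : Type*} [Fintype ι] (x : ι → M)
    (h : Mn R x 1 = ⊥) : LinearIndependent R x := by
  rw [Fintype.linearIndependent_iff]
  intro z hz i
  have h1 : minor (fun _ : Fin 1 => z) (fun _ => i) ∈ Mn R x 1 :=
    minor_mem x _ (fun _ => hz) _
  rw [h, Ideal.mem_bot] at h1
  simpa [minor] using h1

/-- `r` generators with vanishing `Fit_{r-1}` form a basis. -/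
lemma linearIndependent_of_ideal_eq_bot {r : ℕ} (y : Fin r → M)
    (hy : Submodule.span R (Set.range y) = ⊤) (h : r = 0 ∨ Fitt.ideal R M (r - 1) = ⊥) :
    LinearIndependent R y := by
  rcases h with rfl | h
  · exact linearIndependent_empty_type
  · by_cases hr : r = 0
    · subst hr
      exact linearIndependent_empty_type
    · rw [ideal_eq_Mn y hy, show r - (r - 1) = 1 by omega] at h
      exact linearIndependent_of_Mn_one_eq_bot y h

end free

section loc2

open TensorProduct

lemma ideal_localized (S : Submonoid R) [Module.Finite R M] (k : ℕ) :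
    Fitt.ideal (Localization S) (LocalizedModule S M) k =
      (Fitt.ideal R M k).map (algebraMap R (Localization S)) := by
  rw [ideal_congr (LocalizedModule.equivTensorProduct S M) k, ideal_baseChange]

lemma not_le_of_localized_eq_top (S : Submonoid R) [Module.Finite R M] (k : ℕ)
    (h : Fitt.ideal (Localization S) (LocalizedModule S M) k = ⊤) :
    ∃ d ∈ S, d ∈ Fitt.ideal R M k := by
  rw [ideal_localized] at h
  by_contra hcon
  push Not at hcon
  refine (IsLocalization.map_algebraMap_ne_top_iff_disjoint S (Localization S) _).mpr ?_ h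
  rw [Set.disjoint_left]
  exact fun d hd => hcon d hd

/-- a minor generator not in a prime -/
lemma exists_minor_notMem {n : ℕ} (x : Fin n → M) (hx : Submodule.span R (Set.range x) = ⊤)
    (k : ℕ) (p : Ideal R) (hp : ¬ Fitt.ideal R M k ≤ p) :
    ∃ (z : Fin (n - k) → Fin n → R) (e : Fin (n - k) → Fin n),
      (∀ b, IsRel x (z b)) ∧ Function.Injective e ∧ minor z e ∉ p := by
  rw [ideal_eq_Mn x hx k, Mn, Ideal.span_le] at hp
  rw [Set.not_subset] at hp
  obtain ⟨_, ⟨z, e, hz, rfl⟩, hd⟩ := hp
  refine ⟨z, e, hz, ?_, hd⟩
  by_contra he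
  apply hd
  have := minor_eq_zero_of_not_injective z e he
  rw [minor] at this
  rw [this]
  exact zero_mem _

lemma exists_span_localized {n : ℕ} (x : Fin n → M) (hx : Submodule.span R (Set.range x) = ⊤)
    (k : ℕ) (z : Fin (n - k) → Fin n → R) (e : Fin (n - k) → Fin n)
    (hz : ∀ b, IsRel x (z b)) (he : Function.Injective e) (S : Submonoid R)
    (hd : minor z e ∈ S) :
    ∃ g : Fin k → LocalizedModule S M, Submodule.span (Localization S) (Set.range g) = ⊤ := by
  classical
  have h1 := span_localized_eq_top S _ (minor z e) hd (minor_smul_mem_span x hx z hz e he) _ rfl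
  refine exists_fin_of_card_le
    ((((Finset.univ.image e)ᶜ : Finset (Fin n)).image x).image (LocalizedModule.mkLinearMap S M))
    k ?_ ?_
  · refine Finset.card_image_le.trans ((card_image_compl_le x e he).trans ?_)
    omega
  · rw [Finset.coe_image, Finset.coe_image]
    exact h1

end loc2

end Groth.Agent.Helper19.FittLib
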