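import Mathlib
import Groth.Agent.Helper19.FittLib4
set_option autoImplicit false
set_option linter.style.haveILetI false
set_option linter.unusedSectionVars false
universe u v w

namespace Groth.Agent.Helper19.FittLib

variable {R : Type u} [CommRing R] {M : Type v} [AddCommGroup M] [Module R M]

section bordered

variable {m : Type*} [Fintype m] [DecidableEq m]

/-- the bordered matrix -/
def bord (A : Matrix m m R) (B C : m → R) (δ : R) : Matrix (m ⊕ Unit) (m ⊕ Unit) R :=
  Matrix.fromBlocks A (Matrix.replicateCol Unit B) (Matrix.replicateRow Unit C)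
    (Matrix.of fun _ _ => δ)

lemma det_bord_updateRow_inr (A : Matrix m m R) (B C : m → R) (δ : R) :
    ((bord A B C δ).updateRow (Sum.inr ()) (Pi.single (Sum.inr ()) 1)).det = A.det := by
  have : (bord A B C δ).updateRow (Sum.inr ()) (Pi.single (Sum.inr ()) 1) =
      Matrix.fromBlocks A (Matrix.replicateCol Unit B) 0 1 := by
    ext i j
    rcases i with i | i <;> rcases j with j | j <;>
      simp [bord, Matrix.updateRow_apply, Pi.single_apply]
  rw [this, Matrix.det_fromBlocks_zero₂₁, Matrix.det_one, mul_one]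

lemma det_bord_updateRow_inl (A : Matrix m m R) (B C : m → R) (δ : R) (b : m) :
    ((bord A B C δ).updateRow (Sum.inr ()) (Pi.single (Sum.inl b) 1)).det =
      - (A.updateCol b B).det := by
  have h1 := Matrix.det_permute' (Equiv.swap (Sum.inl b : m ⊕ Unit) (Sum.inr ()))
    ((bord A B C δ).updateRow (Sum.inr ()) (Pi.single (Sum.inl b) 1))
  have h2 : (((bord A B C δ).updateRow (Sum.inr ()) (Pi.single (Sum.inl b) 1)).submatrix id
      (Equiv.swap (Sum.inl b : m ⊕ Unit) (Sum.inr ()))) =
      Matrix.fromBlocks (A.updateCol b B) (Matrix.replicateCol Unit fun a => A a b) 0 1 := by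
    ext i j
    rcases i with i | i <;> rcases j with j | j
    · by_cases hj : j = b
      · subst hj
        simp [bord, Matrix.updateRow_apply]
      · have : Equiv.swap (Sum.inl b : m ⊕ Unit) (Sum.inr ()) (Sum.inl j) = Sum.inl j :=
          Equiv.swap_apply_of_ne_of_ne (by simpa using hj) (by simp)
        simp [bord, Matrix.updateRow_apply, this, Matrix.updateCol_apply, hj]
    · simp [bord, Matrix.updateRow_apply]
    · by_cases hj : j = b
      · subst hj
        simp [bord, Matrix.updateRow_apply]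
      · have : Equiv.swap (Sum.inl b : m ⊕ Unit) (Sum.inr ()) (Sum.inl j) = Sum.inl j :=
          Equiv.swap_apply_of_ne_of_ne (by simpa using hj) (by simp)
        simp [bord, Matrix.updateRow_apply, this, hj]
    · simp [bord, Matrix.updateRow_apply]
  rw [h2, Matrix.det_fromBlocks_zero₂₁, Matrix.det_one, mul_one, Equiv.Perm.sign_swap (by simp)]
    at h1
  rw [h1]
  simp

/-- the bordered determinant formula -/
lemma det_bord (A : Matrix m m R) (B C : m → R) (δ : R) :
    (bord A B C δ).det = δ * A.det - ∑ b, C b * (A.cramer B) b := by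
  rw [Matrix.det_eq_sum_mul_adjugate_row (bord A B C δ) (Sum.inr ()), Fintype.sum_sum_type]
  simp only [Matrix.adjugate_apply, det_bord_updateRow_inl, det_bord_updateRow_inr,
    Finset.univ_unique, Finset.sum_singleton, Matrix.cramer_apply]
  have h1 : ∀ b, bord A B C δ (Sum.inr ()) (Sum.inl b) = C b := fun b => by simp [bord]
  have h2 : bord A B C δ (Sum.inr ()) (Sum.inr ()) = δ := by simp [bord]
  have h3 : (default : Unit) = () := rfl
  simp only [h1, h2, h3, mul_neg, Finset.sum_neg_distrib]
  rw [det_bord_updateRow_inr]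
  ring

end bordered

section expand

variable {ι : Type*} [Fintype ι] (x : ι → M)

lemma det_mem_Mn_of_card {κ : Type*} [Fintype κ] [DecidableEq κ] (t : ℕ)
    (hκ : Fintype.card κ = t) (z : κ → ι → R) (e : κ → ι) (hz : ∀ b, IsRel x (z b)) :
    (Matrix.of fun a b : κ => z b (e a)).det ∈ Mn R x t := by
  obtain ⟨σ⟩ : Nonempty (Fin t ≃ κ) := ⟨(Fintype.equivFinOfCardEq hκ).symm⟩
  rw [← Matrix.det_submatrix_equiv_self σ]
  exact minor_mem_Mn x t (z ∘ σ) (e ∘ σ) (fun j => hz _)

lemma cramer_eq_minor {s : ℕ} (z : Fin s → ι → R) (e : Fin s → ι) (v : ι → R) (b : Fin s) :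
    (Matrix.cramer (Matrix.of fun a b => z b (e a)) (v ∘ e)) b =
      minor (Function.update z b v) e := by
  rw [Matrix.cramer_apply, minor]
  congr 1
  ext a b'
  by_cases h : b' = b
  · subst h
    simp
  · simp [h, Matrix.updateCol_apply]

lemma cramer_expand {s : ℕ} (z : Fin s → ι → R) (e : Fin s → ι) (hz : ∀ b, IsRel x (z b))
    (v : ι → R) (hv : IsRel x v) (h : Mn R x (s + 1) = ⊥) (i : ι) :
    minor z e * v i =
      ∑ b, z b i * (Matrix.cramer (Matrix.of fun a b => z b (e a)) (v ∘ e)) b := by
  have h1 := det_mem_Mn_of_card x (κ := Fin s ⊕ Unit) (s + 1) (by simp)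
    (Sum.elim z fun _ => v) (Sum.elim e fun _ => i) (by
      rintro (b | b)
      · exact hz b
      · exact hv)
  rw [h, Ideal.mem_bot] at h1
  have h2 : (Matrix.of fun a b : Fin s ⊕ Unit =>
      (Sum.elim z fun _ => v) b ((Sum.elim e fun _ => i) a)) =
      bord (Matrix.of fun a b => z b (e a)) (v ∘ e) (fun b => z b i) (v i) := by
    ext a b
    rcases a with a | a <;> rcases b with b | b <;> simp [bord]
  rw [h2, det_bord] at h1
  rw [minor, mul_comm]
  exact sub_eq_zero.mp h1

end expand

section proj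

/-- division of a linear map by a nonzerodivisor -/
lemma exists_div_linearMap {K T : Type*} [AddCommGroup K] [Module R K] [AddCommGroup T]
    [Module R T] (f : R) (hf : ∀ t : T, f • t = 0 → t = 0) (Φ : K →ₗ[R] T)
    (h : ∀ v, ∃ q, f • q = Φ v) : ∃ ψ : K →ₗ[R] T, ∀ v, f • ψ v = Φ v := by
  choose q hq using h
  have hinj : ∀ t t' : T, f • t = f • t' → t = t' := by
    intro t t' h
    have := hf (t - t') (by rw [smul_sub, h, sub_self])
    exact sub_eq_zero.mp this
  refine ⟨{ toFun := q, map_add' := fun v w => ?_, map_smul' := fun c v => ?_ }, hq⟩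
  · apply hinj
    rw [smul_add, hq, hq, hq, map_add]
  · apply hinj
    rw [RingHom.id_apply, smul_comm, hq, hq, map_smul]

variable {ι : Type*} [Fintype ι] (x : ι → M)

lemma exists_local_retraction {s : ℕ} (f : R) (hf : f ∈ nonZeroDivisors R)
    (hs : Mn R x s = Ideal.span {f}) (hs1 : Mn R x (s + 1) = ⊥)
    (z : Fin s → ι → R) (e : Fin s → ι) (hz : ∀ b, IsRel x (z b)) (c : R)
    (hc : minor z e = f * c) :
    ∃ (ψ : LinearMap.ker (Fintype.linearCombination R x) →ₗ[R] (Fin s → R))
      (ρ : (Fin s → R) →ₗ[R] LinearMap.ker (Fintype.linearCombination R x)),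
      ρ ∘ₗ ψ = c • LinearMap.id := by
  have hfR : ∀ t : R, f * t = 0 → t = 0 := fun t ht =>
    (mem_nonZeroDivisors_iff.mp hf).1 t ht
  have hfT : ∀ t : Fin s → R, f • t = 0 → t = 0 := by
    intro t ht
    funext b
    exact hfR (t b) (by simpa using congrFun ht b)
  obtain ⟨ψ, hψ⟩ := exists_div_linearMap f hfT
    ((Matrix.cramer (Matrix.of fun a b => z b (e a))).comp
      ((LinearMap.funLeft R R e).comp (LinearMap.ker (Fintype.linearCombination R x)).subtype))
    (by
      intro v
      have : ∀ b, ∃ q, f * q = (Matrix.cramer (Matrix.of fun a b => z b (e a)) (v.1 ∘ e)) b := by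
        intro b
        rw [cramer_eq_minor]
        have : minor (Function.update z b v.1) e ∈ Ideal.span {f} := by
          rw [← hs]
          refine minor_mem x _ (fun b' => ?_) e
          by_cases h : b' = b
          · subst h
            rw [Function.update_self]
            exact (isRel_iff_mem_ker x _).mpr v.2
          · rw [Function.update_of_ne h]
            exact hz b'
        obtain ⟨q, hq⟩ := Ideal.mem_span_singleton'.mp this
        exact ⟨q, by rw [← hq, mul_comm]⟩
      choose q hq using this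
      exact ⟨q, funext fun b => hq b⟩)
  refine ⟨ψ, (Fintype.linearCombination R fun b =>
    (⟨z b, (isRel_iff_mem_ker x _).mp (hz b)⟩ : LinearMap.ker (Fintype.linearCombination R x))), ?_⟩
  refine LinearMap.ext fun v => Subtype.ext (funext fun i => ?_)
  have hcancel : ∀ a b : R, f * a = f * b → a = b := by
    intro a b h
    have := hfR (a - b) (by rw [mul_sub, h, sub_self])
    exact sub_eq_zero.mp this
  have hL : (((Fintype.linearCombination R fun b =>
      (⟨z b, (isRel_iff_mem_ker x _).mp (hz b)⟩ : LinearMap.ker (Fintype.linearCombination R x)))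
        ∘ₗ ψ) v).1 i = ∑ b, ψ v b * z b i := by
    simp [Fintype.linearCombination_apply, Finset.sum_apply]
  have hR : ((c • (LinearMap.id : LinearMap.ker (Fintype.linearCombination R x) →ₗ[R] _)) v).1 i =
      c * v.1 i := by
    simp
  rw [hL, hR]
  apply hcancel
  have hψ' : ∀ b, f * ψ v b = (Matrix.cramer (Matrix.of fun a b => z b (e a)) (v.1 ∘ e)) b := by
    intro b
    have := congrFun (hψ v) b
    simp only [Pi.smul_apply, smul_eq_mul, LinearMap.comp_apply, Submodule.subtype_apply] at this
    rw [this]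
    rfl
  rw [Finset.mul_sum]
  have h3 := cramer_expand x z e hz v.1 ((isRel_iff_mem_ker x _).mpr v.2) hs1 i
  rw [hc] at h3
  rw [← mul_assoc, h3]
  refine Finset.sum_congr rfl fun b _ => ?_
  rw [← mul_assoc, hψ', mul_comm]

lemma exists_partition {s : ℕ} (f : R) (hf : f ∈ nonZeroDivisors R)
    (hs : Mn R x s = Ideal.span {f}) :
    ∃ (J : ℕ) (a : Fin J → R) (z : Fin J → Fin s → ι → R) (e : Fin J → Fin s → ι)
      (c : Fin J → R), (∀ j b, IsRel x (z j b)) ∧ (∀ j, minor (z j) (e j) = f * c j) ∧
        ∑ j, a j * c j = 1 := by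
  have hfR : ∀ t : R, f * t = 0 → t = 0 := fun t ht =>
    (mem_nonZeroDivisors_iff.mp hf).1 t ht
  have hmem : f ∈ Mn R x s := by
    rw [hs]
    exact Ideal.mem_span_singleton_self f
  rw [Mn, Ideal.span, Submodule.mem_span_set'] at hmem
  obtain ⟨J, a, g, hg⟩ := hmem
  have h1 : ∀ j, ∃ (z : Fin s → ι → R) (e : Fin s → ι), (∀ b, IsRel x (z b)) ∧
      (g j : R) = minor z e := by
    intro j
    obtain ⟨z, e, hz, h⟩ := (g j).2
    exact ⟨z, e, hz, h⟩
  choose z e hz hg' using h1
  have h2 : ∀ j, ∃ c, minor (z j) (e j) = f * c := by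
    intro j
    have : minor (z j) (e j) ∈ Ideal.span {f} := by
      rw [← hs]
      exact minor_mem x _ (hz j) _
    obtain ⟨c, hc⟩ := Ideal.mem_span_singleton'.mp this
    exact ⟨c, by rw [← hc, mul_comm]⟩
  choose c hc using h2
  refine ⟨J, a, z, e, c, hz, hc, ?_⟩
  have h3' : f * ∑ j, a j * c j = f := by
    calc f * ∑ j, a j * c j = ∑ j, a j • (g j : R) := by
          rw [Finset.mul_sum]
          refine Finset.sum_congr rfl fun j _ => ?_
          rw [hg', hc, smul_eq_mul]
          ring
      _ = f := hg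
  have h3 : f * (∑ j, a j * c j - 1) = 0 := by
    rw [mul_sub, mul_one, h3', sub_self]
  exact sub_eq_zero.mp (hfR _ h3)

theorem projective_ker {s : ℕ} (f : R) (hf : f ∈ nonZeroDivisors R)
    (hs : Mn R x s = Ideal.span {f}) (hs1 : Mn R x (s + 1) = ⊥) :
    Module.Projective R (LinearMap.ker (Fintype.linearCombination R x)) := by
  obtain ⟨J, a, z, e, c, hz, hc, hsum⟩ := exists_partition x f hf hs
  have h := fun j => exists_local_retraction x f hf hs hs1 (z j) (e j) (hz j) (c j) (hc j)
  choose ψ ρ hρψ using h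
  refine Module.Projective.of_split (M := Fin J → (Fin s → R)) (LinearMap.pi ψ)
    (∑ j, a j • ((ρ j) ∘ₗ (LinearMap.proj j))) ?_
  refine LinearMap.ext fun v => ?_
  simp only [LinearMap.comp_apply, LinearMap.sum_apply, LinearMap.smul_apply, LinearMap.pi_apply,
    LinearMap.proj_apply, LinearMap.id_apply]
  have h4 : ∀ j, (ρ j) (ψ j v) = c j • v := by
    intro j
    have := LinearMap.congr_fun (hρψ j) v
    simpa using this
  simp only [h4, smul_smul]
  rw [← Finset.sum_smul, hsum, one_smul]

end proj

section quot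

variable {ι : Type*} [Fintype ι] (x : ι → M) (f : R)

/-- the images of the `x i` in `M ⧸ ker f` -/
def yq : ι → M ⧸ LinearMap.ker (f • (LinearMap.id : M →ₗ[R] M)) :=
  fun i => Submodule.Quotient.mk (x i)

lemma isRel_yq_iff (z : ι → R) : IsRel (yq x f) z ↔ IsRel x (f • z) := by
  have h1 : ∑ i, z i • yq x f i =
      Submodule.Quotient.mk (∑ i, z i • x i) := by
    rw [← Submodule.mkQ_apply, map_sum]
    rfl
  rw [IsRel, h1, Submodule.Quotient.mk_eq_zero, LinearMap.mem_ker, LinearMap.smul_apply,
    LinearMap.id_apply, IsRel, Finset.smul_sum]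
  simp only [Pi.smul_apply, smul_eq_mul, mul_smul]

lemma minor_smul {s : ℕ} (c : R) (z : Fin s → ι → R) (e : Fin s → ι) :
    minor (fun b => c • z b) e = c ^ s * minor z e := by
  have : (Matrix.of fun a b => (c • z b) (e a)) = c • (Matrix.of fun a b => z b (e a)) := by
    ext a b
    simp
  rw [minor, this, Matrix.det_smul, Fintype.card_fin]
  rfl

lemma Mn_yq_eq_bot (hf : f ∈ nonZeroDivisors R) (t : ℕ) (h : Mn R x t = ⊥) :
    Mn R (yq x f) t = ⊥ := by
  rw [Mn, Ideal.span_eq_bot]
  rintro _ ⟨z, e, hz, rfl⟩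
  have h1 : minor (fun b => f • z b) e ∈ Mn R x t :=
    minor_mem x _ (fun b => (isRel_yq_iff x f (z b)).mp (hz b)) e
  rw [h, Ideal.mem_bot, minor_smul] at h1
  exact (mem_nonZeroDivisors_iff.mp (pow_mem hf t)).1 _ h1

lemma pow_mem_Mn_yq (hf : f ∈ nonZeroDivisors R) {s : ℕ} (hs : Mn R x s = Ideal.span {f})
    (z : Fin s → ι → R) (e : Fin s → ι) (hz : ∀ b, IsRel x (z b)) (c : R)
    (hc : minor z e = f * c) : c ^ s ∈ Mn R (yq x f) s := by
  have hfR : ∀ t : R, f * t = 0 → t = 0 := fun t ht =>
    (mem_nonZeroDivisors_iff.mp hf).1 t ht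
  have hcancel : ∀ a b : R, f * a = f * b → a = b := by
    intro a b h
    have := hfR (a - b) (by rw [mul_sub, h, sub_self])
    exact sub_eq_zero.mp this
  have h1 : ∀ (a : Fin s) (j : ι), ∃ q, minor z (Function.update e a j) = f * q := by
    intro a j
    have : minor z (Function.update e a j) ∈ Ideal.span {f} := by
      rw [← hs]
      exact minor_mem x _ hz _
    obtain ⟨q, hq⟩ := Ideal.mem_span_singleton'.mp this
    exact ⟨q, by rw [← hq, mul_comm]⟩
  choose r hr using h1
  have hrel : ∀ a, IsRel (yq x f) (r a) := by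
    intro a
    rw [isRel_yq_iff]
    have := cramer_rel x z hz e a
    simp only [hr] at this
    exact this
  have hmat : (Matrix.of fun a' a => r a (e a')) = Matrix.diagonal fun _ : Fin s => c := by
    ext a' a
    rw [Matrix.of_apply, Matrix.diagonal_apply]
    apply hcancel
    rw [← hr]
    by_cases h : a' = a
    · subst h
      rw [if_pos rfl, Function.update_eq_self, hc]
    · rw [if_neg h, mul_zero]
      apply minor_eq_zero_of_not_injective
      intro hinj
      apply h
      apply hinj
      rw [Function.update_self, Function.update_of_ne h]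
  have := minor_mem (yq x f) r hrel e
  rw [minor, hmat, Matrix.det_diagonal, Finset.prod_const, Finset.card_univ, Fintype.card_fin]
    at this
  exact this

lemma Mn_yq_eq_top (hf : f ∈ nonZeroDivisors R) {s : ℕ} (hs : Mn R x s = Ideal.span {f}) :
    Mn R (yq x f) s = ⊤ := by
  obtain ⟨J, a, z, e, c, hz, hc, hsum⟩ := exists_partition x f hf hs
  have h1 : Ideal.span (Set.range c) = ⊤ := by
    rw [Ideal.eq_top_iff_one, ← hsum]
    exact Ideal.sum_mem _ fun j _ => Ideal.mul_mem_left _ _ (Ideal.subset_span ⟨j, rfl⟩)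
  have h2 := Ideal.span_pow_eq_top _ h1 s
  rw [eq_top_iff, ← h2, Ideal.span_le]
  rintro _ ⟨_, ⟨j, rfl⟩, rfl⟩
  exact pow_mem_Mn_yq x f hf hs (z j) (e j) (hz j) (c j) (hc j)

end quot

section misc

lemma Mn_eq_bot_of_card_lt {ι : Type*} [Fintype ι] (x : ι → M) {t : ℕ}
    (h : Fintype.card ι < t) : Mn R x t = ⊥ := by
  rw [Mn, Ideal.span_eq_bot]
  rintro _ ⟨z, e, hz, rfl⟩
  apply minor_eq_zero_of_not_injective z e
  intro hinj
  have := Fintype.card_le_of_injective e hinj
  rw [Fintype.card_fin] at this
  omega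

lemma free_localized [Module.Finite R M] (k : ℕ) (h1 : Fitt.ideal R M k = ⊤)
    (h0 : k = 0 ∨ Fitt.ideal R M (k - 1) = ⊥) (p : Ideal R) [p.IsPrime] :
    Module.Free (Localization.AtPrime p) (LocalizedModule p.primeCompl M) := by
  obtain ⟨n, x, hx⟩ := Module.Finite.exists_fin (R := R) (M := M)
  have hnot : ¬ Fitt.ideal R M k ≤ p := by
    rw [h1]
    intro h
    exact Ideal.IsPrime.ne_top inferInstance (top_le_iff.mp h)
  obtain ⟨z, e, hz, he, hd⟩ := exists_minor_notMem x hx k p hnot
  obtain ⟨g, hg⟩ := exists_span_localized x hx k z e hz he p.primeCompl hd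
  have hli : LinearIndependent (Localization.AtPrime p) g := by
    refine linearIndependent_of_ideal_eq_bot g hg ?_
    rcases h0 with h0 | h0
    · exact Or.inl h0
    · right
      rw [ideal_localized, h0, Ideal.map_bot]
  exact Module.Free.of_basis (Module.Basis.mk hli (by rw [hg]))

end misc

end Groth.Agent.Helper19.FittLib
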