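import Mathlib
import Groth.Agent.Helper19.FittLib5
set_option autoImplicit false
set_option linter.style.haveILetI false
set_option linter.unusedSectionVars false
universe u v w

namespace Groth.Agent.Helper19.FittLib

variable {R : Type u} [CommRing R] {M : Type v} [AddCommGroup M] [Module R M]

section detIdeal

variable {ι κ : Type*}

/-- the ideal of `s × s` minors of a matrix -/
def detIdeal (A : Matrix ι κ R) (s : ℕ) : Ideal R :=
  Ideal.span {d | ∃ (e : Fin s → ι) (c : Fin s → κ), d = (A.submatrix e c).det}

lemma det_mem_detIdeal (A : Matrix ι κ R) (s : ℕ) (e : Fin s → ι) (c : Fin s → κ) :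
    (A.submatrix e c).det ∈ detIdeal A s := Ideal.subset_span ⟨e, c, rfl⟩

lemma detIdeal_transpose (A : Matrix ι κ R) (s : ℕ) : detIdeal A.transpose s = detIdeal A s := by
  apply le_antisymm
  · rw [detIdeal, Ideal.span_le]
    rintro _ ⟨e, c, rfl⟩
    rw [← Matrix.det_transpose]
    exact det_mem_detIdeal A s c e
  · rw [detIdeal, Ideal.span_le]
    rintro _ ⟨e, c, rfl⟩
    rw [← Matrix.det_transpose]
    exact det_mem_detIdeal A.transpose s c e

lemma detIdeal_eq_bot_of_card_lt_right [Fintype κ] (A : Matrix ι κ R) {s : ℕ}
    (h : Fintype.card κ < s) : detIdeal A s = ⊥ := by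
  rw [detIdeal, Ideal.span_eq_bot]
  rintro _ ⟨e, c, rfl⟩
  have hc : ¬ Function.Injective c := by
    intro hinj
    have := Fintype.card_le_of_injective c hinj
    rw [Fintype.card_fin] at this
    omega
  rw [Function.Injective] at hc
  push Not at hc
  obtain ⟨b, b', h1, hne⟩ := hc
  exact Matrix.det_zero_of_column_eq hne (by intro a; simp [h1])

lemma detIdeal_eq_bot_of_card_lt_left [Fintype ι] (A : Matrix ι κ R) {s : ℕ}
    (h : Fintype.card ι < s) : detIdeal A s = ⊥ := by
  rw [← detIdeal_transpose]
  exact detIdeal_eq_bot_of_card_lt_right _ h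

/-- the `n × n` minors of an `n × n` matrix generate `(det A)` -/
lemma detIdeal_square {n : ℕ} (A : Matrix (Fin n) (Fin n) R) :
    detIdeal A n = Ideal.span {A.det} := by
  apply le_antisymm
  · rw [detIdeal, Ideal.span_le]
    rintro _ ⟨e, c, rfl⟩
    rw [SetLike.mem_coe, Ideal.mem_span_singleton]
    by_cases he : Function.Bijective e
    · by_cases hc : Function.Bijective c
      · have h1 : A.submatrix e c =
            (A.submatrix (Equiv.ofBijective e he) id).submatrix id (Equiv.ofBijective c hc) := rfl
        rw [h1, Matrix.det_permute', Matrix.det_permute]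
        exact Dvd.intro_left _ (by rw [mul_assoc])
      · have hc' : ¬ Function.Injective c := fun h => hc (Finite.injective_iff_bijective.mp h)
        rw [Function.Injective] at hc'
        push Not at hc'
        obtain ⟨b, b', h1, hne⟩ := hc'
        rw [Matrix.det_zero_of_column_eq (M := A.submatrix e c) hne (by intro a; simp [h1])]
        exact dvd_zero _
    · have he' : ¬ Function.Injective e := fun h => he (Finite.injective_iff_bijective.mp h)
      rw [Function.Injective] at he'
      push Not at he'
      obtain ⟨b, b', h1, hne⟩ := he'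
      rw [Matrix.det_zero_of_row_eq (M := A.submatrix e c) hne (by funext a; simp [h1])]
      exact dvd_zero _
  · rw [Ideal.span_le, Set.singleton_subset_iff]
    have := det_mem_detIdeal A n id id
    simpa using this

/-- Fitting minors when the relation module is spanned by the columns of `A`. -/
lemma Mn_eq_detIdeal [Fintype ι] (x : ι → M) (A : Matrix ι κ R)
    (hW : Submodule.span R (Set.range fun l : κ => (fun i => A i l)) =
      LinearMap.ker (Fintype.linearCombination R x)) (s : ℕ) :
    Mn R x s = detIdeal A s := by
  rw [Mn_eq_span_gens x _ hW s, detIdeal]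
  congr 1
  ext d
  constructor
  · rintro ⟨z, e, hz, rfl⟩
    choose c hc using hz
    refine ⟨e, c, ?_⟩
    congr 1
    ext a b
    simp [← hc]
  · rintro ⟨e, c, rfl⟩
    exact ⟨fun b i => A i (c b), e, fun j => ⟨c j, rfl⟩, rfl⟩

end detIdeal

section coker

variable {m n : ℕ}

lemma linearCombination_mk_single (N : Submodule R (Fin n → R)) :
    Fintype.linearCombination R (fun j : Fin n => (Submodule.Quotient.mk (Pi.single j 1) :
      (Fin n → R) ⧸ N)) = N.mkQ := by
  refine LinearMap.pi_ext fun j r => ?_
  rw [Fintype.linearCombination_apply_single, Submodule.mkQ_apply, ← Submodule.Quotient.mk_smul]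
  congr 1
  rw [← Pi.single_smul', smul_eq_mul, mul_one]

lemma range_eq_span_cols (σ : (Fin m → R) →ₗ[R] (Fin n → R)) :
    Submodule.span R (Set.range fun l : Fin m => (fun i => LinearMap.toMatrix' σ i l)) =
      LinearMap.range σ := by
  have h1 : (fun l : Fin m => (fun i => LinearMap.toMatrix' σ i l)) =
      σ ∘ (fun l => Pi.single l 1) := by
    funext l i
    rw [LinearMap.toMatrix'_apply]
    rfl
  have h2 : Submodule.span R (Set.range fun l : Fin m => (Pi.single l 1 : Fin m → R)) = ⊤ := by
    have := (Pi.basisFun R (Fin m)).span_eq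
    convert this using 3
    funext l
    simp
  rw [h1, Set.range_comp, ← Submodule.map_span, h2, Submodule.map_top]

/-- Fitting ideals of a cokernel are the determinantal ideals of the matrix. -/
theorem ideal_coker (σ : (Fin m → R) →ₗ[R] (Fin n → R)) (i : ℕ) :
    Fitt.ideal R ((Fin n → R) ⧸ LinearMap.range σ) i =
      detIdeal (LinearMap.toMatrix' σ) (n - i) := by
  have hx : Submodule.span R (Set.range (fun j : Fin n => (Submodule.Quotient.mk (Pi.single j 1) :
      (Fin n → R) ⧸ LinearMap.range σ))) = ⊤ := by
    rw [← Fintype.range_linearCombination, linearCombination_mk_single, Submodule.range_mkQ]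
  rw [ideal_eq_Mn _ hx i]
  refine Mn_eq_detIdeal _ _ ?_ _
  rw [range_eq_span_cols, linearCombination_mk_single, Submodule.ker_mkQ]

/-- the cokernel of the dual map is the cokernel of the transpose matrix -/
noncomputable def dualCokerEquiv (σ : (Fin m → R) →ₗ[R] (Fin n → R)) :
    ((Fin m → R) ⧸ LinearMap.range (Matrix.toLin' (LinearMap.toMatrix' σ).transpose)) ≃ₗ[R]
      (Module.Dual R (Fin m → R) ⧸ LinearMap.range σ.dualMap) := by
  refine Submodule.Quotient.equiv _ _ (Module.piEquiv (Fin m) R R) ?_
  have h : (Module.piEquiv (Fin m) R R).toLinearMap ∘ₗ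
      (Matrix.toLin' (LinearMap.toMatrix' σ).transpose) =
      σ.dualMap ∘ₗ (Module.piEquiv (Fin n) R R).toLinearMap := by
    refine LinearMap.ext fun u => LinearMap.pi_ext' fun l => LinearMap.ext_ring ?_
    simp only [LinearMap.comp_apply, LinearEquiv.coe_coe, LinearMap.dualMap_apply,
      Module.piEquiv_apply_apply, LinearMap.single_apply, Matrix.toLin'_apply,
      Matrix.mulVec, dotProduct, Matrix.transpose_apply, LinearMap.toMatrix'_apply]
    rw [Finset.sum_eq_single l]
    · simp [mul_comm]
    · intro l' _ hl'
      simp [Pi.single_apply, hl']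
    · simp
  rw [← LinearMap.range_comp, h, LinearMap.range_comp_of_range_eq_top]
  exact LinearEquiv.range _

theorem ideal_dualCoker (σ : (Fin m → R) →ₗ[R] (Fin n → R)) (j : ℕ) :
    Fitt.ideal R (Module.Dual R (Fin m → R) ⧸ LinearMap.range σ.dualMap) j =
      detIdeal (LinearMap.toMatrix' σ) (m - j) := by
  rw [← ideal_congr (dualCokerEquiv σ) j, ideal_coker, LinearMap.toMatrix'_toLin',
    detIdeal_transpose]

end coker

end Groth.Agent.Helper19.FittLib
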