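import Mathlib
import Groth.Prelude.Def_Fitting
import Groth.Agent.Helper19.FittLib6
import Groth.Agent.Lib.Helper29.QCohFinite
import Groth.Agent.Lib.Helper29.QCohFP2
set_option autoImplicit false
set_option linter.style.haveILetI false
set_option linter.unusedSectionVars false
universe u v w

open CategoryTheory CategoryTheory.Limits AlgebraicGeometry Opposite TopologicalSpace

namespace Groth.Agent.Helper19.FittSheaf

open Groth.Agent.Helper19.FittLib
open Groth.Agent.Lib.Helper29.QCoh

section ring

open TensorProduct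

/-- Fitting ideals commute with localization (any model). -/
lemma ideal_of_isLocalizedModule {R : Type u} [CommRing R] (S : Submonoid R)
    {R' : Type u} [CommRing R'] [Algebra R R'] [IsLocalization S R']
    {M : Type v} {M' : Type w} [AddCommGroup M] [Module R M] [AddCommGroup M'] [Module R M']
    [Module R' M'] [IsScalarTower R R' M'] (g : M →ₗ[R] M') [IsLocalizedModule S g]
    [Module.Finite R M] (k : ℕ) :
    Fitt.ideal R' M' k = (Fitt.ideal R M k).map (algebraMap R R') := by
  have h : IsBaseChange R' g := IsLocalizedModule.isBaseChange S R' g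
  rw [← ideal_baseChange R' (R := R) (M := M) k]
  exact ideal_congr h.equiv.symm k

end ring

variable {X : Scheme.{u}}

/-- Sections of a quasi-coherent finite type module on an affine open: finite. -/
lemma finite_sections (F : X.Modules) [F.IsQuasicoherent] [F.IsFiniteType] {U : X.Opens}
    (hU : IsAffineOpen U) : Module.Finite Γ(X, U) Γ(F, U) := by
  exact module_finite_of_isFiniteType F hU

lemma map_fitt_basicOpen (F : X.Modules) [F.IsQuasicoherent] [F.IsFiniteType] (r : ℕ)
    (U : X.affineOpens) (f : Γ(X, U)) :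
    (Fitt.ideal Γ(X, U.1) Γ(F, U.1) r).map (X.presheaf.map (homOfLE <| X.basicOpen_le f).op).hom =
      Fitt.ideal Γ(X, X.basicOpen f) Γ(F, X.basicOpen f) r := by
  haveI := finite_sections F U.2
  letI := sectionsModule F (X.basicOpen_le f)
  haveI : IsScalarTower Γ(X, U.1) Γ(X, X.basicOpen f) Γ(F, X.basicOpen f) :=
    IsScalarTower.of_algebraMap_smul fun _ _ => rfl
  haveI := U.2.isLocalization_basicOpen f
  haveI := isLocalizedModule_res_basicOpen F U.2 f
  exact (ideal_of_isLocalizedModule (Submonoid.powers f) (resₗ F (X.basicOpen_le f)) r).symm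

/-- The Fitting ideal sheaf with explicit values. -/
noncomputable def fittIdeal (F : X.Modules) [F.IsQuasicoherent] [F.IsFiniteType] (r : ℕ) : X.IdealSheafData where
  ideal U := Fitt.ideal Γ(X, U.1) Γ(F, U.1) r
  map_ideal_basicOpen U f := map_fitt_basicOpen F r U f

lemma sheafIdeal_eq (F : X.Modules) [F.IsQuasicoherent] [F.IsFiniteType] (r : ℕ) :
    Fitt.sheafIdeal F r = fittIdeal F r :=
  Scheme.IdealSheafData.ofIdeals_ideal (fittIdeal F r)

lemma sheafIdeal_ideal (F : X.Modules) [F.IsQuasicoherent] [F.IsFiniteType] (r : ℕ) (U : X.affineOpens) :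
    (Fitt.sheafIdeal F r).ideal U = Fitt.ideal Γ(X, U.1) Γ(F, U.1) r := by
  rw [sheafIdeal_eq F r]
  rfl

lemma mem_support_iff_le {I : X.IdealSheafData} {x : X} (U : X.affineOpens) (hx : x ∈ U.1) :
    x ∈ I.support ↔ I.ideal U ≤ (U.2.primeIdealOf ⟨x, hx⟩).asIdeal := by
  rw [Scheme.IdealSheafData.mem_support_iff_of_mem hx, Scheme.mem_zeroLocus_iff]
  constructor
  · intro h f hf
    by_contra hcon
    exact h f hf ((mem_basicOpen_iff_notMem_primeIdealOf U.2 x hx f).mpr hcon)
  · intro h f hf hxf
    exact (mem_basicOpen_iff_notMem_primeIdealOf U.2 x hx f).mp hxf (h hf)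

lemma mem_support_sheafIdeal_iff (F : X.Modules) [F.IsQuasicoherent] [F.IsFiniteType] (r : ℕ)
    {x : X} (U : X.affineOpens) (hx : x ∈ U.1) :
    x ∈ (Fitt.sheafIdeal F r).support ↔
      Fitt.ideal Γ(X, U.1) Γ(F, U.1) r ≤ (U.2.primeIdealOf ⟨x, hx⟩).asIdeal := by
  rw [mem_support_iff_le U hx, sheafIdeal_ideal]

/-- If `Fit_r` of the sections over an affine `V` is not contained in the prime of `x`, then on a
basic open neighbourhood of `x` the module is generated by `r` sections. -/
lemma exists_basicOpen_span (F : X.Modules) [F.IsQuasicoherent] [F.IsFiniteType] (r : ℕ)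
    {x : X} (V : X.affineOpens) (hx : x ∈ V.1)
    (h : ¬ Fitt.ideal Γ(X, V.1) Γ(F, V.1) r ≤ (V.2.primeIdealOf ⟨x, hx⟩).asIdeal) :
    ∃ d : Γ(X, V.1), x ∈ X.basicOpen d ∧ ∃ g : Fin r → Γ(F, X.basicOpen d),
      Submodule.span Γ(X, X.basicOpen d) (Set.range g) = ⊤ := by
  classical
  haveI := finite_sections F V.2
  obtain ⟨n, y, hy⟩ := Module.Finite.exists_fin (R := Γ(X, V.1)) (M := Γ(F, V.1))
  obtain ⟨z, e, hz, he, hd⟩ := exists_minor_notMem y hy r _ h
  refine ⟨minor z e, (mem_basicOpen_iff_notMem_primeIdealOf V.2 x hx _).mpr hd, ?_⟩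
  set d := minor z e with hd_def
  have hle : X.basicOpen d ≤ V.1 := X.basicOpen_le d
  let T : Finset Γ(F, X.basicOpen d) :=
    (((Finset.univ.image e)ᶜ : Finset (Fin n)).image y).image (res F hle)
  refine exists_fin_of_card_le T r ?_ ?_
  · refine Finset.card_image_le.trans ((card_image_compl_le y e he).trans ?_)
    omega
  · rw [eq_top_iff]
    rintro t -
    obtain ⟨k, m, hm⟩ := exists_pow_smul_eq_res F V.2 d t
    have hu : IsUnit (X.presheaf.map (homOfLE hle).op d) :=
      RingedSpace.isUnit_res_basicOpen _ d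
    have h1 : d • m ∈ Submodule.span Γ(X, V.1)
        (y '' ((Finset.univ.image e)ᶜ : Finset (Fin n))) :=
      minor_smul_mem_span y hy z hz e he m
    have key : ∀ w ∈ Submodule.span Γ(X, V.1)
        (y '' ((Finset.univ.image e)ᶜ : Finset (Fin n))),
        res F hle w ∈ Submodule.span Γ(X, X.basicOpen d) (T : Set _) := by
      intro w hw
      induction hw using Submodule.span_induction with
      | mem w hw =>
        obtain ⟨j, hj, rfl⟩ := hw
        refine Submodule.subset_span ?_
        simp only [T, Finset.coe_image]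
        exact ⟨y j, ⟨j, hj, rfl⟩, rfl⟩
      | zero => rw [map_zero]; exact Submodule.zero_mem _
      | add a b _ _ ha hb => rw [map_add]; exact Submodule.add_mem _ ha hb
      | smul c a _ ha => rw [res_smul]; exact Submodule.smul_mem _ _ ha
    have h2 := key _ h1
    rw [res_smul, ← hm, smul_smul, ← pow_succ'] at h2
    obtain ⟨u, hu'⟩ := hu.pow (k + 1)
    have h3 := Submodule.smul_mem _ ((↑u⁻¹ : Γ(X, X.basicOpen d))) h2
    rw [← hu', smul_smul, Units.inv_mul, one_smul] at h3
    exact h3

end Groth.Agent.Helper19.FittSheaf
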