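import Mathlib
import Groth.Agent.Helper19.FittSheaf
import Groth.Agent.Lib.Helper29.QCohLocFree
set_option autoImplicit false
set_option linter.style.haveILetI false
set_option linter.unusedSectionVars false
universe u v w

open CategoryTheory CategoryTheory.Limits AlgebraicGeometry Opposite TopologicalSpace

namespace Groth.Agent.Helper19.FittSheaf

open Groth.Agent.Helper19.FittLib
open Groth.Agent.Lib.Helper29.QCoh

variable {X : Scheme.{u}}

/-- Fitting ideals of stalks. -/
lemma stalk_fitt (F : X.Modules) [F.IsQuasicoherent] [F.IsFiniteType] (r : ℕ)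
    {V : X.Opens} (hV : IsAffineOpen V) (x : X) (hx : x ∈ V) :
    Fitt.ideal (X.presheaf.stalk x) (F.presheaf.stalk x) r =
      (Fitt.ideal Γ(X, V) Γ(F, V) r).map (X.presheaf.germ V x hx).hom := by
  haveI := finite_sections F hV
  let _ := stalkModule F V x hx
  let _ : Algebra Γ(X, V) (X.presheaf.stalk x) :=
    TopCat.Presheaf.algebra_section_stalk X.presheaf ⟨x, hx⟩
  have hloc := hV.isLocalization_stalk ⟨x, hx⟩
  have : IsScalarTower Γ(X, V) (X.presheaf.stalk x) (F.presheaf.stalk x) :=
    IsScalarTower.of_algebraMap_smul fun a m => rfl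
  have := isLocalizedModule_germ F hV x hx
  exact ideal_of_isLocalizedModule (hV.primeIdealOf ⟨x, hx⟩).asIdeal.primeCompl
    (germₗ F V x hx) r

lemma mem_support_iff_stalk (F : X.Modules) [F.IsQuasicoherent] [F.IsFiniteType] (r : ℕ)
    (x : X) :
    x ∈ (Fitt.sheafIdeal F r).support ↔
      Fitt.ideal (X.presheaf.stalk x) (F.presheaf.stalk x) r ≠ ⊤ := by
  obtain ⟨V, hV, hxV, -⟩ := exists_isAffineOpen_mem_and_subset (x := x) (U := ⊤) trivial
  rw [mem_support_sheafIdeal_iff F r ⟨V, hV⟩ hxV, stalk_fitt F r hV x hxV]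
  let _ : Algebra Γ(X, V) (X.presheaf.stalk x) :=
    TopCat.Presheaf.algebra_section_stalk X.presheaf ⟨x, hxV⟩
  have hloc := hV.isLocalization_stalk ⟨x, hxV⟩
  have h1 := IsLocalization.map_algebraMap_ne_top_iff_disjoint
    (hV.primeIdealOf ⟨x, hxV⟩).asIdeal.primeCompl (X.presheaf.stalk x)
    (Fitt.ideal Γ(X, V) Γ(F, V) r)
  change _ ↔ Ideal.map (algebraMap Γ(X, V) (X.presheaf.stalk x)) _ ≠ ⊤
  rw [h1, Set.disjoint_left]
  constructor
  · intro h a ha ha'
    exact ha (h ha')
  · intro h a ha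
    by_contra hcon
    exact h hcon ha

end Groth.Agent.Helper19.FittSheaf
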