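import Mathlib
import Groth.Agent.Lib.Helper14.LfpOfComp
set_option autoImplicit false
set_option linter.style.haveILetI false
set_option linter.unusedSectionVars false
universe u v
open CategoryTheory CategoryTheory.Limits AlgebraicGeometry TopologicalSpace Opposite

/-! # The fixed-point scheme of a finite group acting on a separated scheme, I: it is a closed
subscheme, locally of finite presentation (helper19) -/

namespace Groth.Agent.Helper19.FixedPt

section Equalizer

variable {S : Scheme.{u}} {X Y : Over S}

/-- The diagonal of a morphism locally of finite type is locally of finite presentation. -/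
theorem lfp_diagonal {X S : Scheme.{u}} (f : X ⟶ S) [LocallyOfFiniteType f] :
    LocallyOfFinitePresentation (pullback.diagonal f) := by
  refine Groth.Agent.Lib.Helper14.AS.locallyOfFinitePresentation_of_comp (pullback.diagonal f)
    (pullback.fst f f) ?_ inferInstance
  rw [pullback.diagonal_fst]
  infer_instance

set_option backward.isDefEq.respectTransparency false in
/-- The equalizer of two `S`-morphisms to an `S`-scheme locally of finite type is locally of finite
presentation over the source. -/
theorem lfp_equalizer_ι_left [LocallyOfFiniteType Y.hom] (f g : X ⟶ Y) :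
    LocallyOfFinitePresentation (equalizer.ι f g).left := by
  refine MorphismProperty.of_isPullback
    ((Limits.isPullback_equalizer_prod f g).map (Over.forget _)).flip ?_
  rw [← MorphismProperty.cancel_right_of_respectsIso @LocallyOfFinitePresentation _
    (Over.prodLeftIsoPullback Y Y).hom]
  haveI := lfp_diagonal Y.hom
  convert! (inferInstance : LocallyOfFinitePresentation (pullback.diagonal Y.hom))
  ext1 <;> simp [← Over.comp_left]

end Equalizer

section Fixed

variable {S : Scheme.{u}} (X : Over S) [IsSeparated X.hom] [LocallyOfFiniteType X.hom]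
  {G : Type v} (σ : G → (X ⟶ X))

/-- A morphism to `X` is equalized by `𝟙` and `σ g` iff it factors through the equalizer. -/
theorem factors_equalizer_iff (g : G) {T : Scheme.{u}} (t : T ⟶ X.left) :
    (∃ t' : T ⟶ (equalizer (𝟙 X) (σ g)).left, t' ≫ (equalizer.ι (𝟙 X) (σ g)).left = t) ↔
      t ≫ (σ g).left = t := by
  constructor
  · rintro ⟨t', rfl⟩
    have h := congrArg (fun φ => φ.left) (equalizer.condition (𝟙 X) (σ g))
    simp only [Over.comp_left, Over.id_left, Category.comp_id] at h
    rw [Category.assoc, ← h]
  · intro h
    let T' : Over S := Over.mk (t ≫ X.hom)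
    let t'' : T' ⟶ X := Over.homMk t rfl
    have h2 : t'' ≫ 𝟙 X = t'' ≫ σ g := by
      ext
      simp only [Category.comp_id, Over.comp_left]
      exact h.symm
    refine ⟨(equalizer.lift t'' h2).left, ?_⟩
    rw [← Over.comp_left, equalizer.lift_ι]
    rfl

/-- For every finite set `s` of indices there is a closed subscheme of `X`, locally of finite
presentation over `X`, through which exactly the morphisms fixed by all `σ g`, `g ∈ s`, factor. -/
theorem exists_fixed_subscheme (s : Finset G) :
    ∃ (W : Scheme.{u}) (j : W ⟶ X.left), IsClosedImmersion j ∧ LocallyOfFinitePresentation j ∧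
      ∀ (T : Scheme.{u}) (t : T ⟶ X.left),
        (∃ t' : T ⟶ W, t' ≫ j = t) ↔ ∀ g ∈ s, t ≫ (σ g).left = t := by
  classical
  induction s using Finset.induction_on with
  | empty =>
    refine ⟨X.left, 𝟙 _, inferInstance, inferInstance, fun T t => ?_⟩
    simp only [Finset.notMem_empty, false_imp_iff, implies_true, iff_true]
    exact ⟨t, Category.comp_id t⟩
  | insert g s _ ih =>
    obtain ⟨W, j, hj1, hj2, hj3⟩ := ih
    let e := (equalizer.ι (𝟙 X) (σ g)).left
    haveI : LocallyOfFinitePresentation e := lfp_equalizer_ι_left _ _
    haveI : IsClosedImmersion e := inferInstance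
    refine ⟨pullback j e, pullback.fst j e ≫ j, inferInstance, inferInstance, fun T t => ?_⟩
    constructor
    · rintro ⟨t', rfl⟩
      intro g' hg'
      rcases Finset.mem_insert.mp hg' with rfl | hg'
      · rw [pullback.condition, ← Category.assoc]
        exact (factors_equalizer_iff X σ g' _).mp ⟨_, rfl⟩
      · rw [← Category.assoc]
        exact (hj3 T _).mp ⟨_, rfl⟩ g' hg'
    · intro h
      obtain ⟨t₁, ht₁⟩ := (hj3 T t).mpr fun g' hg' => h g' (Finset.mem_insert_of_mem hg')
      obtain ⟨t₂, ht₂⟩ := (factors_equalizer_iff X σ g t).mpr (h g (Finset.mem_insert_self g s))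
      refine ⟨pullback.lift t₁ t₂ (ht₁.trans ht₂.symm), ?_⟩
      rw [← Category.assoc, pullback.lift_fst, ht₁]

end Fixed

end Groth.Agent.Helper19.FixedPt
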