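import Mathlib
set_option autoImplicit false
set_option linter.style.haveILetI false
set_option linter.unusedSectionVars false
universe u v
open CategoryTheory CategoryTheory.Limits AlgebraicGeometry TopologicalSpace Opposite

/-! # The fixed-point scheme of a finite group, II: the action of an endomorphism fixing a point
on the local ring at that point (helper19) -/

namespace Groth.Agent.Helper19.FixedPt

variable {X : Scheme.{u}}

/-- The endomorphism of the local ring `O_{X,x}` induced by an endomorphism `φ` of `X` with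
`φ x = x`. -/
noncomputable def actOf (φ : X ⟶ X) (x : X) (hφ : φ x = x) :
    X.presheaf.stalk x ⟶ X.presheaf.stalk x :=
  X.presheaf.stalkSpecializes (specializes_of_eq hφ) ≫ φ.stalkMap x

theorem germ_actOf (φ : X ⟶ X) (x : X) (hφ : φ x = x) (U : X.Opens) (hxU : x ∈ U) :
    X.presheaf.germ U x hxU ≫ actOf φ x hφ =
      φ.app U ≫ X.presheaf.germ (φ ⁻¹ᵁ U) x (show φ x ∈ U by rw [hφ]; exact hxU) := by
  unfold actOf
  rw [← Category.assoc, TopCat.Presheaf.germ_stalkSpecializes, Scheme.Hom.germ_stalkMap]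

theorem actOf_congr {φ ψ : X ⟶ X} (e : φ = ψ) (x : X) (hφ : φ x = x) (hψ : ψ x = x) :
    actOf φ x hφ = actOf ψ x hψ := by
  subst e
  rfl

theorem actOf_id (x : X) : actOf (𝟙 X) x rfl = 𝟙 _ := by
  refine TopCat.Presheaf.stalk_hom_ext _ fun U hxU => ?_
  rw [germ_actOf, Category.comp_id]
  erw [Category.id_comp]
  rfl

theorem actOf_comp (φ ψ : X ⟶ X) (x : X) (hφ : φ x = x) (hψ : ψ x = x) :
    actOf (φ ≫ ψ) x (by rw [Scheme.Hom.comp_apply, hφ, hψ]) = actOf ψ x hψ ≫ actOf φ x hφ := by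
  refine TopCat.Presheaf.stalk_hom_ext _ fun U hxU => ?_
  rw [germ_actOf, ← Category.assoc, germ_actOf, Category.assoc, germ_actOf, Scheme.Hom.comp_app]
  exact Category.assoc _ _ _

/-- Auxiliary congruence. -/
theorem app_germ_congr {Y Z : Scheme.{u}} {ψ f : Y ⟶ Z} (e : ψ = f) (V : Z.Opens) (y : Y)
    (h1 : y ∈ ψ ⁻¹ᵁ V) (h2 : y ∈ f ⁻¹ᵁ V) :
    ψ.app V ≫ Y.presheaf.germ (ψ ⁻¹ᵁ V) y h1 = f.app V ≫ Y.presheaf.germ (f ⁻¹ᵁ V) y h2 := by
  subst e
  rfl

/-- If `φ ≫ f = f` then the induced endomorphism of `O_{X,x}` is `O_{S,f x}`-linear. -/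
theorem stalkMap_actOf {S : Scheme.{u}} (f : X ⟶ S) (φ : X ⟶ X) (hf : φ ≫ f = f) (x : X)
    (hφ : φ x = x) : f.stalkMap x ≫ actOf φ x hφ = f.stalkMap x := by
  refine TopCat.Presheaf.stalk_hom_ext _ fun V hV => ?_
  rw [← Category.assoc, Scheme.Hom.germ_stalkMap, Category.assoc, germ_actOf, ← Category.assoc,
    ← Scheme.Hom.comp_app]
  exact app_germ_congr hf V x _ _

/-- If `j ≫ φ = j` then the map on local rings induced by `j` is invariant. -/
theorem actOf_stalkMap {Z : Scheme.{u}} (j : Z ⟶ X) (φ : X ⟶ X) (hj : j ≫ φ = j) (z : Z)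
    (hφ : φ (j z) = j z) : actOf φ (j z) hφ ≫ j.stalkMap z = j.stalkMap z := by
  refine TopCat.Presheaf.stalk_hom_ext _ fun U hU => ?_
  rw [← Category.assoc, germ_actOf, Category.assoc, Scheme.Hom.germ_stalkMap, ← Category.assoc,
    ← Scheme.Hom.comp_app, Scheme.Hom.germ_stalkMap]
  exact app_germ_congr hj U z _ _

/-- Compatibility with the canonical morphism `Spec O_{X,x} ⟶ X`. -/
theorem fromSpecStalk_comp (φ : X ⟶ X) (x : X) (hφ : φ x = x) :
    X.fromSpecStalk x ≫ φ = Spec.map (actOf φ x hφ) ≫ X.fromSpecStalk x := by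
  unfold actOf
  rw [Spec.map_comp, Category.assoc, Scheme.SpecMap_stalkSpecializes_fromSpecStalk,
    Scheme.SpecMap_stalkMap_fromSpecStalk]

end Groth.Agent.Helper19.FixedPt
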