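import Mathlib
import Groth.Agent.Helper19.FixedPt2
import Groth.Agent.S16211
set_option autoImplicit false
set_option linter.style.haveILetI false
set_option linter.unusedSectionVars false
universe u v
open CategoryTheory CategoryTheory.Limits AlgebraicGeometry TopologicalSpace Opposite

/-! # The fixed-point scheme of a finite group, III: formal smoothness of its local rings
(helper19) -/

namespace Groth.Agent.Helper19.FixedPt

section Action

variable {X : Scheme.{u}} {G : Type v} [Group G]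

/-- The action of `G` on the local ring at a fixed point (through `g ↦ σ g⁻¹`, since `σ` is
contravariant on functions). -/
@[reducible] noncomputable def stalkAction (σ : G → (X ⟶ X)) (hσ1 : σ 1 = 𝟙 X)
    (hσmul : ∀ g h, σ (g * h) = σ h ≫ σ g) (x : X) (hx : ∀ g, σ g x = x) :
    MulSemiringAction G (X.presheaf.stalk x) where
  smul g a := (actOf (σ g⁻¹) x (hx g⁻¹)).hom a
  one_smul a := by
    change (actOf (σ 1⁻¹) x (hx 1⁻¹)).hom a = a
    rw [actOf_congr (show σ 1⁻¹ = 𝟙 X by rw [inv_one, hσ1]) x (hx 1⁻¹) rfl, actOf_id]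
    rfl
  mul_smul g h a := by
    change (actOf (σ (g * h)⁻¹) x (hx _)).hom a =
      (actOf (σ g⁻¹) x (hx _)).hom ((actOf (σ h⁻¹) x (hx _)).hom a)
    rw [actOf_congr (show σ (g * h)⁻¹ = σ g⁻¹ ≫ σ h⁻¹ by rw [mul_inv_rev, hσmul]) x (hx _)
      (by rw [Scheme.Hom.comp_apply, hx, hx]), actOf_comp _ _ x (hx g⁻¹) (hx h⁻¹)]
    rfl
  smul_zero g := map_zero _
  smul_add g a b := map_add _ a b
  smul_one g := map_one _
  smul_mul g a b := map_mul _ a b

end Action

section Kernel

variable {X Z : Scheme.{u}} (j : Z ⟶ X) [IsClosedImmersion j] {G : Type v} (σ : G → (X ⟶ X))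

/-- The ideal of the fixed-point scheme in the local ring of `X` at a fixed point is contained in
every ideal `I` such that all `σ g` act trivially modulo `I`. -/
theorem ker_stalkMap_le
    (huniv : ∀ (T : Scheme.{u}) (t : T ⟶ X), (∀ g, t ≫ σ g = t) → ∃ t' : T ⟶ Z, t' ≫ j = t)
    (z : Z) (hx : ∀ g, σ g (j z) = j z)
    (I : Ideal (X.presheaf.stalk (j z)))
    (hI : ∀ g a, (actOf (σ g) (j z) (hx g)).hom a - a ∈ I)
    (hIK : I ≤ RingHom.ker (j.stalkMap z).hom) :
    RingHom.ker (j.stalkMap z).hom ≤ I := by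
  have hItop : I ≠ ⊤ := fun h => RingHom.ker_ne_top (j.stalkMap z).hom (top_le_iff.mp (h ▸ hIK))
  haveI : Nontrivial (X.presheaf.stalk (j z) ⧸ I) := Ideal.Quotient.nontrivial_iff.mpr hItop
  haveI : IsLocalRing (X.presheaf.stalk (j z) ⧸ I) :=
    IsLocalRing.of_surjective' (Ideal.Quotient.mk I) Ideal.Quotient.mk_surjective
  let Q : CommRingCat.{u} := CommRingCat.of (X.presheaf.stalk (j z) ⧸ I)
  haveI : IsLocalRing Q := inferInstanceAs (IsLocalRing (X.presheaf.stalk (j z) ⧸ I))
  let π : X.presheaf.stalk (j z) ⟶ Q := CommRingCat.ofHom (Ideal.Quotient.mk I)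
  haveI : IsLocalHom π.hom :=
    IsLocalHom.of_surjective (Ideal.Quotient.mk I) Ideal.Quotient.mk_surjective
  let t : Spec Q ⟶ X := Spec.map π ≫ X.fromSpecStalk (j z)
  have ht : ∀ g, t ≫ σ g = t := by
    intro g
    change (Spec.map π ≫ X.fromSpecStalk (j z)) ≫ σ g = Spec.map π ≫ X.fromSpecStalk (j z)
    rw [Category.assoc, fromSpecStalk_comp (σ g) (j z) (hx g), ← Category.assoc, ← Spec.map_comp]
    congr 2
    ext a
    exact Ideal.Quotient.eq.mpr (hI g a)
  obtain ⟨t', ht'⟩ := huniv _ t ht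
  have hz' : t' (IsLocalRing.closedPoint Q) = z := by
    apply j.isClosedEmbedding.injective
    have h1 : (t' ≫ j) (IsLocalRing.closedPoint Q) = t (IsLocalRing.closedPoint Q) := by rw [ht']
    rw [Scheme.Hom.comp_apply] at h1
    rw [h1]
    change (Spec.map π ≫ X.fromSpecStalk (j z)) (IsLocalRing.closedPoint Q) = j z
    rw [Scheme.Hom.comp_apply, Spec_closedPoint, Scheme.fromSpecStalk_closedPoint]
  let τ : Z.presheaf.stalk z ⟶ Q :=
    Z.presheaf.stalkSpecializes (specializes_of_eq hz') ≫ Scheme.stalkClosedPointTo t'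
  have hτ : Spec.map τ ≫ Z.fromSpecStalk z = t' := by
    change Spec.map (Z.presheaf.stalkSpecializes (specializes_of_eq hz') ≫
      Scheme.stalkClosedPointTo t') ≫ Z.fromSpecStalk z = t'
    rw [Spec.map_comp, Category.assoc, Scheme.SpecMap_stalkSpecializes_fromSpecStalk,
      Scheme.Spec_stalkClosedPointTo_fromSpecStalk]
  have hπ : π = j.stalkMap z ≫ τ := by
    apply Spec.map_injective
    rw [← cancel_mono (X.fromSpecStalk (j z)), Spec.map_comp, Category.assoc,
      Scheme.SpecMap_stalkMap_fromSpecStalk, ← Category.assoc, hτ, ht']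
  intro a ha
  have h2 : π.hom a = 0 := by
    rw [hπ]
    change τ.hom ((j.stalkMap z).hom a) = 0
    rw [RingHom.mem_ker.mp ha, map_zero]
  exact Ideal.Quotient.eq_zero_iff_mem.mp h2

end Kernel

section Main

variable {X S Z : Scheme.{u}} (f : X ⟶ S) [Smooth f] {G : Type v} [Group G] [Finite G]
  (σ : G → (X ⟶ X)) (j : Z ⟶ X) [IsClosedImmersion j]

/-- The local rings of the fixed-point scheme of a finite group of order invertible on the base,
acting on a smooth scheme, are formally smooth over the local rings of the base. -/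
theorem formallySmooth_stalkMap (hσf : ∀ g, σ g ≫ f = f) (hσ1 : σ 1 = 𝟙 X)
    (hσmul : ∀ g h, σ (g * h) = σ h ≫ σ g) (hj : ∀ g, j ≫ σ g = j)
    (huniv : ∀ (T : Scheme.{u}) (t : T ⟶ X), (∀ g, t ≫ σ g = t) → ∃ t' : T ⟶ Z, t' ≫ j = t)
    (hG : IsUnit (Nat.card G : Γ(S, ⊤))) (z : Z) :
    ((j ≫ f).stalkMap z).hom.FormallySmooth := by
  have hx : ∀ g, σ g (j z) = j z := fun g => by
    rw [← Scheme.Hom.comp_apply, hj g]
  letI algA : Algebra (S.presheaf.stalk (f (j z))) (X.presheaf.stalk (j z)) :=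
    (f.stalkMap (j z)).hom.toAlgebra
  haveI fsA : Algebra.FormallySmooth (S.presheaf.stalk (f (j z))) (X.presheaf.stalk (j z)) := by
    have h1 : j z ∈ f.smoothLocus := by rw [f.smoothLocus_eq_top]; trivial
    exact Scheme.Hom.mem_smoothLocus.mp h1
  letI actA : MulSemiringAction G (X.presheaf.stalk (j z)) :=
    stalkAction σ hσ1 hσmul (j z) hx
  have hsmul : ∀ (g : G) (a : X.presheaf.stalk (j z)),
      g • a = (actOf (σ g⁻¹) (j z) (hx g⁻¹)).hom a := fun g a => rfl
  haveI scc : SMulCommClass G (S.presheaf.stalk (f (j z))) (X.presheaf.stalk (j z)) :=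
    ⟨fun g r a => by
      rw [Algebra.smul_def, Algebra.smul_def, hsmul, hsmul, map_mul]
      congr 1
      exact congrArg (fun φ => φ.hom r) (stalkMap_actOf f (σ g⁻¹) (hσf g⁻¹) (j z) (hx g⁻¹))⟩
  have hGR : IsUnit (Nat.card G : S.presheaf.stalk (f (j z))) := by
    have := hG.map (S.presheaf.germ ⊤ (f (j z)) trivial).hom
    rwa [map_natCast] at this
  have FS := Groth.Agent.S16211.result (S.presheaf.stalk (f (j z))) (X.presheaf.stalk (j z)) G hGR
  set IG : Ideal (X.presheaf.stalk (j z)) :=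
    Ideal.span {a | ∃ (g : G) (b : X.presheaf.stalk (j z)), a = g • b - b} with hIG
  -- the kernel of the surjection onto the local ring of `Z`
  have hIK : IG ≤ RingHom.ker (j.stalkMap z).hom := by
    rw [hIG, Ideal.span_le]
    rintro _ ⟨g, b, rfl⟩
    rw [SetLike.mem_coe, RingHom.mem_ker, map_sub, sub_eq_zero, hsmul]
    exact congrArg (fun φ => φ.hom b) (actOf_stalkMap j (σ g⁻¹) (hj g⁻¹) z (hx g⁻¹))
  have hKI : RingHom.ker (j.stalkMap z).hom ≤ IG := by
    refine ker_stalkMap_le j σ huniv z hx IG (fun g a => ?_) hIK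
    have : (actOf (σ g) (j z) (hx g)).hom a = g⁻¹ • a := by
      rw [hsmul]
      exact congrArg (fun φ => φ.hom a)
        (actOf_congr (by rw [inv_inv]) (j z) (hx g) (hx g⁻¹⁻¹))
    rw [this]
    exact Ideal.subset_span ⟨g⁻¹, a, rfl⟩
  have hker : RingHom.ker (j.stalkMap z).hom = IG := le_antisymm hKI hIK
  -- assemble
  rw [Scheme.Hom.stalkMap_comp]
  change ((j.stalkMap z).hom.comp (f.stalkMap (j z)).hom).FormallySmooth
  letI algB : Algebra (S.presheaf.stalk (f (j z))) (Z.presheaf.stalk z) :=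
    ((j.stalkMap z).hom.comp (f.stalkMap (j z)).hom).toAlgebra
  let pₐ : X.presheaf.stalk (j z) →ₐ[S.presheaf.stalk (f (j z))] Z.presheaf.stalk z :=
    { (j.stalkMap z).hom with commutes' := fun r => rfl }
  have hpsurj : Function.Surjective pₐ := j.stalkMap_surjective z
  have hkerₐ : RingHom.ker pₐ = IG := hker
  let e : (X.presheaf.stalk (j z) ⧸ IG) ≃ₐ[S.presheaf.stalk (f (j z))] Z.presheaf.stalk z :=
    (Ideal.quotientEquivAlgOfEq _ hkerₐ.symm).trans (Ideal.quotientKerAlgEquivOfSurjective hpsurj)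
  exact Algebra.FormallySmooth.of_equiv e

end Main

end Groth.Agent.Helper19.FixedPt
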