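import Mathlib
import Groth.Agent.Helper19.FixedPt1
import Groth.Agent.Helper19.FixedPt3
set_option autoImplicit false
set_option linter.style.haveILetI false
set_option linter.unusedSectionVars false
universe u v
open CategoryTheory CategoryTheory.Limits AlgebraicGeometry TopologicalSpace Opposite

/-! # The fixed-point scheme of a finite group, IV: it is a smooth closed subscheme (helper19) -/

namespace Groth.Agent.Helper19.FixedPt

theorem fixedPoint_smooth (S : Scheme.{u})
    (X : Over S) [Smooth X.hom] [QuasiCompact X.hom] [IsSeparated X.hom]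
    (G : Type v) [Group G] [Finite G] (ρ : G →* Aut X)
    (hG : IsUnit (Nat.card G : Γ(S, ⊤)))
    (Z : Over S) (ι : Z ⟶ X) (hι : ∀ g : G, ι ≫ (ρ g).hom = ι)
    (hZ : ∀ (T : Over S) (t : T ⟶ X), (∀ g : G, t ≫ (ρ g).hom = t) ↔ ∃! t' : T ⟶ Z, t' ≫ ι = t) :
    IsClosedImmersion ι.left ∧ Smooth Z.hom ∧ QuasiCompact Z.hom ∧ QuasiSeparated Z.hom := by
  classical
  haveI : Fintype G := Fintype.ofFinite G
  let σ : G → (X ⟶ X) := fun g => (ρ g).hom
  let σL : G → (X.left ⟶ X.left) := fun g => (ρ g).hom.left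
  have hσ1 : σL 1 = 𝟙 X.left := by
    change (ρ 1).hom.left = 𝟙 X.left
    rw [map_one]
    rfl
  have hσmul : ∀ g h, σL (g * h) = σL h ≫ σL g := by
    intro g h
    change (ρ (g * h)).hom.left = (ρ h).hom.left ≫ (ρ g).hom.left
    rw [map_mul, Aut.Aut_mul_def]
    rfl
  have hσf : ∀ g, σL g ≫ X.hom = X.hom := fun g => Over.w (ρ g).hom
  have hιL : ∀ g, ι.left ≫ σL g = ι.left := fun g => by
    have := congrArg (fun φ => φ.left) (hι g)
    simpa using this
  -- universal property in `Scheme`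
  have huniv : ∀ (T : Scheme.{u}) (t : T ⟶ X.left), (∀ g, t ≫ σL g = t) →
      ∃ t' : T ⟶ Z.left, t' ≫ ι.left = t := by
    intro T t ht
    let T' : Over S := Over.mk (t ≫ X.hom)
    let t'' : T' ⟶ X := Over.homMk t rfl
    have h2 : ∀ g : G, t'' ≫ (ρ g).hom = t'' := by
      intro g
      ext
      simp only [Over.comp_left]
      exact ht g
    obtain ⟨t', ht', -⟩ := (hZ T' t'').mp h2
    refine ⟨t'.left, ?_⟩
    have := congrArg (fun φ => φ.left) ht'
    exact this
  -- the closed subscheme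
  haveI : LocallyOfFiniteType X.hom := inferInstance
  obtain ⟨W, jW, hW1, hW2, hW3⟩ := exists_fixed_subscheme X σ (Finset.univ : Finset G)
  have hW3' : ∀ (T : Scheme.{u}) (t : T ⟶ X.left),
      (∃ t' : T ⟶ W, t' ≫ jW = t) ↔ ∀ g, t ≫ σL g = t := by
    intro T t
    rw [hW3 T t]
    exact ⟨fun h g => h g (Finset.mem_univ g), fun h g _ => h g⟩
  obtain ⟨b, hb⟩ := (hW3' _ ι.left).mpr hιL
  have hjW : ∀ g, jW ≫ σL g = jW := (hW3' _ jW).mp ⟨𝟙 _, Category.id_comp _⟩
  obtain ⟨a, ha⟩ := huniv W jW hjW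
  have hab : a ≫ b = 𝟙 W := by
    rw [← cancel_mono jW, Category.assoc, hb, ha, Category.id_comp]
  have hba : b ≫ a = 𝟙 Z.left := by
    have hw : (b ≫ a) ≫ Z.hom = Z.hom := by
      rw [← Over.w ι, ← Category.assoc, Category.assoc b, ha, hb]
    let c : Z ⟶ Z := Over.homMk (b ≫ a) hw
    have hc : c ≫ ι = ι := by
      ext
      simp only [Over.comp_left]
      change (b ≫ a) ≫ ι.left = ι.left
      rw [Category.assoc, ha, hb]
    obtain ⟨t', -, huniq⟩ := (hZ Z ι).mp hι
    have h1 : c = t' := huniq c hc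
    have h2 : 𝟙 Z = t' := huniq (𝟙 Z) (Category.id_comp _)
    have h3 : c = 𝟙 Z := h1.trans h2.symm
    have := congrArg (fun φ => φ.left) h3
    exact this
  haveI : IsIso b := ⟨a, hba, hab⟩
  have hιb : ι.left = b ≫ jW := hb.symm
  haveI hcl : IsClosedImmersion ι.left := by rw [hιb]; infer_instance
  haveI hlfp : LocallyOfFinitePresentation ι.left := by rw [hιb]; infer_instance
  refine ⟨hcl, ?_, ?_, ?_⟩
  · rw [← Over.w ι]
    rw [← Scheme.Hom.smoothLocus_eq_top_iff, ← top_le_iff]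
    rintro z -
    rw [Scheme.Hom.mem_smoothLocus]
    exact formallySmooth_stalkMap X.hom σL ι.left hσf hσ1 hσmul hιL huniv hG z
  · rw [← Over.w ι]
    infer_instance
  · rw [← Over.w ι]
    infer_instance

end Groth.Agent.Helper19.FixedPt
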