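import Mathlib
import Groth.Agent.Lib.Helper9.FlatCrit
import Groth.Agent.Lib.Helper18.FlA

/-!
# Flatness modulo the kernel of `I → Γ(U, I/I²)` (helper19)

`flat_of_semilinear_bijective`: transport of flatness along a surjective ring hom and a bijective
semilinear map.  `flat_quot_I2`: Raynaud–Gruson type lemma: if `M/IM` is flat over `A/I` and `M` is
flat at all points of a quasi-compact set `U`, then `M/I₂M` is flat over `A/I₂` where
`I₂ = ker (I → Γ(U, I/I²))`.
-/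

set_option autoImplicit false
universe u

namespace Groth.Agent.Helper19.FlatI2

open TensorProduct

/-- transport of flatness along a surjective ring hom and a bijective semilinear map -/
theorem flat_of_semilinear_bijective {B B' N N' : Type*} [CommRing B] [CommRing B']
    [AddCommGroup N] [AddCommGroup N'] [Module B N] [Module B' N']
    (φ : B →+* B') (hφ : Function.Surjective φ) (f : N →+ N') (hf : Function.Bijective f)
    (hsl : ∀ b n, f (b • n) = φ b • f n) [hN : Module.Flat B N] : Module.Flat B' N' := by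
  rw [Module.Flat.iff_forall_isTrivialRelation] at hN ⊢
  intro l g x hgx
  choose g₀ hg₀ using fun i => hφ (g i)
  choose x₀ hx₀ using fun i => hf.2 (x i)
  have h0 : ∑ i, g₀ i • x₀ i = 0 := by
    apply hf.1
    rw [map_sum, map_zero]
    simp_rw [hsl, hg₀, hx₀]
    exact hgx
  obtain ⟨k, a, y, h1, h2⟩ := hN h0
  refine ⟨k, fun i j => φ (a i j), fun j => f (y j), fun i => ?_, fun j => ?_⟩
  · rw [← hx₀ i, h1 i, map_sum]
    simp_rw [hsl]
  · have := congrArg φ (h2 j)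
    rw [map_sum, map_zero] at this
    simp_rw [map_mul, hg₀] at this
    exact this

theorem flat_quotTensor_of_flat_quot {A : Type u} [CommRing A] (I I₂ : Ideal A) (h2I : I₂ ≤ I)
    (M : Type u) [AddCommGroup M] [Module A M]
    [Module.Flat (A ⧸ I) (M ⧸ (I • ⊤ : Submodule A M))] :
    Module.Flat ((A ⧸ I₂) ⧸ I.map (Ideal.Quotient.mk I₂))
      (((A ⧸ I₂) ⧸ I.map (Ideal.Quotient.mk I₂)) ⊗[A ⧸ I₂]
        (M ⧸ (I₂ • ⊤ : Submodule A M))) := by
  obtain ⟨J, hJ⟩ : ∃ J : Ideal (A ⧸ I₂), J = I.map (Ideal.Quotient.mk I₂) := ⟨_, rfl⟩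
  rw [← hJ]
  have hJmem : ∀ y ∈ J, ∃ a ∈ I, Ideal.Quotient.mk I₂ a = y := fun y hy => by
    rw [hJ] at hy
    exact (Ideal.mem_map_iff_of_surjective _ Ideal.Quotient.mk_surjective).mp hy
  have hmemJ : ∀ a ∈ I, Ideal.Quotient.mk I₂ a ∈ J := fun a ha => by
    rw [hJ]; exact Ideal.mem_map_of_mem _ ha
  -- the ring hom
  let φ : A ⧸ I →+* (A ⧸ I₂) ⧸ J :=
    Ideal.Quotient.lift I ((Ideal.Quotient.mk J).comp (Ideal.Quotient.mk I₂)) (fun a ha => by
      rw [RingHom.comp_apply, Ideal.Quotient.eq_zero_iff_mem]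
      exact hmemJ a ha)
  have hφ : Function.Surjective φ :=
    Ideal.Quotient.lift_surjective_of_surjective _ _
      (Ideal.Quotient.mk_surjective.comp Ideal.Quotient.mk_surjective)
  -- the additive map
  let g₀ : M →+ ((A ⧸ I₂) ⧸ J) ⊗[A ⧸ I₂] (M ⧸ (I₂ • ⊤ : Submodule A M)) :=
    { toFun := fun m => (1 : (A ⧸ I₂) ⧸ J) ⊗ₜ[A ⧸ I₂] (Submodule.Quotient.mk m)
      map_zero' := by simp
      map_add' := fun m m' => by rw [Submodule.Quotient.mk_add, TensorProduct.tmul_add] }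
  have hsm : ∀ (a : A) (m : M),
      (1 : (A ⧸ I₂) ⧸ J) ⊗ₜ[A ⧸ I₂] (Submodule.Quotient.mk (a • m) : M ⧸ (I₂ • ⊤ : Submodule A M)) =
        (Ideal.Quotient.mk J (Ideal.Quotient.mk I₂ a)) ⊗ₜ[A ⧸ I₂] (Submodule.Quotient.mk m) := by
    intro a m
    have h1 : (Submodule.Quotient.mk (a • m) : M ⧸ (I₂ • ⊤ : Submodule A M)) =
        (Ideal.Quotient.mk I₂ a) • (Submodule.Quotient.mk m : M ⧸ (I₂ • ⊤ : Submodule A M)) := rfl
    have h2 : (Ideal.Quotient.mk I₂ a) • (1 : (A ⧸ I₂) ⧸ J) =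
        Ideal.Quotient.mk J (Ideal.Quotient.mk I₂ a) := by
      conv_rhs => rw [← mul_one (Ideal.Quotient.mk I₂ a)]
      rfl
    rw [h1, ← TensorProduct.smul_tmul, h2]
  have hg₀ : ∀ m ∈ (I • ⊤ : Submodule A M), g₀ m = 0 := by
    intro m hm
    induction hm using Submodule.smul_induction_on' with
    | smul a ha n _ =>
      change (1 : (A ⧸ I₂) ⧸ J) ⊗ₜ[A ⧸ I₂] (Submodule.Quotient.mk (a • n)) = 0
      rw [hsm, Ideal.Quotient.eq_zero_iff_mem.mpr (hmemJ a ha), TensorProduct.zero_tmul]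
    | add x _ y _ hx hy => rw [map_add, hx, hy, add_zero]
  let f : (M ⧸ (I • ⊤ : Submodule A M)) →+
      ((A ⧸ I₂) ⧸ J) ⊗[A ⧸ I₂] (M ⧸ (I₂ • ⊤ : Submodule A M)) :=
    QuotientAddGroup.lift (I • ⊤ : Submodule A M).toAddSubgroup g₀ (fun m hm => hg₀ m hm)
  have hf_mk : ∀ m : M, f (Submodule.Quotient.mk m) =
      (1 : (A ⧸ I₂) ⧸ J) ⊗ₜ[A ⧸ I₂] (Submodule.Quotient.mk m) := fun m => rfl
  have hsl : ∀ b n, f (b • n) = φ b • f n := by
    intro b n
    obtain ⟨a, rfl⟩ := Ideal.Quotient.mk_surjective b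
    obtain ⟨m, rfl⟩ := Submodule.Quotient.mk_surjective _ n
    have h1 : (Ideal.Quotient.mk I a) • (Submodule.Quotient.mk m : M ⧸ (I • ⊤ : Submodule A M)) =
        Submodule.Quotient.mk (a • m) := rfl
    rw [h1, hf_mk, hf_mk, hsm, TensorProduct.smul_tmul', smul_eq_mul, mul_one]
    rfl
  have hsurj : Function.Surjective f := by
    intro z
    induction z using TensorProduct.induction_on with
    | zero => exact ⟨0, map_zero _⟩
    | tmul r n =>
      obtain ⟨r', rfl⟩ := Ideal.Quotient.mk_surjective r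
      obtain ⟨a, rfl⟩ := Ideal.Quotient.mk_surjective r'
      obtain ⟨m, rfl⟩ := Submodule.Quotient.mk_surjective _ n
      exact ⟨Submodule.Quotient.mk (a • m), by rw [hf_mk, hsm]⟩
    | add x y hx hy =>
      obtain ⟨x', rfl⟩ := hx
      obtain ⟨y', rfl⟩ := hy
      exact ⟨x' + y', map_add _ _ _⟩
  have hclaim : ∀ y ∈ (J • ⊤ : Submodule (A ⧸ I₂) (M ⧸ (I₂ • ⊤ : Submodule A M))),
      ∃ m ∈ (I • ⊤ : Submodule A M), (Submodule.Quotient.mk m : M ⧸ (I₂ • ⊤ : Submodule A M)) = y := by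
    intro y hy
    induction hy using Submodule.smul_induction_on' with
    | smul j hj n _ =>
      obtain ⟨a, ha, rfl⟩ := hJmem j hj
      obtain ⟨m, rfl⟩ := Submodule.Quotient.mk_surjective _ n
      exact ⟨a • m, Submodule.smul_mem_smul ha trivial, rfl⟩
    | add x _ y _ hx hy =>
      obtain ⟨m₁, h₁, rfl⟩ := hx
      obtain ⟨m₂, h₂, rfl⟩ := hy
      exact ⟨m₁ + m₂, Submodule.add_mem _ h₁ h₂, rfl⟩
  have hinj : Function.Injective f := by
    rw [injective_iff_map_eq_zero]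
    intro n hn
    obtain ⟨m, rfl⟩ := Submodule.Quotient.mk_surjective _ n
    rw [hf_mk] at hn
    have h1 := congrArg (TensorProduct.quotTensorEquivQuotSMul (M ⧸ (I₂ • ⊤ : Submodule A M)) J) hn
    rw [map_zero, ← map_one (Ideal.Quotient.mk J), TensorProduct.quotTensorEquivQuotSMul_mk_tmul,
      one_smul, Submodule.Quotient.mk_eq_zero] at h1
    obtain ⟨m₁, hm₁, he⟩ := hclaim _ h1
    rw [Submodule.Quotient.mk_eq_zero]
    have h2 : m₁ - m ∈ (I₂ • ⊤ : Submodule A M) := (Submodule.Quotient.eq _).mp he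
    have h3 : m₁ - m ∈ (I • ⊤ : Submodule A M) := Submodule.smul_mono_left h2I h2
    have : m = m₁ - (m₁ - m) := by abel
    rw [this]
    exact Submodule.sub_mem _ hm₁ h3
  exact flat_of_semilinear_bijective φ hφ f ⟨hinj, hsurj⟩ hsl

end Groth.Agent.Helper19.FlatI2
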