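import Mathlib
import Groth.Agent.Helper19.FlatI2a

set_option autoImplicit false
universe u

namespace Groth.Agent.Helper19.FlatI2

open TensorProduct Groth.Agent.Lib.Helper18.Fl

theorem flat_quot_I2 {A : Type u} [CommRing A] (I : Ideal A)
    (U : Set (PrimeSpectrum A)) (hUc : IsCompact U)
    (M : Type u) [AddCommGroup M] [Module A M]
    [Module.Flat (A ⧸ I) (M ⧸ (I • ⊤ : Submodule A M))]
    (hflat : ∀ p ∈ U, Module.Flat A (LocalizedModule p.asIdeal.primeCompl M))
    (I₂ : Ideal A)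
    (hI₂ : ∀ x : A, x ∈ I₂ ↔ x ∈ I ∧ ∀ p ∈ U, ∃ s : A, s ∉ p.asIdeal ∧ s * x ∈ I ^ 2) :
    Module.Flat (A ⧸ I₂) (M ⧸ (I₂ • ⊤ : Submodule A M)) := by
  have h2I : I₂ ≤ I := fun x hx => ((hI₂ x).mp hx).1
  have hsq : I ^ 2 ≤ I₂ := fun x hx => (hI₂ x).mpr ⟨Ideal.pow_le_self two_ne_zero hx, fun p _ =>
    ⟨1, (Ideal.ne_top_iff_one _).mp p.2.ne_top, by rwa [one_mul]⟩⟩
  obtain ⟨J, hJ⟩ : ∃ J : Ideal (A ⧸ I₂), J = I.map (Ideal.Quotient.mk I₂) := ⟨_, rfl⟩
  have hJmem : ∀ y ∈ J, ∃ a ∈ I, Ideal.Quotient.mk I₂ a = y := fun y hy => by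
    rw [hJ] at hy
    exact (Ideal.mem_map_iff_of_surjective _ Ideal.Quotient.mk_surjective).mp hy
  have hmemJ : ∀ a ∈ I, Ideal.Quotient.mk I₂ a ∈ J := fun a ha => by
    rw [hJ]; exact Ideal.mem_map_of_mem _ ha
  have hJJ : ∀ x ∈ J, ∀ y ∈ J, x * y = 0 := by
    intro x hx y hy
    obtain ⟨a, ha, rfl⟩ := hJmem x hx
    obtain ⟨b, hb, rfl⟩ := hJmem y hy
    rw [← map_mul, Ideal.Quotient.eq_zero_iff_mem]
    exact hsq (by rw [pow_two]; exact Ideal.mul_mem_mul ha hb)
  have hJ2 : J ^ 2 = ⊥ := by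
    rw [eq_bot_iff, pow_two, Ideal.mul_le]
    intro x hx y hy
    rw [hJJ x hx y hy]
    exact Ideal.zero_mem _
  haveI : Module.Flat ((A ⧸ I₂) ⧸ J) (((A ⧸ I₂) ⧸ J) ⊗[A ⧸ I₂] (M ⧸ (I₂ • ⊤ : Submodule A M))) := by
    rw [hJ]
    exact flat_quotTensor_of_flat_quot I I₂ h2I M
  have hinj : Function.Injective (J.subtype.rTensor (M ⧸ (I₂ • ⊤ : Submodule A M))) := by
    rw [injective_iff_map_eq_zero]
    intro ξ hξ
    -- the surjection `ρ : M ⊗[A] I → J ⊗[A/I₂] M/I₂M`
    let ρ : M ⊗[A] I →+ (J ⊗[A ⧸ I₂] (M ⧸ (I₂ • ⊤ : Submodule A M))) :=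
      TensorProduct.liftAddHom
        (AddMonoidHom.mk' (fun m : M => AddMonoidHom.mk' (fun x : I =>
          ((⟨Ideal.Quotient.mk I₂ x.1, hmemJ x.1 x.2⟩ : J) ⊗ₜ[A ⧸ I₂]
            (Submodule.Quotient.mk m : M ⧸ (I₂ • ⊤ : Submodule A M))))
          (fun x y => by
            rw [← TensorProduct.add_tmul]
            congr 1))
          (fun m m' => by
            ext x
            simp only [AddMonoidHom.mk'_apply, AddMonoidHom.add_apply]
            rw [Submodule.Quotient.mk_add, TensorProduct.tmul_add]))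
        (fun a m x => by
          simp only [AddMonoidHom.mk'_apply]
          have h1 : (Submodule.Quotient.mk (a • m) : M ⧸ (I₂ • ⊤ : Submodule A M)) =
            (Ideal.Quotient.mk I₂ a) • (Submodule.Quotient.mk m : M ⧸ (I₂ • ⊤ : Submodule A M)) := rfl
          rw [h1, ← TensorProduct.smul_tmul]
          congr 1)
    have hρ1 : ∀ (m : M) (x : I), ρ (m ⊗ₜ x) =
        ((⟨Ideal.Quotient.mk I₂ x.1, hmemJ x.1 x.2⟩ : J) ⊗ₜ[A ⧸ I₂]
          (Submodule.Quotient.mk m : M ⧸ (I₂ • ⊤ : Submodule A M))) := fun m x => rfl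
    have hρsurj : Function.Surjective ρ := by
      intro z
      induction z using TensorProduct.induction_on with
      | zero => exact ⟨0, map_zero _⟩
      | tmul j n =>
        obtain ⟨a, ha, hj⟩ := hJmem j.1 j.2
        obtain ⟨m, rfl⟩ := Submodule.Quotient.mk_surjective _ n
        refine ⟨m ⊗ₜ ⟨a, ha⟩, ?_⟩
        rw [hρ1]
        congr 1
        exact Subtype.ext hj
      | add x y hx hy =>
        obtain ⟨x', rfl⟩ := hx
        obtain ⟨y', rfl⟩ := hy
        exact ⟨x' + y', map_add _ _ _⟩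
    have hρ3 : ∀ w : M ⊗[A] I,
        TensorProduct.lid (A ⧸ I₂) (M ⧸ (I₂ • ⊤ : Submodule A M))
          (J.subtype.rTensor (M ⧸ (I₂ • ⊤ : Submodule A M)) (ρ w)) =
        Submodule.Quotient.mk (μ M I w) := by
      intro w
      induction w using TensorProduct.induction_on with
      | zero => simp
      | tmul m x =>
        rw [hρ1, LinearMap.rTensor_tmul, TensorProduct.lid_tmul, μ_tmul]
        rfl
      | add x y hx hy => simp only [map_add, hx, hy, Submodule.Quotient.mk_add]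
    have hρ4 : ∀ (t : A) (w : M ⊗[A] I), ρ (t • w) = (Ideal.Quotient.mk I₂ t) • ρ w := by
      intro t w
      induction w using TensorProduct.induction_on with
      | zero => simp
      | tmul m x =>
        rw [TensorProduct.smul_tmul', hρ1, hρ1]
        have h1 : (Submodule.Quotient.mk (t • m) : M ⧸ (I₂ • ⊤ : Submodule A M)) =
          (Ideal.Quotient.mk I₂ t) • (Submodule.Quotient.mk m : M ⧸ (I₂ • ⊤ : Submodule A M)) := rfl
        rw [h1, TensorProduct.tmul_smul]
      | add x y hx hy => simp only [smul_add, map_add, hx, hy]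
    have hρ5 : ∀ w₂ : M ⊗[A] I₂, ρ ((Submodule.inclusion h2I).lTensor M w₂) = 0 := by
      intro w₂
      induction w₂ using TensorProduct.induction_on with
      | zero => simp
      | tmul m x =>
        rw [LinearMap.lTensor_tmul, hρ1]
        have : (⟨Ideal.Quotient.mk I₂ (Submodule.inclusion h2I x).1,
            hmemJ (Submodule.inclusion h2I x).1 (Submodule.inclusion h2I x).2⟩ : J) = 0 := by
          apply Subtype.ext
          exact Ideal.Quotient.eq_zero_iff_mem.mpr x.2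
        rw [this, TensorProduct.zero_tmul]
      | add x y hx hy => simp only [map_add, hx, hy, add_zero]
    have hμ : ∀ w₂ : M ⊗[A] I₂, μ M I ((Submodule.inclusion h2I).lTensor M w₂) = μ M I₂ w₂ := by
      intro w₂
      induction w₂ using TensorProduct.induction_on with
      | zero => simp
      | tmul m x => rw [LinearMap.lTensor_tmul, μ_tmul, μ_tmul]; rfl
      | add x y hx hy => simp only [map_add, hx, hy]
    obtain ⟨w, rfl⟩ := hρsurj ξ
    have h1 : μ M I w ∈ (I₂ • ⊤ : Submodule A M) := by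
      rw [← Submodule.Quotient.mk_eq_zero, ← hρ3, hξ, map_zero]
    obtain ⟨ζ, hζ⟩ := exists_μ_eq I₂ (⊤ : Submodule A M) (μ M I w) h1
    obtain ⟨w₂, hw₂⟩ : ∃ w₂ : M ⊗[A] I₂, μ M I₂ w₂ = μ M I w := ⟨_, hζ⟩
    obtain ⟨w', hw'⟩ : ∃ w', w' = w - (Submodule.inclusion h2I).lTensor M w₂ := ⟨_, rfl⟩
    have hw'0 : μ M I w' = 0 := by rw [hw', map_sub, hμ, hw₂, sub_self]
    have hw'ρ : ρ w' = ρ w := by rw [hw', map_sub, hρ5, sub_zero]
    rw [← hw'ρ]
    have hlT : I.subtype.lTensor M w' = 0 := by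
      apply (TensorProduct.rid A M).injective
      rw [map_zero]
      exact hw'0
    -- local annihilators
    have hloc : ∀ p ∈ U, ∃ t : A, t ∉ p.asIdeal ∧ (Ideal.Quotient.mk I₂ t) • ρ w' = 0 := by
      intro p hp
      have hfl := hflat p hp
      have h3 := (Module.Flat.iff_lTensor_injective'.mp hfl) I
      rw [lTensor_localizedModule_injective_iff (A := A) (B := A) p.asIdeal.primeCompl I] at h3
      obtain ⟨s, hs⟩ := h3 w' hlT
      refine ⟨s.1, s.2, ?_⟩
      rw [← hρ4, hs, map_zero]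
    choose! t ht using hloc
    obtain ⟨b', hb'U, hb'fin, hcov⟩ := hUc.elim_finite_subcover_image
      (b := U) (c := fun p => ((PrimeSpectrum.basicOpen (t p) : TopologicalSpace.Opens _) : Set _))
      (fun p _ => (PrimeSpectrum.basicOpen (t p)).2)
      (fun p hp => Set.mem_iUnion₂.mpr ⟨p, hp, (ht p hp).1⟩)
    haveI : Fintype b' := hb'fin.fintype
    classical
    let μT : J →ₗ[A ⧸ I₂] (b' → J) :=
      LinearMap.pi (fun i => (Ideal.Quotient.mk I₂ (t i.1)) • LinearMap.id)
    have hμT : Function.Injective μT := by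
      rw [injective_iff_map_eq_zero]
      intro x hx
      obtain ⟨a, ha, hax⟩ := hJmem x.1 x.2
      have hai : ∀ i : b', t i.1 * a ∈ I₂ := by
        intro i
        have h4 := congrFun hx i
        have h5 : (Ideal.Quotient.mk I₂ (t i.1)) * x.1 = 0 := congrArg Subtype.val h4
        rw [← hax, ← map_mul, Ideal.Quotient.eq_zero_iff_mem] at h5
        exact h5
      have haI₂ : a ∈ I₂ := by
        rw [hI₂]
        refine ⟨ha, fun p hp => ?_⟩
        obtain ⟨i, hi, hpi⟩ := Set.mem_iUnion₂.mp (hcov hp)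
        obtain ⟨s, hs, hsa⟩ := ((hI₂ _).mp (hai ⟨i, hi⟩)).2 p hp
        refine ⟨s * t i, ?_, by rw [mul_assoc]; exact hsa⟩
        exact fun h => (p.2.mem_or_mem h).elim hs hpi
      apply Subtype.ext
      rw [← hax]
      exact Ideal.Quotient.eq_zero_iff_mem.mpr haI₂
    have hA : Module.IsTorsionBySet (A ⧸ I₂) J J := by
      intro x a
      apply Subtype.ext
      exact hJJ a.1 a.2 x.1 x.2
    have hB : Module.IsTorsionBySet (A ⧸ I₂) (b' → J) J := by
      intro x a
      funext i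
      apply Subtype.ext
      exact hJJ a.1 a.2 (x i).1 (x i).2
    have hinjT := Groth.Agent.Lib.Helper9.rTensor_injective_of_isTorsionBySet
      (M ⧸ (I₂ • ⊤ : Submodule A M)) J hA hB μT hμT
    apply hinjT
    rw [map_zero]
    have hsum : μT = ∑ i : b', (LinearMap.single (A ⧸ I₂) (fun _ : b' => J) i) ∘ₗ
        ((Ideal.Quotient.mk I₂ (t i.1)) • LinearMap.id) := by
      ext x j
      simp only [μT, LinearMap.pi_apply, LinearMap.smul_apply, LinearMap.id_apply,
        LinearMap.sum_apply, LinearMap.comp_apply, LinearMap.single_apply, Finset.sum_apply,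
        Pi.single_apply]
      rw [Finset.sum_ite_eq]
      simp
    have hsum2 : μT.rTensor (M ⧸ (I₂ • ⊤ : Submodule A M)) =
        ∑ i : b', ((LinearMap.single (A ⧸ I₂) (fun _ : b' => J) i) ∘ₗ
          ((Ideal.Quotient.mk I₂ (t i.1)) • LinearMap.id)).rTensor (M ⧸ (I₂ • ⊤ : Submodule A M)) := by
      rw [hsum]
      exact map_sum (LinearMap.rTensorHom (M ⧸ (I₂ • ⊤ : Submodule A M))) _ _
    rw [hsum2, LinearMap.sum_apply]
    refine Finset.sum_eq_zero fun i _ => ?_
    rw [LinearMap.rTensor_comp_apply, LinearMap.rTensor_smul, LinearMap.smul_apply,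
      LinearMap.rTensor_id_apply, (ht i.1 (hb'U i.2)).2, map_zero]
  exact Groth.Agent.Lib.Helper9.flat_of_isNilpotent_of_rTensor_injective J ⟨2, hJ2⟩ hinj

end Groth.Agent.Helper19.FlatI2
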