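import Mathlib

/-!
# Flat lifts of standard smooth algebras along square-zero surjections (helper19)

If `πB : B' → B` is surjective with square-zero kernel and `Q` is a standard smooth `B`-algebra,
there is a flat `B'`-algebra `Q'` with a surjection `ε : Q' → Q` over `πB` whose kernel is
generated by `ker πB`.
-/

set_option autoImplicit false
set_option linter.style.haveILetI false
universe u

open MvPolynomial

namespace Groth.Agent.Helper19.FlatLift

section unit

variable {A B : Type*} [CommRing A] [CommRing B]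

/-- Units lift along a ring map whose kernel is square-zero. -/
theorem isUnit_of_map_of_ker_sq (ε : A →+* B) (hε : Function.Surjective ε)
    (hk : ∀ x y : A, ε x = 0 → ε y = 0 → x * y = 0) (x : A) (hx : IsUnit (ε x)) : IsUnit x := by
  obtain ⟨u, hu⟩ := hx
  obtain ⟨y, hy⟩ := hε (↑u⁻¹ : B)
  have h1 : ε (x * y - 1) = 0 := by
    rw [map_sub, map_mul, hy, ← hu, Units.mul_inv, map_one, sub_self]
  have h2 : (x * y - 1) * (x * y - 1) = 0 := hk _ _ h1 h1
  refine IsUnit.of_mul_eq_one (y * (2 - x * y)) ?_
  have : x * (y * (2 - x * y)) = 1 - (x * y - 1) * (x * y - 1) := by ring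
  rw [this, h2, sub_zero]

end unit

section lift

variable {B' B Q : Type u} [CommRing B'] [CommRing B] [CommRing Q] [Algebra B Q]
  (πB : B' →+* B) (hπ : Function.Surjective πB)
  (hsq : ∀ x y : B', πB x = 0 → πB y = 0 → x * y = 0)
  {ι κ : Type} [Finite ι] [Finite κ] (P : Algebra.SubmersivePresentation B Q ι κ)
  (v : κ → MvPolynomial ι B') (hv : ∀ s, MvPolynomial.map πB (v s) = P.relation s)

/-- The map `B'[X] → Q`. -/
noncomputable def gMap : MvPolynomial ι B' →+* Q :=
  ((aeval P.val : MvPolynomial ι B →ₐ[B] Q) : MvPolynomial ι B →+* Q).comp (MvPolynomial.map πB)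

include hv in
theorem gMap_mem (a : MvPolynomial ι B') (ha : a ∈ Ideal.span (Set.range v)) :
    gMap πB P a = 0 := by
  induction ha using Submodule.span_induction with
  | mem a ha =>
    obtain ⟨s, rfl⟩ := ha
    change aeval P.val (MvPolynomial.map πB (v s)) = 0
    rw [hv, P.aeval_val_relation]
  | zero => exact map_zero _
  | add a b _ _ ha hb => rw [map_add, ha, hb, add_zero]
  | smul c a _ ha => rw [smul_eq_mul, map_mul, ha, mul_zero]

/-- The lifted algebra. -/
abbrev Q' : Type u := MvPolynomial ι B' ⧸ Ideal.span (Set.range v)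

/-- The surjection `Q' → Q`. -/
noncomputable def eps : Q' v →+* Q :=
  Ideal.Quotient.lift (Ideal.span (Set.range v)) (gMap πB P) (gMap_mem πB P v hv)

theorem eps_mk (a : MvPolynomial ι B') :
    eps πB P v hv (Ideal.Quotient.mk _ a) = aeval P.val (MvPolynomial.map πB a) := rfl

include hπ in
theorem eps_surjective : Function.Surjective (eps πB P v hv) := by
  intro q
  obtain ⟨a, ha⟩ := P.aeval_val_surjective q
  obtain ⟨a', ha'⟩ := MvPolynomial.map_surjective πB hπ a
  exact ⟨Ideal.Quotient.mk _ a', by rw [eps_mk, ha', ha]⟩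

theorem eps_algebraMap (b : B') :
    eps πB P v hv (algebraMap B' (Q' v) b) = algebraMap B Q (πB b) := by
  have h1 : algebraMap B' (Q' v) b = Ideal.Quotient.mk _ (C b) := rfl
  rw [h1, eps_mk, MvPolynomial.map_C, aeval_C]

include hπ in
theorem ker_eps : RingHom.ker (eps πB P v hv) =
    Ideal.map (algebraMap B' (Q' v)) (RingHom.ker πB) := by
  apply le_antisymm
  · intro x hx
    obtain ⟨a, rfl⟩ := Ideal.Quotient.mk_surjective x
    rw [RingHom.mem_ker, eps_mk] at hx
    have h1 : MvPolynomial.map πB a ∈ P.ker := by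
      rw [P.ker_eq_ker_aeval_val]
      exact hx
    rw [← P.span_range_relation_eq_ker] at h1
    have h2 : Ideal.span (Set.range P.relation) =
        Ideal.map (MvPolynomial.map πB) (Ideal.span (Set.range v)) := by
      rw [Ideal.map_span, ← Set.range_comp]
      congr 2
      funext s
      exact (hv s).symm
    rw [h2] at h1
    obtain ⟨a', ha', ha'2⟩ := (Ideal.mem_map_iff_of_surjective _
      (MvPolynomial.map_surjective πB hπ)).mp h1
    have h3 : a - a' ∈ RingHom.ker (MvPolynomial.map (σ := ι) πB) := by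
      rw [RingHom.mem_ker, map_sub, ha'2, sub_self]
    rw [MvPolynomial.ker_map] at h3
    have h4 : Ideal.Quotient.mk (Ideal.span (Set.range v)) a =
        Ideal.Quotient.mk (Ideal.span (Set.range v)) (a - a') := by
      rw [map_sub, Ideal.Quotient.eq_zero_iff_mem.mpr ha', sub_zero]
    rw [h4]
    have h5 : (algebraMap B' (Q' v)) =
        (Ideal.Quotient.mk (Ideal.span (Set.range v))).comp (C : B' →+* MvPolynomial ι B') := rfl
    rw [h5, ← Ideal.map_map]
    exact Ideal.mem_map_of_mem _ h3
  · rw [Ideal.map_le_iff_le_comap]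
    intro b hb
    rw [Ideal.mem_comap, RingHom.mem_ker, eps_algebraMap, RingHom.mem_ker.mp hb, map_zero]

include hπ hsq in
theorem ker_eps_sq (x y : Q' v) (hx : eps πB P v hv x = 0) (hy : eps πB P v hv y = 0) :
    x * y = 0 := by
  have hx' : x ∈ Ideal.map (algebraMap B' (Q' v)) (RingHom.ker πB) := by
    rw [← ker_eps πB hπ P v hv]; exact hx
  have hy' : y ∈ Ideal.map (algebraMap B' (Q' v)) (RingHom.ker πB) := by
    rw [← ker_eps πB hπ P v hv]; exact hy
  have h1 : x * y ∈ Ideal.map (algebraMap B' (Q' v)) (RingHom.ker πB) *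
      Ideal.map (algebraMap B' (Q' v)) (RingHom.ker πB) := Ideal.mul_mem_mul hx' hy'
  rw [← Ideal.map_mul] at h1
  have h2 : RingHom.ker πB * RingHom.ker πB = ⊥ := by
    rw [eq_bot_iff, Ideal.mul_le]
    intro a ha b hb
    rw [Ideal.mem_bot]
    exact hsq a b ha hb
  rw [h2, Ideal.map_bot] at h1
  exact h1

/-- The naive presubmersive presentation of the lift. -/
noncomputable def preP : Algebra.PreSubmersivePresentation B' (Q' v) ι κ :=
  Algebra.PreSubmersivePresentation.naive (v := v) P.map P.map_inj

theorem eps_jacobian : eps πB P v hv (preP P v).jacobian = P.jacobian := by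
  classical
  cases nonempty_fintype κ
  rw [Algebra.PreSubmersivePresentation.jacobian_eq_jacobiMatrix_det,
    Algebra.PreSubmersivePresentation.jacobian_eq_jacobiMatrix_det]
  have h1 : algebraMap (preP P v).Ring (Q' v) (preP P v).jacobiMatrix.det =
      Ideal.Quotient.mk _ (preP P v).jacobiMatrix.det := rfl
  rw [h1, eps_mk, P.algebraMap_apply]
  congr 1
  rw [RingHom.map_det]
  congr 1
  refine Matrix.ext fun i j => ?_
  rw [RingHom.mapMatrix_apply, Matrix.map_apply,
    Algebra.PreSubmersivePresentation.jacobiMatrix_apply,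
    Algebra.PreSubmersivePresentation.jacobiMatrix_apply]
  change MvPolynomial.map πB (pderiv (P.map i) (v j)) = _
  rw [← MvPolynomial.pderiv_map, hv]

include hπ hsq hv in
theorem isUnit_jacobian : IsUnit (preP P v).jacobian := by
  apply isUnit_of_map_of_ker_sq (eps πB P v hv) (eps_surjective πB hπ P v hv)
    (ker_eps_sq πB hπ hsq P v hv)
  rw [eps_jacobian]
  exact P.jacobian_isUnit

/-- The submersive presentation of the lift. -/
noncomputable def subP (h : IsUnit (preP P v).jacobian) :
    Algebra.SubmersivePresentation B' (Q' v) ι κ :=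
  { preP P v with jacobian_isUnit := h }

include hπ hsq hv in
theorem flat_Q' : Module.Flat B' (Q' v) := by
  haveI : Algebra.IsStandardSmooth B' (Q' v) :=
    (subP P v (isUnit_jacobian πB hπ hsq P v hv)).isStandardSmooth
  infer_instance

end lift

/-- Flat lift of a standard smooth algebra along a square-zero surjection. -/
theorem exists_flat_lift {B' B Q : Type u} [CommRing B'] [CommRing B] [CommRing Q]
    (πB : B' →+* B) (hπ : Function.Surjective πB)
    (hsq : ∀ x y : B', πB x = 0 → πB y = 0 → x * y = 0)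
    (σ : B →+* Q) (hσ : σ.IsStandardSmooth) :
    ∃ (Q' : Type u) (_ : CommRing Q') (_ : Algebra B' Q') (ε : Q' →+* Q),
      Module.Flat B' Q' ∧ Function.Surjective ε ∧
      ε.comp (algebraMap B' Q') = σ.comp πB ∧
      RingHom.ker ε = Ideal.map (algebraMap B' Q') (RingHom.ker πB) ∧
      ∀ x y : Q', ε x = 0 → ε y = 0 → x * y = 0 := by
  letI := σ.toAlgebra
  have hσ' : Algebra.IsStandardSmooth B Q := hσ
  obtain ⟨ι, κ, hκ, hι, ⟨P⟩⟩ := hσ'.out
  choose v hv using fun s => MvPolynomial.map_surjective πB hπ (P.relation s)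
  refine ⟨Q' v, inferInstance, inferInstance, eps πB P v hv, flat_Q' πB hπ hsq P v hv,
    eps_surjective πB hπ P v hv, ?_, ker_eps πB hπ P v hv, ker_eps_sq πB hπ hsq P v hv⟩
  ext b
  exact eps_algebraMap πB P v hv b

end Groth.Agent.Helper19.FlatLift
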