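import Mathlib
import Groth.Prelude.Def_Omega3
import Groth.Prelude.Def_FlatMod2
import Groth.Agent.Lib.Helper5.LocBasisScheme

/-!
# The standard basis of the sections of a free `O_X`-module (helper19)
-/

set_option autoImplicit false
universe u

open CategoryTheory Limits Opposite AlgebraicGeometry TopologicalSpace

namespace Groth.Agent.Helper19.FreeBasis

open Groth.Agent.Lib.Helper5.LocBasisScheme

variable (X : Scheme.{u}) (n : ℕ) (V : X.Opens)

/-- the `k`-th standard section of the free module -/
noncomputable def stdSect (k : Fin n) : Γ(FlatMod.freeMod X n, V) :=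
  (Sigma.ι (fun _ : Fin n => Coh.structureModule X) k).app V (OmegaSh.strSect X V 1)

theorem smul_strSect_one (r : Γ(X, V)) (x : Γ(Coh.structureModule X, V)) :
    r • x = OmegaSh.strSect X V (r * OmegaSh.fnSect X V x) := rfl

theorem fnSect_smul_one (y : Γ(Coh.structureModule X, V)) :
    OmegaSh.fnSect X V y • OmegaSh.strSect X V 1 = y := by
  rw [smul_strSect_one]
  change OmegaSh.strSect X V (OmegaSh.fnSect X V y * 1) = y
  rw [mul_one]
  rfl

theorem proj_ι_app (j k : Fin n) (x : Γ(Coh.structureModule X, V)) :
    (proj (Coh.structureModule X) k).app V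
      ((Sigma.ι (fun _ : Fin n => Coh.structureModule X) j).app V x) = if j = k then x else 0 := by
  have h : Sigma.ι (fun _ : Fin n => Coh.structureModule X) j ≫ proj (Coh.structureModule X) k =
      if j = k then 𝟙 _ else 0 := by
    unfold proj
    rw [Sigma.ι_desc]
  have h2 := congrArg (fun φ => (Scheme.Modules.Hom.app φ V).hom x) h
  simp only [Scheme.Modules.Hom.comp_app] at h2
  by_cases hjk : j = k
  · rw [if_pos hjk] at h2 ⊢
    exact h2
  · rw [if_neg hjk] at h2 ⊢
    exact h2

/-- sections of the free module are tuples of functions -/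
noncomputable def secEquiv : Γ(FlatMod.freeMod X n, V) ≃ₗ[Γ(X, V)] (Fin n → Γ(X, V)) where
  toFun m := fun k => OmegaSh.fnSect X V ((proj (Coh.structureModule X) k).app V m)
  map_add' a b := by
    funext k
    simp only [map_add, Pi.add_apply]
  map_smul' r a := by
    funext k
    rw [Scheme.Modules.Hom.app_smul]
    rfl
  invFun r := ∑ k, r k • stdSect X n V k
  left_inv m := by
    have h1 := sum_app_apply Finset.univ
      (fun k => proj (Coh.structureModule X) k ≫
        Sigma.ι (fun _ : Fin n => Coh.structureModule X) k) V m
    rw [sum_proj_ι] at h1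
    have h2 : ∀ k : Fin n, OmegaSh.fnSect X V ((proj (Coh.structureModule X) k).app V m) •
        stdSect X n V k = ((proj (Coh.structureModule X) k ≫
          Sigma.ι (fun _ : Fin n => Coh.structureModule X) k).app V).hom m := by
      intro k
      unfold stdSect
      rw [← Scheme.Modules.Hom.app_smul, fnSect_smul_one]
      rfl
    change ∑ k, OmegaSh.fnSect X V ((proj (Coh.structureModule X) k).app V m) •
      stdSect X n V k = m
    rw [Finset.sum_congr rfl (fun k _ => h2 k), ← h1]
    rfl
  right_inv r := by
    funext j
    change OmegaSh.fnSect X V ((proj (Coh.structureModule X) j).app V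
      (∑ k, r k • stdSect X n V k)) = r j
    rw [map_sum, map_sum]
    rw [Finset.sum_eq_single j]
    · rw [Scheme.Modules.Hom.app_smul]
      unfold stdSect
      rw [proj_ι_app, if_pos rfl]
      change r j * 1 = r j
      rw [mul_one]
    · intro k _ hk
      rw [Scheme.Modules.Hom.app_smul]
      unfold stdSect
      rw [proj_ι_app, if_neg hk, smul_zero, map_zero]
    · intro h; exact absurd (Finset.mem_univ _) h

/-- the standard basis of the sections of the free module -/
noncomputable def basis : Module.Basis (Fin n) Γ(X, V) Γ(FlatMod.freeMod X n, V) :=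
  Module.Basis.ofEquivFun (secEquiv X n V)

theorem basis_apply (k : Fin n) : basis X n V k = stdSect X n V k := by
  unfold basis
  rw [Module.Basis.coe_ofEquivFun]
  change ∑ j, (Pi.single k (1 : Γ(X, V)) : Fin n → Γ(X, V)) j • stdSect X n V j = _
  rw [Finset.sum_eq_single k]
  · rw [Pi.single_eq_same, one_smul]
  · intro j _ hj
    rw [Pi.single_apply, if_neg hj, zero_smul]
  · intro h; exact absurd (Finset.mem_univ _) h

end Groth.Agent.Helper19.FreeBasis
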