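import Mathlib.LinearAlgebra.Dual.Lemmas
import Mathlib.Analysis.Convex.Combination
import Mathlib.Algebra.Order.Field.Basic
universe u v w x
set_option linter.style.haveILetI false
set_option linter.unusedSectionVars false

namespace Groth.Agent.Helper19.Gordan

variable {R : Type u} {V : Type v} [Field R] [LinearOrder R] [IsStrictOrderedRing R]
  [AddCommGroup V] [Module R V]

/-- Gordan's alternative over an ordered field, finset-indexed form. -/
theorem gordan_aux {α : Type w} [DecidableEq α] (s : Finset α) : ∀ v : α → V,
    (∃ f : Module.Dual R V, ∀ i ∈ s, 0 < f (v i)) ∨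
    (∃ t : α → R, (∀ i ∈ s, 0 ≤ t i) ∧ (∃ i ∈ s, 0 < t i) ∧ ∑ i ∈ s, t i • v i = 0) := by
  induction s using Finset.induction_on with
  | empty => intro v; exact Or.inl ⟨0, by simp⟩
  | insert a s ha ih =>
    intro v
    rcases ih v with ⟨f₀, hf₀⟩ | ⟨t, ht0, ⟨i0, hi0, hti0⟩, hsum⟩
    swap
    · right
      refine ⟨fun i => if i = a then 0 else t i, ?_, ⟨i0, Finset.mem_insert_of_mem hi0, ?_⟩, ?_⟩
      · intro i hi
        by_cases hia : i = a
        · simp [hia]
        · simp only [if_neg hia]
          exact ht0 i ((Finset.mem_insert.mp hi).resolve_left hia)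
      · have : i0 ≠ a := by rintro rfl; exact ha hi0
        simp only [if_neg this]; exact hti0
      · rw [Finset.sum_insert ha]
        dsimp only
        rw [if_pos rfl, zero_smul, zero_add, ← hsum]
        refine Finset.sum_congr rfl (fun i hi => ?_)
        have : i ≠ a := by rintro rfl; exact ha hi
        rw [if_neg this]
    · by_cases hpos : 0 < f₀ (v a)
      · left
        refine ⟨f₀, fun i hi => ?_⟩
        rcases Finset.mem_insert.mp hi with rfl | hi
        · exact hpos
        · exact hf₀ i hi
      · rcases s.eq_empty_or_nonempty with rfl | hne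
        · by_cases hva : v a = 0
          · right
            exact ⟨fun _ => 1, by simp, ⟨a, by simp, one_pos⟩, by simp [hva]⟩
          · left
            obtain ⟨h, hh⟩ : ∃ h : Module.Dual R V, h (v a) ≠ 0 := by
              by_contra hcon
              push Not at hcon
              exact hva ((Module.forall_dual_apply_eq_zero_iff R (v a)).mp hcon)
            rcases lt_or_gt_of_ne hh with h1 | h1
            · exact ⟨-h, by simpa using h1⟩
            · exact ⟨h, by simpa using h1⟩
        · obtain ⟨q, hq⟩ : ∃ q : R, q = - f₀ (v a) := ⟨_, rfl⟩
          have hq0 : 0 ≤ q := by rw [hq]; linarith [not_lt.mp hpos]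
          rcases ih (fun i => f₀ (v i) • v a + q • v i) with
            ⟨g, hg⟩ | ⟨t, ht0, ⟨i0, hi0, hti0⟩, hsum⟩
          · left
            have hg' : ∀ i ∈ s, 0 < f₀ (v i) * g (v a) + q * g (v i) := by
              intro i hi
              have := hg i hi
              simpa using this
            obtain ⟨i₁, hi₁, hmax⟩ := s.exists_max_image (fun i => - g (v i) / f₀ (v i)) hne
            -- choose c
            obtain ⟨c, hc1, hc2⟩ : ∃ c : R, - g (v i₁) / f₀ (v i₁) < c ∧ c * q < g (v a) := by
              rcases hq0.eq_or_lt with h0 | h0
              · refine ⟨- g (v i₁) / f₀ (v i₁) + 1, by linarith, ?_⟩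
                rw [← h0, mul_zero]
                have := hg' i₁ hi₁
                rw [← h0, zero_mul, add_zero] at this
                exact (mul_pos_iff_of_pos_left (hf₀ i₁ hi₁)).mp this
              · refine ⟨(- g (v i₁) / f₀ (v i₁) + g (v a) / q) / 2, ?_, ?_⟩
                · have h1 : - g (v i₁) / f₀ (v i₁) < g (v a) / q := by
                    rw [div_lt_div_iff₀ (hf₀ i₁ hi₁) h0]
                    have := hg' i₁ hi₁
                    nlinarith
                  linarith
                · have h1 : - g (v i₁) / f₀ (v i₁) < g (v a) / q := by
                    rw [div_lt_div_iff₀ (hf₀ i₁ hi₁) h0]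
                    have := hg' i₁ hi₁
                    nlinarith
                  have h2 : (- g (v i₁) / f₀ (v i₁) + g (v a) / q) / 2 < g (v a) / q := by linarith
                  rwa [lt_div_iff₀ h0] at h2
            refine ⟨g + c • f₀, fun i hi => ?_⟩
            rcases Finset.mem_insert.mp hi with rfl | hi
            · simp only [LinearMap.add_apply, LinearMap.smul_apply, smul_eq_mul]
              have : f₀ (v i) = - q := by rw [hq]; ring
              rw [this]; nlinarith
            · simp only [LinearMap.add_apply, LinearMap.smul_apply, smul_eq_mul]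
              have h1 : - g (v i) / f₀ (v i) < c := lt_of_le_of_lt (hmax i hi) hc1
              rw [div_lt_iff₀ (hf₀ i hi)] at h1
              linarith
          · right
            refine ⟨fun i => if i = a then ∑ j ∈ s, t j * f₀ (v j) else q * t i, ?_, ?_, ?_⟩
            · intro i hi
              by_cases hia : i = a
              · simp only [if_pos hia]
                exact Finset.sum_nonneg (fun j hj => mul_nonneg (ht0 j hj) (hf₀ j hj).le)
              · simp only [if_neg hia]
                exact mul_nonneg hq0 (ht0 i ((Finset.mem_insert.mp hi).resolve_left hia))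
            · refine ⟨a, Finset.mem_insert_self a s, ?_⟩
              simp only [if_pos rfl]
              exact Finset.sum_pos' (fun j hj => mul_nonneg (ht0 j hj) (hf₀ j hj).le)
                ⟨i0, hi0, mul_pos hti0 (hf₀ i0 hi0)⟩
            · rw [Finset.sum_insert ha]
              dsimp only
              rw [if_pos rfl]
              have e1 : ∑ i ∈ s, (if i = a then ∑ j ∈ s, t j * f₀ (v j) else q * t i) • v i =
                  ∑ i ∈ s, (q * t i) • v i := by
                refine Finset.sum_congr rfl (fun i hi => ?_)
                have : i ≠ a := by rintro rfl; exact ha hi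
                rw [if_neg this]
              rw [e1, ← hsum, Finset.sum_smul, ← Finset.sum_add_distrib]
              refine Finset.sum_congr rfl (fun i _ => ?_)
              rw [smul_add, smul_smul, smul_smul, mul_comm q (t i)]

/-- If `0` is not in the convex hull of a finite family then some linear functional is positive
on the whole family. -/
theorem exists_dual_pos {α : Type w} (s : Finset α) (v : α → V)
    (h : (0 : V) ∉ convexHull R (v '' (s : Set α))) :
    ∃ f : Module.Dual R V, ∀ i ∈ s, 0 < f (v i) := by
  classical
  rcases gordan_aux (R := R) s v with hf | ⟨t, ht0, ⟨i0, hi0, hti0⟩, hsum⟩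
  · exact hf
  · exfalso
    apply h
    have hpos : 0 < ∑ i ∈ s, t i := Finset.sum_pos' ht0 ⟨i0, hi0, hti0⟩
    have := Finset.centerMass_mem_convexHull (R := R) s ht0 hpos
      (z := v) (s := v '' (s : Set α)) (fun i hi => Set.mem_image_of_mem v hi)
    rw [Finset.centerMass, hsum, smul_zero] at this
    exact this

end Groth.Agent.Helper19.Gordan
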