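import Mathlib
import Groth.Agent.Helper19.GrDict3
import Groth.Agent.Helper19.OmegaD7
import Groth.Agent.Lib.Helper1.IdealSheafComap
set_option autoImplicit false
set_option linter.style.haveILetI false
set_option linter.unusedSectionVars false
universe u

open CategoryTheory CategoryTheory.Limits AlgebraicGeometry Opposite TopologicalSpace
open scoped TensorProduct

/-! # Base change of the graded pieces of a closed immersion (helper19) -/

namespace Groth.Agent.Helper19.GrDict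

open Groth.Agent.Lib.Helper29.QCoh Groth.Agent.Helper19.OmegaD Groth.Agent.Helper19.OmegaLocal
open Groth.Agent.Helper19.OmegaAlg Groth.Agent.Helper19.Conormal

section global

variable {Y X Y' X' : Scheme.{u}} (f : Y ⟶ X) [IsClosedImmersion f]
  (v : X' ⟶ X) (u : Y' ⟶ Y) (f' : Y' ⟶ X') (hsq : IsPullback u f' f v) (n : ℕ)

include hsq in
theorem isClosedImmersion_of_isPullback : IsClosedImmersion f' :=
  MorphismProperty.of_isPullback hsq inferInstance

include hsq in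
theorem ker_comap_eq : f.ker.comap v = f'.ker := by
  have h1 := Scheme.IdealSheafData.ker_fst_of_isClosedImmersion f v
  have h2 : hsq.flip.isoPullback.hom ≫ Limits.pullback.fst v f = f' :=
    IsPullback.isoPullback_hom_fst _
  rw [← h1, ← h2, Scheme.Hom.ker_comp_of_isIso]

include hsq in
theorem ker_pow_ideal_eq {U : X.Opens} (hU : IsAffineOpen U) {U' : X'.Opens}
    (hU' : IsAffineOpen U') (h : U' ≤ v ⁻¹ᵁ U) :
    (f'.ker ^ n).ideal ⟨U', hU'⟩ = ((f.ker ^ n).ideal ⟨U, hU⟩).map (v.appLE U U' h).hom := by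
  rw [← ker_comap_eq f v u f' hsq, ← Groth.Agent.Lib.Helper1.comap_pow]
  exact Groth.Agent.Lib.Helper1.ideal_comap (f.ker ^ n) v ⟨U', hU'⟩ ⟨U, hU⟩ h

/-- The basis of `Y'` given by preimages of affine opens of `X'` mapping into affine opens of `X`. -/
def chartBasis : Set Y'.Opens :=
  {W | ∃ (U' : X'.Opens) (U : X.Opens), IsAffineOpen U' ∧ IsAffineOpen U ∧ U' ≤ v ⁻¹ᵁ U ∧
    W = f' ⁻¹ᵁ U'}

include hsq in
theorem isBasis_chartBasis : Opens.IsBasis (chartBasis (Y' := Y') v f') := by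
  haveI := isClosedImmersion_of_isPullback f v u f' hsq
  rw [Opens.isBasis_iff_nbhd]
  intro W z hz
  obtain ⟨W₀, hW₀, hW₀W⟩ := (f'.isEmbedding.isInducing.isOpen_iff).mp W.2
  have hz0 : f' z ∈ (⟨W₀, hW₀⟩ : X'.Opens) := by
    change z ∈ f' ⁻¹' W₀
    rw [hW₀W]
    exact hz
  obtain ⟨_, ⟨U, hU, rfl⟩, hxU, -⟩ :=
    X.isBasis_affineOpens.exists_subset_of_mem_open (Set.mem_univ (v (f' z))) isOpen_univ
  obtain ⟨_, ⟨U', hU', rfl⟩, hxU', hU'le⟩ :=
    X'.isBasis_affineOpens.exists_subset_of_mem_open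
      (show f' z ∈ ((v ⁻¹ᵁ U) ⊓ ⟨W₀, hW₀⟩ : X'.Opens) from ⟨hxU, hz0⟩)
      ((v ⁻¹ᵁ U) ⊓ ⟨W₀, hW₀⟩ : X'.Opens).2
  refine ⟨f' ⁻¹ᵁ U', ⟨U', U, hU', hU, fun y hy => (hU'le hy).1, rfl⟩, hxU', ?_⟩
  intro y hy
  have : f' y ∈ W₀ := (hU'le hy).2
  have h2 : y ∈ f' ⁻¹' W₀ := this
  rw [hW₀W] at h2
  exact h2

section main

variable (φ : (Scheme.Modules.pullback u).obj (PrinPart.grMod f n) ⟶ PrinPart.grMod f' n)
  (hφ : PrinPart.IsGrMap f' f v u n φ)

include hsq in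
theorem ker_pow_mem (U₁ : X'.Opens) (hU₁ : IsAffineOpen U₁) (U₁' : X.Opens)
    (hU₁' : IsAffineOpen U₁') (h : U₁ ≤ v ⁻¹ᵁ U₁') (x' : Γ(X, U₁'))
    (hx' : x' ∈ (f.ker ^ n).ideal ⟨U₁', hU₁'⟩) :
    (v.appLE U₁' U₁ h).hom x' ∈ (f'.ker ^ n).ideal ⟨U₁, hU₁⟩ := by
  rw [ker_pow_ideal_eq f v u f' hsq n hU₁' hU₁ h]
  exact Ideal.mem_map_of_mem _ hx'

include hsq in
theorem preimage_le {U : X.Opens} {U' : X'.Opens} (hle : U' ≤ v ⁻¹ᵁ U) :
    f' ⁻¹ᵁ U' ≤ u ⁻¹ᵁ (f ⁻¹ᵁ U) := by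
  intro z hz
  change f (u z) ∈ U
  rw [← Scheme.Hom.comp_apply, hsq.w, Scheme.Hom.comp_apply]
  exact hle hz

include hsq hφ in
/-- The canonical map `u^* Gr_n(f) ⟶ Gr_n(f')` is an epimorphism. -/
theorem epi_grMap : Epi φ := by
  haveI := isClosedImmersion_of_isPullback f v u f' hsq
  have hJM : IsJMap f' f v u (f'.ker ^ n) (f.ker ^ n) φ := hφ
  apply epi_of_surjective_on_basis φ _ (isBasis_chartBasis f v u f' hsq)
  rintro W ⟨U', U, hU', hU, hle, rfl⟩
  refine chart_surjective f' f v u (f'.ker ^ n) (f.ker ^ n) φ hJM (ker_pow_mem f v u f' hsq n)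
    (U' := U) hU (U := U') hU' hle (V' := f ⁻¹ᵁ U) (le_refl _) (V := f' ⁻¹ᵁ U') (le_refl _)
    (preimage_le f v u f' hsq hle) (hU'.preimage f') (ker_pow_ideal_eq f v u f' hsq n hU hU' hle) ?_
  rw [Scheme.Hom.appLE_eq_app]
  exact f'.app_surjective U' hU'

include hsq hφ in
/-- For flat `v`, the canonical map `u^* Gr_n(f) ⟶ Gr_n(f')` is an isomorphism. -/
theorem isIso_grMap [Flat v] : IsIso φ := by
  haveI := isClosedImmersion_of_isPullback f v u f' hsq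
  have hJM : IsJMap f' f v u (f'.ker ^ n) (f.ker ^ n) φ := hφ
  apply isIso_of_bijective_on_basis φ _ (isBasis_chartBasis f v u f' hsq)
  rintro W ⟨U', U, hU', hU, hle, rfl⟩
  have hc : Function.Surjective (f'.appLE U' (f' ⁻¹ᵁ U') (le_refl _)).hom := by
    rw [Scheme.Hom.appLE_eq_app]
    exact f'.app_surjective U' hU'
  have hc' : Function.Surjective (f.appLE U (f ⁻¹ᵁ U) (le_refl _)).hom := by
    rw [Scheme.Hom.appLE_eq_app]
    exact f.app_surjective U hU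
  refine ⟨?_, ?_⟩
  · refine chart_injective f' f v u (f'.ker ^ n) (f.ker ^ n) φ hJM (ker_pow_mem f v u f' hsq n)
      (U' := U) hU (U := U') hU' hle (V' := f ⁻¹ᵁ U) (le_refl _) (V := f' ⁻¹ᵁ U') (le_refl _)
      (preimage_le f v u f' hsq hle) (hU'.preimage f') (hU.preimage f)
      (ker_pow_ideal_eq f v u f' hsq n hU hU' hle) hc hc' ?_
    exact HasRingHomProperty.appLE (P := @Flat) v inferInstance ⟨U, hU⟩ ⟨U', hU'⟩ hle
  · exact chart_surjective f' f v u (f'.ker ^ n) (f.ker ^ n) φ hJM (ker_pow_mem f v u f' hsq n)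
      (U' := U) hU (U := U') hU' hle (V' := f ⁻¹ᵁ U) (le_refl _) (V := f' ⁻¹ᵁ U') (le_refl _)
      (preimage_le f v u f' hsq hle) (hU'.preimage f') (ker_pow_ideal_eq f v u f' hsq n hU hU' hle)
      hc

end main

end global

end Groth.Agent.Helper19.GrDict
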