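import Mathlib
import Groth.Agent.Helper19.GrDict2
set_option autoImplicit false
set_option linter.style.haveILetI false
universe u

open scoped TensorProduct

/-! # Ring-level core for base change of graded pieces along a pushout (helper19) -/

namespace Groth.Agent.Helper19.GrDict

section core

variable {P P' S' : Type u} [CommRing P] [CommRing P'] [CommRing S'] [Algebra P P']
  (π' : P' →+* S') (K : Ideal P) {T : Type u} [AddCommGroup T] [Module S' T]
  (G : K →+ T) (hG : ∀ (a : P) (x : K), G (a • x) = π' (algebraMap P P' a) • G x)

include hG in
/-- Core vanishing statement, assuming only that `P' ⊗ K → P'` is injective. -/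
theorem core_vanish' (hinj : Function.Injective (mulMap (P' := P') K)) (z : P' ⊗[P] K)
    (h : mulMap (P' := P') K z ∈ RingHom.ker π' * K.map (algebraMap P P')) :
    lam π' K G hG z = 0 := by
  let N : Submodule P' (P' ⊗[P] K) :=
    { carrier := {w | lam π' K G hG w = 0}
      add_mem' := fun {a b} ha hb => by
        change lam π' K G hG (a + b) = 0
        rw [map_add, ha, hb, add_zero]
      zero_mem' := map_zero _
      smul_mem' := fun c w hw => by
        change lam π' K G hG (c • w) = 0
        rw [lam_smul, hw, smul_zero] }
  have hle : RingHom.ker π' * K.map (algebraMap P P') ≤ N.map (mulMap (P' := P') K) := by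
    rw [Ideal.mul_le]
    intro a ha y hy
    have hy' : y ∈ LinearMap.range (mulMap (P' := P') K) := by
      have : K.map (algebraMap P P') ≤ LinearMap.range (mulMap (P' := P') K) := by
        rw [Ideal.map_le_iff_le_comap]
        intro x hx
        exact ⟨(1 : P') ⊗ₜ[P] (⟨x, hx⟩ : K), by rw [mulMap_tmul, one_mul]⟩
      exact this hy
    obtain ⟨w, rfl⟩ := hy'
    refine ⟨a • w, ?_, ?_⟩
    · change lam π' K G hG (a • w) = 0
      rw [lam_smul, RingHom.mem_ker.mp ha, zero_smul]
    · rw [map_smul, smul_eq_mul]
  obtain ⟨w, hw, hwz⟩ := hle h
  have : w = z := hinj hwz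
  rw [← this]
  exact hw

end core

section pushout

variable {S P S' P' : Type u} [CommRing S] [CommRing P] [CommRing S'] [CommRing P']
  [Algebra S P] [Algebra S S'] [Algebra P P'] [Algebra S' P'] [Algebra S P']
  [IsScalarTower S P P'] [IsScalarTower S S' P'] [Algebra.IsPushout S S' P P']

/-- If `P' = S' ⊗_S P` and `S' ⊗_S K → S' ⊗_S P` is injective, then `P' ⊗_P K → P'` is injective. -/
theorem mulMap_injective_of_isPushout (K : Ideal P)
    (hK : Function.Injective
      (LinearMap.lTensor S' ((Submodule.subtype K).restrictScalars S))) :
    Function.Injective (mulMap (P' := P') K) := by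
  let Θ := (Algebra.IsPushout.cancelBaseChange S S' P P' K).symm
  let ε := Algebra.IsPushout.equiv S S' P P'
  have key : ∀ w : S' ⊗[S] K, mulMap (P' := P') K (Θ w) =
      ε (LinearMap.lTensor S' ((Submodule.subtype K).restrictScalars S) w) := by
    intro w
    induction w using TensorProduct.induction_on with
    | zero => simp only [map_zero]
    | tmul c x =>
      rw [Algebra.IsPushout.cancelBaseChange_symm_tmul, mulMap_tmul, LinearMap.lTensor_tmul,
        Algebra.IsPushout.equiv_tmul]
      rfl
    | add w₁ w₂ h₁ h₂ => simp only [map_add, h₁, h₂]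
  intro z₁ z₂ h
  obtain ⟨w₁, rfl⟩ := Θ.surjective z₁
  obtain ⟨w₂, rfl⟩ := Θ.surjective z₂
  rw [key, key] at h
  rw [hK (ε.injective h)]

end pushout

section retraction

variable {S P : Type u} [CommRing S] [CommRing P] [Algebra S P]

/-- For a retraction `π` of `S → P`, the kernel of `π` is a direct summand of `P` over `S`, so
tensoring its inclusion stays injective. -/
theorem lTensor_injective_of_retraction (π : P →+* S) (hπ : ∀ s, π (algebraMap S P s) = s)
    (S' : Type u) [CommRing S'] [Algebra S S'] :
    Function.Injective
      (LinearMap.lTensor S' ((Submodule.subtype (RingHom.ker π)).restrictScalars S)) := by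
  let r : P →ₗ[S] (RingHom.ker π) :=
    { toFun := fun p => ⟨p - algebraMap S P (π p), by
        rw [RingHom.mem_ker, map_sub, hπ, sub_self]⟩
      map_add' := fun p q => by
        apply Subtype.ext
        change p + q - algebraMap S P (π (p + q)) =
          (p - algebraMap S P (π p)) + (q - algebraMap S P (π q))
        rw [map_add, map_add]
        ring
      map_smul' := fun s p => by
        apply Subtype.ext
        change s • p - algebraMap S P (π (s • p)) = s • (p - algebraMap S P (π p))
        rw [Algebra.smul_def, map_mul, hπ, map_mul, Algebra.smul_def]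
        ring }
  have hr : r ∘ₗ ((Submodule.subtype (RingHom.ker π)).restrictScalars S) = LinearMap.id := by
    ext x
    change (x : P) - algebraMap S P (π x) = x
    rw [RingHom.mem_ker.mp x.2, map_zero, sub_zero]
  have h2 : (LinearMap.lTensor S' r) ∘ₗ
      (LinearMap.lTensor S' ((Submodule.subtype (RingHom.ker π)).restrictScalars S)) =
      LinearMap.id := by
    rw [← LinearMap.lTensor_comp, hr, LinearMap.lTensor_id]
  intro a b hab
  have := congrArg (LinearMap.lTensor S' r) hab
  have ha := LinearMap.congr_fun h2 a
  have hb := LinearMap.congr_fun h2 b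
  rw [LinearMap.comp_apply, LinearMap.id_apply] at ha hb
  rw [← ha, ← hb, this]

end retraction

end Groth.Agent.Helper19.GrDict
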