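import Mathlib
import Groth.Agent.Helper19.GrDict1
import Groth.Agent.Helper19.GrDict2
import Groth.Agent.Helper19.Conormal7
import Groth.Agent.Helper19.GrDict3
import Groth.Agent.Helper19.GrDict5
set_option autoImplicit false
set_option linter.style.haveILetI false
set_option linter.unusedSectionVars false
universe u

open CategoryTheory CategoryTheory.Limits AlgebraicGeometry Opposite TopologicalSpace
open scoped TensorProduct

/-! # Chart-level injectivity of canonical maps of pulled back ideal modules, general criterion (helper19) -/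

namespace Groth.Agent.Helper19.GrDict

open Groth.Agent.Lib.Helper29.QCoh Groth.Agent.Helper19.OmegaD Groth.Agent.Helper19.OmegaLocal
open Groth.Agent.Helper19.OmegaAlg Groth.Agent.Helper19.Conormal

section chart

variable {Z X Z' X' : Scheme.{u}} (i : Z ⟶ X) (i' : Z' ⟶ X')
  (g : X ⟶ X') (gZ : Z ⟶ Z') (J : X.IdealSheafData) (J' : X'.IdealSheafData)
  (φ : (Scheme.Modules.pullback gZ).obj (PJ i' J') ⟶ PJ i J)
  (hφ : IsJMap i i' g gZ J J' φ)
  (hJ : ∀ (U₁ : X.Opens) (hU₁ : IsAffineOpen U₁) (U₁' : X'.Opens) (hU₁' : IsAffineOpen U₁')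
    (h : U₁ ≤ g ⁻¹ᵁ U₁') (x' : Γ(X', U₁')), x' ∈ J'.ideal ⟨U₁', hU₁'⟩ →
      (g.appLE U₁' U₁ h).hom x' ∈ J.ideal ⟨U₁, hU₁⟩)
  {U' : X'.Opens} (hU' : IsAffineOpen U') {U : X.Opens} (hU : IsAffineOpen U)
  (hUU' : U ≤ g ⁻¹ᵁ U') {V' : Z'.Opens} (eV' : V' ≤ i' ⁻¹ᵁ U') {V : Z.Opens} (eV : V ≤ i ⁻¹ᵁ U)
  (hVV' : V ≤ gZ ⁻¹ᵁ V') (hV : IsAffineOpen V) (hV' : IsAffineOpen V')
  (hJeq : J.ideal ⟨U, hU⟩ = (J'.ideal ⟨U', hU'⟩).map (g.appLE U' U hUU').hom)
  (hc : Function.Surjective (i.appLE U V eV).hom)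
  (hc' : Function.Surjective (i'.appLE U' V' eV').hom)

include hφ hJ hJeq hc hc' hV hV' hVV' in
/-- Injectivity of the canonical map on a chart, when `Γ(X,U) ⊗ J'(U') → Γ(X,U)` is injective. -/
theorem chart_injective'
    (hinj : letI algν : Algebra Γ(X', U') Γ(X, U) := (g.appLE U' U hUU').hom.toAlgebra
      Function.Injective (mulMap (P' := Γ(X, U)) (J'.ideal ⟨U', hU'⟩))) :
    Function.Injective (φ.app V) := by
  letI algν : Algebra Γ(X', U') Γ(X, U) := (g.appLE U' U hUU').hom.toAlgebra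
  let π' : Γ(X, U) →+* Γ(Z, V) := (i.appLE U V eV).hom
  let K : Ideal Γ(X', U') := J'.ideal ⟨U', hU'⟩
  let G : K →+ Γ((Scheme.Modules.pullback gZ).obj (PJ i' J'), V) :=
    { toFun := fun x => res _ hVV' (pullSect gZ (PJ i' J') V' (clsV i' J' hU' eV' x))
      map_zero' := by
        rw [clsV_zero (i := i') (J := J') (hU := hU') (e := eV') hV', map_zero, map_zero]
      map_add' := fun x y => by
        rw [clsV_add (i := i') (J := J') (hU := hU') (e := eV') hV', map_add, map_add] }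
  have hG : ∀ (a : Γ(X', U')) (x : K), G (a • x) = π' (algebraMap Γ(X', U') Γ(X, U) a) • G x := by
    intro a x
    change res _ hVV' (pullSect gZ (PJ i' J') V' (clsV i' J' hU' eV' (a • x))) =
      (i.appLE U V eV).hom ((g.appLE U' U hUU').hom a) •
        res _ hVV' (pullSect gZ (PJ i' J') V' (clsV i' J' hU' eV' x))
    rw [clsV_smul (i := i') (J := J') (hU := hU') (e := eV') hV', pullSect_smul, res_smul,
      appLE_square i i' g gZ J J' φ hφ hUU' eV' eV hVV']
  have hsurj : ∀ t : Γ((Scheme.Modules.pullback gZ).obj (PJ i' J'), V),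
      ∃ z, lam π' K G hG z = t := by
    intro t
    have hspan := pullback_span gZ (PJ i' J') hV hV' hVV' t
    induction hspan using Submodule.span_induction with
    | mem t ht =>
      obtain ⟨s, rfl⟩ := ht
      obtain ⟨x, rfl⟩ := exists_clsV_eq (i := i') (J := J') (hU := hU') (e := eV') hV' hc' s
      refine ⟨(1 : Γ(X, U)) ⊗ₜ x, ?_⟩
      rw [lam_tmul, map_one, one_smul]
      rfl
    | zero => exact ⟨0, map_zero _⟩
    | add a b _ _ iha ihb =>
      obtain ⟨za, rfl⟩ := iha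
      obtain ⟨zb, rfl⟩ := ihb
      exact ⟨za + zb, map_add _ _ _⟩
    | smul c a _ iha =>
      obtain ⟨za, rfl⟩ := iha
      obtain ⟨c', rfl⟩ := hc c
      exact ⟨c' • za, lam_smul π' K G hG c' za⟩
  have hmem : ∀ z : Γ(X, U) ⊗[Γ(X', U')] K, mulMap (P' := Γ(X, U)) K z ∈ J.ideal ⟨U, hU⟩ := by
    intro z
    rw [hJeq]
    exact mulMap_mem K z
  have hcomp : ∀ z : Γ(X, U) ⊗[Γ(X', U')] K,
      φ.app V (lam π' K G hG z) = clsV i J hU eV ⟨mulMap (P' := Γ(X, U)) K z, hmem z⟩ := by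
    intro z
    induction z using TensorProduct.induction_on with
    | zero =>
      have : clsV i J hU eV ⟨mulMap (P' := Γ(X, U)) K 0, hmem 0⟩ = 0 := by
        have h0 : (⟨mulMap (P' := Γ(X, U)) K 0, hmem 0⟩ : J.ideal ⟨U, hU⟩) = 0 :=
          Subtype.ext (map_zero _)
        rw [h0, clsV_zero (i := i) (J := J) (hU := hU) (e := eV) hV]
      rw [this, map_zero, map_zero]
    | tmul b x =>
      rw [lam_tmul]
      have h1 : φ.app V (π' b • G x) = π' b • φ.app V (G x) := (appₗ φ V).map_smul _ _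
      rw [h1]
      have h2 : φ.app V (G x) = clsV i J hU eV
          ⟨(g.appLE U' U hUU').hom x.1, hJ U hU U' hU' hUU' x.1 x.2⟩ :=
        jMap_clsV i i' g gZ J J' φ hφ hJ hU' hU hUU' eV' eV hVV' x ⟨_, _⟩ rfl
      rw [h2, ← clsV_smul (i := i) (J := J) (hU := hU) (e := eV) hV]
      congr 1
      apply Subtype.ext
      exact (mulMap_tmul K b x).symm
    | add z₁ z₂ h₁ h₂ =>
      rw [map_add, map_add, h₁, h₂, ← clsV_add (i := i) (J := J) (hU := hU) (e := eV) hV]
      congr 1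
      apply Subtype.ext
      exact (map_add _ _ _).symm
  have hinj : ∀ t, φ.app V t = 0 → t = 0 := by
    intro t ht
    obtain ⟨z, rfl⟩ := hsurj t
    rw [hcomp] at ht
    have h3 := sectionsEquiv_clsV i J hU eV hV ⟨mulMap (P' := Γ(X, U)) K z, hmem z⟩
    rw [ht, map_zero] at h3
    letI := (i.appLE U V eV).hom.toAlgebra
    have h4 := mem_smul_top_of_one_tmul_eq_zero (P := Γ(X, U)) (S := Γ(Z, V)) hc _ h3.symm
    have h5 : mulMap (P' := Γ(X, U)) K z ∈
        RingHom.ker π' * K.map (algebraMap Γ(X', U') Γ(X, U)) := by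
      have h6 := Submodule.mem_map_of_mem (f := Submodule.subtype (J.ideal ⟨U, hU⟩)) h4
      rw [Submodule.map_smul'', Submodule.map_top, Submodule.range_subtype] at h6
      have h6' : mulMap (P' := Γ(X, U)) K z ∈
          RingHom.ker (algebraMap Γ(X, U) Γ(Z, V)) • (J.ideal ⟨U, hU⟩) := h6
      have h7 : J.ideal ⟨U, hU⟩ = K.map (algebraMap Γ(X', U') Γ(X, U)) := hJeq
      rw [h7] at h6'
      exact h6'
    exact core_vanish' π' K G hG hinj z h5
  intro a b hab
  have h8 : φ.app V (a - b) = 0 := by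
    have : φ.app V (a - b) = φ.app V a - φ.app V b := (appₗ φ V).map_sub a b
    rw [this, hab, sub_self]
  exact sub_eq_zero.mp (hinj _ h8)

end chart

end Groth.Agent.Helper19.GrDict
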