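import Mathlib
import Groth.Agent.Helper19.GrDict4
import Groth.Agent.Helper19.GrDict6
set_option autoImplicit false
set_option linter.style.haveILetI false
set_option linter.unusedSectionVars false
universe u

open CategoryTheory CategoryTheory.Limits AlgebraicGeometry Opposite TopologicalSpace
open scoped TensorProduct

/-! # Base change of the graded pieces of a section (helper19) -/

namespace Groth.Agent.Helper19.GrDict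

open Groth.Agent.Lib.Helper29.QCoh Groth.Agent.Helper19.OmegaD Groth.Agent.Helper19.OmegaLocal
open Groth.Agent.Helper19.OmegaAlg Groth.Agent.Helper19.Conormal

section sections

variable {X Y X' Y' : Scheme.{u}} (g : X ⟶ Y) (f : Y ⟶ X) (hf : f ≫ g = 𝟙 Y)
  (u : Y' ⟶ Y) (v : X' ⟶ X) (g' : X' ⟶ Y') (hsq : IsPullback v g' g u)
  (f' : Y' ⟶ X') (hf' : f' ≫ g' = 𝟙 Y') (hf'v : f' ≫ v = u ≫ f)

include hf hsq hf' hf'v in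
theorem isPullback_section : IsPullback u f' f v := by
  have h1 : IsPullback (f' ≫ g') u u (f ≫ g) := by
    rw [hf, hf']
    exact IsPullback.of_horiz_isIso ⟨by simp⟩
  exact (IsPullback.of_right h1 hf'v hsq.flip).flip

include hf in
theorem section_apply (y : Y) : g (f y) = y := by
  rw [← Scheme.Hom.comp_apply, hf]
  rfl

/-- The basis of `Y'` of section charts. -/
def secBasis : Set Y'.Opens :=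
  {N | ∃ (W : X.Opens) (U'' : Y'.Opens), IsAffineOpen W ∧ W ≤ g ⁻¹ᵁ (f ⁻¹ᵁ W) ∧
    IsAffineOpen U'' ∧ U'' ≤ u ⁻¹ᵁ (f ⁻¹ᵁ W) ∧ N = f' ⁻¹ᵁ (v ⁻¹ᵁ W ⊓ g' ⁻¹ᵁ U'')}

include hf hf' hf'v in
theorem isBasis_secBasis : Opens.IsBasis (secBasis g f u v g' f') := by
  rw [Opens.isBasis_iff_nbhd]
  intro N₀ y' hy'
  have hgf := section_apply g f hf
  have hgf' := section_apply g' f' hf'
  have hvf' : ∀ z : Y', v (f' z) = f (u z) := fun z => by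
    rw [← Scheme.Hom.comp_apply, hf'v, Scheme.Hom.comp_apply]
  obtain ⟨_, ⟨V₀, hV₀, rfl⟩, hyV₀, -⟩ :=
    Y.isBasis_affineOpens.exists_subset_of_mem_open (Set.mem_univ (u y')) isOpen_univ
  have hx : f (u y') ∈ g ⁻¹ᵁ V₀ := by
    change g (f (u y')) ∈ V₀
    rw [hgf]
    exact hyV₀
  obtain ⟨_, ⟨W₀, hW₀, rfl⟩, hxW₀, hW₀V₀⟩ :=
    X.isBasis_affineOpens.exists_subset_of_mem_open hx (g ⁻¹ᵁ V₀).2
  obtain ⟨h, hhle, hyh⟩ := hV₀.exists_basicOpen_le (V := f ⁻¹ᵁ W₀) ⟨u y', hxW₀⟩ hyV₀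
  let W : X.Opens := W₀ ⊓ g ⁻¹ᵁ (Y.basicOpen h)
  have hWeq : X.basicOpen ((g.appLE V₀ W₀ hW₀V₀).hom h) = W :=
    Scheme.basicOpen_appLE g W₀ V₀ hW₀V₀ h
  have hW : IsAffineOpen W := by
    rw [← hWeq]
    exact hW₀.basicOpen _
  have hfW : ∀ y : Y, y ∈ f ⁻¹ᵁ W ↔ y ∈ Y.basicOpen h := by
    intro y
    constructor
    · intro hy
      have h2 : g (f y) ∈ Y.basicOpen h := hy.2
      rw [hgf] at h2
      exact h2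
    · intro hy
      refine ⟨hhle hy, ?_⟩
      change g (f y) ∈ Y.basicOpen h
      rw [hgf]
      exact hy
  have hWW : W ≤ g ⁻¹ᵁ (f ⁻¹ᵁ W) := by
    intro p hp
    exact (hfW (g p)).mpr hp.2
  have hy'W : y' ∈ u ⁻¹ᵁ (f ⁻¹ᵁ W) := (hfW (u y')).mpr hyh
  obtain ⟨_, ⟨U'', hU'', rfl⟩, hy'U'', hU''le⟩ :=
    Y'.isBasis_affineOpens.exists_subset_of_mem_open
      (show y' ∈ ((u ⁻¹ᵁ (f ⁻¹ᵁ W)) ⊓ N₀ : Y'.Opens) from ⟨hy'W, hy'⟩)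
      ((u ⁻¹ᵁ (f ⁻¹ᵁ W)) ⊓ N₀ : Y'.Opens).2
  have hN : ∀ z : Y', z ∈ f' ⁻¹ᵁ (v ⁻¹ᵁ W ⊓ g' ⁻¹ᵁ U'') ↔ z ∈ U'' := by
    intro z
    constructor
    · intro hz
      have h2 : g' (f' z) ∈ U'' := hz.2
      rw [hgf'] at h2
      exact h2
    · intro hz
      refine ⟨?_, ?_⟩
      · change v (f' z) ∈ W
        rw [hvf']
        exact (hU''le hz).1
      · change g' (f' z) ∈ U''
        rw [hgf']
        exact hz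
  refine ⟨f' ⁻¹ᵁ (v ⁻¹ᵁ W ⊓ g' ⁻¹ᵁ U''),
    ⟨W, U'', hW, hWW, hU'', fun z hz => (hU''le hz).1, rfl⟩, (hN y').mpr hy'U'', ?_⟩
  intro z hz
  exact (hU''le ((hN z).mp hz)).2

section pushoutChart

variable [IsClosedImmersion f]

include hsq in
/-- On a section chart, the chart of `X'` is affine and `Γ(X', W') ⊗ K → Γ(X', W')` is injective
as soon as `Γ(Y', U'') ⊗ K → Γ(Y', U'') ⊗ Γ(X, W)` is. -/
theorem mulMap_injective_chart {W : X.Opens} (hW : IsAffineOpen W)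
    (hWW : W ≤ g ⁻¹ᵁ (f ⁻¹ᵁ W)) {U'' : Y'.Opens} (hU'' : IsAffineOpen U'')
    (hle : U'' ≤ u ⁻¹ᵁ (f ⁻¹ᵁ W)) (K : Ideal Γ(X, W))
    (hK : letI := (g.appLE (f ⁻¹ᵁ W) W hWW).hom.toAlgebra
      letI := (u.appLE (f ⁻¹ᵁ W) U'' hle).hom.toAlgebra
      Function.Injective (LinearMap.lTensor Γ(Y', U'')
        ((Submodule.subtype K).restrictScalars Γ(Y, f ⁻¹ᵁ W)))) :
    IsAffineOpen (v ⁻¹ᵁ W ⊓ g' ⁻¹ᵁ U'') ∧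
    (letI := (v.appLE W (v ⁻¹ᵁ W ⊓ g' ⁻¹ᵁ U'') inf_le_left).hom.toAlgebra
     Function.Injective (mulMap (P' := Γ(X', v ⁻¹ᵁ W ⊓ g' ⁻¹ᵁ U'')) K)) := by
  have hV : IsAffineOpen (f ⁻¹ᵁ W) := hW.preimage f
  have hW' : IsAffineOpen (v ⁻¹ᵁ W ⊓ g' ⁻¹ᵁ U'') := by
    have : IsAffine (f ⁻¹ᵁ W).toScheme := hV
    have : IsAffine U''.toScheme := hU''
    have : IsAffine W.toScheme := hW
    exact .of_isIso (Scheme.Hom.isPullback_resLE hsq hle hWW rfl).isoPullback.hom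
  refine ⟨hW', ?_⟩
  letI a1 : Algebra Γ(Y, f ⁻¹ᵁ W) Γ(X, W) := (g.appLE (f ⁻¹ᵁ W) W hWW).hom.toAlgebra
  letI a2 : Algebra Γ(Y, f ⁻¹ᵁ W) Γ(Y', U'') := (u.appLE (f ⁻¹ᵁ W) U'' hle).hom.toAlgebra
  letI a3 : Algebra Γ(X, W) Γ(X', v ⁻¹ᵁ W ⊓ g' ⁻¹ᵁ U'') :=
    (v.appLE W (v ⁻¹ᵁ W ⊓ g' ⁻¹ᵁ U'') inf_le_left).hom.toAlgebra
  letI a4 : Algebra Γ(Y', U'') Γ(X', v ⁻¹ᵁ W ⊓ g' ⁻¹ᵁ U'') :=
    (g'.appLE U'' (v ⁻¹ᵁ W ⊓ g' ⁻¹ᵁ U'') inf_le_right).hom.toAlgebra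
  letI a5 : Algebra Γ(Y, f ⁻¹ᵁ W) Γ(X', v ⁻¹ᵁ W ⊓ g' ⁻¹ᵁ U'') :=
    ((v.appLE W (v ⁻¹ᵁ W ⊓ g' ⁻¹ᵁ U'') inf_le_left).hom.comp
      (g.appLE (f ⁻¹ᵁ W) W hWW).hom).toAlgebra
  haveI t1 : IsScalarTower Γ(Y, f ⁻¹ᵁ W) Γ(X, W) Γ(X', v ⁻¹ᵁ W ⊓ g' ⁻¹ᵁ U'') :=
    IsScalarTower.of_algebraMap_eq (fun x => rfl)
  haveI t2 : IsScalarTower Γ(Y, f ⁻¹ᵁ W) Γ(Y', U'') Γ(X', v ⁻¹ᵁ W ⊓ g' ⁻¹ᵁ U'') := by
    apply IsScalarTower.of_algebraMap_eq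
    intro x
    have e1 : v ⁻¹ᵁ W ⊓ g' ⁻¹ᵁ U'' ≤ (v ≫ g) ⁻¹ᵁ (f ⁻¹ᵁ W) := fun z hz => hWW hz.1
    have e2 : v ⁻¹ᵁ W ⊓ g' ⁻¹ᵁ U'' ≤ (g' ≫ u) ⁻¹ᵁ (f ⁻¹ᵁ W) := fun z hz => hle hz.2
    have h1 : g.appLE (f ⁻¹ᵁ W) W hWW ≫ v.appLE W (v ⁻¹ᵁ W ⊓ g' ⁻¹ᵁ U'') inf_le_left =
        (v ≫ g).appLE (f ⁻¹ᵁ W) (v ⁻¹ᵁ W ⊓ g' ⁻¹ᵁ U'') e1 :=
      Scheme.Hom.appLE_comp_appLE v g _ _ _ hWW inf_le_left
    have h2 : u.appLE (f ⁻¹ᵁ W) U'' hle ≫ g'.appLE U'' (v ⁻¹ᵁ W ⊓ g' ⁻¹ᵁ U'') inf_le_right =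
        (g' ≫ u).appLE (f ⁻¹ᵁ W) (v ⁻¹ᵁ W ⊓ g' ⁻¹ᵁ U'') e2 :=
      Scheme.Hom.appLE_comp_appLE g' u _ _ _ hle inf_le_right
    have h3 : (v ≫ g).appLE (f ⁻¹ᵁ W) (v ⁻¹ᵁ W ⊓ g' ⁻¹ᵁ U'') e1 =
        (g' ≫ u).appLE (f ⁻¹ᵁ W) (v ⁻¹ᵁ W ⊓ g' ⁻¹ᵁ U'') e2 :=
      Groth.Agent.Helper19.OmegaD.appLE_congr hsq.w e1 e2
    exact congrArg (fun k => k.hom x) (h1.trans (h3.trans h2.symm))
  have hpo : IsPushout (g.appLE (f ⁻¹ᵁ W) W hWW) (u.appLE (f ⁻¹ᵁ W) U'' hle)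
      (v.appLE W (v ⁻¹ᵁ W ⊓ g' ⁻¹ᵁ U'') inf_le_left)
      (g'.appLE U'' (v ⁻¹ᵁ W ⊓ g' ⁻¹ᵁ U'') inf_le_right) := by
    haveI := isIso_pushoutSection_of_isAffineOpen hsq hle hWW rfl hV hU'' hW
    exact (isIso_pushoutSection_iff hsq hle hWW rfl).mp inferInstance
  haveI hpo' : Algebra.IsPushout Γ(Y, f ⁻¹ᵁ W) Γ(X, W) Γ(Y', U'')
      Γ(X', v ⁻¹ᵁ W ⊓ g' ⁻¹ᵁ U'') :=
    CommRingCat.isPushout_iff_isPushout.mp hpo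
  haveI hpo'' : Algebra.IsPushout Γ(Y, f ⁻¹ᵁ W) Γ(Y', U'') Γ(X, W)
      Γ(X', v ⁻¹ᵁ W ⊓ g' ⁻¹ᵁ U'') := hpo'.symm
  exact mulMap_injective_of_isPushout (S := Γ(Y, f ⁻¹ᵁ W)) (S' := Γ(Y', U'')) K hK

end pushoutChart

section mainSection

variable [IsClosedImmersion f] (n : ℕ)
  (φ : (Scheme.Modules.pullback u).obj (PrinPart.grMod f n) ⟶ PrinPart.grMod f' n)
  (hφ : PrinPart.IsGrMap f' f v u n φ)

include hf hsq hf' hf'v hφ in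
/-- The canonical map `u^* Gr_n(f) ⟶ Gr_n(f')` for a section `f` is an isomorphism as soon as, on
section charts, `S' ⊗ I^n → S' ⊗ P` is injective. -/
theorem isIso_grMap_section
    (hK : ∀ (W : X.Opens) (hW : IsAffineOpen W) (hWW : W ≤ g ⁻¹ᵁ (f ⁻¹ᵁ W)) (U'' : Y'.Opens)
      (_ : IsAffineOpen U'') (hle : U'' ≤ u ⁻¹ᵁ (f ⁻¹ᵁ W)),
      letI := (g.appLE (f ⁻¹ᵁ W) W hWW).hom.toAlgebra
      letI := (u.appLE (f ⁻¹ᵁ W) U'' hle).hom.toAlgebra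
      Function.Injective (LinearMap.lTensor Γ(Y', U'')
        ((Submodule.subtype ((f.ker ^ n).ideal ⟨W, hW⟩)).restrictScalars Γ(Y, f ⁻¹ᵁ W)))) :
    IsIso φ := by
  have hsq' := isPullback_section g f hf u v g' hsq f' hf' hf'v
  haveI := isClosedImmersion_of_isPullback f v u f' hsq'
  have hJM : IsJMap f' f v u (f'.ker ^ n) (f.ker ^ n) φ := hφ
  apply isIso_of_bijective_on_basis φ _ (isBasis_secBasis g f hf u v g' f' hf' hf'v)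
  rintro N ⟨W, U'', hW, hWW, hU'', hle, rfl⟩
  obtain ⟨hW', hinj⟩ := mulMap_injective_chart g f u v g' hsq hW hWW hU'' hle
    ((f.ker ^ n).ideal ⟨W, hW⟩) (hK W hW hWW U'' hU'' hle)
  have hc : Function.Surjective (f'.appLE (v ⁻¹ᵁ W ⊓ g' ⁻¹ᵁ U'')
      (f' ⁻¹ᵁ (v ⁻¹ᵁ W ⊓ g' ⁻¹ᵁ U'')) (le_refl _)).hom := by
    rw [Scheme.Hom.appLE_eq_app]
    exact f'.app_surjective _ hW'
  have hc' : Function.Surjective (f.appLE W (f ⁻¹ᵁ W) (le_refl _)).hom := by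
    rw [Scheme.Hom.appLE_eq_app]
    exact f.app_surjective W hW
  have hUU' : v ⁻¹ᵁ W ⊓ g' ⁻¹ᵁ U'' ≤ v ⁻¹ᵁ W := inf_le_left
  refine ⟨?_, ?_⟩
  · exact chart_injective' f' f v u (f'.ker ^ n) (f.ker ^ n) φ hJM (ker_pow_mem f v u f' hsq' n)
      (U' := W) hW (U := v ⁻¹ᵁ W ⊓ g' ⁻¹ᵁ U'') hW' hUU' (V' := f ⁻¹ᵁ W) (le_refl _)
      (V := f' ⁻¹ᵁ (v ⁻¹ᵁ W ⊓ g' ⁻¹ᵁ U'')) (le_refl _)
      (preimage_le f v u f' hsq' hUU') (hW'.preimage f') (hW.preimage f)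
      (ker_pow_ideal_eq f v u f' hsq' n hW hW' hUU') hc hc' hinj
  · exact chart_surjective f' f v u (f'.ker ^ n) (f.ker ^ n) φ hJM (ker_pow_mem f v u f' hsq' n)
      (U' := W) hW (U := v ⁻¹ᵁ W ⊓ g' ⁻¹ᵁ U'') hW' hUU' (V' := f ⁻¹ᵁ W) (le_refl _)
      (V := f' ⁻¹ᵁ (v ⁻¹ᵁ W ⊓ g' ⁻¹ᵁ U'')) (le_refl _)
      (preimage_le f v u f' hsq' hUU') (hW'.preimage f')
      (ker_pow_ideal_eq f v u f' hsq' n hW hW' hUU') hc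

end mainSection

section retractionChart

variable [IsClosedImmersion f]

include hf in
theorem section_retraction {W : X.Opens} (hWW : W ≤ g ⁻¹ᵁ (f ⁻¹ᵁ W)) (s : Γ(Y, f ⁻¹ᵁ W)) :
    (f.appLE W (f ⁻¹ᵁ W) (le_refl _)).hom ((g.appLE (f ⁻¹ᵁ W) W hWW).hom s) = s := by
  have e1 : f ⁻¹ᵁ W ≤ (f ≫ g) ⁻¹ᵁ (f ⁻¹ᵁ W) := fun z hz => hWW hz
  have e2 : f ⁻¹ᵁ W ≤ (𝟙 Y) ⁻¹ᵁ (f ⁻¹ᵁ W) := le_refl _
  have h1 : g.appLE (f ⁻¹ᵁ W) W hWW ≫ f.appLE W (f ⁻¹ᵁ W) (le_refl _) =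
      (f ≫ g).appLE (f ⁻¹ᵁ W) (f ⁻¹ᵁ W) e1 :=
    Scheme.Hom.appLE_comp_appLE f g _ _ _ hWW (le_refl _)
  have h2 : (f ≫ g).appLE (f ⁻¹ᵁ W) (f ⁻¹ᵁ W) e1 = (𝟙 Y : Y ⟶ Y).appLE (f ⁻¹ᵁ W) (f ⁻¹ᵁ W) e2 :=
    Groth.Agent.Helper19.OmegaD.appLE_congr hf e1 e2
  have h3 := congrArg (fun k => k.hom s) (h1.trans h2)
  exact h3.trans (id_appLE_apply (f ⁻¹ᵁ W) e2 s)

include hf in
theorem lTensor_injective_chart_one {W : X.Opens} (hW : IsAffineOpen W)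
    (hWW : W ≤ g ⁻¹ᵁ (f ⁻¹ᵁ W)) {U'' : Y'.Opens} (hle : U'' ≤ u ⁻¹ᵁ (f ⁻¹ᵁ W)) :
    letI := (g.appLE (f ⁻¹ᵁ W) W hWW).hom.toAlgebra
    letI := (u.appLE (f ⁻¹ᵁ W) U'' hle).hom.toAlgebra
    Function.Injective (LinearMap.lTensor Γ(Y', U'')
      ((Submodule.subtype ((f.ker ^ 1).ideal ⟨W, hW⟩)).restrictScalars Γ(Y, f ⁻¹ᵁ W))) := by
  letI := (g.appLE (f ⁻¹ᵁ W) W hWW).hom.toAlgebra
  letI := (u.appLE (f ⁻¹ᵁ W) U'' hle).hom.toAlgebra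
  have hKeq : (f.ker ^ 1).ideal ⟨W, hW⟩ = RingHom.ker (f.appLE W (f ⁻¹ᵁ W) (le_refl _)).hom := by
    rw [pow_one, Scheme.Hom.ker_apply, Scheme.Hom.appLE_eq_app]
  rw [hKeq]
  exact lTensor_injective_of_retraction (f.appLE W (f ⁻¹ᵁ W) (le_refl _)).hom
    (section_retraction g f hf hWW) Γ(Y', U'')

end retractionChart

section S5963

variable [IsClosedImmersion f]
  (φ : (Scheme.Modules.pullback u).obj (PrinPart.grMod f 1) ⟶ PrinPart.grMod f' 1)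
  (hφ : PrinPart.IsGrMap f' f v u 1 φ)

include hf hsq hf' hf'v hφ in
/-- The canonical map of conormal sheaves of a section and its base change is an isomorphism. -/
theorem isIso_grMap_section_one : IsIso φ :=
  isIso_grMap_section g f hf u v g' hsq f' hf' hf'v 1 φ hφ
    (fun _ hW hWW _ _ hle => lTensor_injective_chart_one g f hf u hW hWW hle)

end S5963

end sections

end Groth.Agent.Helper19.GrDict
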