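import Mathlib
import Groth.Agent.Helper19.GrDict1
set_option autoImplicit false
set_option linter.style.haveILetI false
universe u

open scoped TensorProduct

/-! # Flat graded pieces give universally injective powers of the ideal of a section (helper19) -/

namespace Groth.Agent.Helper19.GrDict

open Groth.Agent.Helper19.OmegaAlg

section leftInverse

variable {S : Type u} [CommRing S] {M N : Type u} [AddCommGroup M] [Module S M]
  [AddCommGroup N] [Module S N]

theorem lTensor_injective_of_leftInverse (i : M →ₗ[S] N) (r : N →ₗ[S] M)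
    (h : r ∘ₗ i = LinearMap.id) (S₁ : Type u) [AddCommGroup S₁] [Module S S₁] :
    Function.Injective (LinearMap.lTensor S₁ i) := by
  have h2 : (LinearMap.lTensor S₁ r) ∘ₗ (LinearMap.lTensor S₁ i) = LinearMap.id := by
    rw [← LinearMap.lTensor_comp, h, LinearMap.lTensor_id]
  intro a b hab
  have := congrArg (LinearMap.lTensor S₁ r) hab
  have ha := LinearMap.congr_fun h2 a
  have hb := LinearMap.congr_fun h2 b
  rw [LinearMap.comp_apply, LinearMap.id_apply] at ha hb
  rw [← ha, ← hb, this]

end leftInverse

section onetmul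

variable {P S : Type u} [CommRing P] [CommRing S] [Algebra P S]

/-- `1 ⊗ y = 0` in `S ⊗ M` when `y ∈ ker • M`. -/
theorem one_tmul_eq_zero_of_mem_smul_top {M : Type u} [AddCommGroup M] [Module P M] (y : M)
    (hy : y ∈ (RingHom.ker (algebraMap P S)) • (⊤ : Submodule P M)) :
    (1 : S) ⊗ₜ[P] y = 0 := by
  refine Submodule.smul_induction_on hy ?_ ?_
  · intro a ha b _
    rw [← TensorProduct.smul_tmul, Algebra.smul_def, mul_one, RingHom.mem_ker.mp ha,
      TensorProduct.zero_tmul]
  · intro x y hx hy
    rw [TensorProduct.tmul_add, hx, hy, add_zero]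

end onetmul

section flatgr

variable {S P : Type u} [CommRing S] [CommRing P] [Algebra S P] (π : P →+* S)
  (hπ : ∀ s, π (algebraMap S P s) = s)

include hπ in
/-- One step: if `S ⊗_P I^n` is flat over `S`, then `S₁ ⊗_S I^(n+1) → S₁ ⊗_S I^n` is injective. -/
theorem lTensor_inclusion_injective (S₁ : Type u) [CommRing S₁] [Algebra S S₁] (n : ℕ)
    (hflat : letI := π.toAlgebra
      Module.Flat S (S ⊗[P] ↥((RingHom.ker π) ^ n))) :
    Function.Injective (LinearMap.lTensor S₁
      ((Submodule.inclusion (Ideal.pow_le_pow_right (I := RingHom.ker π)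
        (Nat.le_succ n))).restrictScalars S)) := by
  letI algπ : Algebra P S := π.toAlgebra
  haveI := hflat
  have hsurj : Function.Surjective (algebraMap P S) := fun s => ⟨algebraMap S P s, hπ s⟩
  -- the class map
  let fn : ↥((RingHom.ker π) ^ n) →ₗ[S] S ⊗[P] ↥((RingHom.ker π) ^ n) :=
    { toFun := fun x => (1 : S) ⊗ₜ[P] x
      map_add' := fun x y => TensorProduct.tmul_add _ _ _
      map_smul' := fun s x => by
        have h1 : s • x = (algebraMap S P s) • x := (algebraMap_smul P s x).symm
        rw [RingHom.id_apply, h1, ← TensorProduct.smul_tmul, TensorProduct.smul_tmul']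
        congr 1
        rw [Algebra.smul_def, mul_one]
        change π (algebraMap S P s) = s • (1 : S)
        rw [hπ, smul_eq_mul, mul_one] }
  have hfn : Function.Surjective fn := by
    intro t
    obtain ⟨x, hx⟩ := exists_one_tmul_gen (P := P) (S := S) hsurj t
    exact ⟨x, hx.symm⟩
  refine LinearMap.lTensor_injective_of_exact_of_flat fn hfn _ ?_ ?_ S₁
  · intro a b hab
    exact Submodule.inclusion_injective (Ideal.pow_le_pow_right (I := RingHom.ker π)
      (Nat.le_succ n)) hab
  · intro y
    constructor
    · intro hy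
      have h4 := mem_smul_top_of_one_tmul_eq_zero (P := P) (S := S) hsurj y hy
      have h6 := Submodule.mem_map_of_mem (f := Submodule.subtype ((RingHom.ker π) ^ n)) h4
      rw [Submodule.map_smul'', Submodule.map_top, Submodule.range_subtype] at h6
      have h7 : y.1 ∈ (RingHom.ker π) ^ (n + 1) := by
        rw [pow_succ']
        exact h6
      exact ⟨⟨y.1, h7⟩, Subtype.ext rfl⟩
    · rintro ⟨z, rfl⟩
      apply one_tmul_eq_zero_of_mem_smul_top (P := P) (S := S)
      have hz : z.1 ∈ (RingHom.ker π) * (RingHom.ker π) ^ n := by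
        rw [← pow_succ']
        exact z.2
      have h8 : (RingHom.ker (algebraMap P S) • (⊤ : Submodule P ↥((RingHom.ker π) ^ n))).map
          (Submodule.subtype ((RingHom.ker π) ^ n)) = (RingHom.ker π) * (RingHom.ker π) ^ n := by
        rw [Submodule.map_smul'', Submodule.map_top, Submodule.range_subtype]
        rfl
      rw [← h8] at hz
      obtain ⟨y', hy', hy'z⟩ := hz
      have e : ((Submodule.inclusion (Ideal.pow_le_pow_right (I := RingHom.ker π)
          (Nat.le_succ n))).restrictScalars S) z = y' := Subtype.ext hy'z.symm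
      rw [e]
      exact hy'

include hπ in
/-- If `S ⊗_P I^k` is flat over `S` for `k < n`, then `S₁ ⊗_S I^n → S₁ ⊗_S P` is injective. -/
theorem lTensor_injective_of_flat_gr (S₁ : Type u) [CommRing S₁] [Algebra S S₁] (n : ℕ)
    (hflat : letI := π.toAlgebra
      ∀ k < n, Module.Flat S (S ⊗[P] ↥((RingHom.ker π) ^ k))) :
    Function.Injective (LinearMap.lTensor S₁
      ((Submodule.subtype ((RingHom.ker π) ^ n)).restrictScalars S)) := by
  induction n with
  | zero =>
    have h0 : (RingHom.ker π) ^ 0 = ⊤ := by rw [pow_zero, Ideal.one_eq_top]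
    rw [h0]
    let r : P →ₗ[S] ↥(⊤ : Ideal P) :=
      { toFun := fun p => ⟨p, Submodule.mem_top⟩
        map_add' := fun _ _ => rfl
        map_smul' := fun _ _ => rfl }
    exact lTensor_injective_of_leftInverse _ r (by ext x; rfl) S₁
  | succ n ih =>
    have h1 := ih (fun k hk => hflat k (Nat.lt_succ_of_lt hk))
    have h2 := lTensor_inclusion_injective π hπ S₁ n (hflat n (Nat.lt_succ_self n))
    have h3 : (Submodule.subtype ((RingHom.ker π) ^ (n + 1))).restrictScalars S =
        ((Submodule.subtype ((RingHom.ker π) ^ n)).restrictScalars S) ∘ₗ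
          ((Submodule.inclusion (Ideal.pow_le_pow_right (I := RingHom.ker π)
            (Nat.le_succ n))).restrictScalars S) := by
      ext x
      rfl
    rw [h3, LinearMap.lTensor_comp]
    exact h1.comp h2

end flatgr

end Groth.Agent.Helper19.GrDict
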