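import Mathlib
import Groth.Agent.Helper19.GrDict7
import Groth.Agent.Helper19.GrDict8
import Groth.Agent.Lib.Helper9.FlatHartogs
set_option autoImplicit false
set_option linter.style.haveILetI false
set_option linter.unusedSectionVars false
universe u

open CategoryTheory CategoryTheory.Limits AlgebraicGeometry Opposite TopologicalSpace
open scoped TensorProduct

/-! # Base change of the graded pieces of a section with flat graded pieces (helper19) -/

namespace Groth.Agent.Helper19.GrDict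

open Groth.Agent.Lib.Helper29.QCoh Groth.Agent.Helper19.OmegaD Groth.Agent.Helper19.OmegaLocal
open Groth.Agent.Helper19.OmegaAlg Groth.Agent.Helper19.Conormal

section sectionsFlat

variable {X Y X' Y' : Scheme.{u}} (g : X ⟶ Y) (f : Y ⟶ X) (hf : f ≫ g = 𝟙 Y)
  (u : Y' ⟶ Y) (v : X' ⟶ X) (g' : X' ⟶ Y') (hsq : IsPullback v g' g u)
  (f' : Y' ⟶ X') (hf' : f' ≫ g' = 𝟙 Y') (hf'v : f' ≫ v = u ≫ f) [IsClosedImmersion f]

theorem ker_pow_ideal_eq_pow {W : X.Opens} (hW : IsAffineOpen W) (k : ℕ) :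
    (f.ker ^ k).ideal ⟨W, hW⟩ = (RingHom.ker (f.appLE W (f ⁻¹ᵁ W) (le_refl _)).hom) ^ k := by
  rw [Scheme.IdealSheafData.ideal_pow, Pi.pow_apply, Scheme.Hom.ker_apply,
    Scheme.Hom.appLE_eq_app]

include hf in
theorem lTensor_injective_chart_flat {W : X.Opens} (hW : IsAffineOpen W)
    (hWW : W ≤ g ⁻¹ᵁ (f ⁻¹ᵁ W)) {U'' : Y'.Opens} (hle : U'' ≤ u ⁻¹ᵁ (f ⁻¹ᵁ W)) (n : ℕ)
    (hflat : ∀ k < n, FlatMod.IsFlat (PrinPart.grMod f k)) :
    letI := (g.appLE (f ⁻¹ᵁ W) W hWW).hom.toAlgebra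
    letI := (u.appLE (f ⁻¹ᵁ W) U'' hle).hom.toAlgebra
    Function.Injective (LinearMap.lTensor Γ(Y', U'')
      ((Submodule.subtype ((f.ker ^ n).ideal ⟨W, hW⟩)).restrictScalars Γ(Y, f ⁻¹ᵁ W))) := by
  letI := (g.appLE (f ⁻¹ᵁ W) W hWW).hom.toAlgebra
  letI := (u.appLE (f ⁻¹ᵁ W) U'' hle).hom.toAlgebra
  rw [ker_pow_ideal_eq_pow f hW n]
  apply lTensor_injective_of_flat_gr (f.appLE W (f ⁻¹ᵁ W) (le_refl _)).hom
    (section_retraction g f hf hWW) Γ(Y', U'') n
  intro k hk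
  rw [← ker_pow_ideal_eq_pow f hW k]
  have hV : IsAffineOpen (f ⁻¹ᵁ W) := hW.preimage f
  haveI : (PrinPart.grMod f k).IsQuasicoherent :=
    (inferInstance : (PJ f (f.ker ^ k)).IsQuasicoherent)
  haveI h1 : Module.Flat Γ(Y, f ⁻¹ᵁ W) Γ(PJ f (f.ker ^ k), f ⁻¹ᵁ W) :=
    Groth.Agent.Lib.Helper9.FlatHartogs.flat_sections (PrinPart.grMod f k) (hflat k hk) hV
  exact Module.Flat.of_linearEquiv (sectionsEquiv f (f.ker ^ k) hW (le_refl _) hV).symm

variable (m : ℕ) (hflat : ∀ k ≤ m, FlatMod.IsFlat (PrinPart.grMod f k)) {n : ℕ} (hn : n ≤ m)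
  (φ : (Scheme.Modules.pullback u).obj (PrinPart.grMod f n) ⟶ PrinPart.grMod f' n)
  (hφ : PrinPart.IsGrMap f' f v u n φ)

include hf hsq hf' hf'v hφ hflat hn in
/-- Base change of `Gr_n` of a section whose lower graded pieces are flat. -/
theorem isIso_grMap_section_flat : IsIso φ :=
  isIso_grMap_section g f hf u v g' hsq f' hf' hf'v n φ hφ
    (fun _ hW hWW _ _ hle => lTensor_injective_chart_flat g f hf u hW hWW hle n
      (fun k hk => hflat k (le_trans (le_of_lt hk) hn)))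

end sectionsFlat

end Groth.Agent.Helper19.GrDict
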