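import Mathlib
import Groth.Agent.S7225
set_option autoImplicit false
set_option linter.style.haveILetI false
set_option linter.unusedSectionVars false
universe u

open scoped TensorProduct
open Algebra

/-! # The ideal-to-`H¹(L)` map -/

namespace Groth.Agent.Helper19.H1Cot

section iota

variable (A B : Type u) [CommRing A] [CommRing B] [Algebra A B]

/-- The constant polynomial `C x` as an element of the extension ring. -/
noncomputable def cP (x : A) : (Generators.self A B).toExtension.Ring :=
  (MvPolynomial.C x : MvPolynomial B A)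

theorem cP_mem_ker (x : A) (hx : algebraMap A B x = 0) :
    cP A B x ∈ (Generators.self A B).toExtension.ker := by
  rw [Groth.Agent.S7225.mem_ker_iff]
  show MvPolynomial.aeval (Generators.self A B).val (MvPolynomial.C x) = 0
  rw [MvPolynomial.aeval_C, hx]

/-- The class of `C x` in the cotangent module. -/
noncomputable def cotMk (x : A) (hx : algebraMap A B x = 0) :
    (Generators.self A B).toExtension.Cotangent :=
  Extension.Cotangent.mk ⟨cP A B x, cP_mem_ker A B x hx⟩

theorem cotangentComplex_cotMk (x : A) (hx : algebraMap A B x = 0) :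
    (Generators.self A B).toExtension.cotangentComplex (cotMk A B x hx) = 0 := by
  unfold cotMk
  rw [Extension.cotangentComplex_mk]
  have : (KaehlerDifferential.D A (Generators.self A B).toExtension.Ring) (cP A B x) = 0 := by
    have h := (KaehlerDifferential.D A (Generators.self A B).toExtension.Ring).map_algebraMap x
    exact h
  rw [this, TensorProduct.tmul_zero]

/-- The class of `x ∈ ker (A → B)` in `H¹(L_{B/A})`. -/
noncomputable def iotaH (x : A) (hx : algebraMap A B x = 0) : H1Cotangent A B :=
  ⟨cotMk A B x hx, cotangentComplex_cotMk A B x hx⟩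

theorem iotaH_val (x : A) (hx : algebraMap A B x = 0) : (iotaH A B x hx).1 = cotMk A B x hx := rfl

theorem cotMk_add (x y : A) (hx : algebraMap A B x = 0) (hy : algebraMap A B y = 0)
    (hxy : algebraMap A B (x + y) = 0) :
    cotMk A B (x + y) hxy = cotMk A B x hx + cotMk A B y hy := by
  unfold cotMk
  rw [← map_add]
  congr 1
  apply Subtype.ext
  exact (MvPolynomial.C : A →+* MvPolynomial B A).map_add x y

theorem iotaH_add (x y : A) (hx : algebraMap A B x = 0) (hy : algebraMap A B y = 0) :
    iotaH A B (x + y) (by rw [map_add, hx, hy, add_zero]) = iotaH A B x hx + iotaH A B y hy :=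
  Subtype.ext (cotMk_add A B x y hx hy (by rw [map_add, hx, hy, add_zero]))

theorem cotMk_smul (a x : A) (hx : algebraMap A B x = 0) (hax : algebraMap A B (a * x) = 0) :
    cotMk A B (a * x) hax = a • cotMk A B x hx := by
  have h1 : a • cotMk A B x hx = (algebraMap A B a) • cotMk A B x hx := rfl
  rw [h1, Groth.Agent.S7225.C_smul_mk A B (Generators.self A B) a]
  unfold cotMk
  rw [← map_smul]
  congr 1
  apply Subtype.ext
  exact (MvPolynomial.C : A →+* MvPolynomial B A).map_mul a x

theorem iotaH_smul (a x : A) (hx : algebraMap A B x = 0) :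
    iotaH A B (a * x) (by rw [map_mul, hx, mul_zero]) = a • iotaH A B x hx :=
  Subtype.ext (cotMk_smul A B a x hx (by rw [map_mul, hx, mul_zero]))

theorem iotaH_congr {x y : A} (h : x = y) (hx : algebraMap A B x = 0) :
    iotaH A B x hx = iotaH A B y (h ▸ hx) := by
  subst h; rfl

variable {A B}

/-- The map `I → H¹(L_{B/A})` for an ideal `I` contained in the kernel. -/
noncomputable def iotaL (I : Ideal A) (hI : ∀ x ∈ I, algebraMap A B x = 0) :
    I →ₗ[A] H1Cotangent A B where
  toFun x := iotaH A B x.1 (hI x.1 x.2)
  map_add' x y := iotaH_add A B x.1 y.1 (hI x.1 x.2) (hI y.1 y.2)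
  map_smul' a x := iotaH_smul A B a x.1 (hI x.1 x.2)

theorem iotaL_apply (I : Ideal A) (hI : ∀ x ∈ I, algebraMap A B x = 0) (x : I) :
    iotaL I hI x = iotaH A B x.1 (hI x.1 x.2) := rfl

/-- The canonical map `B ⊗_A I → H¹(L_{B/A})`. -/
noncomputable def kappa (I : Ideal A) (hI : ∀ x ∈ I, algebraMap A B x = 0) :
    B ⊗[A] I →ₗ[B] H1Cotangent A B :=
  LinearMap.liftBaseChange B (iotaL I hI)

theorem kappa_tmul (I : Ideal A) (hI : ∀ x ∈ I, algebraMap A B x = 0) (b : B) (x : I) :
    kappa I hI (b ⊗ₜ x) = b • iotaH A B x.1 (hI x.1 x.2) := by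
  unfold kappa
  rw [LinearMap.liftBaseChange_tmul, iotaL_apply]

end iota

section naturality

variable (A A' B B' : Type u) [CommRing A] [CommRing A'] [CommRing B] [CommRing B']
  [Algebra A A'] [Algebra A B] [Algebra A B'] [Algebra A' B'] [IsScalarTower A A' B']
  [Algebra B B'] [IsScalarTower A B B']

theorem map_cotMk (x : A) (hx : algebraMap A B x = 0)
    (hx' : algebraMap A' B' (algebraMap A A' x) = 0) :
    Extension.Cotangent.map
      (Generators.defaultHom (Generators.self A B) (Generators.self A' B')).toExtensionHom
      (cotMk A B x hx) = cotMk A' B' (algebraMap A A' x) hx' := by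
  unfold cotMk
  rw [Extension.Cotangent.map_mk]
  congr 1
  apply Subtype.ext
  show (Generators.defaultHom (Generators.self A B) (Generators.self A' B')).toExtensionHom.toAlgHom
    (cP A B x) = cP A' B' (algebraMap A A' x)
  unfold cP
  show MvPolynomial.aeval _ (MvPolynomial.C x : MvPolynomial B A) = _
  rw [MvPolynomial.aeval_C]
  show (algebraMap A' (MvPolynomial B' A')) (algebraMap A A' x) = _
  rw [MvPolynomial.algebraMap_eq]

theorem algebraMap_eq_zero (x : A) (hx : algebraMap A B x = 0) :
    algebraMap A' B' (algebraMap A A' x) = 0 := by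
  rw [← IsScalarTower.algebraMap_apply A A' B', IsScalarTower.algebraMap_apply A B B', hx,
    map_zero]

theorem map_iotaH (x : A) (hx : algebraMap A B x = 0) :
    H1Cotangent.map A A' B B' (iotaH A B x hx) =
      iotaH A' B' (algebraMap A A' x) (algebraMap_eq_zero A A' B B' x hx) :=
  Subtype.ext (map_cotMk A A' B B' x hx (algebraMap_eq_zero A A' B B' x hx))

end naturality

section bijective

variable {R S R' S' : Type u} [CommRing R] [CommRing S] [Algebra R S]
  [CommRing R'] [CommRing S'] [Algebra R' S'] [Algebra R R'] [Algebra S S'] [Algebra R S']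
  [IsScalarTower R R' S'] [IsScalarTower R S S']

theorem h1map_bijective_of_bijective {P : Algebra.Extension.{u} R S}
    {P' : Algebra.Extension.{u} R' S'} (f : P.Hom P')
    (h1 : Function.Bijective (Algebra.Extension.Cotangent.map f))
    (h2 : Function.Injective (Algebra.Extension.CotangentSpace.map f)) :
    Function.Bijective (Algebra.Extension.H1Cotangent.map f) := by
  constructor
  · intro x y hxy
    apply Subtype.ext
    apply h1.1
    exact congrArg Subtype.val hxy
  · intro y
    obtain ⟨x, hx⟩ := h1.2 y.1
    have hx0 : P.cotangentComplex x = 0 := by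
      apply h2
      rw [Algebra.Extension.CotangentSpace.map_cotangentComplex, hx, map_zero]
      exact y.2
    exact ⟨⟨x, hx0⟩, Subtype.ext hx⟩

end bijective

section baseLoc

variable (A A' T : Type u) [CommRing A] [CommRing A'] [CommRing T]
  [Algebra A A'] (M : Submonoid A) [IsLocalization M A'] [Algebra A' T] [Algebra A T]
  [IsScalarTower A A' T]

include M in
/-- Localizing the base does not change `H¹(L)`. -/
theorem map_bijective_of_isLocalization_base :
    Function.Bijective (H1Cotangent.map A A' T T) := by
  have h : ∀ i, (Generators.self A' T).val i = algebraMap T T ((Generators.self A T).val i) :=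
    fun i => rfl
  have e : H1Cotangent.map A A' T T = Extension.H1Cotangent.map
      (NLCx.sameVarsHom (S' := T) (Generators.self A T) (Generators.self A' T)
        h).toExtensionHom :=
    Extension.H1Cotangent.map_eq _ _
  rw [e]
  exact h1map_bijective_of_bijective _
    ⟨Groth.Agent.S7225.cotangent_injective A A' T M _ _ h,
      Groth.Agent.S7225.cotangent_surjective A A' T M _ _ h⟩
    (Groth.Agent.S7225.cotangentSpace_bijective A A' T _ _ h).1

end baseLoc

end Groth.Agent.Helper19.H1Cot
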