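import Mathlib
import Groth.Agent.Helper19.H1Cot
import Groth.Agent.Helper19.Conormal4
set_option autoImplicit false
set_option linter.style.haveILetI false
set_option linter.unusedSectionVars false
universe u

open scoped TensorProduct
open Algebra

namespace Groth.Agent.Helper19.H1Cot

section closed

variable (A B : Type u) [CommRing A] [CommRing B] [Algebra A B]
  (hs : Function.Surjective (algebraMap A B))

/-- The extension `A → B` for a surjective algebra map. -/
noncomputable def extSurj : Extension.{u} A B where
  Ring := A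
  σ b := (hs b).choose
  algebraMap_σ b := (hs b).choose_spec

theorem mem_ker_extSurj (x : A) (hx : algebraMap A B x = 0) : x ∈ (extSurj A B hs).ker := hx

theorem equiv_symm_mk (x : A) (hx : algebraMap A B x = 0) :
    (extSurj A B hs).h1CotangentEquivCotangent.symm
      (Extension.Cotangent.mk ⟨x, mem_ker_extSurj A B hs x hx⟩) = iotaH A B x hx := by
  apply Subtype.ext
  rw [iotaH_val]
  unfold cotMk
  rfl

theorem equiv_iotaH (x : A) (hx : algebraMap A B x = 0) :
    (extSurj A B hs).h1CotangentEquivCotangent (iotaH A B x hx) =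
      Extension.Cotangent.mk ⟨x, mem_ker_extSurj A B hs x hx⟩ := by
  have h := equiv_symm_mk A B hs x hx
  rw [← h]
  exact LinearEquiv.apply_symm_apply _ _

open Groth.Agent.Helper19.OmegaAlg in
include hs in
/-- For a surjective `A → B` with kernel `I`, `B ⊗_A I → H¹(L_{B/A})` is bijective. -/
theorem kappa_bijective_of_surjective (I : Ideal A) (hI : RingHom.ker (algebraMap A B) = I)
    (hI0 : ∀ x ∈ I, algebraMap A B x = 0) :
    Function.Bijective (kappa (B := B) I hI0) := by
  have hker : (extSurj A B hs).ker = I := hI
  constructor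
  · rw [injective_iff_map_eq_zero]
    intro t ht
    obtain ⟨x, rfl⟩ := exists_one_tmul' I hI hs t
    rw [kappa_tmul, one_smul] at ht
    have h2 : (extSurj A B hs).h1CotangentEquivCotangent (iotaH A B x.1 (hI0 x.1 x.2)) =
        (extSurj A B hs).h1CotangentEquivCotangent 0 := congrArg _ ht
    rw [equiv_iotaH A B hs, map_zero, Extension.Cotangent.mk_eq_zero_iff] at h2
    rw [one_tmul_eq_zero_iff' I hI hs x]
    have h3 : ∀ y : A, y ∈ (extSurj A B hs).ker ^ 2 → y ∈ I ^ 2 := by
      intro y hy; rw [hker] at hy; exact hy
    exact h3 _ h2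
  · intro h
    obtain ⟨⟨x, hx⟩, hx2⟩ := Extension.Cotangent.mk_surjective
      ((extSurj A B hs).h1CotangentEquivCotangent h)
    have hxI : x ∈ I := by rw [← hker]; exact hx
    refine ⟨(1 : B) ⊗ₜ[A] ⟨x, hxI⟩, ?_⟩
    rw [kappa_tmul, one_smul]
    apply (extSurj A B hs).h1CotangentEquivCotangent.injective
    rw [equiv_iotaH A B hs]
    exact hx2

end closed

end Groth.Agent.Helper19.H1Cot
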