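import Mathlib
import Groth.Agent.Helper19.H1Cot2
set_option autoImplicit false
set_option linter.style.haveILetI false
set_option linter.unusedSectionVars false
universe u

open scoped TensorProduct
open Algebra

namespace Groth.Agent.Helper19.H1Cot

section locker

variable (A A' B B' : Type u) [CommRing A] [CommRing A'] [CommRing B] [CommRing B']
  [Algebra A A'] [Algebra A B] [Algebra A B'] [Algebra A' B'] [IsScalarTower A A' B']
  [Algebra B B'] [IsScalarTower A B B']

/-- `H¹(L_{B/A}) → H¹(L_{B'/A'})` factors through `H¹(L_{B'/A})`. -/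
theorem map_eq_map_map (x : H1Cotangent A B) :
    H1Cotangent.map A A' B B' x = H1Cotangent.map A A' B' B' (H1Cotangent.map A A B B' x) := by
  unfold H1Cotangent.map
  rw [← Extension.H1Cotangent.map_comp_apply]
  exact congrFun (congrArg DFunLike.coe (Extension.H1Cotangent.map_eq _ _)) x

variable (M : Submonoid A) [IsLocalization M A'] (b : B) [IsLocalization.Away b B']

include M in
/-- The kernel of `H¹(L_{B/A}) → H¹(L_{B_b/A'})` (`A'` a localization of `A`) is `b`-power
torsion. -/
theorem exists_pow_smul_eq_zero_of_map_eq_zero (x : H1Cotangent A B)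
    (hx : H1Cotangent.map A A' B B' x = 0) : ∃ k : ℕ, b ^ k • x = 0 := by
  rw [map_eq_map_map] at hx
  have h1 : H1Cotangent.map A A B B' x = 0 := by
    apply (map_bijective_of_isLocalization_base A A' B' M).1
    rw [hx, map_zero]
  haveI : IsLocalizedModule (Submonoid.powers b) (H1Cotangent.map A A B B') :=
    H1Cotangent.isLocalizedModule A B' (Submonoid.powers b)
  obtain ⟨⟨c, k, rfl⟩, hc⟩ := (IsLocalizedModule.eq_zero_iff (Submonoid.powers b)
    (H1Cotangent.map A A B B')).mp h1
  exact ⟨k, hc⟩

end locker

end Groth.Agent.Helper19.H1Cot
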