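import Mathlib.RingTheory.Jacobson.Ideal
import Mathlib.RingTheory.Ideal.GoingUp
import Mathlib.RingTheory.Finiteness.Defs
import Mathlib.RingTheory.IntegralClosure.IsIntegralClosure.Basic

/-!
# Idempotents and the Jacobson radical

* `map_le_jacobson_of_isIntegral` : `I ≤ Jac(A)`, `B` integral over `A` ⟹ `IB ≤ Jac(B)`
* `idempotent_eq_of_sub_mem_jacobson` : idempotents congruent modulo the Jacobson radical are equal
-/

set_option autoImplicit false

namespace Groth.Agent.Helper19.Idem

theorem map_le_jacobson_of_isIntegral {A B : Type*} [CommRing A] [CommRing B] [Algebra A B]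
    [Algebra.IsIntegral A B] (I : Ideal A) (hI : I ≤ Ideal.jacobson ⊥) :
    Ideal.map (algebraMap A B) I ≤ Ideal.jacobson ⊥ := by
  rw [Ideal.map_le_iff_le_comap]
  intro x hx
  rw [Ideal.mem_comap, Ideal.jacobson, Ideal.mem_sInf]
  rintro n ⟨-, hn⟩
  have : (n.comap (algebraMap A B)).IsMaximal :=
    Ideal.isMaximal_comap_of_isIntegral_of_isMaximal (R := A) n
  have hx' : x ∈ Ideal.jacobson (⊥ : Ideal A) := hI hx
  rw [Ideal.jacobson, Ideal.mem_sInf] at hx'
  exact hx' ⟨bot_le, this⟩

theorem idempotent_eq_of_sub_mem_jacobson {B : Type*} [CommRing B] {e e' : B}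
    (he : IsIdempotentElem e) (he' : IsIdempotentElem e')
    (h : e - e' ∈ Ideal.jacobson (⊥ : Ideal B)) : e = e' := by
  set x := e - e' with hx
  have h3 : x * (1 - x * x) = 0 := by
    have he2 : e * e = e := he
    have he'2 : e' * e' = e' := he'
    have : x * x * x = x := by
      rw [hx]
      have : (e - e') * (e - e') * (e - e') =
          e * e * e - 3 * (e * e) * e' + 3 * e * (e' * e') - e' * e' * e' := by ring
      rw [this, he2, he'2, he2, he'2]; ring
    rw [mul_sub, mul_one, ← mul_assoc, this, sub_self]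
  have hu : IsUnit (1 - x * x) := by
    have := Ideal.mem_jacobson_bot.mp ((Ideal.jacobson ⊥).mul_mem_left x h) (-1)
    convert this using 1
    ring
  have : x = 0 := by
    have := hu.mul_left_eq_zero.mp h3
    exact this
  exact sub_eq_zero.mp this

end Groth.Agent.Helper19.Idem
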