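import Mathlib
import Groth.Agent.Helper19.QuasiRegScheme

/-!
# The ideal of an intersection of closed subschemes, and points of a closed subscheme (helper19)
-/

set_option autoImplicit false
universe u

open CategoryTheory CategoryTheory.Limits AlgebraicGeometry TopologicalSpace

namespace Groth.Agent.Helper19.InterCM

open Groth.Agent.Helper19.QuasiRegScheme

variable {X Y Z : Scheme.{u}}

/-- the ideal sheaf of the intersection `Y ×_X Z` of two closed subschemes is the sum of the ideal
sheaves -/
theorem ker_pullback_fst_comp (iY : Y ⟶ X) (iZ : Z ⟶ X) [IsClosedImmersion iY]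
    [IsClosedImmersion iZ] : (pullback.fst iY iZ ≫ iY).ker = iY.ker ⊔ iZ.ker := by
  apply le_antisymm
  · -- the subscheme of the sum maps to the pullback
    let L : X.IdealSheafData := iY.ker ⊔ iZ.ker
    have hY : iY.ker ≤ L.subschemeι.ker := by
      rw [Scheme.IdealSheafData.ker_subschemeι]
      exact le_sup_left
    have hZ : iZ.ker ≤ L.subschemeι.ker := by
      rw [Scheme.IdealSheafData.ker_subschemeι]
      exact le_sup_right
    let φ : L.subscheme ⟶ pullback iY iZ :=
      pullback.lift (IsClosedImmersion.lift iY L.subschemeι hY)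
        (IsClosedImmersion.lift iZ L.subschemeι hZ)
        (by rw [IsClosedImmersion.lift_fac, IsClosedImmersion.lift_fac])
    have hφ : φ ≫ (pullback.fst iY iZ ≫ iY) = L.subschemeι := by
      rw [← Category.assoc, pullback.lift_fst, IsClosedImmersion.lift_fac]
    have h1 := Scheme.Hom.le_ker_comp φ (pullback.fst iY iZ ≫ iY)
    rw [hφ, Scheme.IdealSheafData.ker_subschemeι] at h1
    exact h1
  · apply sup_le
    · exact Scheme.Hom.le_ker_comp (pullback.fst iY iZ) iY
    · rw [pullback.condition]
      exact Scheme.Hom.le_ker_comp (pullback.snd iY iZ) iZ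

/-- a point of an affine open at which all sections of the ideal vanish lies on the closed
subscheme -/
theorem mem_range_of_ideal_le (i : Z ⟶ X) [IsClosedImmersion i] (U : X.Opens)
    (hU : IsAffineOpen U) (x : X) (hx : x ∈ U)
    (h : i.ker.ideal ⟨U, hU⟩ ≤ (hU.primeIdealOf ⟨x, hx⟩).asIdeal) : x ∈ Set.range i := by
  have h1 : x ∈ i.ker.support := by
    rw [Scheme.IdealSheafData.mem_support_iff_of_mem (U := ⟨U, hU⟩) hx, Scheme.mem_zeroLocus_iff]
    intro s hs
    exact (mem_primeIdealOf_iff hU x hx s).mp (h hs)
  have h2 : (i.ker.support : Set X) = closure (Set.range i) := by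
    rw [Scheme.Hom.support_ker]
  have h3 : IsClosed (Set.range i) := i.isClosedEmbedding.isClosed_range
  have h4 : x ∈ (i.ker.support : Set X) := h1
  rw [h2, h3.closure_eq] at h4
  exact h4

end Groth.Agent.Helper19.InterCM
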