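import Mathlib
import Groth.Prelude.Def_RegImm
import Groth.Agent.Helper19.InterCM1
import Groth.Agent.Helper19.RegNear

/-!
# Stalks of ideal sheaves: independence of the chart, heights, regular generators (helper19)
-/

set_option autoImplicit false
universe u

open CategoryTheory CategoryTheory.Limits AlgebraicGeometry TopologicalSpace RingTheory.Sequence

namespace Groth.Agent.Helper19.InterCM

open Groth.Agent.Helper19.QuasiRegScheme

variable {X Z : Scheme.{u}}

/-- the extension of an ideal sheaf to the stalk does not depend on the affine chart -/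
theorem map_germ_eq (I : X.IdealSheafData) (x : X) (U V : X.affineOpens) (hxU : x ∈ U.1)
    (hxV : x ∈ V.1) :
    (I.ideal U).map (X.presheaf.germ U.1 x hxU).hom =
      (I.ideal V).map (X.presheaf.germ V.1 x hxV).hom := by
  obtain ⟨_, ⟨W, hW, rfl⟩, hxW, hWle⟩ :=
    X.isBasis_affineOpens.exists_subset_of_mem_open (show x ∈ (U.1 ⊓ V.1 : X.Opens) from ⟨hxU, hxV⟩)
      (U.1 ⊓ V.1).2
  have hWU : (⟨W, hW⟩ : X.affineOpens) ≤ U := fun y hy => (hWle hy).1
  have hWV : (⟨W, hW⟩ : X.affineOpens) ≤ V := fun y hy => (hWle hy).2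
  have key : ∀ (U' : X.affineOpens) (h : (⟨W, hW⟩ : X.affineOpens) ≤ U') (hx' : x ∈ U'.1),
      (I.ideal U').map (X.presheaf.germ U'.1 x hx').hom =
        (I.ideal ⟨W, hW⟩).map (X.presheaf.germ W x hxW).hom := by
    intro U' h hx'
    have e : X.presheaf.map (homOfLE h).op ≫ X.presheaf.germ W x hxW =
        X.presheaf.germ U'.1 x hx' := X.presheaf.germ_res (homOfLE h) x hxW
    rw [← I.map_ideal h, Ideal.map_map, ← CommRingCat.hom_comp, e]
  rw [key U hWU hxU, key V hWV hxV]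

/-- the point of an affine open given by a prime ideal has that prime ideal -/
theorem primeIdealOf_fromSpec {U : X.Opens} (hU : IsAffineOpen U) (q : PrimeSpectrum Γ(X, U))
    (h : hU.fromSpec q ∈ U) : hU.primeIdealOf ⟨hU.fromSpec q, h⟩ = q := by
  apply hU.fromSpec.isOpenEmbedding.injective
  exact hU.fromSpec_primeIdealOf ⟨hU.fromSpec q, h⟩

theorem fromSpec_mem {U : X.Opens} (hU : IsAffineOpen U) (q : PrimeSpectrum Γ(X, U)) :
    hU.fromSpec q ∈ U := by
  have h : hU.fromSpec q ∈ Set.range hU.fromSpec := ⟨q, rfl⟩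
  rw [hU.range_fromSpec] at h
  exact h

/-- If the local rings of `X` at all points of a closed subscheme `W` have dimension at least `c`,
then the ideal of `W` in every local ring of `X` has height at least `c`. -/
theorem le_height_map_germ {W : Scheme.{u}} (w : W ⟶ X) [IsClosedImmersion w] (c : ℕ)
    (hcodim : ∀ w₁ : W, (c : WithBot ℕ∞) ≤ ringKrullDim (X.presheaf.stalk (w w₁)))
    (U : X.Opens) (hU : IsAffineOpen U) (x : X) (hx : x ∈ U) :
    (c : ℕ∞) ≤ ((w.ker.ideal ⟨U, hU⟩).map (X.presheaf.germ U x hx).hom).height := by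
  letI : Algebra Γ(X, U) (X.presheaf.stalk x) :=
    TopCat.Presheaf.algebra_section_stalk X.presheaf ⟨x, hx⟩
  haveI hloc : IsLocalization.AtPrime (X.presheaf.stalk x)
      (hU.primeIdealOf ⟨x, hx⟩).asIdeal := hU.isLocalization_stalk ⟨x, hx⟩
  have hmapeq : (w.ker.ideal ⟨U, hU⟩).map (X.presheaf.germ U x hx).hom =
      (w.ker.ideal ⟨U, hU⟩).map (algebraMap Γ(X, U) (X.presheaf.stalk x)) := rfl
  rw [hmapeq, ← IsLocalization.height_under (hU.primeIdealOf ⟨x, hx⟩).asIdeal.primeCompl,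
    Ideal.height_eq_inf_minimalPrimes]
  refine le_iInf₂ fun q hq => ?_
  haveI hqp : q.IsPrime := hq.1.1
  have hle : w.ker.ideal ⟨U, hU⟩ ≤ q := le_trans Ideal.le_comap_map hq.1.2
  have hx' : hU.fromSpec ⟨q, hqp⟩ ∈ U := fromSpec_mem hU _
  have hpr := primeIdealOf_fromSpec hU ⟨q, hqp⟩ hx'
  have hmem : hU.fromSpec ⟨q, hqp⟩ ∈ Set.range w := by
    apply mem_range_of_ideal_le w U hU _ hx'
    rw [hpr]
    exact hle
  obtain ⟨w₁, hw₁⟩ := hmem
  have h1 := hcodim w₁
  rw [hw₁] at h1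
  letI : Algebra Γ(X, U) (X.presheaf.stalk (hU.fromSpec ⟨q, hqp⟩)) :=
    TopCat.Presheaf.algebra_section_stalk X.presheaf ⟨_, hx'⟩
  haveI : IsLocalization.AtPrime (X.presheaf.stalk (hU.fromSpec ⟨q, hqp⟩)) q :=
    hU.isLocalization_stalk' ⟨q, hqp⟩ hx'
  rw [IsLocalization.AtPrime.ringKrullDim_eq_height q
    (X.presheaf.stalk (hU.fromSpec ⟨q, hqp⟩))] at h1
  exact_mod_cast h1

/-- the ideal of a regular closed immersion of codimension `d` in a local ring of `X` is generated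
by a regular sequence of length `d` -/
theorem exists_regular_stalk (i : Z ⟶ X) [IsClosedImmersion i] (d : ℕ)
    (hi : RegImm.IsRegularImmersionOfCodim RegImm.Kind.regular d i) (z : Z) (x : X)
    (hzx : i z = x) (U : X.affineOpens) (hxU : x ∈ U.1) :
    ∃ l : List (X.presheaf.stalk x), l.length = d ∧ IsWeaklyRegular (X.presheaf.stalk x) l ∧
      Ideal.ofList l = (i.ker.ideal U).map (X.presheaf.germ U.1 x hxU).hom := by
  subst hzx
  obtain ⟨U₁, hz₁, -, rs, hlen, hrs, hker⟩ := hi.2 z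
  letI : Algebra Γ(X, U₁.1) (X.presheaf.stalk (i z)) :=
    TopCat.Presheaf.algebra_section_stalk X.presheaf ⟨i z, hz₁⟩
  haveI hloc : IsLocalization.AtPrime (X.presheaf.stalk (i z))
      (U₁.2.primeIdealOf ⟨i z, hz₁⟩).asIdeal := U₁.2.isLocalization_stalk ⟨i z, hz₁⟩
  haveI : Module.Flat Γ(X, U₁.1) (X.presheaf.stalk (i z)) :=
    IsLocalization.flat _ (U₁.2.primeIdealOf ⟨i z, hz₁⟩).asIdeal.primeCompl
  have hrs' : IsRegular Γ(X, U₁.1) rs := hrs
  refine ⟨rs.map (algebraMap Γ(X, U₁.1) (X.presheaf.stalk (i z))), ?_, ?_, ?_⟩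
  · rw [List.length_map, hlen]
  · exact IsWeaklyRegular.of_flat (R := Γ(X, U₁.1)) (S := X.presheaf.stalk (i z))
      hrs'.toIsWeaklyRegular
  · rw [map_germ_eq i.ker (i z) U U₁ hxU hz₁, ← Ideal.map_ofList, ← hker,
      ← Scheme.Hom.ker_apply]
    rfl

end Groth.Agent.Helper19.InterCM
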