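import Mathlib
import Groth.Prelude.Def_CAlg
import Groth.Agent.Helper19.CMReg
import Groth.Agent.Helper19.RegNear
import Groth.Agent.Helper19.QuasiReg

/-!
# Generators of the ideal of a closed subscheme of the expected height in a Cohen–Macaulay scheme
form a regular sequence near the point (helper19)
-/

set_option autoImplicit false
universe u

open CategoryTheory AlgebraicGeometry TopologicalSpace RingTheory.Sequence

namespace Groth.Agent.Helper19.KoszCM

open Groth.Agent.Helper19.RegNear Groth.Agent.Helper19.RegNearAlg Groth.Agent.Helper19.QuasiReg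
  Groth.Agent.Helper19.QuasiRegScheme

variable {X Y : Scheme.{u}}

/-- If the ideal of a closed subscheme `Y` of a locally Noetherian scheme `X` is generated near
`y` by `c` sections, the local ring of `X` at `y` is Cohen–Macaulay and the ideal of `Y` in it has
height at least `c`, then on a smaller affine neighbourhood the restricted generators form a weakly
regular sequence. -/
theorem exists_regular_generators [IsLocallyNoetherian X] (i : Y ⟶ X) [IsClosedImmersion i]
    (c : ℕ) (y : Y) (hCM : LocCoh.IsCohenMacaulayLocalRing (X.presheaf.stalk (i y)))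
    (U₀ : X.Opens) (hU₀ : IsAffineOpen U₀) (hy : i y ∈ U₀) (g : Fin c → Γ(X, U₀))
    (hg : i.ker.ideal ⟨U₀, hU₀⟩ = Ideal.span (Set.range g))
    (hht : (c : ℕ∞) ≤ (RingHom.ker (i.stalkMap y).hom).height) :
    ∃ U : X.affineOpens, i y ∈ U.1 ∧ ∃ f : Fin c → Γ(X, U.1),
      i.ker.ideal U = Ideal.span (Set.range f) ∧ IsWeaklyRegular Γ(X, U.1) (List.ofFn f) := by
  letI : Algebra Γ(X, U₀) (X.presheaf.stalk (i y)) :=
    TopCat.Presheaf.algebra_section_stalk X.presheaf ⟨i y, hy⟩
  haveI hloc : IsLocalization.AtPrime (X.presheaf.stalk (i y))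
      (hU₀.primeIdealOf ⟨i y, hy⟩).asIdeal := hU₀.isLocalization_stalk ⟨i y, hy⟩
  haveI : IsNoetherianRing Γ(X, U₀) := IsLocallyNoetherian.component_noetherian ⟨U₀, hU₀⟩
  have hker := ker_stalkMap_eq i y U₀ hU₀ hy
  have hmapeq : (i.ker.ideal ⟨U₀, hU₀⟩).map (X.presheaf.germ U₀ (i y) hy).hom =
      (i.ker.ideal ⟨U₀, hU₀⟩).map (algebraMap Γ(X, U₀) (X.presheaf.stalk (i y))) := rfl
  rw [hmapeq, hg, ← span_range_map, ← ofList_ofFn] at hker
  -- the germs of the generators lie in the maximal ideal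
  have hmem : ∀ x ∈ List.ofFn (fun k => algebraMap Γ(X, U₀) (X.presheaf.stalk (i y)) (g k)),
      x ∈ IsLocalRing.maximalIdeal (X.presheaf.stalk (i y)) := by
    intro x hx
    rw [List.mem_ofFn] at hx
    obtain ⟨k, rfl⟩ := hx
    rw [IsLocalization.AtPrime.to_map_mem_maximal_iff (X.presheaf.stalk (i y))
      (hU₀.primeIdealOf ⟨i y, hy⟩).asIdeal]
    apply mem_primeIdealOf_of_mem_ker i y U₀ hU₀ hy
    rw [hg]
    exact Ideal.subset_span ⟨k, rfl⟩
  have hwr : IsWeaklyRegular (X.presheaf.stalk (i y))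
      (List.ofFn (fun k => algebraMap Γ(X, U₀) (X.presheaf.stalk (i y)) (g k))) := by
    haveI := hCM
    apply Groth.Agent.Helper19.CMReg.isWeaklyRegular_of_le_height _ hmem
    rw [List.length_ofFn, ← hker]
    exact hht
  rw [wr_iff_colon] at hwr
  obtain ⟨a, hap, hB⟩ := colon_spread' g (hU₀.primeIdealOf ⟨i y, hy⟩).asIdeal
    (X.presheaf.stalk (i y)) hwr
  refine ⟨X.affineBasicOpen (U := ⟨U₀, hU₀⟩) a, ?_, ?_⟩
  · by_contra hn
    exact hap ((mem_primeIdealOf_iff hU₀ (i y) hy a).mpr hn)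
  · haveI := hU₀.isLocalization_basicOpen a
    have h1 := hB a dvd_rfl Γ(X, X.basicOpen a)
    have h2 := i.ker.map_ideal_basicOpen ⟨U₀, hU₀⟩ a
    refine ⟨fun k => algebraMap Γ(X, U₀) Γ(X, X.basicOpen a) (g k), ?_, ?_⟩
    · refine Eq.trans ?_ (span_range_map g (algebraMap Γ(X, U₀) Γ(X, X.basicOpen a))).symm
      rw [← hg]
      exact h2.symm
    · exact (wr_iff_colon _).mpr h1

end Groth.Agent.Helper19.KoszCM
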