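import Mathlib
import Groth.Prelude.Def_DRing2
import Groth.Agent.Lib.Helper11.KzRes
import Groth.Agent.Lib.Helper16.KzFlat1

/-!
# Vanishing of `Tor` between quotients by parts of a regular sequence (helper19)
-/

set_option autoImplicit false
universe u

open CategoryTheory RingTheory.Sequence

namespace Groth.Agent.Helper19.TorKosz

variable {B : Type u} [CommRing B]

/-- `Tor_j(M, N) = 0` for `j ≥ 1` if `M` is zero. -/
theorem subsingleton_tor_of_subsingleton_left (M N : Type u) [AddCommGroup M] [Module B M]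
    [AddCommGroup N] [Module B N] [Subsingleton M] (j : ℕ) (hj : 1 ≤ j) :
    Subsingleton (DRing.Tor B j M N) := by
  haveI : Module.Flat B (ModuleCat.of B M) := (inferInstance : Module.Flat B M)
  exact ModuleCat.subsingleton_of_isZero
    (Groth.Agent.Lib.Helper4.isZero_tor_of_flat (ModuleCat.of B M) (ModuleCat.of B N) j hj)

/-- `Tor_j(M, N) = 0` for `j ≥ 1` if `N` is zero. -/
theorem subsingleton_tor_of_subsingleton_right (M N : Type u) [AddCommGroup M] [Module B M]
    [AddCommGroup N] [Module B N] [Subsingleton N] (j : ℕ) (hj : 1 ≤ j) :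
    Subsingleton (DRing.Tor B j M N) := by
  obtain ⟨e⟩ := Groth.Agent.Lib.Helper16.KzFlat.nonempty_tor_symm (ModuleCat.of B M)
    (ModuleCat.of B N) j
  haveI := subsingleton_tor_of_subsingleton_left (B := B) N M j hj
  exact e.toLinearEquiv.toEquiv.subsingleton

/-- If `l₂ ++ l₁` and `l₁` are weakly regular sequences of `B`, then
`Tor_j(B/(l₁), B/(l₂)) = 0` for `j ≥ 1`. -/
theorem subsingleton_tor_quot_of_isWeaklyRegular (l₁ l₂ : List B)
    (h1 : IsWeaklyRegular B l₁) (h12 : IsWeaklyRegular B (l₂ ++ l₁)) (j : ℕ) (hj : 1 ≤ j) :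
    Subsingleton (DRing.Tor B j (B ⧸ Ideal.ofList l₁) (B ⧸ Ideal.ofList l₂)) := by
  have hwr := ((isWeaklyRegular_append_iff B l₂ l₁).mp h12).2
  have hsm : (Ideal.ofList l₂ • ⊤ : Submodule B B) = Ideal.ofList l₂ := by
    rw [smul_eq_mul, Ideal.mul_top]
  rw [hsm] at hwr
  obtain ⟨e⟩ := Groth.Agent.Lib.Helper11.Kz.nonempty_tor_equiv l₁
    (Groth.Agent.Lib.Helper11.Kz.koszulRegular_of_isWeaklyRegular l₁ h1)
    (B ⧸ Ideal.ofList l₂) j
  have hz := Groth.Agent.Lib.Helper28.Koszul.isZero_homology_koszulCx_of_isWeaklyRegular l₁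
    (B ⧸ Ideal.ofList l₂) hwr (-(j : ℤ)) (by omega)
  haveI := ModuleCat.subsingleton_of_isZero hz
  exact e.toEquiv.subsingleton

end Groth.Agent.Helper19.TorKosz
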