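import Mathlib
import Groth.Prelude.Def_RegImm
import Groth.Prelude.Def_DRing2
import Groth.Agent.Helper19.InterCM2
import Groth.Agent.Helper19.CMReg
import Groth.Agent.Helper19.KoszCM
import Groth.Agent.Helper19.TorKosz

/-!
# Intersections of regularly immersed subschemes of the expected codimension in a Cohen–Macaulay
scheme (helper19)
-/

set_option autoImplicit false
universe u

open CategoryTheory CategoryTheory.Limits AlgebraicGeometry TopologicalSpace RingTheory.Sequence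

namespace Groth.Agent.Helper19.InterCM

open Groth.Agent.Helper19.QuasiRegScheme

variable {X Y Z : Scheme.{u}}

section

variable [IsLocallyNoetherian X]
  (hCM : ∀ x : X, LocCoh.IsCohenMacaulayLocalRing (X.presheaf.stalk x))
  (iY : Y ⟶ X) (iZ : Z ⟶ X) [IsClosedImmersion iY] [IsClosedImmersion iZ] (a b : ℕ)
  (hY : RegImm.IsRegularImmersionOfCodim RegImm.Kind.regular a iY)
  (hZ : RegImm.IsRegularImmersionOfCodim RegImm.Kind.regular b iZ)
  (hcodim : ∀ w : ↥(pullback iY iZ), ((a + b : ℕ) : WithBot ℕ∞) ≤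
    ringKrullDim (X.presheaf.stalk ((pullback.fst iY iZ ≫ iY) w)))

include hCM hY hZ hcodim in
/-- in the local ring at a point of the intersection, the two ideals are generated by regular
sequences whose concatenation is again regular -/
theorem stalk_regular (w₀ : ↥(pullback iY iZ)) (U : X.affineOpens)
    (hxU : (pullback.fst iY iZ ≫ iY) w₀ ∈ U.1) :
    ∃ l₁ l₂ : List (X.presheaf.stalk ((pullback.fst iY iZ ≫ iY) w₀)),
      l₁.length = a ∧ l₂.length = b ∧
      IsWeaklyRegular (X.presheaf.stalk ((pullback.fst iY iZ ≫ iY) w₀)) l₁ ∧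
      IsWeaklyRegular (X.presheaf.stalk ((pullback.fst iY iZ ≫ iY) w₀)) (l₂ ++ l₁) ∧
      Ideal.ofList l₁ = (iY.ker.ideal U).map
        (X.presheaf.germ U.1 ((pullback.fst iY iZ ≫ iY) w₀) hxU).hom ∧
      Ideal.ofList l₂ = (iZ.ker.ideal U).map
        (X.presheaf.germ U.1 ((pullback.fst iY iZ ≫ iY) w₀) hxU).hom := by
  have hzx : iZ (pullback.snd iY iZ w₀) = (pullback.fst iY iZ ≫ iY) w₀ := by
    rw [pullback.condition]
    rfl
  obtain ⟨l₁, hlen₁, hwr₁, hl₁⟩ := exists_regular_stalk iY a hY (pullback.fst iY iZ w₀)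
    ((pullback.fst iY iZ ≫ iY) w₀) rfl U hxU
  obtain ⟨l₂, hlen₂, -, hl₂⟩ := exists_regular_stalk iZ b hZ (pullback.snd iY iZ w₀)
    ((pullback.fst iY iZ ≫ iY) w₀) hzx U hxU
  refine ⟨l₁, l₂, hlen₁, hlen₂, hwr₁, ?_, hl₁, hl₂⟩
  have hker : Ideal.ofList (l₂ ++ l₁) = ((pullback.fst iY iZ ≫ iY).ker.ideal U).map
      (X.presheaf.germ U.1 ((pullback.fst iY iZ ≫ iY) w₀) hxU).hom := by
    rw [Ideal.ofList_append, hl₁, hl₂, ker_pullback_fst_comp, Scheme.IdealSheafData.ideal_sup,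
      Pi.sup_apply, Ideal.map_sup, sup_comm]
  haveI := hCM ((pullback.fst iY iZ ≫ iY) w₀)
  letI : Algebra Γ(X, U.1) (X.presheaf.stalk ((pullback.fst iY iZ ≫ iY) w₀)) :=
    TopCat.Presheaf.algebra_section_stalk X.presheaf ⟨_, hxU⟩
  haveI hloc : IsLocalization.AtPrime (X.presheaf.stalk ((pullback.fst iY iZ ≫ iY) w₀))
      (U.2.primeIdealOf ⟨_, hxU⟩).asIdeal := U.2.isLocalization_stalk ⟨_, hxU⟩
  apply Groth.Agent.Helper19.CMReg.isWeaklyRegular_of_le_height
  · intro r hr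
    have h1 : r ∈ Ideal.ofList (l₂ ++ l₁) := Ideal.subset_span hr
    rw [hker] at h1
    have h2 : ((pullback.fst iY iZ ≫ iY).ker.ideal U).map
        (X.presheaf.germ U.1 ((pullback.fst iY iZ ≫ iY) w₀) hxU).hom ≤
        IsLocalRing.maximalIdeal (X.presheaf.stalk ((pullback.fst iY iZ ≫ iY) w₀)) := by
      rw [← IsLocalization.AtPrime.map_eq_maximalIdeal (U.2.primeIdealOf ⟨_, hxU⟩).asIdeal
        (X.presheaf.stalk ((pullback.fst iY iZ ≫ iY) w₀))]
      apply Ideal.map_mono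
      intro s hs
      exact Groth.Agent.Helper19.RegNear.mem_primeIdealOf_of_mem_ker (pullback.fst iY iZ ≫ iY) w₀
        U.1 U.2 hxU s hs
    exact h2 h1
  · rw [hker, List.length_append, hlen₁, hlen₂, add_comm b a]
    exact le_height_map_germ (pullback.fst iY iZ ≫ iY) (a + b) hcodim U.1 U.2 _ hxU

include hCM hY hZ hcodim in
/-- vanishing of the local `Tor` at points of the intersection -/
theorem subsingleton_tor_stalk (x : X) (hx : x ∈ Set.range (pullback.fst iY iZ ≫ iY))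
    (U : X.affineOpens) (hxU : x ∈ U.1) (j : ℕ) (hj : 1 ≤ j) :
    Subsingleton (DRing.Tor (X.presheaf.stalk x) j
      (X.presheaf.stalk x ⧸ (iY.ker.ideal U).map (X.presheaf.germ U.1 x hxU).hom)
      (X.presheaf.stalk x ⧸ (iZ.ker.ideal U).map (X.presheaf.germ U.1 x hxU).hom)) := by
  obtain ⟨w₀, rfl⟩ := hx
  obtain ⟨l₁, l₂, -, -, h1, h12, hl₁, hl₂⟩ := stalk_regular hCM iY iZ a b hY hZ hcodim w₀ U hxU
  rw [← hl₁, ← hl₂]
  exact Groth.Agent.Helper19.TorKosz.subsingleton_tor_quot_of_isWeaklyRegular l₁ l₂ h1 h12 j hj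

end

end Groth.Agent.Helper19.InterCM
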