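import Mathlib
import Groth.Prelude.Def_DRing2
import Groth.Agent.Lib.Helper11.IntMultM

/-!
# Local-to-global vanishing of `Tor`: the free cover and its localisation (helper19)
-/

set_option autoImplicit false
universe u

open TensorProduct

namespace Groth.Agent.Helper19.TorLoc

section perPrime

variable {A : Type u} [CommRing A] (S : Submonoid A) (B : Type u) [CommRing B] [Algebra A B]
  [IsLocalization S B]
variable {M Mp : Type u} [AddCommGroup M] [Module A M] [AddCommGroup Mp] [Module A Mp]
  [Module B Mp] [IsScalarTower A B Mp] (fM : M →ₗ[A] Mp) [IsLocalizedModule S fM]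

variable (A M) in
/-- the canonical free cover of a module -/
noncomputable abbrev cov : (M →₀ A) →ₗ[A] M := Finsupp.linearCombination A id

theorem cov_surjective : Function.Surjective (cov A M) :=
  Finsupp.linearCombination_id_surjective A M

variable (A M) in
/-- localisation of the free module -/
noncomputable abbrev fF : (M →₀ A) →ₗ[A] (M →₀ B) :=
  Finsupp.mapRange.linearMap (Algebra.linearMap A B)

/-- the localised free cover -/
noncomputable abbrev covp : (M →₀ B) →ₗ[B] Mp := Finsupp.linearCombination B fM

theorem covp_fF (x : M →₀ A) : covp B fM (fF A B M x) = fM (cov A M x) := by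
  induction x using Finsupp.induction_linear with
  | zero => simp
  | add x y hx hy => rw [map_add, map_add, map_add, map_add, hx, hy]
  | single m a =>
    simp only [Finsupp.mapRange.linearMap_apply, Finsupp.mapRange_single, Algebra.linearMap_apply,
      Finsupp.linearCombination_single, id_eq, map_smul, algebraMap_smul]

include S in
theorem covp_surjective : Function.Surjective (covp B fM) := by
  intro y
  obtain ⟨⟨m, s⟩, h⟩ := IsLocalizedModule.surj S fM y
  refine ⟨Finsupp.single m (IsLocalization.mk' B (1 : A) s), ?_⟩
  rw [Finsupp.linearCombination_single]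
  have h1 : (algebraMap A B (s : A)) • y = fM m := by
    rw [algebraMap_smul]
    exact h
  rw [← h1, smul_smul, IsLocalization.mk'_spec, map_one, one_smul]

/-- the map between the kernels of the free covers -/
noncomputable def fK : LinearMap.ker (cov A M) →ₗ[A] LinearMap.ker (covp B fM) where
  toFun x := ⟨fF A B M x.1, by
    rw [LinearMap.mem_ker, covp_fF, LinearMap.mem_ker.mp x.2, map_zero]⟩
  map_add' x y := Subtype.ext (map_add _ _ _)
  map_smul' a x := Subtype.ext (map_smul _ _ _)

@[simp] theorem fK_coe (x : LinearMap.ker (cov A M)) : ((fK B fM x : LinearMap.ker (covp B fM)) : M →₀ B) =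
    fF A B M x.1 := rfl

include S in
/-- localisation commutes with the kernel of the free cover -/
theorem isLocalizedModule_fK : IsLocalizedModule S (fK B fM) where
  map_units s := by
    rw [Module.End.isUnit_iff]
    have hu : IsUnit (algebraMap A B (s : A)) := IsLocalization.map_units B s
    constructor
    · intro x y hxy
      have h1 : (algebraMap A B (s : A)) • x = (algebraMap A B (s : A)) • y := by
        rw [algebraMap_smul, algebraMap_smul]
        exact hxy
      exact hu.smul_left_cancel.mp h1
    · intro y
      obtain ⟨b, hb⟩ := hu.exists_left_inv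
      refine ⟨b • y, ?_⟩
      change (s : A) • (b • y) = y
      rw [← algebraMap_smul B (s : A) (b • y), smul_smul, mul_comm, hb, one_smul]
  surj y := by
    obtain ⟨⟨x₀, s⟩, h⟩ := IsLocalizedModule.surj S (fF A B M) y.1
    rw [Submonoid.smul_def] at h
    have h2 : fM (cov A M x₀) = 0 := by
      have h3 : (fF A B M) x₀ = (algebraMap A B (s : A)) • (y : M →₀ B) := by
        rw [algebraMap_smul]
        exact h.symm
      rw [← covp_fF B fM, h3, map_smul, LinearMap.mem_ker.mp y.2, smul_zero]
    obtain ⟨t, ht⟩ := (IsLocalizedModule.eq_zero_iff S fM).mp h2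
    rw [Submonoid.smul_def] at ht
    have hk : (t : A) • x₀ ∈ LinearMap.ker (cov A M) := by
      rw [LinearMap.mem_ker, map_smul]
      exact ht
    refine ⟨⟨⟨(t : A) • x₀, hk⟩, t * s⟩, ?_⟩
    apply Subtype.ext
    change ((t * s : S) : A) • (y : M →₀ B) = fF A B M ((t : A) • x₀)
    rw [map_smul, ← h, Submonoid.coe_mul, mul_smul]
  exists_of_eq {x₁ x₂} h := by
    have h1 : fF A B M x₁.1 = fF A B M x₂.1 := congrArg Subtype.val h
    obtain ⟨c, hc⟩ := IsLocalizedModule.exists_of_eq (S := S) h1
    refine ⟨c, Subtype.ext ?_⟩
    exact hc

end perPrime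

end Groth.Agent.Helper19.TorLoc
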