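import Mathlib
import Groth.Prelude.Def_DRing2
import Groth.Agent.Helper19.TorLoc1

/-!
# Local-to-global vanishing of `Tor`: the base case (helper19)
-/

set_option autoImplicit false
universe u

open TensorProduct

namespace Groth.Agent.Helper19.TorLoc

section inj

/-- a linear map over a ring with trivial kernel is injective (no additive group instance on the
source needed) -/
theorem injective_of_forall_eq_zero {R X Y : Type*} [Ring R] [AddCommMonoid X] [AddCommMonoid Y]
    [Module R X] [Module R Y] (f : X →ₗ[R] Y) (h : ∀ x, f x = 0 → x = 0) :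
    Function.Injective f := by
  intro x y hxy
  have hy : ∀ z : X, (-1 : R) • z + z = 0 := by
    intro z
    nth_rewrite 2 [← one_smul R z]
    rw [← add_smul, neg_add_cancel, zero_smul]
  have hy' : ∀ z : Y, z + (-1 : R) • z = 0 := by
    intro z
    nth_rewrite 1 [← one_smul R z]
    rw [← add_smul, add_neg_cancel, zero_smul]
  have h0 : f (x + (-1 : R) • y) = 0 := by
    rw [map_add, map_smul, hxy, hy']
  have h1 := h _ h0
  calc x = x + ((-1 : R) • y + y) := by rw [hy, add_zero]
    _ = (x + (-1 : R) • y) + y := (add_assoc _ _ _).symm
    _ = y := by rw [h1, zero_add]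

end inj

section tensor

variable {A : Type u} [CommRing A] (S : Submonoid A) (B : Type u) [CommRing B] [Algebra A B]
  [IsLocalization S B]
variable {P Q L : Type u} [AddCommMonoid P] [Module A P] [Module B P] [IsScalarTower A B P]
  [AddCommMonoid Q] [Module A Q] [Module B Q] [IsScalarTower A B Q]
  [AddCommMonoid L] [Module A L] [Module B L] [IsScalarTower A B L]

include S in
/-- injectivity of `g ⊗ L` over a localisation `B` of `A` gives injectivity of `g ⊗ L` over `A` -/
theorem injective_rTensor_restrictScalars (g : P →ₗ[B] Q)
    (h : Function.Injective (LinearMap.rTensor L g)) :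
    Function.Injective (LinearMap.rTensor L (g.restrictScalars A)) := by
  let eP := IsLocalization.moduleTensorEquiv S B P L
  let eQ := IsLocalization.moduleTensorEquiv S B Q L
  have hsq : ∀ z : P ⊗[B] L, (LinearMap.rTensor L (g.restrictScalars A)) (eP z) =
      eQ (LinearMap.rTensor L g z) := by
    intro z
    induction z using TensorProduct.induction_on with
    | zero => simp
    | tmul p l => rfl
    | add x y hx hy => rw [map_add, map_add, map_add, map_add, hx, hy]
  intro x y hxy
  obtain ⟨x', rfl⟩ := eP.surjective x
  obtain ⟨y', rfl⟩ := eP.surjective y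
  rw [hsq, hsq] at hxy
  rw [h (eQ.injective hxy)]

end tensor

section base

variable {A : Type u} [CommRing A] (S : Submonoid A) (B : Type u) [CommRing B] [Algebra A B]
  [IsLocalization S B]
variable {M Mp : Type u} [AddCommGroup M] [Module A M] [AddCommGroup Mp] [Module A Mp]
  [Module B Mp] [IsScalarTower A B Mp] (fM : M →ₗ[A] Mp) [IsLocalizedModule S fM]
variable {N Np : Type u} [AddCommGroup N] [Module A N] [AddCommGroup Np] [Module A Np]
  [Module B Np] [IsScalarTower A B Np] (fN : N →ₗ[A] Np) [IsLocalizedModule S fN]

include S fM fN in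
/-- base case, at one localisation: if `Tor₁` vanishes after localisation, the kernel of
`K ⊗ N → F ⊗ N` is killed by elements of `S`. -/
theorem exists_smul_eq_zero_of_tor_one (hT : Subsingleton (DRing.Tor B 1 Mp Np))
    (x : LinearMap.ker (cov A M) ⊗[A] N)
    (hx : LinearMap.rTensor N (LinearMap.ker (cov A M)).subtype x = 0) : ∃ s : S, s • x = 0 := by
  haveI := isLocalizedModule_fK S B fM
  -- injectivity over `B`
  obtain ⟨e⟩ := Groth.Agent.Lib.Helper11.IntMultM.tor_one_equiv (covp B fM)
    (covp_surjective S B fM) Np
  have hinjB : Function.Injective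
      (LinearMap.rTensor Np (LinearMap.ker (covp B fM)).subtype) := by
    haveI : Subsingleton (LinearMap.ker
        (LinearMap.rTensor Np (LinearMap.ker (covp B fM)).subtype)) := e.symm.toEquiv.subsingleton
    apply injective_of_forall_eq_zero
    intro z hz
    have h1 : (⟨z, LinearMap.mem_ker.mpr hz⟩ : LinearMap.ker
        (LinearMap.rTensor Np (LinearMap.ker (covp B fM)).subtype)) = 0 := Subsingleton.elim _ _
    exact congrArg Subtype.val h1
  have hinjA := injective_rTensor_restrictScalars S B (L := Np)
    (LinearMap.ker (covp B fM)).subtype hinjB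
  -- the localisation maps of the tensor products
  let ψK : LinearMap.ker (cov A M) ⊗[A] N →ₗ[A] LinearMap.ker (covp B fM) ⊗[A] Np :=
    TensorProduct.map (fK B fM) fN
  let ψF : (M →₀ A) ⊗[A] N →ₗ[A] (M →₀ B) ⊗[A] Np := TensorProduct.map (fF A B M) fN
  haveI : IsLocalizedModule S ψK := inferInstance
  have hsq : ∀ z : LinearMap.ker (cov A M) ⊗[A] N,
      (LinearMap.rTensor Np ((LinearMap.ker (covp B fM)).subtype.restrictScalars A)) (ψK z) =
        ψF (LinearMap.rTensor N (LinearMap.ker (cov A M)).subtype z) := by
    intro z
    induction z using TensorProduct.induction_on with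
    | zero => simp
    | tmul k n => rfl
    | add a b ha hb => rw [map_add, map_add, map_add, map_add, ha, hb]
  have h0 : ψK x = 0 := by
    apply hinjA
    rw [hsq, hx, map_zero, map_zero]
  exact (IsLocalizedModule.eq_zero_iff S ψK).mp h0

end base

end Groth.Agent.Helper19.TorLoc
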