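import Mathlib
import Groth.Prelude.Def_DRing2
import Groth.Agent.Helper19.TorLoc2

/-!
# Local-to-global vanishing of `Tor` (helper19)

`Tor_j^A(M, N) = 0` for `j ≥ 1` as soon as, for every maximal ideal `p`, there are a localisation
`B` of `A` at `p` and localisations `Mp`, `Np` of `M`, `N` with `Tor_j^B(Mp, Np) = 0`.
-/

set_option autoImplicit false
universe u

open TensorProduct

namespace Groth.Agent.Helper19.TorLoc

/-- a localisation `B` of `A` at `S` together with localisations of two modules -/
structure LocData (A : Type u) [CommRing A] (S : Submonoid A) (M N : Type u)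
    [AddCommGroup M] [Module A M] [AddCommGroup N] [Module A N] where
  /-- the localised ring -/
  B : Type u
  [ring : CommRing B]
  [alg : Algebra A B]
  [isLoc : IsLocalization S B]
  /-- the localised first module -/
  Mp : Type u
  [acgM : AddCommGroup Mp]
  [modAM : Module A Mp]
  [modBM : Module B Mp]
  [towerM : IsScalarTower A B Mp]
  /-- the localisation map of the first module -/
  fM : M →ₗ[A] Mp
  [locM : IsLocalizedModule S fM]
  /-- the localised second module -/
  Np : Type u
  [acgN : AddCommGroup Np]
  [modAN : Module A Np]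
  [modBN : Module B Np]
  [towerN : IsScalarTower A B Np]
  /-- the localisation map of the second module -/
  fN : N →ₗ[A] Np
  [locN : IsLocalizedModule S fN]

attribute [instance] LocData.ring LocData.alg LocData.isLoc LocData.acgM LocData.modAM
  LocData.modBM LocData.towerM LocData.locM LocData.acgN LocData.modAN LocData.modBN
  LocData.towerN LocData.locN

variable {A : Type u} [CommRing A]

/-- the localisation data of the kernel of the free cover -/
noncomputable def LocData.kernel {S : Submonoid A} {M N : Type u} [AddCommGroup M] [Module A M]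
    [AddCommGroup N] [Module A N] (D : LocData A S M N) :
    LocData A S (LinearMap.ker (cov A M)) N where
  B := D.B
  Mp := LinearMap.ker (covp D.B D.fM)
  fM := fK D.B D.fM
  locM := isLocalizedModule_fK S D.B D.fM
  Np := D.Np
  fN := D.fN

/-- `Tor_j` vanishes after localisation at every maximal ideal -/
def LocTorZero (j : ℕ) (M N : Type u) [AddCommGroup M] [Module A M] [AddCommGroup N]
    [Module A N] : Prop :=
  ∀ (p : Ideal A) [p.IsMaximal], ∃ D : LocData A p.primeCompl M N,
    Subsingleton (DRing.Tor D.B j D.Mp D.Np)

variable (N : Type u) [AddCommGroup N] [Module A N]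

theorem subsingleton_tor_one (M : Type u) [AddCommGroup M] [Module A M]
    (h : LocTorZero (A := A) 1 M N) : Subsingleton (DRing.Tor A 1 M N) := by
  obtain ⟨e⟩ := Groth.Agent.Lib.Helper11.IntMultM.tor_one_equiv (cov A M) (cov_surjective) N
  suffices hs : Subsingleton (LinearMap.ker
      (LinearMap.rTensor N (LinearMap.ker (cov A M)).subtype)) from e.toEquiv.subsingleton
  refine ⟨fun a b => ?_⟩
  suffices h0 : ∀ x : LinearMap.ker (cov A M) ⊗[A] N,
      LinearMap.rTensor N (LinearMap.ker (cov A M)).subtype x = 0 → x = 0 by
    apply Subtype.ext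
    rw [h0 a.1 (LinearMap.mem_ker.mp a.2), h0 b.1 (LinearMap.mem_ker.mp b.2)]
  intro x hx
  by_contra hx0
  have hI : Ideal.torsionOf A _ x ≠ ⊤ := by
    intro htop
    have h1 : (1 : A) ∈ Ideal.torsionOf A _ x := by rw [htop]; trivial
    rw [Ideal.mem_torsionOf_iff, one_smul] at h1
    exact hx0 h1
  obtain ⟨p, hp, hle⟩ := Ideal.exists_le_maximal _ hI
  obtain ⟨D, hD⟩ := h p
  obtain ⟨s, hs⟩ := exists_smul_eq_zero_of_tor_one p.primeCompl D.B D.fM D.fN hD x hx
  have h2 : (s : A) ∈ Ideal.torsionOf A _ x := by
    rw [Ideal.mem_torsionOf_iff]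
    exact hs
  exact s.2 (hle h2)

/-- **Local-to-global vanishing of `Tor`.** -/
theorem subsingleton_tor_of_locTorZero : ∀ (j : ℕ), 1 ≤ j →
    ∀ (M : Type u) [AddCommGroup M] [Module A M], LocTorZero (A := A) j M N →
      Subsingleton (DRing.Tor A j M N) := by
  intro j hj
  induction j, hj using Nat.le_induction with
  | base => exact fun M _ _ h => subsingleton_tor_one N M h
  | succ j hj ih =>
    intro M _ _ h
    obtain ⟨e⟩ := Groth.Agent.Lib.Helper11.IntMultM.tor_succ_equiv (cov A M) (cov_surjective) N
      j hj
    haveI := ih (LinearMap.ker (cov A M)) (by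
      intro p hp
      obtain ⟨D, hD⟩ := h p
      refine ⟨D.kernel, ?_⟩
      obtain ⟨e'⟩ := Groth.Agent.Lib.Helper11.IntMultM.tor_succ_equiv (covp D.B D.fM)
        (covp_surjective p.primeCompl D.B D.fM) D.Np j hj
      exact e'.symm.toEquiv.subsingleton)
    exact e.toEquiv.subsingleton

end Groth.Agent.Helper19.TorLoc
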