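import Mathlib
import Groth.Prelude.Def_DRing2
import Groth.Agent.Helper19.TorLoc3

/-!
# Local-to-global vanishing of `Tor` for two cyclic modules (helper19)
-/

set_option autoImplicit false
universe u

open TensorProduct

namespace Groth.Agent.Helper19.TorLoc

variable {A : Type u} [CommRing A]

/-- the localisation data of two quotients `A ⧸ I`, `A ⧸ J` given by a localisation `B` of `A` -/
noncomputable def quotLocData (S : Submonoid A) (B : Type u) [CommRing B] [Algebra A B]
    [IsLocalization S B] (I J : Ideal A) : LocData A S (A ⧸ I) (A ⧸ J) where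
  B := B
  Mp := B ⧸ I.localized' B S (Algebra.linearMap A B)
  fM := I.toLocalizedQuotient' B S (Algebra.linearMap A B)
  Np := B ⧸ J.localized' B S (Algebra.linearMap A B)
  fN := J.toLocalizedQuotient' B S (Algebra.linearMap A B)

/-- `Tor_j^A(A/I, A/J) = 0` for `j ≥ 1` if this holds after localising at every maximal ideal. -/
theorem subsingleton_tor_quotient_of_local (I J : Ideal A)
    (h : ∀ (p : Ideal A) [p.IsMaximal], ∃ (B : Type u) (_ : CommRing B) (_ : Algebra A B),
      IsLocalization.AtPrime B p ∧ ∀ j, 1 ≤ j →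
        Subsingleton (DRing.Tor B j (B ⧸ I.map (algebraMap A B)) (B ⧸ J.map (algebraMap A B))))
    (j : ℕ) (hj : 1 ≤ j) : Subsingleton (DRing.Tor A j (A ⧸ I) (A ⧸ J)) := by
  apply subsingleton_tor_of_locTorZero (A ⧸ J) j hj (A ⧸ I)
  intro p hp
  obtain ⟨B, _, _, hB, hT⟩ := h p
  refine ⟨quotLocData p.primeCompl B I J, ?_⟩
  change Subsingleton (DRing.Tor B j (B ⧸ I.localized' B p.primeCompl (Algebra.linearMap A B))
    (B ⧸ J.localized' B p.primeCompl (Algebra.linearMap A B)))
  rw [Ideal.localized'_eq_map, Ideal.localized'_eq_map]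
  exact hT j hj

end Groth.Agent.Helper19.TorLoc
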