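import Mathlib
import Groth.Prelude.Def_DRing2

/-!
# `Tor` of two quotient rings viewed as modules through surjections (helper19)
-/

set_option autoImplicit false
universe u

open CategoryTheory

namespace Groth.Agent.Helper19.TorLoc

/-- the quotient by the kernel of a surjective ring map, as a module, is the target with its
induced module structure -/
noncomputable def quotKerLinearEquiv {A M' : Type u} [CommRing A] [CommRing M'] (f : A →+* M')
    (hf : Function.Surjective f) :
    letI := f.toModule
    (A ⧸ RingHom.ker f) ≃ₗ[A] M' :=
  letI := f.toModule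
  { (RingHom.quotientKerEquivOfSurjective hf).toAddEquiv with
    map_smul' := by
      intro a q
      obtain ⟨r, rfl⟩ := Ideal.Quotient.mk_surjective q
      change RingHom.quotientKerEquivOfSurjective hf (a • (Ideal.Quotient.mk _ r)) =
        f a * RingHom.quotientKerEquivOfSurjective hf (Ideal.Quotient.mk _ r)
      have h1 : a • (Ideal.Quotient.mk (RingHom.ker f) r) =
          Ideal.Quotient.mk (RingHom.ker f) (a * r) := rfl
      rw [h1, RingHom.quotientKerEquivOfSurjective_apply_mk,
        RingHom.quotientKerEquivOfSurjective_apply_mk, map_mul] }

/-- reduction of `Tor` of two quotient rings (module structures through surjections) to `Tor` of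
the quotients by the kernels -/
theorem subsingleton_tor_of_surjective {A M' N' : Type u} [CommRing A] [CommRing M'] [CommRing N']
    (f : A →+* M') (g : A →+* N') (hf : Function.Surjective f) (hg : Function.Surjective g) (j : ℕ)
    (h : Subsingleton (DRing.Tor A j (A ⧸ RingHom.ker f) (A ⧸ RingHom.ker g))) :
    Subsingleton (@DRing.Tor A _ j M' N' _ f.toModule _ g.toModule) := by
  letI := f.toModule
  letI := g.toModule
  let e1 := ((CategoryTheory.Tor (ModuleCat.{u} A) j).mapIso
    (quotKerLinearEquiv f hf).toModuleIso).app (ModuleCat.of A (A ⧸ RingHom.ker g))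
  let e2 := ((CategoryTheory.Tor (ModuleCat.{u} A) j).obj (ModuleCat.of A M')).mapIso
    (quotKerLinearEquiv g hg).toModuleIso
  exact (e1 ≪≫ e2).symm.toLinearEquiv.toEquiv.subsingleton

end Groth.Agent.Helper19.TorLoc
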