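import Mathlib
import Groth.Prelude.Def_RegImm
import Groth.Prelude.Def_DRing2
import Groth.Agent.Helper19.InterCM3
import Groth.Agent.Helper19.TorLoc4
import Groth.Agent.Helper19.TorLoc5

/-!
# Intersections of regularly immersed subschemes of the expected codimension in a Cohen–Macaulay
scheme: regularity of the intersection and Tor-independence (helper19)
-/

set_option autoImplicit false
universe u

open CategoryTheory CategoryTheory.Limits AlgebraicGeometry TopologicalSpace RingTheory.Sequence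

namespace Groth.Agent.Helper19.InterCM

open Groth.Agent.Helper19.QuasiRegScheme Groth.Agent.Helper19.QuasiReg

variable {X Y Z : Scheme.{u}}

variable [IsLocallyNoetherian X]
  (hCM : ∀ x : X, LocCoh.IsCohenMacaulayLocalRing (X.presheaf.stalk x))
  (iY : Y ⟶ X) (iZ : Z ⟶ X) [IsClosedImmersion iY] [IsClosedImmersion iZ] (a b : ℕ)
  (hY : RegImm.IsRegularImmersionOfCodim RegImm.Kind.regular a iY)
  (hZ : RegImm.IsRegularImmersionOfCodim RegImm.Kind.regular b iZ)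
  (hcodim : ∀ w : ↥(pullback iY iZ), ((a + b : ℕ) : WithBot ℕ∞) ≤
    ringKrullDim (X.presheaf.stalk ((pullback.fst iY iZ ≫ iY) w)))

include hCM hY hZ hcodim in
/-- the intersection is regularly immersed of codimension `a + b` -/
theorem isRegularImmersionOfCodim_inter :
    RegImm.IsRegularImmersionOfCodim RegImm.Kind.regular (a + b) (pullback.fst iY iZ ≫ iY) := by
  refine ⟨inferInstance, fun w₀ => ?_⟩
  obtain ⟨U₁, hz₁, -, rs₁, hlen₁, -, hker₁⟩ := hY.2 (pullback.fst iY iZ w₀)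
  obtain ⟨U₂, hz₂, -, rs₂, hlen₂, -, hker₂⟩ := hZ.2 (pullback.snd iY iZ w₀)
  have hzx : iZ (pullback.snd iY iZ w₀) = (pullback.fst iY iZ ≫ iY) w₀ := by
    rw [pullback.condition]
    rfl
  have hx₁ : (pullback.fst iY iZ ≫ iY) w₀ ∈ U₁.1 := hz₁
  have hx₂ : (pullback.fst iY iZ ≫ iY) w₀ ∈ U₂.1 := hzx ▸ hz₂
  obtain ⟨_, ⟨W₀, hW₀, rfl⟩, hxW, hWle⟩ :=
    X.isBasis_affineOpens.exists_subset_of_mem_open
      (show (pullback.fst iY iZ ≫ iY) w₀ ∈ (U₁.1 ⊓ U₂.1 : X.Opens) from ⟨hx₁, hx₂⟩) (U₁.1 ⊓ U₂.1).2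
  have hW1 : (⟨W₀, hW₀⟩ : X.affineOpens) ≤ U₁ := fun y hy => (hWle hy).1
  have hW2 : (⟨W₀, hW₀⟩ : X.affineOpens) ≤ U₂ := fun y hy => (hWle hy).2
  obtain ⟨l, hldef⟩ : ∃ l : List Γ(X, W₀), l = rs₂.map (X.presheaf.map (homOfLE hW2).op).hom ++
      rs₁.map (X.presheaf.map (homOfLE hW1).op).hom := ⟨_, rfl⟩
  have hl : Ideal.ofList l = (pullback.fst iY iZ ≫ iY).ker.ideal ⟨W₀, hW₀⟩ := by
    rw [hldef, Ideal.ofList_append, ← Ideal.map_ofList, ← Ideal.map_ofList, ← hker₁, ← hker₂,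
      ← Scheme.Hom.ker_apply, ← Scheme.Hom.ker_apply, iY.ker.map_ideal hW1, iZ.ker.map_ideal hW2,
      ker_pullback_fst_comp, Scheme.IdealSheafData.ideal_sup, Pi.sup_apply, sup_comm]
  have hlen : l.length = a + b := by
    rw [hldef, List.length_append, List.length_map, List.length_map, hlen₁, hlen₂, add_comm]
  obtain ⟨g, hgdef⟩ : ∃ g : Fin (a + b) → Γ(X, W₀), g = fun k => l.get (Fin.cast hlen.symm k) :=
    ⟨_, rfl⟩
  have hg : List.ofFn g = l := by
    rw [hgdef]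
    exact (List.ofFn_congr hlen l.get).symm.trans (List.ofFn_get l)
  have hgspan : (pullback.fst iY iZ ≫ iY).ker.ideal ⟨W₀, hW₀⟩ = Ideal.span (Set.range g) := by
    rw [← ofList_ofFn, hg, hl]
  have hht : ((a + b : ℕ) : ℕ∞) ≤
      (RingHom.ker ((pullback.fst iY iZ ≫ iY).stalkMap w₀).hom).height := by
    rw [Groth.Agent.Helper19.RegNear.ker_stalkMap_eq (pullback.fst iY iZ ≫ iY) w₀ W₀ hW₀ hxW]
    exact le_height_map_germ (pullback.fst iY iZ ≫ iY) (a + b) hcodim W₀ hW₀ _ hxW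
  obtain ⟨U, hzU, f, hf, hwr⟩ := Groth.Agent.Helper19.KoszCM.exists_regular_generators
    (pullback.fst iY iZ ≫ iY) (a + b) w₀ (hCM _) W₀ hW₀ hxW g hgspan hht
  refine ⟨U, hzU, inferInstance, List.ofFn f, List.length_ofFn, ⟨hwr, ?_⟩, ?_⟩
  · intro htop
    rw [smul_eq_mul, Ideal.mul_top, ofList_ofFn, ← hf] at htop
    have h1 : (1 : Γ(X, U.1)) ∈ (pullback.fst iY iZ ≫ iY).ker.ideal U := by
      rw [← htop]
      trivial
    have h2 := Groth.Agent.Helper19.RegNear.mem_primeIdealOf_of_mem_ker (pullback.fst iY iZ ≫ iY)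
      w₀ U.1 U.2 hzU 1 h1
    exact (U.2.primeIdealOf ⟨_, hzU⟩).isPrime.ne_top ((Ideal.eq_top_iff_one _).mpr h2)
  · rw [← Scheme.Hom.ker_apply, ofList_ofFn]
    exact hf

include hCM hY hZ hcodim in
/-- Tor-independence of the two subschemes on every affine open -/
theorem subsingleton_tor_sections (U : X.Opens) (hU : IsAffineOpen U) (j : ℕ) (hj : 0 < j) :
    Subsingleton (@DRing.Tor Γ(X, U) _ j Γ(Y, iY ⁻¹ᵁ U) Γ(Z, iZ ⁻¹ᵁ U) _
      (iY.app U).hom.toModule _ (iZ.app U).hom.toModule) := by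
  apply Groth.Agent.Helper19.TorLoc.subsingleton_tor_of_surjective (iY.app U).hom (iZ.app U).hom
    (iY.app_surjective U hU) (iZ.app_surjective U hU) j
  apply Groth.Agent.Helper19.TorLoc.subsingleton_tor_quotient_of_local _ _ _ j hj
  intro p hp
  have hpp : p.IsPrime := hp.isPrime
  have hxU : hU.fromSpec ⟨p, hpp⟩ ∈ U := fromSpec_mem hU _
  letI alg : Algebra Γ(X, U) (X.presheaf.stalk (hU.fromSpec ⟨p, hpp⟩)) :=
    TopCat.Presheaf.algebra_section_stalk X.presheaf ⟨_, hxU⟩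
  haveI hloc : IsLocalization.AtPrime (X.presheaf.stalk (hU.fromSpec ⟨p, hpp⟩)) p :=
    hU.isLocalization_stalk' ⟨p, hpp⟩ hxU
  refine ⟨X.presheaf.stalk (hU.fromSpec ⟨p, hpp⟩), inferInstance, alg, hloc, ?_⟩
  intro k hk
  have hIY : RingHom.ker (iY.app U).hom = iY.ker.ideal ⟨U, hU⟩ := (Scheme.Hom.ker_apply iY ⟨U, hU⟩).symm
  have hIZ : RingHom.ker (iZ.app U).hom = iZ.ker.ideal ⟨U, hU⟩ := (Scheme.Hom.ker_apply iZ ⟨U, hU⟩).symm
  by_cases hIJ : RingHom.ker (iY.app U).hom ≤ p ∧ RingHom.ker (iZ.app U).hom ≤ p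
  · -- the point lies on the intersection
    have hmem : hU.fromSpec ⟨p, hpp⟩ ∈ Set.range (pullback.fst iY iZ ≫ iY) := by
      apply mem_range_of_ideal_le (pullback.fst iY iZ ≫ iY) U hU _ hxU
      rw [primeIdealOf_fromSpec hU ⟨p, hpp⟩ hxU, ker_pullback_fst_comp,
        Scheme.IdealSheafData.ideal_sup, Pi.sup_apply, ← hIY, ← hIZ]
      exact sup_le hIJ.1 hIJ.2
    have h1 := subsingleton_tor_stalk hCM iY iZ a b hY hZ hcodim (hU.fromSpec ⟨p, hpp⟩) hmem
      ⟨U, hU⟩ hxU k hk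
    rw [hIY, hIZ]
    exact h1
  · -- one of the two ideals becomes the unit ideal
    have key : ∀ I : Ideal Γ(X, U), ¬ I ≤ p →
        I.map (algebraMap Γ(X, U) (X.presheaf.stalk (hU.fromSpec ⟨p, hpp⟩))) = ⊤ := by
      intro I hI
      obtain ⟨s, hs, hsp⟩ := Set.not_subset.mp hI
      have hu : IsUnit (algebraMap Γ(X, U) (X.presheaf.stalk (hU.fromSpec ⟨p, hpp⟩)) s) :=
        IsLocalization.map_units (X.presheaf.stalk (hU.fromSpec ⟨p, hpp⟩))
          (⟨s, hsp⟩ : p.primeCompl)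
      exact Ideal.eq_top_of_isUnit_mem _ (Ideal.mem_map_of_mem _ hs) hu
    rw [not_and_or] at hIJ
    rcases hIJ with h | h
    · haveI : Subsingleton (X.presheaf.stalk (hU.fromSpec ⟨p, hpp⟩) ⧸
          (RingHom.ker (iY.app U).hom).map
            (algebraMap Γ(X, U) (X.presheaf.stalk (hU.fromSpec ⟨p, hpp⟩)))) :=
        Ideal.Quotient.subsingleton_iff.mpr (key _ h)
      exact Groth.Agent.Helper19.TorKosz.subsingleton_tor_of_subsingleton_left _ _ k hk
    · haveI : Subsingleton (X.presheaf.stalk (hU.fromSpec ⟨p, hpp⟩) ⧸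
          (RingHom.ker (iZ.app U).hom).map
            (algebraMap Γ(X, U) (X.presheaf.stalk (hU.fromSpec ⟨p, hpp⟩)))) :=
        Ideal.Quotient.subsingleton_iff.mpr (key _ h)
      exact Groth.Agent.Helper19.TorKosz.subsingleton_tor_of_subsingleton_right _ _ k hk

end Groth.Agent.Helper19.InterCM
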