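import Mathlib

/-!
# The Koszul differential on the exterior algebra: generalities (helper19)

`dd φ = CliffordAlgebra.contractLeft φ` on `ExteriorAlgebra R M`; naturality, augmentation, formula
on decomposable elements.
-/

set_option autoImplicit false

namespace Groth.Agent.Helper19.KoszExt

open ExteriorAlgebra

variable {R : Type*} [CommRing R] {M N : Type*} [AddCommGroup M] [Module R M]
  [AddCommGroup N] [Module R N]

/-- The Koszul differential (contraction by `φ`) on the exterior algebra. -/
noncomputable def dd (φ : M →ₗ[R] R) : ExteriorAlgebra R M →ₗ[R] ExteriorAlgebra R M :=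
  CliffordAlgebra.contractLeft (Q := (0 : QuadraticForm R M)) φ

theorem dd_ι_mul (φ : M →ₗ[R] R) (m : M) (x : ExteriorAlgebra R M) :
    dd φ (ι R m * x) = φ m • x - ι R m * dd φ x :=
  CliffordAlgebra.contractLeft_ι_mul (Q := (0 : QuadraticForm R M)) φ m x

theorem dd_algebraMap (φ : M →ₗ[R] R) (r : R) : dd φ (algebraMap R (ExteriorAlgebra R M) r) = 0 :=
  CliffordAlgebra.contractLeft_algebraMap (Q := (0 : QuadraticForm R M)) φ r

theorem dd_one (φ : M →ₗ[R] R) : dd φ (1 : ExteriorAlgebra R M) = 0 :=
  CliffordAlgebra.contractLeft_one (Q := (0 : QuadraticForm R M)) φ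

theorem dd_ι (φ : M →ₗ[R] R) (m : M) : dd φ (ι R m) = algebraMap R _ (φ m) :=
  CliffordAlgebra.contractLeft_ι (Q := (0 : QuadraticForm R M)) φ m

theorem dd_dd (φ : M →ₗ[R] R) (x : ExteriorAlgebra R M) : dd φ (dd φ x) = 0 :=
  CliffordAlgebra.contractLeft_contractLeft (Q := (0 : QuadraticForm R M)) φ x

/-- Left induction on the exterior algebra. -/
theorem left_induction {P : ExteriorAlgebra R M → Prop}
    (algebraMap : ∀ r : R, P (algebraMap R (ExteriorAlgebra R M) r))
    (add : ∀ x y, P x → P y → P (x + y)) (ι_mul : ∀ x m, P x → P (ι R m * x)) : ∀ x, P x :=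
  CliffordAlgebra.left_induction (Q := (0 : QuadraticForm R M)) algebraMap add ι_mul

/-- Naturality of the Koszul differential. -/
theorem dd_map (j : N →ₗ[R] M) (φ : M →ₗ[R] R) (a : ExteriorAlgebra R N) :
    dd φ (map j a) = map j (dd (φ ∘ₗ j) a) := by
  induction a using left_induction with
  | algebraMap r =>
    rw [AlgHom.commutes, dd_algebraMap, dd_algebraMap, map_zero]
  | add x y hx hy => rw [map_add, map_add, hx, hy, map_add, map_add]
  | ι_mul x m hx =>
    rw [map_mul, map_apply_ι, dd_ι_mul, hx, dd_ι_mul, map_sub, map_smul, map_mul, map_apply_ι]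
    rfl

theorem dd_zero (a : ExteriorAlgebra R M) : dd (0 : M →ₗ[R] R) a = 0 := by
  unfold dd
  rw [map_zero]
  rfl

/-- The augmentation of a boundary lies in the range of `φ`. -/
theorem algebraMapInv_dd_mem (φ : M →ₗ[R] R) (a : ExteriorAlgebra R M) :
    algebraMapInv (dd φ a) ∈ LinearMap.range φ := by
  induction a using left_induction with
  | algebraMap r => rw [dd_algebraMap, map_zero]; exact zero_mem _
  | add x y hx hy => rw [map_add, map_add]; exact add_mem hx hy
  | ι_mul x m _ =>
    rw [dd_ι_mul, map_sub, map_smul, map_mul]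
    have h0 : algebraMapInv (ι R m) = 0 := by simp [algebraMapInv]
    rw [h0, zero_mul, sub_zero, smul_eq_mul, mul_comm]
    exact ⟨algebraMapInv x • m, by rw [map_smul, smul_eq_mul]⟩

theorem algebraMapInv_ι_mul (m : M) (x : ExteriorAlgebra R M) :
    algebraMapInv (ι R m * x) = 0 := by
  have h0 : algebraMapInv (ι R m) = 0 := by simp [algebraMapInv]
  rw [map_mul, h0, zero_mul]

theorem algebraMapInv_map (j : N →ₗ[R] M) (a : ExteriorAlgebra R N) :
    algebraMapInv (map j a) = algebraMapInv a := by
  induction a using left_induction with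
  | algebraMap r => rw [AlgHom.commutes, AlgHom.commutes, AlgHom.commutes]
  | add x y hx hy => rw [map_add, map_add, hx, hy, map_add]
  | ι_mul x m _ => rw [map_mul, map_apply_ι, algebraMapInv_ι_mul, algebraMapInv_ι_mul]

end Groth.Agent.Helper19.KoszExt
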