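import Mathlib
import Groth.Agent.Helper19.KoszExt1

/-!
# The Koszul differential on the exterior algebra: splitting off one basis vector (helper19)
-/

set_option autoImplicit false

namespace Groth.Agent.Helper19.KoszExt

open ExteriorAlgebra

variable {R : Type*} [CommRing R] {M M' : Type*} [AddCommGroup M] [Module R M]
  [AddCommGroup M'] [Module R M']
  (j : M' →ₗ[R] M) (r : M →ₗ[R] M') (ψ : M →ₗ[R] R) (v : M)

section decomp

variable (hdec : ∀ m, m = j (r m) + ψ m • v)

include hdec in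
/-- Decomposition of the exterior algebra of `M = M' ⊕ R v`. -/
theorem decomp (z : ExteriorAlgebra R M) :
    z = map j (map r z) + ι R v * map j (map r (dd ψ z)) := by
  induction z using left_induction with
  | algebraMap a =>
    rw [AlgHom.commutes, AlgHom.commutes, dd_algebraMap, map_zero, map_zero, mul_zero, add_zero]
  | add x y hx hy =>
    rw [map_add, map_add, map_add, map_add, map_add, mul_add]
    nth_rewrite 1 [hx, hy]
    abel
  | ι_mul x m hx =>
    set A := map j (map r x) with hA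
    set B := map j (map r (dd ψ x)) with hB
    set e := ι R v with he
    set u := ι R (j (r m)) with hu
    have hm : ι R m = u + ψ m • e := by
      rw [hu, he, ← map_smul, ← map_add, ← hdec m]
    have hee : e * e = 0 := ι_sq_zero v
    have hue : u * e = -(e * u) := eq_neg_of_add_eq_zero_left (ι_add_mul_swap _ _)
    have h1 : map j (map r (ι R m * x)) = u * A := by
      rw [map_mul, map_mul, map_apply_ι, map_apply_ι]
    have h2 : map j (map r (dd ψ (ι R m * x))) = ψ m • A - u * B := by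
      rw [dd_ι_mul, map_sub, map_sub, map_smul, map_smul, map_mul, map_mul, map_apply_ι,
        map_apply_ι]
    rw [h1, h2]
    nth_rewrite 1 [hx]
    rw [hm, add_mul, mul_add, mul_add, smul_mul_assoc, smul_mul_assoc, ← mul_assoc e e B, hee,
      zero_mul, smul_zero, add_zero, ← mul_assoc u e B, hue, neg_mul, mul_sub, mul_smul_comm,
      mul_assoc]
    abel

end decomp

section step

variable (hrj : ∀ m', r (j m') = m') (hrv : r v = 0) (hψj : ∀ m', ψ (j m') = 0) (hψv : ψ v = 1)
  (hdec : ∀ m, m = j (r m) + ψ m • v)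

include hrj in
theorem map_r_map_j (a : ExteriorAlgebra R M') : map r (map j a) = a := by
  have h : (map r).comp (map j) = AlgHom.id R _ := by
    rw [map_comp_map]
    have : r ∘ₗ j = LinearMap.id := LinearMap.ext hrj
    rw [this, map_id]
  exact congrArg (fun f => f a) h

include hψj in
theorem dd_ψ_map_j (a : ExteriorAlgebra R M') : dd ψ (map j a) = 0 := by
  rw [dd_map]
  have : ψ ∘ₗ j = 0 := LinearMap.ext hψj
  rw [this, dd_zero, map_zero]

include hrv in
theorem map_r_ι_v : map r (ι R v) = 0 := by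
  rw [map_apply_ι, hrv, map_zero]

include hrj hrv hψj hψv hdec in
/-- The inductive step of the exactness of the Koszul complex. -/
theorem step (φ : M →ₗ[R] R)
    (hreg : ∀ t : R, φ v * t ∈ LinearMap.range (φ ∘ₗ j) → t ∈ LinearMap.range (φ ∘ₗ j))
    (IH : ∀ z' : ExteriorAlgebra R M', dd (φ ∘ₗ j) z' = 0 →
      algebraMapInv z' ∈ LinearMap.range (φ ∘ₗ j) → ∃ w', dd (φ ∘ₗ j) w' = z')
    (z : ExteriorAlgebra R M) (hz : dd φ z = 0) (hε : algebraMapInv z ∈ LinearMap.range φ) :
    ∃ w, dd φ w = z := by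
  obtain ⟨a, ha⟩ : ∃ a, a = map r z := ⟨_, rfl⟩
  obtain ⟨c, hc⟩ : ∃ c, c = map r (dd ψ z) := ⟨_, rfl⟩
  have hzdec : z = map j a + ι R v * map j c := by
    rw [ha, hc]; exact decomp j r ψ v hdec z
  -- the differential of `z`
  have hdz : dd φ z = map j (dd (φ ∘ₗ j) a) + φ v • map j c - ι R v * map j (dd (φ ∘ₗ j) c) := by
    nth_rewrite 1 [hzdec]
    rw [map_add, dd_map j φ a, dd_ι_mul, dd_map j φ c, add_sub_assoc]
  -- consequences of `dz = 0`
  have h1 : dd (φ ∘ₗ j) a + φ v • c = 0 := by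
    have := congrArg (map r) hdz
    rw [hz, map_zero, map_sub, map_add, map_smul, map_mul, map_r_map_j j r hrj,
      map_r_map_j j r hrj, map_r_ι_v r v hrv, zero_mul, sub_zero] at this
    exact this.symm
  have h2 : dd (φ ∘ₗ j) c = 0 := by
    have := congrArg (fun y => map r (dd ψ y)) hdz
    beta_reduce at this
    rw [hz, map_zero, map_zero, map_sub, map_add, map_smul, dd_ψ_map_j j ψ hψj,
      dd_ψ_map_j j ψ hψj, smul_zero, add_zero, zero_sub, dd_ι_mul, dd_ψ_map_j j ψ hψj, mul_zero,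
      sub_zero, hψv, one_smul, map_neg, map_r_map_j j r hrj] at this
    exact neg_eq_zero.mp this.symm
  -- `c` is a boundary
  have hεc : algebraMapInv c ∈ LinearMap.range (φ ∘ₗ j) := by
    apply hreg
    have h3 := congrArg algebraMapInv h1
    rw [map_add, map_smul, map_zero, smul_eq_mul] at h3
    have h4 : φ v * algebraMapInv c = - algebraMapInv (dd (φ ∘ₗ j) a) :=
      eq_neg_of_add_eq_zero_right h3
    rw [h4]
    exact neg_mem (algebraMapInv_dd_mem (φ ∘ₗ j) a)
  obtain ⟨c', hc'⟩ := IH c h2 hεc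
  obtain ⟨c'', hc''⟩ : ∃ c'', c'' = c' - algebraMap R _ (algebraMapInv c') := ⟨_, rfl⟩
  have hdc'' : dd (φ ∘ₗ j) c'' = c := by
    rw [hc'', map_sub, dd_algebraMap, sub_zero, hc']
  have hεc'' : algebraMapInv c'' = 0 := by
    rw [hc'', map_sub, AlgHom.commutes]
    exact sub_self _
  -- the augmentation of `z`
  obtain ⟨m₀, hm₀⟩ := hε
  obtain ⟨t, ht⟩ : ∃ t, t = ψ m₀ := ⟨_, rfl⟩
  have hεz : algebraMapInv z = (φ ∘ₗ j) (r m₀) + φ v * t := by
    rw [← hm₀, ht]
    nth_rewrite 1 [hdec m₀]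
    rw [map_add, map_smul, smul_eq_mul, mul_comm]
    rfl
  have hεa : algebraMapInv a = algebraMapInv z := by
    rw [hzdec, map_add, algebraMapInv_map, algebraMapInv_ι_mul, add_zero]
  obtain ⟨a₂, ha₂⟩ : ∃ a₂, a₂ = a + φ v • c'' - algebraMap R _ (φ v * t) := ⟨_, rfl⟩
  have hda₂ : dd (φ ∘ₗ j) a₂ = 0 := by
    rw [ha₂, map_sub, map_add, map_smul, hdc'', dd_algebraMap, sub_zero]
    exact h1
  have hεa₂ : algebraMapInv a₂ ∈ LinearMap.range (φ ∘ₗ j) := by
    rw [ha₂, map_sub, map_add, map_smul, hεc'', smul_zero, add_zero, AlgHom.commutes, hεa, hεz,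
      Algebra.algebraMap_self_apply, add_sub_cancel_right]
    exact ⟨r m₀, rfl⟩
  obtain ⟨a₃, ha₃⟩ := IH a₂ hda₂ hεa₂
  refine ⟨map j a₃ + t • ι R v - ι R v * map j c'', ?_⟩
  rw [map_sub, map_add, dd_map j φ a₃, ha₃, map_smul, dd_ι, dd_ι_mul, dd_map j φ c'', hdc'', ha₂,
    hzdec, map_sub, map_add, map_smul, AlgHom.commutes]
  have hsm : t • algebraMap R (ExteriorAlgebra R M) (φ v) = algebraMap R _ (φ v * t) := by
    rw [Algebra.smul_def, ← map_mul, mul_comm]
  rw [hsm]
  abel

end step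

end Groth.Agent.Helper19.KoszExt
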