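import Mathlib
import Groth.Agent.Helper19.KoszExt2

/-!
# Exactness of the Koszul complex of a weakly regular sequence, exterior algebra form (helper19)
-/

set_option autoImplicit false

namespace Groth.Agent.Helper19.KoszExt

open ExteriorAlgebra

variable {R : Type*} [CommRing R]

/-- The linear form `m ↦ Σ m_i x_i` on `Fin n → R`. -/
noncomputable def phi {n : ℕ} (x : Fin n → R) : (Fin n → R) →ₗ[R] R :=
  Fintype.linearCombination R x

theorem phi_apply {n : ℕ} (x : Fin n → R) (m : Fin n → R) : phi x m = ∑ i, m i * x i := by
  simp [phi, Fintype.linearCombination_apply]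

theorem range_phi {n : ℕ} (x : Fin n → R) :
    LinearMap.range (phi x) = Ideal.span (Set.range x) := by
  unfold phi
  rw [Fintype.range_linearCombination]

/-- In the exterior algebra of a trivial module everything is a scalar. -/
theorem eq_algebraMap_of_subsingleton {M : Type*} [AddCommGroup M] [Module R M] [Subsingleton M]
    (z : ExteriorAlgebra R M) : z = algebraMap R _ (algebraMapInv z) := by
  induction z using left_induction with
  | algebraMap r => rw [AlgHom.commutes]; rfl
  | add x y hx hy =>
    rw [map_add, map_add]
    nth_rewrite 1 [hx, hy]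
    rfl
  | ι_mul x m _ =>
    rw [Subsingleton.elim m 0, map_zero, zero_mul, map_zero, map_zero]

section succ

variable {n : ℕ}

/-- extension by zero in the last coordinate -/
noncomputable def jLast : (Fin n → R) →ₗ[R] (Fin (n + 1) → R) where
  toFun m' := Fin.snoc (α := fun _ => R) m' 0
  map_add' a b := by
    funext i
    cases i using Fin.lastCases with
    | last => simp
    | cast i => simp
  map_smul' c a := by
    funext i
    cases i using Fin.lastCases with
    | last => simp
    | cast i => simp

/-- forgetting the last coordinate -/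
noncomputable def rLast : (Fin (n + 1) → R) →ₗ[R] (Fin n → R) where
  toFun m := Fin.init m
  map_add' a b := rfl
  map_smul' c a := rfl

/-- the last coordinate -/
noncomputable def psiLast : (Fin (n + 1) → R) →ₗ[R] R := LinearMap.proj (Fin.last n)

/-- the last basis vector -/
noncomputable def vLast : Fin (n + 1) → R := Pi.single (Fin.last n) 1

theorem rLast_jLast (m' : Fin n → R) : rLast (jLast m') = m' := by
  funext i
  change (Fin.snoc (α := fun _ => R) m' 0 : Fin (n + 1) → R) (Fin.castSucc i) = m' i
  rw [Fin.snoc_castSucc]

theorem rLast_vLast : rLast (vLast : Fin (n + 1) → R) = 0 := by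
  funext i
  change (Pi.single (Fin.last n) (1 : R) : Fin (n + 1) → R) (Fin.castSucc i) = 0
  rw [Pi.single_apply, if_neg (Fin.castSucc_lt_last i).ne]

theorem psiLast_jLast (m' : Fin n → R) : psiLast (jLast m') = 0 := by
  change (Fin.snoc (α := fun _ => R) m' 0 : Fin (n + 1) → R) (Fin.last n) = 0
  exact Fin.snoc_last _ _

theorem psiLast_vLast : psiLast (vLast : Fin (n + 1) → R) = 1 := by
  change (Pi.single (Fin.last n) (1 : R) : Fin (n + 1) → R) (Fin.last n) = 1
  rw [Pi.single_eq_same]

theorem dec_last (m : Fin (n + 1) → R) : m = jLast (rLast m) + psiLast m • vLast := by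
  funext i
  cases i using Fin.lastCases with
  | last =>
    change m (Fin.last n) = (Fin.snoc (α := fun _ => R) (Fin.init m) 0 : Fin (n + 1) → R) (Fin.last n) +
      m (Fin.last n) • (Pi.single (Fin.last n) (1 : R) : Fin (n + 1) → R) (Fin.last n)
    rw [Fin.snoc_last, Pi.single_eq_same, zero_add, smul_eq_mul, mul_one]
  | cast i =>
    change m (Fin.castSucc i) = (Fin.snoc (α := fun _ => R) (Fin.init m) 0 : Fin (n + 1) → R) (Fin.castSucc i) +
      m (Fin.last n) • (Pi.single (Fin.last n) (1 : R) : Fin (n + 1) → R) (Fin.castSucc i)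
    rw [Fin.snoc_castSucc, Pi.single_apply, if_neg (Fin.castSucc_lt_last i).ne, smul_zero,
      add_zero]
    rfl

theorem phi_comp_jLast (x : Fin (n + 1) → R) :
    phi x ∘ₗ jLast = phi (fun i => x (Fin.castSucc i)) := by
  apply LinearMap.ext
  intro m'
  rw [LinearMap.comp_apply, phi_apply, phi_apply, Fin.sum_univ_castSucc]
  change ∑ i : Fin n, (Fin.snoc (α := fun _ => R) m' 0 : Fin (n + 1) → R) (Fin.castSucc i) * x (Fin.castSucc i) +
    (Fin.snoc (α := fun _ => R) m' 0 : Fin (n + 1) → R) (Fin.last n) * x (Fin.last n) = _
  rw [Fin.snoc_last, zero_mul, add_zero]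
  apply Finset.sum_congr rfl
  intro i _
  rw [Fin.snoc_castSucc]

theorem phi_vLast (x : Fin (n + 1) → R) : phi x vLast = x (Fin.last n) := by
  rw [phi_apply, Finset.sum_eq_single (Fin.last n)]
  · change (Pi.single (Fin.last n) (1 : R) : Fin (n + 1) → R) (Fin.last n) * _ = _
    rw [Pi.single_eq_same, one_mul]
  · intro i _ hi
    change (Pi.single (Fin.last n) (1 : R) : Fin (n + 1) → R) i * _ = _
    rw [Pi.single_apply, if_neg hi, zero_mul]
  · intro h; exact absurd (Finset.mem_univ _) h

end succ

/-- **Exactness of the Koszul complex** of a weakly regular sequence (exterior algebra form, standard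
free module): a cycle whose augmentation lies in the ideal of the sequence is a boundary. -/
theorem exact_std (n : ℕ) (x : Fin n → R)
    (hx : RingTheory.Sequence.IsWeaklyRegular R (List.ofFn x))
    (z : ExteriorAlgebra R (Fin n → R)) (hz : dd (phi x) z = 0)
    (hε : algebraMapInv z ∈ LinearMap.range (phi x)) : ∃ w, dd (phi x) w = z := by
  induction n with
  | zero =>
    refine ⟨0, ?_⟩
    rw [map_zero]
    have h0 : LinearMap.range (phi x) = ⊥ := by
      rw [range_phi]
      have : Set.range x = ∅ := Set.range_eq_empty x
      rw [this, Ideal.span_empty]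
    rw [h0, Submodule.mem_bot] at hε
    rw [eq_algebraMap_of_subsingleton z, hε, map_zero]
  | succ n ih =>
    have hlist : List.ofFn x = List.ofFn (fun i => x (Fin.castSucc i)) ++ [x (Fin.last n)] := by
      rw [List.ofFn_succ', List.concat_eq_append]
    rw [hlist, RingTheory.Sequence.isWeaklyRegular_append_iff] at hx
    obtain ⟨hx1, hx2⟩ := hx
    rw [RingTheory.Sequence.isWeaklyRegular_cons_iff] at hx2
    have hreg := (isSMulRegular_quotient_iff_mem_of_smul_mem _ _).mp hx2.1
    apply step jLast rLast psiLast vLast rLast_jLast rLast_vLast psiLast_jLast psiLast_vLast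
      dec_last (phi x) ?_ ?_ z hz hε
    · intro t ht
      rw [phi_comp_jLast, range_phi] at ht ⊢
      rw [phi_vLast] at ht
      have h1 := hreg t
      rw [smul_eq_mul, Ideal.mul_top] at h1
      have h2 : Ideal.ofList (List.ofFn fun i => x (Fin.castSucc i)) =
          Ideal.span (Set.range fun i => x (Fin.castSucc i)) := by
        unfold Ideal.ofList
        congr 1
        ext y
        simp [List.mem_ofFn]
      rw [h2] at h1
      exact h1 ht
    · rw [phi_comp_jLast]
      intro z' hz' hε'
      exact ih _ hx1 z' hz' hε'

end Groth.Agent.Helper19.KoszExt
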