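import Mathlib
import Groth.Prelude.Def_KoszulSh
import Groth.Agent.Helper19.KoszExt3

/-!
# Exactness of the Koszul complex on exterior powers (helper19)

Transfer to a free module with a basis, compatibility of `dd` with `KoszSh.dGen`, and the graded
exactness statement.
-/

set_option autoImplicit false

namespace Groth.Agent.Helper19.KoszExt

open ExteriorAlgebra

variable {R : Type*} [CommRing R] {M : Type*} [AddCommGroup M] [Module R M]

/-- Exactness for a free module with a finite basis. -/
theorem exact_of_basis {n : ℕ} (b : Module.Basis (Fin n) R M) (φ : M →ₗ[R] R)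
    (hx : RingTheory.Sequence.IsWeaklyRegular R (List.ofFn fun k => φ (b k)))
    (z : ExteriorAlgebra R M) (hz : dd φ z = 0) (hε : algebraMapInv z ∈ LinearMap.range φ) :
    ∃ w, dd φ w = z := by
  set x : Fin n → R := fun k => φ (b k) with hxdef
  let e : M ≃ₗ[R] (Fin n → R) := b.equivFun
  have hφ : φ = phi x ∘ₗ e.toLinearMap := by
    apply b.ext
    intro i
    rw [LinearMap.comp_apply, phi_apply]
    have hb : ∀ k, (e (b i)) k = if i = k then 1 else 0 := by
      intro k
      change b.equivFun (b i) k = _
      rw [Module.Basis.equivFun_apply, Module.Basis.repr_self, Finsupp.single_apply]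
    rw [Finset.sum_eq_single i]
    · rw [LinearEquiv.coe_coe, hb, if_pos rfl, one_mul]
    · intro k _ hk
      rw [LinearEquiv.coe_coe, hb, if_neg (Ne.symm hk), zero_mul]
    · intro h; exact absurd (Finset.mem_univ _) h
  have hφ' : phi x = φ ∘ₗ e.symm.toLinearMap := by
    rw [hφ, LinearMap.comp_assoc]
    apply LinearMap.ext
    intro m
    simp
  have hz' : dd (phi x) (map e.toLinearMap z) = 0 := by
    rw [dd_map, ← hφ, hz, map_zero]
  have hε' : algebraMapInv (map e.toLinearMap z) ∈ LinearMap.range (phi x) := by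
    rw [algebraMapInv_map]
    obtain ⟨m, hm⟩ := hε
    refine ⟨e m, ?_⟩
    rw [← hm, hφ]
    rfl
  obtain ⟨w', hw'⟩ := exact_std n x hx _ hz' hε'
  refine ⟨map e.symm.toLinearMap w', ?_⟩
  rw [dd_map, ← hφ', hw']
  have h : (map e.symm.toLinearMap).comp (map e.toLinearMap) = AlgHom.id R _ := by
    rw [map_comp_map]
    have : e.symm.toLinearMap ∘ₗ e.toLinearMap = LinearMap.id := by
      apply LinearMap.ext; intro m; simp
    rw [this, map_id]
  exact congrArg (fun f => f z) h

/-- The Koszul boundary of a decomposable element, in the exterior algebra. -/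
theorem coe_dGen (φ : M →ₗ[R] R) (p : ℕ) (e : Fin (p + 1) → M) :
    ((KoszSh.dGen φ p e : ⋀[R]^p M) : ExteriorAlgebra R M) =
      ∑ i : Fin (p + 1), ((-1 : R) ^ (i : ℕ) * φ (e i)) •
        ExteriorAlgebra.ιMulti R p (fun j => e (i.succAbove j)) := by
  unfold KoszSh.dGen
  simp only [Submodule.coe_sum, Submodule.coe_smul, exteriorPower.ιMulti_apply_coe]

/-- `dd` on a decomposable element is `KoszSh.dGen`. -/
theorem dd_ιMulti (φ : M →ₗ[R] R) (p : ℕ) (e : Fin (p + 1) → M) :
    dd φ (ExteriorAlgebra.ιMulti R (p + 1) e) =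
      ((KoszSh.dGen φ p e : ⋀[R]^p M) : ExteriorAlgebra R M) := by
  induction p with
  | zero =>
    rw [ιMulti_succ_apply, dd_ι_mul, ιMulti_zero_apply, dd_one, mul_zero, sub_zero, coe_dGen,
      Fin.sum_univ_one]
    simp only [Fin.val_zero, pow_zero, one_mul, ιMulti_zero_apply]
  | succ p ih =>
    rw [ιMulti_succ_apply, dd_ι_mul, ih (Matrix.vecTail e), coe_dGen φ p, coe_dGen φ (p + 1),
      Fin.sum_univ_succ (n := p + 1)]
    simp only [Fin.val_zero, pow_zero, one_mul, Fin.val_succ]
    rw [sub_eq_add_neg]
    congr 1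
    rw [Finset.mul_sum, ← Finset.sum_neg_distrib]
    apply Finset.sum_congr rfl
    intro k _
    rw [mul_smul_comm, ← neg_smul]
    congr 1
    · rw [pow_succ]
      simp only [Matrix.vecTail, Function.comp_apply]
      ring
    · rw [ιMulti_succ_apply]
      congr 2
      funext l
      simp only [Matrix.vecTail, Function.comp_apply, Fin.succ_succAbove_succ]

end Groth.Agent.Helper19.KoszExt
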