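import Mathlib
import Groth.Prelude.Def_KoszulSh
import Groth.Agent.Helper19.KoszExt4

/-!
# Exactness of the Koszul complex on exterior powers: graded form (helper19)
-/

set_option autoImplicit false

namespace Groth.Agent.Helper19.KoszExt

open ExteriorAlgebra

variable {R : Type*} [CommRing R] {M : Type*} [AddCommGroup M] [Module R M]

/-- `dd` lowers the degree by one. -/
theorem dd_mem (φ : M →ₗ[R] R) (i : ℕ) {y : ExteriorAlgebra R M} (hy : y ∈ ⋀[R]^(i + 1) M) :
    dd φ y ∈ ⋀[R]^i M := by
  rw [← exteriorPower.ιMulti_span_fixedDegree] at hy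
  induction hy using Submodule.span_induction with
  | mem x hx =>
    obtain ⟨e, rfl⟩ := hx
    rw [dd_ιMulti]
    exact Submodule.coe_mem _
  | zero => rw [map_zero]; exact zero_mem _
  | add a b _ _ ha hb => rw [map_add]; exact add_mem ha hb
  | smul r a _ ha => rw [map_smul]; exact Submodule.smul_mem _ _ ha

/-- `dd` kills degree zero. -/
theorem dd_eq_zero_of_mem_zero (φ : M →ₗ[R] R) {y : ExteriorAlgebra R M} (hy : y ∈ ⋀[R]^0 M) :
    dd φ y = 0 := by
  have h1 : (⋀[R]^0 M) = (1 : Submodule R (ExteriorAlgebra R M)) := pow_zero _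
  rw [h1, Submodule.mem_one] at hy
  obtain ⟨r, rfl⟩ := hy
  exact dd_algebraMap φ r

/-- The augmentation vanishes in positive degrees. -/
theorem algebraMapInv_eq_zero_of_mem (p : ℕ) {y : ExteriorAlgebra R M}
    (hy : y ∈ ⋀[R]^(p + 1) M) : algebraMapInv y = 0 := by
  rw [← exteriorPower.ιMulti_span_fixedDegree] at hy
  induction hy using Submodule.span_induction with
  | mem x hx =>
    obtain ⟨e, rfl⟩ := hx
    rw [ιMulti_succ_apply, algebraMapInv_ι_mul]
  | zero => rw [map_zero]
  | add a b _ _ ha hb => rw [map_add, ha, hb, add_zero]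
  | smul r a _ ha => rw [map_smul, ha, smul_zero]

variable (R M) in
/-- The grading of the exterior algebra by exterior powers. -/
def gr : ℕ → Submodule R (ExteriorAlgebra R M) := fun i => ⋀[R]^i M

noncomputable instance : DirectSum.Decomposition (gr R M) :=
  GradedRing.toDecomposition (self := ExteriorAlgebra.gradedAlgebra R M)

/-- `dd` commutes with the graded projections. -/
theorem dd_proj (φ : M →ₗ[R] R) (k : ℕ) (w : ExteriorAlgebra R M) :
    dd φ ((DirectSum.decompose (gr R M) w (k + 1) : ExteriorAlgebra R M)) =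
      (DirectSum.decompose (gr R M) (dd φ w) k : ExteriorAlgebra R M) := by
  induction w using DirectSum.Decomposition.inductionOn (gr R M) with
  | zero => simp
  | @homogeneous i m =>
    by_cases hi : i = k + 1
    · subst hi
      rw [DirectSum.decompose_of_mem_same (gr R M) m.2,
        DirectSum.decompose_of_mem_same (gr R M) (show dd φ m ∈ gr R M k from dd_mem φ k m.2)]
    · rw [DirectSum.decompose_of_mem_ne (gr R M) m.2 hi, map_zero]
      cases i with
      | zero =>
        rw [dd_eq_zero_of_mem_zero φ m.2, DirectSum.decompose_zero]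
        rfl
      | succ i' =>
        have hne : i' ≠ k := fun h => hi (by rw [h])
        rw [DirectSum.decompose_of_mem_ne (gr R M) (show dd φ m ∈ gr R M i' from dd_mem φ i' m.2) hne]
  | add a b ha hb =>
    rw [DirectSum.decompose_add, map_add, DirectSum.decompose_add]
    simp only [DirectSum.add_apply, Submodule.coe_add, map_add]
    rw [ha, hb]

/-- The Koszul differential between exterior powers. -/
noncomputable def ddp (φ : M →ₗ[R] R) (p : ℕ) : ⋀[R]^(p + 1) M →ₗ[R] ⋀[R]^p M :=
  (dd φ).restrict (fun _ hy => dd_mem φ p hy)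

theorem coe_ddp (φ : M →ₗ[R] R) (p : ℕ) (y : ⋀[R]^(p + 1) M) :
    ((ddp φ p y : ⋀[R]^p M) : ExteriorAlgebra R M) = dd φ (y : ExteriorAlgebra R M) := rfl

theorem ddp_ιMulti (φ : M →ₗ[R] R) (p : ℕ) (e : Fin (p + 1) → M) :
    ddp φ p (exteriorPower.ιMulti R (p + 1) e) = KoszSh.dGen φ p e := by
  apply Subtype.ext
  rw [coe_ddp, exteriorPower.ιMulti_apply_coe, dd_ιMulti]

theorem ddp_ddp (φ : M →ₗ[R] R) (p : ℕ) (y : ⋀[R]^(p + 2) M) : ddp φ p (ddp φ (p + 1) y) = 0 := by
  apply Subtype.ext
  rw [coe_ddp, coe_ddp, dd_dd]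
  rfl

/-- **Exactness of the Koszul complex on exterior powers** for a linear form on a finite free
module whose values on a basis form a weakly regular sequence. -/
theorem exact_ddp {n : ℕ} (b : Module.Basis (Fin n) R M) (φ : M →ₗ[R] R)
    (hx : RingTheory.Sequence.IsWeaklyRegular R (List.ofFn fun k => φ (b k))) (p : ℕ) :
    Function.Exact (ddp φ (p + 1)) (ddp φ p) := by
  intro y
  constructor
  · intro hy
    have hy' : dd φ (y : ExteriorAlgebra R M) = 0 := by
      rw [← coe_ddp, hy]; rfl
    have hε : algebraMapInv (y : ExteriorAlgebra R M) ∈ LinearMap.range φ := by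
      rw [algebraMapInv_eq_zero_of_mem p y.2]; exact zero_mem _
    obtain ⟨w, hw⟩ := exact_of_basis b φ hx _ hy' hε
    refine ⟨DirectSum.decompose (gr R M) w (p + 2), ?_⟩
    apply Subtype.ext
    rw [coe_ddp, dd_proj, hw, DirectSum.decompose_of_mem_same (gr R M) (show (y : ExteriorAlgebra R M) ∈ gr R M (p + 1) from y.2)]
  · rintro ⟨w, rfl⟩
    exact ddp_ddp φ p w

end Groth.Agent.Helper19.KoszExt
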