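import Mathlib
import Groth.Prelude.Def_KoszulSh
import Groth.Agent.Helper19.OmegaD3

/-!
# Morphisms between Koszul complexes of cosections (helper19)

Tools for `KoszSh.Cx`: the decomposable sections span; morphisms out of a term are determined by
their values on decomposable sections over affine opens; the map of Koszul complexes induced by a
morphism of modules compatible with the cosections.
-/

set_option autoImplicit false
universe u

open CategoryTheory AlgebraicGeometry Opposite TopologicalSpace exteriorPower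

namespace Groth.Agent.Helper19.KoszShMap

open Groth.Agent.Lib.Helper29.QCoh Groth.Agent.Helper19.OmegaD

variable {X : Scheme.{u}}

/-- The affine opens as a set of opens. -/
def affB (X : Scheme.{u}) : Set X.Opens := {U | IsAffineOpen U}

theorem isBasis_affB : Opens.IsBasis (affB X) := X.isBasis_affineOpens

/-- A morphism of modules read on sections, as a linear map. -/
noncomputable def appₗ {E F : X.Modules} (f : E ⟶ F) (U : X.Opens) : Γ(E, U) →ₗ[Γ(X, U)] Γ(F, U) where
  toFun := f.app U
  map_add' a b := map_add _ a b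
  map_smul' r a := Scheme.Modules.Hom.app_smul f r a

@[simp] theorem appₗ_apply {E F : X.Modules} (f : E ⟶ F) (U : X.Opens) (e : Γ(E, U)) :
    appₗ f U e = f.app U e := rfl

variable {E : X.Modules} {s : E ⟶ Coh.structureModule X} (C : KoszSh.Cx E s)

/-- The decomposable sections span the sections of a term over an affine open. -/
theorem span_gen (p : ℕ) (U : X.affineOpens) :
    Submodule.span Γ(X, U.1) (Set.range fun e : Fin p → Γ(E, U.1) =>
      (C.loc p U).symm (ιMulti _ p e)) = ⊤ := by
  have h1 : (Set.range fun e : Fin p → Γ(E, U.1) => (C.loc p U).symm (ιMulti _ p e)) =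
      (C.loc p U).symm '' Set.range (ιMulti Γ(X, U.1) p (M := Γ(E, U.1))) := by
    rw [← Set.range_comp]; rfl
  rw [h1]
  have h2 := Submodule.span_image (R := Γ(X, U.1)) (C.loc p U).symm.toLinearMap
    (s := Set.range (ιMulti Γ(X, U.1) p (M := Γ(E, U.1))))
  erw [h2, ιMulti_span, Submodule.map_top, LinearMap.range_eq_top]
  exact (C.loc p U).symm.surjective

/-- Restriction of a decomposable section, in terms of `res`. -/
theorem res_gen (p : ℕ) (U V : X.affineOpens) (h : V.1 ≤ U.1) (e : Fin p → Γ(E, U.1)) :
    res (C.K.X p) h ((C.loc p U).symm (ιMulti _ p e)) =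
      (C.loc p V).symm (ιMulti _ p (fun j => res E h (e j))) :=
  C.loc_res p U V h e


/-- Induction on sections of a term over an affine open, from decomposable sections. -/
theorem gen_induction (p : ℕ) (U : X.affineOpens) {P : Γ(C.K.X p, U.1) → Prop}
    (hgen : ∀ e : Fin p → Γ(E, U.1), P ((C.loc p U).symm (ιMulti _ p e)))
    (hzero : P 0) (hadd : ∀ a b, P a → P b → P (a + b))
    (hsmul : ∀ (r : Γ(X, U.1)) a, P a → P (r • a)) (m : Γ(C.K.X p, U.1)) : P m := by
  have hm : m ∈ Submodule.span Γ(X, U.1) (Set.range fun e : Fin p → Γ(E, U.1) =>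
      (C.loc p U).symm (ιMulti _ p e)) := by rw [span_gen]; trivial
  induction hm using Submodule.span_induction with
  | mem x hx => obtain ⟨e, rfl⟩ := hx; exact hgen e
  | zero => exact hzero
  | add a b _ _ ha hb => exact hadd a b ha hb
  | smul r a _ ha => exact hsmul r a ha

/-- Morphisms out of a term agreeing on decomposable sections over affine opens are equal. -/
theorem hom_ext_gen (p : ℕ) {N : X.Modules} (α β : C.K.X p ⟶ N)
    (h : ∀ (U : X.affineOpens) (e : Fin p → Γ(E, U.1)),
      α.app U.1 ((C.loc p U).symm (ιMulti _ p e)) = β.app U.1 ((C.loc p U).symm (ιMulti _ p e))) :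
    α = β := by
  apply hom_ext_of_basis (affB X) isBasis_affB
  intro U hU m
  refine gen_induction C p ⟨U, hU⟩ (P := fun m => α.app U m = β.app U m) (h ⟨U, hU⟩) ?_ ?_ ?_ m
  · rw [map_zero, map_zero]
  · intro a b ha hb
    rw [map_add, map_add, ha, hb]
  · intro r a ha
    rw [Scheme.Modules.Hom.app_smul, Scheme.Modules.Hom.app_smul, ha]

section map

variable {F : X.Modules} {t : F ⟶ Coh.structureModule X} (D : KoszSh.Cx F t) (f : E ⟶ F)

/-- The exterior power of `f` on sections over an affine open, read through `loc`. -/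
noncomputable def secMap (p : ℕ) (U : X.affineOpens) :
    Γ(C.K.X p, U.1) →ₗ[Γ(X, U.1)] Γ(D.K.X p, U.1) :=
  (D.loc p U).symm.toLinearMap ∘ₗ exteriorPower.map p (appₗ f U.1) ∘ₗ (C.loc p U).toLinearMap

theorem secMap_gen (p : ℕ) (U : X.affineOpens) (e : Fin p → Γ(E, U.1)) :
    secMap C D f p U ((C.loc p U).symm (ιMulti _ p e)) =
      (D.loc p U).symm (ιMulti _ p (fun j => f.app U.1 (e j))) := by
  simp only [secMap, LinearMap.coe_comp, LinearEquiv.coe_coe, Function.comp_apply,
    LinearEquiv.apply_symm_apply, exteriorPower.map_apply_ιMulti]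
  rfl

theorem secMap_res (p : ℕ) (U V : X.affineOpens) (h : V.1 ≤ U.1) (m : Γ(C.K.X p, U.1)) :
    secMap C D f p V (res (C.K.X p) h m) = res (D.K.X p) h (secMap C D f p U m) := by
  refine gen_induction C p U (P := fun m => secMap C D f p V (res (C.K.X p) h m) =
    res (D.K.X p) h (secMap C D f p U m)) ?_ ?_ ?_ ?_ m
  · intro e
    rw [res_gen, secMap_gen, secMap_gen, res_gen]
    congr 2
    funext j
    exact app_res f h (e j)
  · rw [map_zero, map_zero, map_zero, map_zero]
  · intro a b ha hb
    rw [map_add, map_add, map_add, map_add, ha, hb]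
  · intro r a ha
    rw [res_smul, map_smul, ha, map_smul, res_smul]

theorem exists_termMap (p : ℕ) :
    ∃ α : C.K.X p ⟶ D.K.X p, ∀ (U : X.affineOpens) (m : Γ(C.K.X p, U.1)),
      α.app U.1 m = secMap C D f p U m := by
  obtain ⟨α, hα⟩ := exists_hom_of_basis (M := C.K.X p) (N := D.K.X p) (affB X) isBasis_affB
    (fun U => (secMap C D f p ⟨U.1, U.2⟩).toAddMonoidHom)
    (fun U r m => map_smul (secMap C D f p ⟨U.1, U.2⟩) r m)
    (fun U U' h m => secMap_res C D f p ⟨U.1, U.2⟩ ⟨U'.1, U'.2⟩ h m)
  exact ⟨α, fun U m => hα ⟨U.1, U.2⟩ m⟩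

/-- The `p`-th exterior power of `f` between the terms of two Koszul complexes. -/
noncomputable def termMap (p : ℕ) : C.K.X p ⟶ D.K.X p := (exists_termMap C D f p).choose

theorem termMap_app (p : ℕ) (U : X.affineOpens) (m : Γ(C.K.X p, U.1)) :
    (termMap C D f p).app U.1 m = secMap C D f p U m := (exists_termMap C D f p).choose_spec U m

theorem termMap_gen (p : ℕ) (U : X.affineOpens) (e : Fin p → Γ(E, U.1)) :
    (termMap C D f p).app U.1 ((C.loc p U).symm (ιMulti _ p e)) =
      (D.loc p U).symm (ιMulti _ p (fun j => f.app U.1 (e j))) := by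
  rw [termMap_app, secMap_gen]

end map


/-- Exterior powers of a linear map commute with the Koszul boundary of decomposables. -/
theorem map_dGen {R : Type*} [CommRing R] {M N : Type*} [AddCommGroup M] [Module R M]
    [AddCommGroup N] [Module R N] (g : M →ₗ[R] N) (φ : M →ₗ[R] R) (ψ : N →ₗ[R] R)
    (h : ∀ m, ψ (g m) = φ m) (p : ℕ) (e : Fin (p + 1) → M) :
    exteriorPower.map p g (KoszSh.dGen φ p e) = KoszSh.dGen ψ p (fun j => g (e j)) := by
  unfold KoszSh.dGen
  rw [map_sum]
  apply Finset.sum_congr rfl
  intro i _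
  rw [map_smul, exteriorPower.map_apply_ιMulti, h]
  rfl

end Groth.Agent.Helper19.KoszShMap
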