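import Mathlib
import Groth.Prelude.Def_KoszulSh
import Groth.Agent.Helper19.KoszShMap
import Groth.Agent.Helper19.KoszExt5
import Groth.Agent.Helper19.OmegaD8
import Groth.Agent.Lib.Helper29.QCohLocFree

/-!
# Exactness of the Koszul complex of a regular cosection (helper19)
-/

set_option autoImplicit false
universe u

open CategoryTheory AlgebraicGeometry Opposite TopologicalSpace exteriorPower

namespace Groth.Agent.Helper19.KoszShExact

open Groth.Agent.Lib.Helper29.QCoh Groth.Agent.Helper19.OmegaD Groth.Agent.Helper19.KoszShMap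
  Groth.Agent.Helper19.KoszExt

variable {X : Scheme.{u}} {E : X.Modules} {s : E ⟶ Coh.structureModule X} (C : KoszSh.Cx E s)

/-- The differential of a Koszul complex on sections over an affine open, through `loc`. -/
theorem d_app (p : ℕ) (U : X.affineOpens) (m : Γ(C.K.X (p + 1), U.1)) :
    (C.K.d (p + 1) p).app U.1 m =
      (C.loc p U).symm (ddp (KoszSh.secForm s U.1) p (C.loc (p + 1) U m)) := by
  refine gen_induction C (p + 1) U (P := fun m => (C.K.d (p + 1) p).app U.1 m =
      (C.loc p U).symm (ddp (KoszSh.secForm s U.1) p (C.loc (p + 1) U m))) ?_ ?_ ?_ ?_ m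
  · intro e
    rw [C.rule, LinearEquiv.apply_symm_apply, ddp_ιMulti]
  · rw [map_zero, map_zero, map_zero, map_zero]
  · intro a b ha hb
    rw [map_add, map_add, map_add, map_add, ha, hb]
  · intro r a ha
    rw [Scheme.Modules.Hom.app_smul, map_smul, map_smul, map_smul, ha]

/-- Exactness on sections over an affine open on which `E` has a basis mapping to a weakly
regular sequence. -/
theorem exact_app {n : ℕ} (p : ℕ) (U : X.affineOpens) (b : Module.Basis (Fin n) Γ(X, U.1) Γ(E, U.1))
    (hb : RingTheory.Sequence.IsWeaklyRegular Γ(X, U.1)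
      (List.ofFn fun k => KoszSh.secForm s U.1 (b k))) :
    Function.Exact ((C.K.d (p + 2) (p + 1)).app U.1) ((C.K.d (p + 1) p).app U.1) := by
  have hex := exact_ddp b (KoszSh.secForm s U.1) hb p
  intro m
  rw [d_app C p U m]
  constructor
  · intro hm
    have h1 : ddp (KoszSh.secForm s U.1) p (C.loc (p + 1) U m) = 0 := by
      have := congrArg (C.loc p U) hm
      rwa [LinearEquiv.apply_symm_apply, map_zero] at this
    obtain ⟨w, hw⟩ := (hex _).mp h1
    refine ⟨(C.loc (p + 2) U).symm w, ?_⟩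
    rw [d_app C (p + 1) U, LinearEquiv.apply_symm_apply, hw, LinearEquiv.symm_apply_apply]
  · rintro ⟨w, rfl⟩
    rw [d_app C (p + 1) U, LinearEquiv.apply_symm_apply]
    have := (hex (ddp (KoszSh.secForm s U.1) (p + 1) (C.loc (p + 2) U w))).mpr ⟨_, rfl⟩
    rw [this, map_zero]


variable (E s) in
/-- The affine opens over which `E` has a basis of length `n` mapping to a weakly regular
sequence under the cosection. -/
def regB (n : ℕ) : Set X.Opens :=
  {V | ∃ _ : IsAffineOpen V, ∃ b : Module.Basis (Fin n) Γ(X, V) Γ(E, V),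
    RingTheory.Sequence.IsWeaklyRegular Γ(X, V) (List.ofFn fun k => KoszSh.secForm s V (b k))}

theorem secForm_res {U V : X.Opens} (h : V ≤ U) (m : Γ(E, U)) :
    KoszSh.secForm s V (res E h m) = X.presheaf.map (homOfLE h).op (KoszSh.secForm s U m) := by
  rw [KoszSh.secForm_apply, KoszSh.secForm_apply, app_res]
  rfl

theorem isBasis_regB [E.IsQuasicoherent] (n : ℕ)
    (hs : ∀ x : X, ∃ U : X.affineOpens, x ∈ U.1 ∧
      ∃ b : Module.Basis (Fin n) Γ(X, U.1) Γ(E, U.1),
        RingTheory.Sequence.IsWeaklyRegular Γ(X, U.1)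
          (List.ofFn fun k => KoszSh.secForm s U.1 (b k))) :
    Opens.IsBasis (regB E s n) := by
  rw [Opens.isBasis_iff_nbhd]
  intro W x hxW
  obtain ⟨U, hxU, b, hb⟩ := hs x
  obtain ⟨g, hgW, hxg⟩ := U.2.exists_basicOpen_le (V := W) ⟨x, hxW⟩ hxU
  refine ⟨X.basicOpen g, ⟨U.2.basicOpen g, ?_⟩, hxg, hgW⟩
  have h : X.basicOpen g ≤ U.1 := X.basicOpen_le g
  letI := sectionsModule E h
  haveI : IsLocalizedModule (.powers g) (resₗ E h) := isLocalizedModule_res_basicOpen E U.2 g
  haveI : IsLocalization.Away g Γ(X, X.basicOpen g) := U.2.isLocalization_basicOpen g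
  haveI : IsScalarTower Γ(X, U.1) Γ(X, X.basicOpen g) Γ(E, X.basicOpen g) := by
    refine ⟨fun r a m => ?_⟩
    change (algebraMap Γ(X, U.1) Γ(X, X.basicOpen g) r * a) • m =
      (X.presheaf.map (homOfLE h).op r) • (a • m)
    rw [mul_smul]
    rfl
  let b' : Module.Basis (Fin n) Γ(X, X.basicOpen g) Γ(E, X.basicOpen g) :=
    b.ofIsLocalizedModule Γ(X, X.basicOpen g) (.powers g) (resₗ E h)
  refine ⟨b', ?_⟩
  have hb' : ∀ k, b' k = res E h (b k) := fun k =>
    Module.Basis.ofIsLocalizedModule_apply Γ(X, X.basicOpen g) (.powers g) (resₗ E h) b k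
  have hlist : (List.ofFn fun k => KoszSh.secForm s (X.basicOpen g) (b' k)) =
      (List.ofFn fun k => KoszSh.secForm s U.1 (b k)).map
        (algebraMap Γ(X, U.1) Γ(X, X.basicOpen g)) := by
    rw [List.map_ofFn]
    congr 1
    funext k
    rw [Function.comp_apply, hb', secForm_res]
    rfl
  rw [hlist]
  exact RingTheory.Sequence.IsWeaklyRegular.of_isLocalization Γ(X, X.basicOpen g)
    (Submonoid.powers g) hb

/-- **The Koszul complex of a regular cosection is exact in positive degrees.** -/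
theorem isZero_homology [E.IsQuasicoherent] (n : ℕ)
    (hs : ∀ x : X, ∃ U : X.affineOpens, x ∈ U.1 ∧
      ∃ b : Module.Basis (Fin n) Γ(X, U.1) Γ(E, U.1),
        RingTheory.Sequence.IsWeaklyRegular Γ(X, U.1)
          (List.ofFn fun k => KoszSh.secForm s U.1 (b k)))
    (q : ℕ) (hq : 1 ≤ q) : Limits.IsZero (C.K.homology q) := by
  obtain ⟨p, rfl⟩ : ∃ p, q = p + 1 := ⟨q - 1, by omega⟩
  rw [← HomologicalComplex.exactAt_iff_isZero_homology,
    HomologicalComplex.exactAt_iff' C.K (p + 2) (p + 1) p (by simp) (by simp)]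
  apply exact_of_exact_on_basis (regB E s n) (isBasis_regB n hs)
  rintro V ⟨hV, b, hb⟩
  exact exact_app C p ⟨V, hV⟩ b hb

end Groth.Agent.Helper19.KoszShExact
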