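import Mathlib
import Groth.Prelude.Def_RegImm
import Groth.Agent.Helper19.LciMor
import Groth.Agent.Helper19.LciSmooth

/-!
# Koszul-regularity of two immersions related by a smooth morphism (helper19)

`i : X ⟶ V`, `j : X ⟶ V'` immersions, `p : V' ⟶ V` smooth with `j ≫ p = i`:
`i` is Koszul-regular at `z` iff `j` is.
-/

set_option autoImplicit false
set_option linter.style.haveILetI false
set_option linter.unusedSectionVars false
universe u

open CategoryTheory CategoryTheory.Limits AlgebraicGeometry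

namespace Groth.Agent.Helper19.LciCharts

open Groth.Agent.Helper19.RegImmBC Groth.Agent.Lib.Helper16.KzComp Groth.Agent.Helper19.LciDict
open Groth.Agent.Helper19.LciRing Groth.Agent.Helper19.LciMor Groth.Agent.Helper19.LciSmooth

variable {X V V' : Scheme.{u}}

theorem appLE_of_eq (i : X ⟶ V) (U : V.Opens) (W : X.Opens) (h : W = i ⁻¹ᵁ U) :
    RingHom.ker (i.appLE U W (le_of_eq h)).hom = RingHom.ker (i.app U).hom ∧
      (Function.Surjective (i.app U).hom → Function.Surjective (i.appLE U W (le_of_eq h)).hom) := by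
  subst h
  rw [Scheme.Hom.appLE_eq_app]
  exact ⟨rfl, id⟩

/-- compatible charts for two immersions related by a morphism -/
theorem exists_charts (i : X ⟶ V) [IsImmersion i] (j : X ⟶ V') [IsImmersion j] (p : V' ⟶ V)
    (h : j ≫ p = i) (z : X) :
    ∃ (U : V.affineOpens) (U' : V'.affineOpens) (_ : U'.1 ≤ p ⁻¹ᵁ U.1), i z ∈ U.1 ∧ j z ∈ U'.1 ∧
      IsClosedImmersion (i ∣_ U.1) ∧ IsClosedImmersion (j ∣_ U'.1) ∧ j ⁻¹ᵁ U'.1 = i ⁻¹ᵁ U.1 := by
  subst h
  obtain ⟨U₀, hcl₀, -, hz₀, -⟩ := exists_chart (j ≫ p) z ⊤ trivial ⊤ trivial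
  haveI := hcl₀
  have hz₀' : j z ∈ p ⁻¹ᵁ U₀.1 := by
    have : (j ≫ p) z ∈ U₀.1 := hz₀
    rwa [Scheme.Hom.comp_apply] at this
  obtain ⟨U₁, hcl₁, hU₁le, hz₁, -⟩ := exists_chart j z ⊤ trivial (p ⁻¹ᵁ U₀.1) hz₀'
  haveI := hcl₁
  have hUZ : IsAffineOpen ((j ≫ p) ⁻¹ᵁ U₀.1) := isAffineOpen_preimage_of_restrict (j ≫ p) U₀.2
  have hsurj : Function.Surjective ((j ≫ p).app U₀.1).hom := app_surjective_of_restrict (j ≫ p) U₀.2
  obtain ⟨abar, hale, hza⟩ := hUZ.exists_basicOpen_le (V := j ⁻¹ᵁ U₁.1) ⟨z, hz₁⟩ hz₀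
  obtain ⟨a, rfl⟩ := hsurj abar
  let U : V.affineOpens := ⟨V.basicOpen a, U₀.2.basicOpen a⟩
  let U' : V'.affineOpens := ⟨V'.basicOpen ((p.appLE U₀.1 U₁.1 hU₁le).hom a),
    U₁.2.basicOpen _⟩
  have hU'eq : U'.1 = U₁.1 ⊓ p ⁻¹ᵁ U.1 := Scheme.basicOpen_appLE p U₁.1 U₀.1 hU₁le a
  have hpre : (j ≫ p) ⁻¹ᵁ U.1 = X.basicOpen (((j ≫ p).app U₀.1).hom a) := by
    change (j ≫ p) ⁻¹ᵁ V.basicOpen a = _
    rw [Scheme.preimage_basicOpen]
  have hUU₀ : U.1 ≤ U₀.1 := V.basicOpen_le a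
  have hU'U₁ : U'.1 ≤ U₁.1 := V'.basicOpen_le _
  refine ⟨U, U', by rw [hU'eq]; exact inf_le_right, ?_, ?_, (restrict_chart (j ≫ p) U₀ U hUU₀).1,
    (restrict_chart j U₁ U' hU'U₁).1, ?_⟩
  · have : z ∈ (j ≫ p) ⁻¹ᵁ U.1 := by rw [hpre]; exact hza
    exact this
  · have h1 : z ∈ (j ≫ p) ⁻¹ᵁ U.1 := by rw [hpre]; exact hza
    have h2 : j z ∈ U₁.1 ⊓ p ⁻¹ᵁ U.1 := by
      refine ⟨hz₁, ?_⟩
      have : (j ≫ p) z ∈ U.1 := h1
      rwa [Scheme.Hom.comp_apply] at this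
    rw [hU'eq]
    exact h2
  · rw [hU'eq]
    apply le_antisymm
    · intro y hy
      exact hy.2
    · intro y hy
      refine ⟨?_, hy⟩
      have : y ∈ X.basicOpen (((j ≫ p).app U₀.1).hom a) := by rw [← hpre]; exact hy
      exact hale this

/-- the Koszul-regularity of the two ideals on compatible charts agree -/
theorem kreg_iff_of_charts (i : X ⟶ V) (j : X ⟶ V') (p : V' ⟶ V) [Smooth p]
    (h : j ≫ p = i) (U : V.affineOpens) (U' : V'.affineOpens) (e : U'.1 ≤ p ⁻¹ᵁ U.1)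
    [IsClosedImmersion (i ∣_ U.1)] [IsClosedImmersion (j ∣_ U'.1)]
    (heq : j ⁻¹ᵁ U'.1 = i ⁻¹ᵁ U.1) :
    LCI.IsKoszulRegularIdeal (RingHom.ker (i.app U.1).hom) ↔
      LCI.IsKoszulRegularIdeal (RingHom.ker (j.app U'.1).hom) := by
  subst h
  have hφ : (p.appLE U.1 U'.1 e).hom.Smooth :=
    HasRingHomProperty.appLE (P := @Smooth) p inferInstance U U' e
  have hβ : Function.Surjective (j.app U'.1).hom := app_surjective_of_restrict j U'.2
  have hα : Function.Surjective ((j ≫ p).app U.1).hom := app_surjective_of_restrict (j ≫ p) U.2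
  obtain ⟨hk, hs⟩ := appLE_of_eq (j ≫ p) U.1 (j ⁻¹ᵁ U'.1) heq
  have hcomp : (j.app U'.1).hom.comp (p.appLE U.1 U'.1 e).hom =
      ((j ≫ p).appLE U.1 (j ⁻¹ᵁ U'.1) (le_of_eq heq)).hom := by
    have h1 : p.appLE U.1 U'.1 e ≫ j.app U'.1 =
        (j ≫ p).appLE U.1 (j ⁻¹ᵁ U'.1) (le_of_eq heq) := by
      rw [Scheme.Hom.app_eq_appLE, Scheme.Hom.appLE_comp_appLE]
    rw [← h1]
    rfl
  rw [← hk, ← hcomp]
  exact (isKoszulRegularIdeal_ker_iff_of_smooth _ hφ _ hβ (by rw [hcomp]; exact hs hα)).symm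

/-- **Koszul-regularity at a point for two immersions related by a smooth morphism.** -/
theorem isRegularImmersion_iff_of_smooth (i : X ⟶ V) [IsImmersion i] (j : X ⟶ V') [IsImmersion j]
    (p : V' ⟶ V) [Smooth p] (h : j ≫ p = i) :
    RegImm.IsRegularImmersion .koszul i ↔ RegImm.IsRegularImmersion .koszul j := by
  constructor
  · intro hi
    refine ⟨inferInstance, fun z => ?_⟩
    obtain ⟨U, U', e, hzU, hzU', hcl, hcl', heq⟩ := exists_charts i j p h z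
    haveI := hcl
    haveI := hcl'
    exact isRegularImmersionAt_of_isKoszulRegularIdeal j U' z hzU'
      ((kreg_iff_of_charts i j p h U U' e heq).mp (isKoszulRegularIdeal_ker_app i hi U))
  · intro hj
    refine ⟨inferInstance, fun z => ?_⟩
    obtain ⟨U, U', e, hzU, hzU', hcl, hcl', heq⟩ := exists_charts i j p h z
    haveI := hcl
    haveI := hcl'
    exact isRegularImmersionAt_of_isKoszulRegularIdeal i U z hzU
      ((kreg_iff_of_charts i j p h U U' e heq).mpr (isKoszulRegularIdeal_ker_app j hj U'))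

end Groth.Agent.Helper19.LciCharts
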