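import Mathlib
import Groth.Agent.Helper19.LiftRetr6
import Groth.Agent.S9372
set_option autoImplicit false
set_option linter.style.haveILetI false
set_option linter.unusedSectionVars false
universe u

open CategoryTheory CategoryTheory.Limits AlgebraicGeometry Opposite TopologicalSpace

/-! # A local lift gives a local retraction of the canonical conormal map (helper19) -/

namespace Groth.Agent.Helper19.LocLift

open Groth.Agent.Lib.Helper29.QCoh Groth.Agent.Helper19.OmegaD Groth.Agent.Helper19.Conormal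
open Groth.Agent.Helper19.OmegaGrp Groth.Agent.Helper19.ConMapEx Groth.Agent.Helper19.LiftRetr

section ext

variable {Z Z' X' : Scheme.{u}} (i' : Z' ⟶ X') [QuasiCompact i'] (gZ : Z ⟶ Z')

/-- Maps out of `gZ^* C_{Z'/X'}` are determined by their values on pulled back classes of
functions vanishing on `Z'` over affine opens. -/
theorem hom_ext_clsG {M : Z.Modules}
    (φ₁ φ₂ : (Scheme.Modules.pullback gZ).obj (Omega.conormal i') ⟶ M)
    (h : ∀ (U' : X'.Opens) (_ : IsAffineOpen U') (ε : Γ(X', U')) (hε : (i'.app U').hom ε = 0),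
      φ₁.app (gZ ⁻¹ᵁ (i' ⁻¹ᵁ U')) (pullSect gZ (Omega.conormal i') (i' ⁻¹ᵁ U') (clsG i' U' ε hε)) =
      φ₂.app (gZ ⁻¹ᵁ (i' ⁻¹ᵁ U')) (pullSect gZ (Omega.conormal i') (i' ⁻¹ᵁ U') (clsG i' U' ε hε))) :
    φ₁ = φ₂ := by
  let adjZ := Scheme.Modules.pullbackPushforwardAdjunction gZ
  let adj' := Scheme.Modules.pullbackPushforwardAdjunction i'
  apply (adjZ.homEquiv _ _).injective
  apply (adj'.homEquiv _ _).injective
  apply hom_ext_of_basis {U | IsAffineOpen U} X'.isBasis_affineOpens
  intro U' hU' s'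
  have e1 := Groth.Agent.S9370.homEquiv_app i' (adjZ.homEquiv _ _ φ₁) U' s'
  have e2 := Groth.Agent.S9370.homEquiv_app i' (adjZ.homEquiv _ _ φ₂) U' s'
  have f1 := Groth.Agent.S9370.homEquiv_app gZ φ₁ (i' ⁻¹ᵁ U')
    (OmegaSh.pullSect i' (ClSub.idealMod i'.ker) U' s')
  have f2 := Groth.Agent.S9370.homEquiv_app gZ φ₂ (i' ⁻¹ᵁ U')
    (OmegaSh.pullSect i' (ClSub.idealMod i'.ker) U' s')
  have hε : (i'.app U').hom (OmegaSh.idealSect i'.ker U' s') = 0 :=
    app_idealSect_eq_zero i' hU' s'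
  have hk := h U' hU' (OmegaSh.idealSect i'.ker U' s') hε
  have hl : lift i' U' (OmegaSh.idealSect i'.ker U' s') hε = s' := lift_eq i' U' _ hε s' rfl
  unfold clsG at hk
  rw [hl] at hk
  refine e1.trans (f1.trans ?_)
  refine Eq.trans ?_ (e2.trans f2).symm
  exact hk

end ext

end Groth.Agent.Helper19.LocLift
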