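import Mathlib
import Groth.Agent.Helper19.LocLift1
set_option autoImplicit false
set_option linter.style.haveILetI false
set_option linter.unusedSectionVars false
universe u

open CategoryTheory CategoryTheory.Limits AlgebraicGeometry Opposite TopologicalSpace

/-! # A local lift gives a local retraction of the canonical conormal map, II (helper19) -/

namespace Groth.Agent.Helper19.LocLift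

open Groth.Agent.Lib.Helper29.QCoh Groth.Agent.Helper19.OmegaD Groth.Agent.Helper19.Conormal
open Groth.Agent.Helper19.OmegaGrp Groth.Agent.Helper19.ConMapEx Groth.Agent.Helper19.LiftRetr

section vanish

variable {A B A' B' : Scheme.{u}}

/-- In a commutative square `gZ ≫ i' = i ≫ g`, `g♯` maps functions vanishing along `i'` to
functions vanishing along `i`. -/
theorem app_app_eq_zero (i : A ⟶ B) (i' : A' ⟶ B') (g : B ⟶ B') (gZ : A ⟶ A')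
    (hsq : gZ ≫ i' = i ≫ g) (W : B'.Opens) (t : Γ(B', W)) (ht : (i'.app W).hom t = 0) :
    (i.app (g ⁻¹ᵁ W)).hom ((g.app W).hom t) = 0 := by
  have e := Scheme.Hom.congr_app hsq.symm W
  change ((i ≫ g).app W).hom t = 0
  rw [e]
  change (A.presheaf.map _).hom ((gZ.app (i' ⁻¹ᵁ W)).hom ((i'.app W).hom t)) = 0
  rw [ht, map_zero, map_zero]

end vanish

section main

variable {D P C : Scheme.{u}} (γ : D ⟶ P) (pC : P ⟶ C) [IsClosedImmersion γ]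
  [IsClosedImmersion (γ ≫ pC)]
  (a : Omega.conormal (γ ≫ pC) ⟶ Omega.conormal γ)
  (ha : ∀ (W : C.Opens) (ε : Γ(C, W)) (hε : ((γ ≫ pC).app W).hom ε = 0)
      (hε' : (γ.app (pC ⁻¹ᵁ W)).hom ((pC.app W).hom ε) = 0),
      a.app ((γ ≫ pC) ⁻¹ᵁ W) (clsG (γ ≫ pC) W ε hε) = clsG γ (pC ⁻¹ᵁ W) ((pC.app W).hom ε) hε')
  (U : C.Opens) (Γg : (U : Scheme.{u}) ⟶ P) (hΓ₁ : Γg ≫ pC = U.ι)
  (hΓ₂ : ((γ ≫ pC) ⁻¹ᵁ U).ι ≫ γ = ((γ ≫ pC) ∣_ U) ≫ Γg)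

include ha hΓ₁ hΓ₂ in
/-- A local lift over `U` (encoded by its graph `Γg : U ⟶ P`) gives a retraction of the canonical
conormal map over the preimage of `U`. -/
theorem exists_local_retraction :
    ∃ r : (Scheme.Modules.pullback ((γ ≫ pC) ⁻¹ᵁ U).ι).obj (Omega.conormal γ) ⟶
        (Scheme.Modules.pullback ((γ ≫ pC) ⁻¹ᵁ U).ι).obj (Omega.conormal (γ ≫ pC)),
      (Scheme.Modules.pullback ((γ ≫ pC) ⁻¹ᵁ U).ι).map a ≫ r = 𝟙 _ := by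
  haveI : IsClosedImmersion ((γ ≫ pC) ∣_ U) := inferInstance
  obtain ⟨ψU, hψU⟩ := exists_conormalMap ((γ ≫ pC) ∣_ U) γ Γg ((γ ≫ pC) ⁻¹ᵁ U).ι hΓ₂
  have hsq₂ : ((γ ≫ pC) ⁻¹ᵁ U).ι ≫ (γ ≫ pC) = ((γ ≫ pC) ∣_ U) ≫ U.ι :=
    (morphismRestrict_ι (γ ≫ pC) U).symm
  obtain ⟨χU, hχU⟩ := exists_conormalMap ((γ ≫ pC) ∣_ U) (γ ≫ pC) U.ι ((γ ≫ pC) ⁻¹ᵁ U).ι hsq₂
  haveI : IsIso χU := (Groth.Agent.S9372.result ((γ ≫ pC) ∣_ U) (γ ≫ pC) U.ι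
    ((γ ≫ pC) ⁻¹ᵁ U).ι (isPullback_morphismRestrict (γ ≫ pC) U) χU hχU).2 inferInstance
  have key : (Scheme.Modules.pullback ((γ ≫ pC) ⁻¹ᵁ U).ι).map a ≫ ψU = χU := by
    apply hom_ext_clsG (γ ≫ pC) ((γ ≫ pC) ⁻¹ᵁ U).ι
    intro W hW ε hε
    have hε' : (γ.app (pC ⁻¹ᵁ W)).hom ((pC.app W).hom ε) = 0 := hε
    rw [app_comp, pullSect_naturality, ha W ε hε hε']
    have ht₁ : (((γ ≫ pC) ∣_ U).app (Γg ⁻¹ᵁ (pC ⁻¹ᵁ W))).hom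
        ((Γg.app (pC ⁻¹ᵁ W)).hom ((pC.app W).hom ε)) = 0 :=
      app_app_eq_zero ((γ ≫ pC) ∣_ U) γ Γg ((γ ≫ pC) ⁻¹ᵁ U).ι hΓ₂ _ _ hε'
    have hT : ((γ ≫ pC) ⁻¹ᵁ U).ι ⁻¹ᵁ (γ ⁻¹ᵁ (pC ⁻¹ᵁ W)) ≤
        ((γ ≫ pC) ∣_ U) ⁻¹ᵁ (Γg ⁻¹ᵁ (pC ⁻¹ᵁ W)) := by
      have : (((γ ≫ pC) ⁻¹ᵁ U).ι ≫ γ) ⁻¹ᵁ (pC ⁻¹ᵁ W) ≤
          (((γ ≫ pC) ∣_ U) ≫ Γg) ⁻¹ᵁ (pC ⁻¹ᵁ W) := by rw [hΓ₂]
      exact this
    have k1 := conormalMap_apply ((γ ≫ pC) ∣_ U) γ Γg ((γ ≫ pC) ⁻¹ᵁ U).ι hΓ₂ ψU hψU (pC ⁻¹ᵁ W)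
      (lift γ (pC ⁻¹ᵁ W) ((pC.app W).hom ε) hε')
      (lift ((γ ≫ pC) ∣_ U) (Γg ⁻¹ᵁ (pC ⁻¹ᵁ W)) ((Γg.app (pC ⁻¹ᵁ W)).hom ((pC.app W).hom ε)) ht₁)
      (by rw [idealSect_lift, idealSect_lift]) hT
    have ht₂ : (((γ ≫ pC) ∣_ U).app (U.ι ⁻¹ᵁ W)).hom ((U.ι.app W).hom ε) = 0 :=
      app_app_eq_zero ((γ ≫ pC) ∣_ U) (γ ≫ pC) U.ι ((γ ≫ pC) ⁻¹ᵁ U).ι hsq₂ _ _ hε
    have hT' : ((γ ≫ pC) ⁻¹ᵁ U).ι ⁻¹ᵁ ((γ ≫ pC) ⁻¹ᵁ W) ≤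
        ((γ ≫ pC) ∣_ U) ⁻¹ᵁ (U.ι ⁻¹ᵁ W) := by
      have : (((γ ≫ pC) ⁻¹ᵁ U).ι ≫ (γ ≫ pC)) ⁻¹ᵁ W ≤
          (((γ ≫ pC) ∣_ U) ≫ U.ι) ⁻¹ᵁ W := by rw [hsq₂]
      exact this
    have k2 := conormalMap_apply ((γ ≫ pC) ∣_ U) (γ ≫ pC) U.ι ((γ ≫ pC) ⁻¹ᵁ U).ι hsq₂ χU hχU W
      (lift (γ ≫ pC) W ε hε)
      (lift ((γ ≫ pC) ∣_ U) (U.ι ⁻¹ᵁ W) ((U.ι.app W).hom ε) ht₂)
      (by rw [idealSect_lift, idealSect_lift]) hT'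
    refine (k1.trans ?_).trans k2.symm
    -- compare the two classes on `U`
    have hG : U.ι ⁻¹ᵁ W ≤ Γg ⁻¹ᵁ (pC ⁻¹ᵁ W) := by
      have : U.ι ⁻¹ᵁ W ≤ (Γg ≫ pC) ⁻¹ᵁ W := by rw [hΓ₁]
      exact this
    have ht12 : (U : Scheme.{u}).presheaf.map (homOfLE hG).op
        ((Γg.app (pC ⁻¹ᵁ W)).hom ((pC.app W).hom ε)) = (U.ι.app W).hom ε := by
      have e := Scheme.Hom.congr_app hΓ₁.symm W
      have e' := congrArg (fun k => k.hom ε) e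
      simp only [Scheme.Hom.comp_app, CommRingCat.hom_comp, RingHom.comp_apply] at e'
      rw [e']
      rfl
    have ht₁' : (((γ ≫ pC) ∣_ U).app (U.ι ⁻¹ᵁ W)).hom ((U : Scheme.{u}).presheaf.map (homOfLE hG).op
        ((Γg.app (pC ⁻¹ᵁ W)).hom ((pC.app W).hom ε))) = 0 := by rw [ht12]; exact ht₂
    have c1 := clsG_res ((γ ≫ pC) ∣_ U) hG _ ht₁ ht₁'
    have c2 := clsG_congr ((γ ≫ pC) ∣_ U) (U.ι ⁻¹ᵁ W) _ _ ht₁' ht₂ ht12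
    change res _ hT (clsG ((γ ≫ pC) ∣_ U) _ _ ht₁) = res _ hT' (clsG ((γ ≫ pC) ∣_ U) _ _ ht₂)
    rw [← c2, c1, res_res]
    rfl
  refine ⟨ψU ≫ inv χU, ?_⟩
  rw [← Category.assoc, key, IsIso.hom_inv_id]

end main

end Groth.Agent.Helper19.LocLift
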