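import Mathlib
import Groth.Agent.Helper19.LocLift2
set_option autoImplicit false
set_option linter.style.haveILetI false
set_option linter.unusedSectionVars false
universe u

open CategoryTheory CategoryTheory.Limits AlgebraicGeometry Opposite TopologicalSpace

/-! # A local lift gives a local retraction of the canonical conormal map, III: restriction form
(helper19) -/

namespace Groth.Agent.Helper19.LocLift

open Groth.Agent.Lib.Helper29.QCoh Groth.Agent.Helper19.OmegaD Groth.Agent.Helper19.Conormal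
open Groth.Agent.Helper19.OmegaGrp Groth.Agent.Helper19.ConMapEx Groth.Agent.Helper19.LiftRetr

/-- Transport a retraction from the pullback along an open immersion to the restriction. -/
theorem retraction_restrict_of_pullback {X Y : Scheme.{u}} (j : X ⟶ Y) [IsOpenImmersion j]
    {M N : Y.Modules} (a : M ⟶ N)
    (r : (Scheme.Modules.pullback j).obj N ⟶ (Scheme.Modules.pullback j).obj M)
    (hr : (Scheme.Modules.pullback j).map a ≫ r = 𝟙 _) :
    ∃ r' : (Scheme.Modules.restrictFunctor j).obj N ⟶ (Scheme.Modules.restrictFunctor j).obj M,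
      (Scheme.Modules.restrictFunctor j).map a ≫ r' = 𝟙 _ := by
  let e := Scheme.Modules.restrictFunctorIsoPullback j
  refine ⟨e.hom.app N ≫ r ≫ e.inv.app M, ?_⟩
  have nat := e.hom.naturality a
  rw [← Category.assoc, nat, Category.assoc, ← Category.assoc ((Scheme.Modules.pullback j).map a),
    hr, Category.id_comp]
  exact e.hom_inv_id_app M

section main

variable {D P C : Scheme.{u}} (γ : D ⟶ P) (pC : P ⟶ C) [IsClosedImmersion γ]
  [IsClosedImmersion (γ ≫ pC)]
  (a : Omega.conormal (γ ≫ pC) ⟶ Omega.conormal γ)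
  (ha : ∀ (W : C.Opens) (ε : Γ(C, W)) (hε : ((γ ≫ pC).app W).hom ε = 0)
      (hε' : (γ.app (pC ⁻¹ᵁ W)).hom ((pC.app W).hom ε) = 0),
      a.app ((γ ≫ pC) ⁻¹ᵁ W) (clsG (γ ≫ pC) W ε hε) = clsG γ (pC ⁻¹ᵁ W) ((pC.app W).hom ε) hε')
  (U : C.Opens) (Γg : (U : Scheme.{u}) ⟶ P) (hΓ₁ : Γg ≫ pC = U.ι)
  (hΓ₂ : ((γ ≫ pC) ⁻¹ᵁ U).ι ≫ γ = ((γ ≫ pC) ∣_ U) ≫ Γg)

include ha hΓ₁ hΓ₂ in
theorem exists_local_retraction_restrict :
    ∃ r : (Scheme.Modules.restrictFunctor ((γ ≫ pC) ⁻¹ᵁ U).ι).obj (Omega.conormal γ) ⟶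
        (Scheme.Modules.restrictFunctor ((γ ≫ pC) ⁻¹ᵁ U).ι).obj (Omega.conormal (γ ≫ pC)),
      (Scheme.Modules.restrictFunctor ((γ ≫ pC) ⁻¹ᵁ U).ι).map a ≫ r = 𝟙 _ := by
  obtain ⟨r, hr⟩ := exists_local_retraction γ pC a ha U Γg hΓ₁ hΓ₂
  exact retraction_restrict_of_pullback _ a r hr

end main

end Groth.Agent.Helper19.LocLift
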