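import Mathlib
import Groth.Agent.Lib.Helper29.HomSec3
import Groth.Agent.Lib.Helper29.QCohAffine
set_option autoImplicit false
set_option linter.style.haveILetI false
set_option linter.unusedSectionVars false
universe u

open CategoryTheory CategoryTheory.Limits AlgebraicGeometry Opposite TopologicalSpace

/-! # Post-composition on the sheaf Hom (helper19) -/

namespace Groth.Agent.Helper19.LocSplit

open Groth.Agent.Lib.Helper29.QCoh Groth.Agent.Lib.Helper29.QCoh.Dual
open Groth.Agent.Lib.Helper29.QCoh.HomSec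

variable {X : Scheme.{u}} {F G G' : X.Modules}

/-- Post-composition with `π` on sections of the sheaf Hom. -/
noncomputable def postSec (π : G ⟶ G') {U : X.Opens} (θ : Γ(RefHull.homSh F G, U)) :
    Γ(RefHull.homSh F G', U) :=
  ⟨fun x => (RefHull.stalkMapₗ π x.1).comp (θ.1 x), fun V i m x => by
    obtain ⟨W, hxW, j, n, hn⟩ := θ.2 V i m x
    refine ⟨W, hxW, j, π.app W n, fun y => ?_⟩
    have h1 := hn y
    change RefHull.stalkMapₗ π y.1 (θ.1 ⟨y.1, i.le (j.le y.2)⟩
      (F.presheaf.germ V y.1 (j.le y.2) m)) = _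
    rw [h1, RefHull.stalkMapₗ_germ]⟩

theorem postSec_apply (π : G ⟶ G') {U : X.Opens} (θ : Γ(RefHull.homSh F G, U)) (x : U)
    (t : F.presheaf.stalk x.1) :
    (postSec π θ).1 x t = RefHull.stalkMapₗ π x.1 (θ.1 x t) := rfl

theorem ev_postSec (π : G ⟶ G') {U : X.Opens} (θ : Γ(RefHull.homSh F G, U)) (m : Γ(F, U)) :
    ev (postSec π θ) m = π.app U (ev θ m) :=
  ev_eq_of_germ _ _ _ fun y hy => by
    rw [postSec_apply, ← germ_ev, RefHull.stalkMapₗ_germ]

theorem ev_ofHom (φ : F ⟶ G) (U : X.Opens) (m : Γ(F, U)) :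
    ev (RefHull.ofHom φ U) m = φ.app U m :=
  ev_eq_of_germ _ _ _ fun y hy => by
    rw [RefHull.ofHom_apply, RefHull.stalkMapₗ_germ]

/-- Post-composition, as a morphism of sheaf Homs. -/
noncomputable def postComp (F : X.Modules) (π : G ⟶ G') :
    RefHull.homSh F G ⟶ RefHull.homSh F G' :=
  homOfApp
    (fun W =>
      { toFun := fun θ => postSec π θ
        map_zero' := by
          apply homSh_ext
          intro y hy
          apply LinearMap.ext
          intro t
          rw [postSec_apply]
          exact map_zero _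
        map_add' := fun θ θ' => by
          apply homSh_ext
          intro y hy
          apply LinearMap.ext
          intro t
          rw [postSec_apply]
          exact map_add _ _ _ })
    (fun W r θ => by
      apply homSh_ext
      intro y hy
      apply LinearMap.ext
      intro t
      have e1 : (r • θ).1 ⟨y, hy⟩ t = X.presheaf.germ W y hy r • θ.1 ⟨y, hy⟩ t := rfl
      have e2 : (r • postSec π θ).1 ⟨y, hy⟩ t =
          X.presheaf.germ W y hy r • (postSec π θ).1 ⟨y, hy⟩ t := rfl
      change RefHull.stalkMapₗ π y ((r • θ).1 ⟨y, hy⟩ t) = (r • postSec π θ).1 ⟨y, hy⟩ t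
      rw [e1, e2, map_smul]
      rfl)
    (fun {W W'} h θ => rfl)

theorem postComp_app (F : X.Modules) (π : G ⟶ G') (W : X.Opens) (θ : Γ(RefHull.homSh F G, W)) :
    (postComp F π).app W θ = postSec π θ := rfl

end Groth.Agent.Helper19.LocSplit
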