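import Mathlib
import Groth.Agent.Helper19.LocSplit1
import Groth.Agent.Helper19.ConSplit11
set_option autoImplicit false
set_option linter.style.haveILetI false
set_option linter.unusedSectionVars false
universe u

open CategoryTheory CategoryTheory.Limits AlgebraicGeometry Opposite TopologicalSpace

/-! # A locally split exact sequence of quasi-coherent modules with finitely presented cokernel
splits on an affine scheme (helper19) -/

namespace Groth.Agent.Helper19.LocSplit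

open Groth.Agent.Lib.Helper29.QCoh Groth.Agent.Lib.Helper29.QCoh.Dual
open Groth.Agent.Lib.Helper29.QCoh.HomSec

variable {Z : Scheme.{u}}

/-- Sections-level: a semilinear retraction of `f_W` gives a linear section of `g_W`, when `g_W`
is surjective and the sequence is exact on sections. -/
theorem exists_sections_section_of_retraction (S : ShortComplex Z.Modules) (W : Z.Opens)
    (hsurj : Function.Surjective (S.g.app W))
    (hex : Function.Exact (S.f.app W) (S.g.app W))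
    (ℓ : Γ(S.X₂, W) →+ Γ(S.X₁, W))
    (hℓl : ∀ (c : Γ(Z, W)) (m : Γ(S.X₂, W)), ℓ (c • m) = c • ℓ m)
    (hℓ : ∀ t, ℓ (S.f.app W t) = t) :
    ∃ σ : Γ(S.X₃, W) →ₗ[Γ(Z, W)] Γ(S.X₂, W), ∀ t, S.g.app W (σ t) = t := by
  have hfl : ∀ (c : Γ(Z, W)) (t : Γ(S.X₁, W)), S.f.app W (c • t) = c • S.f.app W t :=
    fun c t => (appₗ S.f W).map_smul c t
  have hgl : ∀ (c : Γ(Z, W)) (t : Γ(S.X₂, W)), S.g.app W (c • t) = c • S.g.app W t :=
    fun c t => (appₗ S.g W).map_smul c t
  have hfadd : ∀ t t' : Γ(S.X₁, W), S.f.app W (t + t') = S.f.app W t + S.f.app W t' :=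
    fun t t' => (appₗ S.f W).map_add t t'
  have hgadd : ∀ t t' : Γ(S.X₂, W), S.g.app W (t + t') = S.g.app W t + S.g.app W t' :=
    fun t t' => (appₗ S.g W).map_add t t'
  have hgsub : ∀ t t' : Γ(S.X₂, W), S.g.app W (t - t') = S.g.app W t - S.g.app W t' :=
    fun t t' => (appₗ S.g W).map_sub t t'
  have hgf : ∀ t, S.g.app W (S.f.app W t) = 0 := fun t => hex.apply_apply_eq_zero t
  -- the projector `p n = n - f (ℓ n)`
  let p : Γ(S.X₂, W) → Γ(S.X₂, W) := fun n => n - S.f.app W (ℓ n)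
  have hpadd : ∀ n n', p (n + n') = p n + p n' := by
    intro n n'
    change n + n' - S.f.app W (ℓ (n + n')) = (n - S.f.app W (ℓ n)) + (n' - S.f.app W (ℓ n'))
    rw [map_add, hfadd]; abel
  have hpsmul : ∀ (c : Γ(Z, W)) n, p (c • n) = c • p n := by
    intro c n
    change c • n - S.f.app W (ℓ (c • n)) = c • (n - S.f.app W (ℓ n))
    rw [hℓl, hfl, smul_sub]
  have hpf : ∀ t, p (S.f.app W t) = 0 := by
    intro t
    change S.f.app W t - S.f.app W (ℓ (S.f.app W t)) = 0
    rw [hℓ, sub_self]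
  have hgp : ∀ n, S.g.app W (p n) = S.g.app W n := by
    intro n
    change S.g.app W (n - S.f.app W (ℓ n)) = _
    rw [hgsub, hgf, sub_zero]
  have hpker : ∀ n n', S.g.app W n = S.g.app W n' → p n = p n' := by
    intro n n' h
    have h1 : S.g.app W (n - n') = 0 := by rw [hgsub, h, sub_self]
    obtain ⟨t, ht⟩ := (hex _).mp h1
    have h2 : n = n' + S.f.app W t := by rw [ht]; abel
    rw [h2, hpadd, hpf, add_zero]
  choose n₀ hn₀ using hsurj
  refine ⟨{ toFun := fun q => p (n₀ q)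
            map_add' := fun q q' => by
              rw [← hpadd]
              apply hpker
              rw [hgadd, hn₀, hn₀, hn₀]
            map_smul' := fun c q => by
              rw [RingHom.id_apply, ← hpsmul]
              apply hpker
              rw [hgl, hn₀, hn₀] }, fun t => ?_⟩
  change S.g.app W (p (n₀ t)) = t
  rw [hgp, hn₀]

/-- **Local splitting implies global splitting on an affine scheme.**  Let `X₁ → X₂ → X₃ → 0` be
an exact sequence of quasi-coherent modules on an affine scheme with `X₃` finitely presented.  If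
`X₁ → X₂` admits a retraction locally, it admits a retraction. -/
theorem exists_retraction_of_local [IsAffine Z] (S : ShortComplex Z.Modules) (hS : S.Exact)
    [Epi S.g] [S.X₁.IsQuasicoherent] [S.X₂.IsQuasicoherent] [S.X₃.IsQuasicoherent]
    [S.X₃.IsFinitePresentation]
    (hloc : ∀ z : Z, ∃ U : Z.Opens, z ∈ U ∧
      ∃ r : (Scheme.Modules.restrictFunctor U.ι).obj S.X₂ ⟶
          (Scheme.Modules.restrictFunctor U.ι).obj S.X₁,
        (Scheme.Modules.restrictFunctor U.ι).map S.f ≫ r = 𝟙 _) :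
    ∃ r : S.X₂ ⟶ S.X₁, S.f ≫ r = 𝟙 _ := by
  -- sections-level retractions
  have hsec : ∀ z : Z, ∃ U : Z.Opens, z ∈ U ∧ ∀ W : Z.Opens, W ≤ U →
      ∃ ℓ : Γ(S.X₂, W) →+ Γ(S.X₁, W), (∀ (c : Γ(Z, W)) (m : Γ(S.X₂, W)), ℓ (c • m) = c • ℓ m) ∧
        ∀ t, ℓ (S.f.app W t) = t := by
    intro z
    obtain ⟨U, hzU, r, hr⟩ := hloc z
    exact ⟨U, hzU, fun W hW =>
      Groth.Agent.Helper19.ConSplit.exists_sections_retraction S.f U r hr W hW⟩
  -- `S.f` is a monomorphism
  haveI hmono : Mono S.f := by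
    rw [mono_iff_app_injective]
    intro W
    have hadd : ∀ t t' : Γ(S.X₁, W), S.f.app W (t - t') = S.f.app W t - S.f.app W t' :=
      fun t t' => (appₗ S.f W).map_sub t t'
    intro t t' htt'
    rw [← sub_eq_zero]
    apply eq_zero_of_germ_eq_zero
    intro z hz
    obtain ⟨U, hzU, hU⟩ := hsec z
    obtain ⟨ℓ, -, hℓ⟩ := hU (W ⊓ U) inf_le_right
    have h1 : res S.X₁ (inf_le_left : W ⊓ U ≤ W) (t - t') = 0 := by
      rw [← hℓ (res S.X₁ inf_le_left (t - t')), app_res, hadd, htt', sub_self, map_zero, map_zero]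
    rw [← germ_res S.X₁ (inf_le_left : W ⊓ U ≤ W) z ⟨hz, hzU⟩, h1, map_zero]
  haveI : (RefHull.homSh S.X₃ S.X₂).IsQuasicoherent := isQuasicoherent_homSh S.X₃ S.X₂
  haveI : (RefHull.homSh S.X₃ S.X₃).IsQuasicoherent := isQuasicoherent_homSh S.X₃ S.X₃
  -- the identity is locally in the image of post-composition with `S.g`
  have hgerm : ∀ (x : Z) (hx : x ∈ (⊤ : Z.Opens)), ∃ t : (RefHull.homSh S.X₃ S.X₂).presheaf.stalk x,
      stalkMap (postComp S.X₃ S.g) x t =
        (RefHull.homSh S.X₃ S.X₃).presheaf.germ ⊤ x hx (RefHull.ofHom (𝟙 S.X₃) ⊤) := by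
    intro x hx
    obtain ⟨U, hxU, hU⟩ := hsec x
    obtain ⟨W, hW, hxW, hWU⟩ := Opens.isBasis_iff_nbhd.mp Z.isBasis_affineOpens hxU
    have hWaff : IsAffineOpen W := hW
    obtain ⟨ℓ, hℓl, hℓ⟩ := hU W hWU
    obtain ⟨σ, hσ⟩ := exists_sections_section_of_retraction S W
      (app_surjective_of_epi S.g hWaff) (app_exact_of_exact S hS hWaff) ℓ hℓl hℓ
    let θ : Γ(RefHull.homSh S.X₃ S.X₂, W) := (homSecEquiv S.X₃ S.X₂ hWaff).symm σ
    have hθ : ∀ m, ev θ m = σ m := by
      intro m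
      have h1 : evLinₗ S.X₃ S.X₂ W θ = σ := (homSecEquiv S.X₃ S.X₂ hWaff).apply_symm_apply σ
      rw [← evLinₗ_apply, h1]
    have hpost : (postComp S.X₃ S.g).app W θ = RefHull.ofHom (𝟙 S.X₃) W := by
      apply evLinₗ_injective (F := S.X₃) (G := S.X₃) hWaff
      apply LinearMap.ext
      intro m
      rw [evLinₗ_apply, evLinₗ_apply, postComp_app, ev_postSec, hθ, hσ, ev_ofHom]
      rfl
    refine ⟨(RefHull.homSh S.X₃ S.X₂).presheaf.germ W x hxW θ, ?_⟩
    rw [stalkMap_germ, hpost]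
    have e : RefHull.ofHom (𝟙 S.X₃) W =
        res (RefHull.homSh S.X₃ S.X₃) (le_top : W ≤ ⊤) (RefHull.ofHom (𝟙 S.X₃) ⊤) := rfl
    rw [e, germ_res]
  obtain ⟨Θ, hΘ⟩ := mem_range_app_of_germ_mem_range (postComp S.X₃ S.g) (isAffineOpen_top Z)
    (RefHull.ofHom (𝟙 S.X₃) ⊤) hgerm
  -- the global section of `S.g`
  have hs : homOfGlobal Θ ≫ S.g = 𝟙 S.X₃ := by
    apply Scheme.Modules.hom_ext
    intro W
    ext m
    change (homOfGlobal Θ ≫ S.g).app W m = m
    rw [app_comp, homOfGlobal_app, ← ev_postSec]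
    have e1 : postSec S.g (res (RefHull.homSh S.X₃ S.X₂) (le_top : W ≤ ⊤) Θ) =
        res (RefHull.homSh S.X₃ S.X₃) (le_top : W ≤ ⊤) ((postComp S.X₃ S.g).app ⊤ Θ) := rfl
    rw [e1, hΘ]
    have e2 : res (RefHull.homSh S.X₃ S.X₃) (le_top : W ≤ ⊤) (RefHull.ofHom (𝟙 S.X₃) ⊤) =
        RefHull.ofHom (𝟙 S.X₃) W := rfl
    rw [e2, ev_ofHom]
    rfl
  exact Groth.Agent.Helper19.OmegaAlg.exists_retraction_of_exact hS (homOfGlobal Θ) hs

end Groth.Agent.Helper19.LocSplit
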