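import Mathlib
import Groth.Agent.Helper19.LocLift3
import Groth.Agent.Helper19.LocSplit2
import Groth.Agent.S9375
import Groth.Agent.Helper19.UnivDer4
import Groth.Agent.Helper19.OmegaD6
set_option autoImplicit false
set_option linter.style.haveILetI false
set_option linter.unusedSectionVars false
universe u

open CategoryTheory CategoryTheory.Limits AlgebraicGeometry Opposite TopologicalSpace

/-! # Local lifts along a square-zero thickening of an affine scheme glue to a global lift,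
for a target locally of finite presentation (helper19) -/

namespace Groth.Agent.Helper19.LocLift

open Groth.Agent.Lib.Helper29.QCoh Groth.Agent.Helper19.OmegaD Groth.Agent.Helper19.Conormal
open Groth.Agent.Helper19.OmegaGrp Groth.Agent.Helper19.ConMapEx Groth.Agent.Helper19.LiftRetr

section main

variable {D P C X S : Scheme.{u}} (γ : D ⟶ P) (pC : P ⟶ C) (pX : P ⟶ X)
  [IsClosedImmersion γ] [IsClosedImmersion (γ ≫ pC)] [IsAffine D]
  [LocallyOfFinitePresentation pC]

/-- **Local lifts glue over an affine base of the thickening** (graph form). -/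
theorem exists_lift_of_local_graphs (hsq : (γ ≫ pC).ker ^ 2 = ⊥)
    (qC : C ⟶ S) (qX : X ⟶ S) (hq : pC ≫ qC = pX ≫ qX)
    (hloc : ∀ z : D, ∃ (U : C.Opens) (Γg : (U : Scheme.{u}) ⟶ P), (γ ≫ pC) z ∈ U ∧
      Γg ≫ pC = U.ι ∧ ((γ ≫ pC) ⁻¹ᵁ U).ι ≫ γ = ((γ ≫ pC) ∣_ U) ≫ Γg) :
    ∃ h : C ⟶ X, (γ ≫ pC) ≫ h = γ ≫ pX ∧ h ≫ qX = qC := by
  have hsq0 : 𝟙 D ≫ (γ ≫ pC) = γ ≫ pC := Category.id_comp _
  obtain ⟨ψ, hψ⟩ := exists_conormalMap γ (γ ≫ pC) pC (𝟙 D) hsq0
  obtain ⟨Ω, d, hd⟩ := Groth.Agent.Helper19.UnivDer.exists_universal pC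
  obtain ⟨φ, hφ⟩ := exists_conormalDiff γ d
  obtain ⟨w, hex, hepi⟩ := Groth.Agent.S9375.result pC γ (γ ≫ pC) rfl Ω d hd ψ hψ φ hφ
  let a : Omega.conormal (γ ≫ pC) ⟶ Omega.conormal γ :=
    (Scheme.Modules.pullbackId D).inv.app (Omega.conormal (γ ≫ pC)) ≫ ψ
  have ha := conormalMap_clsG γ pC ψ hψ
  have w' : a ≫ φ = 0 := by
    change ((Scheme.Modules.pullbackId D).inv.app (Omega.conormal (γ ≫ pC)) ≫ ψ) ≫ φ = 0
    rw [Category.assoc, w, comp_zero]
  have hiso : ShortComplex.mk ψ φ w ≅ ShortComplex.mk a φ w' :=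
    ShortComplex.isoMk ((Scheme.Modules.pullbackId D).app (Omega.conormal (γ ≫ pC)))
      (Iso.refl _) (Iso.refl _)
      (by
        change (Scheme.Modules.pullbackId D).hom.app (Omega.conormal (γ ≫ pC)) ≫
          ((Scheme.Modules.pullbackId D).inv.app (Omega.conormal (γ ≫ pC)) ≫ ψ) = ψ ≫ 𝟙 _
        rw [Category.comp_id, Iso.hom_inv_id_app_assoc])
      (by simp)
  have hex' : (ShortComplex.mk a φ w').Exact := ShortComplex.exact_of_iso hiso hex
  haveI : Epi (ShortComplex.mk a φ w').g := hepi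
  haveI : (ShortComplex.mk a φ w').X₁.IsQuasicoherent := by
    change ((Scheme.Modules.pullback (γ ≫ pC)).obj (ClSub.idealMod (γ ≫ pC).ker)).IsQuasicoherent
    infer_instance
  haveI : (ShortComplex.mk a φ w').X₂.IsQuasicoherent := by
    change ((Scheme.Modules.pullback γ).obj (ClSub.idealMod γ.ker)).IsQuasicoherent
    infer_instance
  haveI hfp : Ω.IsFinitePresentation := isFinitePresentation_of_universal pC d hd
  haveI hqc : Ω.IsQuasicoherent := isQuasicoherent_of_universal pC d hd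
  haveI : (ShortComplex.mk a φ w').X₃.IsQuasicoherent := by
    change ((Scheme.Modules.pullback γ).obj Ω).IsQuasicoherent
    infer_instance
  haveI : (ShortComplex.mk a φ w').X₃.IsFinitePresentation := by
    change ((Scheme.Modules.pullback γ).obj Ω).IsFinitePresentation
    infer_instance
  obtain ⟨r, har⟩ := Groth.Agent.Helper19.LocSplit.exists_retraction_of_local
    (ShortComplex.mk a φ w') hex' (by
      intro z
      obtain ⟨U, Γg, hzU, hΓ₁, hΓ₂⟩ := hloc z
      exact ⟨(γ ≫ pC) ⁻¹ᵁ U, hzU, exists_local_retraction_restrict γ pC a ha U Γg hΓ₁ hΓ₂⟩)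
  exact exists_lift_of_retraction γ pC pX hsq a r har ha qC qX hq

end main

end Groth.Agent.Helper19.LocLift
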