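import Mathlib
import Groth.Agent.Helper19.LocLift4
import Groth.Agent.Helper19.DefSm1
set_option autoImplicit false
set_option linter.style.haveILetI false
set_option linter.unusedSectionVars false
universe u

open CategoryTheory CategoryTheory.Limits AlgebraicGeometry Opposite TopologicalSpace

/-! # The graph set-up for lifting problems along a thickening (helper19) -/

namespace Groth.Agent.Helper19.LocLift

/-- The graph set-up: the given `T₀ ⟶ X` over `T ⟶ S` is the restriction of the second projection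
of an open subscheme `P` of `T ×_S X` in which `T₀` is closed; local lifts have graphs in `P`. -/
theorem exists_graph_setup {S X T T₀ : Scheme.{u}} (f : X ⟶ S) (i : T₀ ⟶ T) [IsClosedImmersion i]
    (a : T ⟶ S) (a₀ : T₀ ⟶ X) (hsqr : a₀ ≫ f = i ≫ a) :
    ∃ (P : Scheme.{u}) (γ : T₀ ⟶ P) (pC : P ⟶ T) (pX : P ⟶ X), IsClosedImmersion γ ∧ γ ≫ pC = i ∧
      γ ≫ pX = a₀ ∧ pC ≫ a = pX ≫ f ∧
      (LocallyOfFinitePresentation f → LocallyOfFinitePresentation pC) ∧
      ∀ (U : T.Opens) (b : (U : Scheme.{u}) ⟶ X), b ≫ f = U.ι ≫ a →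
        (i ∣_ U) ≫ b = (i ⁻¹ᵁ U).ι ≫ a₀ → Function.Surjective i →
        ∃ Γg : (U : Scheme.{u}) ⟶ P, Γg ≫ pC = U.ι ∧ Γg ≫ pX = b ∧
          (i ⁻¹ᵁ U).ι ≫ γ = (i ∣_ U) ≫ Γg := by
  let γ' : T₀ ⟶ pullback a f := pullback.lift i a₀ hsqr.symm
  have hγ1 : γ' ≫ pullback.fst a f = i := pullback.lift_fst _ _ _
  have hγ2 : γ' ≫ pullback.snd a f = a₀ := pullback.lift_snd _ _ _
  haveI : IsImmersion (γ' ≫ pullback.fst a f) := by rw [hγ1]; infer_instance
  haveI : IsImmersion γ' := IsImmersion.of_comp γ' (pullback.fst a f)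
  refine ⟨γ'.coborderRange, γ'.liftCoborder, γ'.coborderRange.ι ≫ pullback.fst a f,
    γ'.coborderRange.ι ≫ pullback.snd a f, inferInstance, ?_, ?_, ?_, ?_, ?_⟩
  · rw [Scheme.Hom.liftCoborder_ι_assoc, hγ1]
  · rw [Scheme.Hom.liftCoborder_ι_assoc, hγ2]
  · rw [Category.assoc, Category.assoc, pullback.condition]
  · intro hf
    infer_instance
  · intro U b hb₁ hb₂ hsurj
    let Γ' : (U : Scheme.{u}) ⟶ pullback a f := pullback.lift U.ι b hb₁.symm
    have hΓ1 : Γ' ≫ pullback.fst a f = U.ι := pullback.lift_fst _ _ _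
    have hΓ2 : Γ' ≫ pullback.snd a f = b := pullback.lift_snd _ _ _
    have hcomm : (i ∣_ U) ≫ Γ' = (i ⁻¹ᵁ U).ι ≫ γ' := by
      apply pullback.hom_ext
      · rw [Category.assoc, Category.assoc, hΓ1, hγ1, morphismRestrict_ι]
      · rw [Category.assoc, Category.assoc, hΓ2, hγ2, hb₂]
    have hrange : Set.range Γ' ⊆ Set.range γ'.coborderRange.ι := by
      rintro _ ⟨x, rfl⟩
      obtain ⟨z, hz⟩ := hsurj x.1
      have hzU : z ∈ i ⁻¹ᵁ U := by
        change i z ∈ U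
        rw [hz]; exact x.2
      have hx : (i ∣_ U) ⟨z, hzU⟩ = x := by
        apply Subtype.ext
        rw [morphismRestrict_base_coe]
        exact hz
      rw [Scheme.Opens.range_ι]
      have h1 : Γ' x = γ' ((i ⁻¹ᵁ U).ι ⟨z, hzU⟩) := by
        rw [← hx]
        change ((i ∣_ U) ≫ Γ') ⟨z, hzU⟩ = ((i ⁻¹ᵁ U).ι ≫ γ') ⟨z, hzU⟩
        rw [hcomm]
      rw [h1]
      exact subset_coborder ⟨_, rfl⟩
    refine ⟨IsOpenImmersion.lift γ'.coborderRange.ι Γ' hrange, ?_, ?_, ?_⟩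
    · rw [IsOpenImmersion.lift_fac_assoc, hΓ1]
    · rw [IsOpenImmersion.lift_fac_assoc, hΓ2]
    · rw [← cancel_mono γ'.coborderRange.ι, Category.assoc, Category.assoc,
        Scheme.Hom.liftCoborder_ι, IsOpenImmersion.lift_fac, hcomm]

/-- The affine-local square-zero hypothesis gives `i.ker ^ 2 = ⊥`. -/
theorem ker_sq_eq_bot_of_forall {T T₀ : Scheme.{u}} (i : T₀ ⟶ T) [IsClosedImmersion i]
    (hsq : ∀ (U : T.affineOpens) (x y : Γ(T, U.1)),
      x ∈ RingHom.ker (i.app U.1).hom → y ∈ RingHom.ker (i.app U.1).hom → x * y = 0) :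
    i.ker ^ 2 = ⊥ := by
  rw [eq_bot_iff, pow_two, Scheme.IdealSheafData.le_def]
  intro U
  rw [Scheme.IdealSheafData.ideal_mul, Pi.mul_apply]
  intro z hz
  change z ∈ (⊥ : Ideal Γ(T, U.1))
  rw [Ideal.mem_bot]
  refine Submodule.mul_induction_on hz (fun x hx y hy => ?_)
    (fun a b ha hb => by rw [ha, hb, add_zero])
  rw [Scheme.Hom.ker_apply i U] at hx hy
  exact hsq U x y hx hy

end Groth.Agent.Helper19.LocLift
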