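import Mathlib
import Groth.Agent.Helper19.LocLift5
import Groth.Agent.S9370
import Groth.Agent.S9386
import Groth.Agent.S9776
import Groth.Agent.S5005
set_option autoImplicit false
set_option linter.style.haveILetI false
set_option linter.unusedSectionVars false
universe u

open CategoryTheory CategoryTheory.Limits AlgebraicGeometry Opposite TopologicalSpace

/-! # The graph set-up for lifting problems, with the differentials identified (helper19) -/

namespace Groth.Agent.Helper19.LocLift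

/-- The graph set-up, together with the identification of `γ^*Ω_{P/T}` with `a₀^*Ω_{X/S}`. -/
theorem exists_graph_setup' {S X T T₀ : Scheme.{u}} (f : X ⟶ S) [QuasiSeparated f] (i : T₀ ⟶ T)
    [IsClosedImmersion i] (a : T ⟶ S) (a₀ : T₀ ⟶ X) (hsqr : a₀ ≫ f = i ≫ a) :
    ∃ (P : Scheme.{u}) (γ : T₀ ⟶ P) (pC : P ⟶ T) (pX : P ⟶ X), IsClosedImmersion γ ∧ γ ≫ pC = i ∧
      γ ≫ pX = a₀ ∧ pC ≫ a = pX ≫ f ∧
      (∀ (Ω : P.Modules) (d : OmegaSh.Der pC Ω), OmegaSh.IsUniversal d →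
        Nonempty ((Scheme.Modules.pullback γ).obj Ω ≅
          (Scheme.Modules.pullback a₀).obj (Omega.sheaf f))) ∧
      ∀ (U : T.Opens) (b : (U : Scheme.{u}) ⟶ X), b ≫ f = U.ι ≫ a →
        (i ∣_ U) ≫ b = (i ⁻¹ᵁ U).ι ≫ a₀ → Function.Surjective i →
        ∃ Γg : (U : Scheme.{u}) ⟶ P, Γg ≫ pC = U.ι ∧ Γg ≫ pX = b ∧
          (i ⁻¹ᵁ U).ι ≫ γ = (i ∣_ U) ≫ Γg := by
  let γ' : T₀ ⟶ pullback a f := pullback.lift i a₀ hsqr.symm
  have hγ1 : γ' ≫ pullback.fst a f = i := pullback.lift_fst _ _ _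
  have hγ2 : γ' ≫ pullback.snd a f = a₀ := pullback.lift_snd _ _ _
  haveI : IsImmersion (γ' ≫ pullback.fst a f) := by rw [hγ1]; infer_instance
  haveI : IsImmersion γ' := IsImmersion.of_comp γ' (pullback.fst a f)
  refine ⟨γ'.coborderRange, γ'.liftCoborder, γ'.coborderRange.ι ≫ pullback.fst a f,
    γ'.coborderRange.ι ≫ pullback.snd a f, inferInstance, ?_, ?_, ?_, ?_, ?_⟩
  · rw [Scheme.Hom.liftCoborder_ι_assoc, hγ1]
  · rw [Scheme.Hom.liftCoborder_ι_assoc, hγ2]
  · rw [Category.assoc, Category.assoc, pullback.condition]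
  · intro Ω d hd
    obtain ⟨ΩW, dW, hdW⟩ := Groth.Agent.Helper19.UnivDer.exists_universal (pullback.fst a f)
    have hcond : pullback.fst a f ≫ a = pullback.snd a f ≫ f := pullback.condition
    obtain ⟨c₁, hc₁, -⟩ := Groth.Agent.S9370.result f (pullback.fst a f) (pullback.snd a f) a hcond
      (Omega.sheaf f) (OmegaSh.dOmega f) (Groth.Agent.S5005.result f) ΩW dW hdW
    haveI : IsIso c₁ := Groth.Agent.S9386.result f a (pullback.snd a f) (pullback.fst a f)
      (IsPullback.of_hasPullback a f).flip (Omega.sheaf f) (OmegaSh.dOmega f)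
      (Groth.Agent.S5005.result f) ΩW dW hdW c₁ hc₁
    have hcond₂ : (γ'.coborderRange.ι ≫ pullback.fst a f) ≫ 𝟙 T =
        γ'.coborderRange.ι ≫ pullback.fst a f := Category.comp_id _
    obtain ⟨c₂, hc₂, -⟩ := Groth.Agent.S9370.result (pullback.fst a f)
      (γ'.coborderRange.ι ≫ pullback.fst a f) γ'.coborderRange.ι (𝟙 T) hcond₂ ΩW dW hdW Ω d hd
    haveI : IsIso c₂ := Groth.Agent.S9776.result (pullback.fst a f)
      (γ'.coborderRange.ι ≫ pullback.fst a f) γ'.coborderRange.ι (𝟙 T) hcond₂.symm ΩW dW hdW Ω d hd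
      c₂ hc₂
    have e5 : (γ'.liftCoborder ≫ γ'.coborderRange.ι) ≫ pullback.snd a f = a₀ := by
      rw [Scheme.Hom.liftCoborder_ι, hγ2]
    exact ⟨((Scheme.Modules.pullback γ'.liftCoborder).mapIso (asIso c₂)).symm ≪≫
      ((Scheme.Modules.pullback γ'.liftCoborder).mapIso
        ((Scheme.Modules.pullback γ'.coborderRange.ι).mapIso (asIso c₁))).symm ≪≫
      (Scheme.Modules.pullbackComp γ'.liftCoborder γ'.coborderRange.ι).app
        ((Scheme.Modules.pullback (pullback.snd a f)).obj (Omega.sheaf f)) ≪≫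
      (Scheme.Modules.pullbackComp (γ'.liftCoborder ≫ γ'.coborderRange.ι)
        (pullback.snd a f)).app (Omega.sheaf f) ≪≫
      eqToIso (by rw [e5])⟩
  · intro U b hb₁ hb₂ hsurj
    let Γ' : (U : Scheme.{u}) ⟶ pullback a f := pullback.lift U.ι b hb₁.symm
    have hΓ1 : Γ' ≫ pullback.fst a f = U.ι := pullback.lift_fst _ _ _
    have hΓ2 : Γ' ≫ pullback.snd a f = b := pullback.lift_snd _ _ _
    have hcomm : (i ∣_ U) ≫ Γ' = (i ⁻¹ᵁ U).ι ≫ γ' := by
      apply pullback.hom_ext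
      · rw [Category.assoc, Category.assoc, hΓ1, hγ1, morphismRestrict_ι]
      · rw [Category.assoc, Category.assoc, hΓ2, hγ2, hb₂]
    have hrange : Set.range Γ' ⊆ Set.range γ'.coborderRange.ι := by
      rintro _ ⟨x, rfl⟩
      obtain ⟨z, hz⟩ := hsurj x.1
      have hzU : z ∈ i ⁻¹ᵁ U := by
        change i z ∈ U
        rw [hz]; exact x.2
      have hx : (i ∣_ U) ⟨z, hzU⟩ = x := by
        apply Subtype.ext
        rw [morphismRestrict_base_coe]
        exact hz
      rw [Scheme.Opens.range_ι]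
      have h1 : Γ' x = γ' ((i ⁻¹ᵁ U).ι ⟨z, hzU⟩) := by
        rw [← hx]
        change ((i ∣_ U) ≫ Γ') ⟨z, hzU⟩ = ((i ⁻¹ᵁ U).ι ≫ γ') ⟨z, hzU⟩
        rw [hcomm]
      rw [h1]
      exact subset_coborder ⟨_, rfl⟩
    refine ⟨IsOpenImmersion.lift γ'.coborderRange.ι Γ' hrange, ?_, ?_, ?_⟩
    · rw [IsOpenImmersion.lift_fac_assoc, hΓ1]
    · rw [IsOpenImmersion.lift_fac_assoc, hΓ2]
    · rw [← cancel_mono γ'.coborderRange.ι, Category.assoc, Category.assoc,
        Scheme.Hom.liftCoborder_ι, IsOpenImmersion.lift_fac, hcomm]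

end Groth.Agent.Helper19.LocLift
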