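import Mathlib
set_option autoImplicit false
set_option linter.style.haveILetI false
set_option linter.unusedSectionVars false
universe w v u

open CategoryTheory CategoryTheory.Limits CategoryTheory.Abelian

/-! # Lifting morphisms along a left exact sequence when `Ext¹` vanishes (helper19) -/

namespace Groth.Agent.Helper19.ShHomSplit

variable {𝒜 : Type u} [Category.{v} 𝒜] [Abelian 𝒜] [HasExt.{w} 𝒜]

/-- Let `0 → X₁ → X₂ → X₃` be exact and `P` an object with `Ext¹(P, X₁) = 0`.  A morphism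
`x : P ⟶ X₃` which dies in the cokernel of `X₂ → X₃` lifts to `X₂`. -/
theorem exists_lift_of_ext_subsingleton {S : ShortComplex 𝒜} (hS : S.Exact) [Mono S.f] {P : 𝒜}
    (h1 : Subsingleton (Ext.{w} P S.X₁ 1)) (x : P ⟶ S.X₃) (hx : x ≫ cokernel.π S.g = 0) :
    ∃ y : P ⟶ S.X₂, y ≫ S.g = x := by
  let e : S.X₂ ⟶ Abelian.image S.g := Abelian.factorThruImage S.g
  let m : Abelian.image S.g ⟶ S.X₃ := Abelian.image.ι S.g
  have hem : e ≫ m = S.g := Abelian.image.fac S.g
  let x' : P ⟶ Abelian.image S.g := kernel.lift _ x hx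
  have hx' : x' ≫ m = x := kernel.lift_ι _ _ _
  have w' : S.f ≫ e = 0 := by
    rw [← cancel_mono m, Category.assoc, hem, S.zero, zero_comp]
  let S' : ShortComplex 𝒜 := ShortComplex.mk S.f e w'
  let φ : S' ⟶ S :=
    { τ₁ := 𝟙 _
      τ₂ := 𝟙 _
      τ₃ := m
      comm₁₂ := by simp [S']
      comm₂₃ := by
        change 𝟙 _ ≫ S.g = e ≫ m
        rw [hem, Category.id_comp] }
  haveI : Epi φ.τ₁ := inferInstanceAs (Epi (𝟙 _))
  haveI : IsIso φ.τ₂ := inferInstanceAs (IsIso (𝟙 _))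
  haveI : Mono φ.τ₃ := inferInstanceAs (Mono m)
  have hS'ex : S'.Exact := (ShortComplex.exact_iff_of_epi_of_isIso_of_mono φ).2 hS
  have hS' : S'.ShortExact :=
    { exact := hS'ex
      mono_f := inferInstanceAs (Mono S.f)
      epi_g := inferInstanceAs (Epi e) }
  obtain ⟨x₂, hx₂⟩ := Ext.covariant_sequence_exact₃ P hS' (Ext.mk₀ x') rfl
    (Subsingleton.elim _ _)
  obtain ⟨y, rfl⟩ := Ext.addEquiv₀.symm.surjective x₂
  refine ⟨y, ?_⟩
  have h2 : (Ext.mk₀ y).comp (Ext.mk₀ e) (add_zero 0) = Ext.mk₀ x' := hx₂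
  rw [Ext.mk₀_comp_mk₀] at h2
  have h3 : y ≫ e = x' := Ext.addEquiv₀.symm.injective h2
  rw [← hem, ← Category.assoc, h3, hx']

end Groth.Agent.Helper19.ShHomSplit
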