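import Mathlib
import Groth.Agent.Helper19.ShHomSplit1
import Groth.Agent.Lib.Helper17.HomFlasque
import Groth.Agent.Lib.Helper17.HomGlobal
import Groth.Agent.Lib.Lead.SD.ExtHomLin
set_option autoImplicit false
set_option linter.style.haveILetI false
set_option linter.unusedSectionVars false
universe u

open CategoryTheory CategoryTheory.Limits AlgebraicGeometry Opposite TopologicalSpace

/-! # A locally split short exact sequence `0 → M → N → Q → 0` of modules splits when
`H¹(X, ℋom(Q, M)) = 0` (helper19) -/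

namespace Groth.Agent.Helper19.ShHomSplit

open Groth.Agent.Lib.Helper29.QCoh Groth.Agent.Lib.Helper17.HomFlasque
open Groth.Agent.Lib.Helper17.FreeOn

variable {X : Scheme.{u}}

/-- Lifting maps out of an extension by zero along a morphism with a section over the open. -/
theorem exists_lift_extZero (U : X.Opens) {N Q' : X.Modules} (π : N ⟶ Q')
    (s : (Scheme.Modules.restrictFunctor U.ι).obj Q' ⟶ (Scheme.Modules.restrictFunctor U.ι).obj N)
    (hs : s ≫ (Scheme.Modules.restrictFunctor U.ι).map π = 𝟙 _) (N' : (U : Scheme.{u}).Modules)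
    (φ : (CxOX.extZero U.ι).obj N' ⟶ Q') :
    ∃ φ' : (CxOX.extZero U.ι).obj N' ⟶ N, φ' ≫ π = φ := by
  let adj := CxOX.extZeroAdj U.ι
  refine ⟨(adj.homEquiv N' N).symm (adj.homEquiv N' Q' φ ≫ s), ?_⟩
  apply (adj.homEquiv N' Q').injective
  rw [Adjunction.homEquiv_naturality_right, Equiv.apply_symm_apply, Category.assoc, hs,
    Category.comp_id]

/-- Lifting local sections of the sheaf Hom along a morphism with a section over the open. -/
theorem exists_lift_freeOn (U : X.Opens) (Q : X.Modules) [DCoh.HasSheafHom Q] {N Q' : X.Modules}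
    (π : N ⟶ Q')
    (s : (Scheme.Modules.restrictFunctor U.ι).obj Q' ⟶ (Scheme.Modules.restrictFunctor U.ι).obj N)
    (hs : s ≫ (Scheme.Modules.restrictFunctor U.ι).map π = 𝟙 _)
    (τ : A U ⟶ (DCoh.sheafHom Q).obj Q') :
    ∃ τ' : A U ⟶ (DCoh.sheafHom Q).obj N, τ' ≫ (DCoh.sheafHom Q).map π = τ := by
  let adj := DCoh.sheafHomAdj Q
  obtain ⟨N', ⟨i⟩⟩ := exists_iso_T_A Q U
  obtain ⟨φ', hφ'⟩ := exists_lift_extZero U π s hs N' (i.inv ≫ (adj.homEquiv _ _).symm τ)
  refine ⟨adj.homEquiv _ _ (i.hom ≫ φ'), ?_⟩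
  rw [← Adjunction.homEquiv_naturality_right, Category.assoc, hφ', Iso.hom_inv_id_assoc,
    Equiv.apply_symm_apply]

/-- The canonical map `j_! O_U ⟶ O_X`. -/
noncomputable def uU (U : X.Opens) : A U ⟶ unitM X :=
  (freeOnHomEquiv (unitM X) U).symm (toUnit (1 : Γ(X, U)))

theorem app_one_eq (U : X.Opens) {K : X.Modules} (σ : unitM X ⟶ K) :
    σ.app U (toUnit 1) = freeOnHomEquiv K U (uU U ≫ σ) := by
  rw [freeOnHomEquiv_comp]
  unfold uU
  rw [Equiv.apply_symm_apply]
  rfl

/-- A map out of the structure sheaf which vanishes after composition with all `j_! O_U ⟶ O_X`,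
`U` in a cover, vanishes. -/
theorem eq_zero_of_uU_comp_eq_zero {K : X.Modules} (σ : unitM X ⟶ K)
    (h : ∀ z : X, ∃ U : X.Opens, z ∈ U ∧ uU U ≫ σ = 0) : σ = 0 := by
  apply Groth.Agent.Lib.Helper17.HomGlobal.unit_hom_ext
  have h0 : (0 : unitM X ⟶ K).app ⊤ (toUnit 1) = 0 := rfl
  rw [h0]
  apply eq_zero_of_germ_eq_zero
  intro z hz
  obtain ⟨U, hzU, hU⟩ := h z
  rw [← germ_res K (le_top : U ≤ ⊤) z hzU, ← Groth.Agent.Lib.Helper29.QCoh.app_res]
  have e1 : res (unitM X) (le_top : U ≤ ⊤) (toUnit (1 : Γ(X, (⊤ : X.Opens)))) =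
      toUnit (1 : Γ(X, U)) := map_one (X.presheaf.map (homOfLE (le_top : U ≤ ⊤)).op).hom
  rw [e1, app_one_eq]
  have e2 : freeOnHomEquiv K U (0 : A U ⟶ K) = 0 := by
    have e3 := freeOnHomEquiv_comp U (uU U) (0 : unitM X ⟶ K)
    have e5 : uU U ≫ (0 : unitM X ⟶ K) = 0 := comp_zero
    exact ((congrArg (freeOnHomEquiv K U) e5).symm.trans e3).trans rfl
  have e4 : freeOnHomEquiv K U (uU U ≫ σ) = freeOnHomEquiv K U (0 : A U ⟶ K) :=
    congrArg (freeOnHomEquiv K U) hU
  rw [e4, e2]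
  exact map_zero (K.presheaf.germ U z hzU).hom

end Groth.Agent.Helper19.ShHomSplit
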