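import Mathlib
import Groth.Agent.Helper19.ShHomSplit2
set_option autoImplicit false
set_option linter.style.haveILetI false
set_option linter.unusedSectionVars false
universe u

open CategoryTheory CategoryTheory.Limits AlgebraicGeometry Opposite TopologicalSpace

/-! # A locally split short exact sequence `0 → M → N → Q → 0` of modules splits when
`H¹(X, ℋom(Q, M)) = 0`: the main statement (helper19) -/

namespace Groth.Agent.Helper19.ShHomSplit

open Groth.Agent.Lib.Helper29.QCoh Groth.Agent.Lib.Helper17.HomFlasque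
open Groth.Agent.Lib.Helper17.FreeOn Groth.Agent.Lib.Lead.SD

variable {X : Scheme.{u}}

theorem exists_section_of_local (S : ShortComplex X.Modules) (hS : S.ShortExact)
    [DCoh.HasSheafHom S.X₃]
    (h1 : Subsingleton (Coh.HH X ((DCoh.sheafHom S.X₃).obj S.X₁) 1))
    (hloc : ∀ z : X, ∃ U : X.Opens, z ∈ U ∧
      ∃ s : (Scheme.Modules.restrictFunctor U.ι).obj S.X₃ ⟶
          (Scheme.Modules.restrictFunctor U.ι).obj S.X₂,
        s ≫ (Scheme.Modules.restrictFunctor U.ι).map S.g = 𝟙 _) :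
    ∃ s : S.X₃ ⟶ S.X₂, s ≫ S.g = 𝟙 _ := by
  let H := DCoh.sheafHom S.X₃
  let adj := DCoh.sheafHomAdj S.X₃
  haveI : H.Additive := adj.right_adjoint_additive
  haveI : H.IsRightAdjoint := adj.isRightAdjoint
  haveI : PreservesFiniteLimits H := inferInstance
  have hHS := (Functor.preservesFiniteLimits_iff_forall_exact_map_and_mono H).1 inferInstance S hS
  haveI : Mono (S.map H).f := hHS.2
  haveI : HasExt.{u} X.Modules := hasExt_of_enoughInjectives _
  have hExt : Subsingleton (Abelian.Ext.{u} (Coh.structureModule X) (S.map H).X₁ 1) :=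
    ⟨fun a b => (cmpX_bijective (H.obj S.X₁) 1).1 (Subsingleton.elim _ _)⟩
  let ρ : ((DCoh.tensorBi (X := X)).obj S.X₃).obj (unitM X) ≅ S.X₃ :=
    Groth.Agent.Lib.Helper17.Tensor.braidIso (O := X.sheaf) S.X₃ (unitM X) ≪≫
      (Groth.Agent.Lib.Helper17.ProjFormula.leftUnitNatIso (O := X.sheaf)).app S.X₃
  let eQ : unitM X ⟶ H.obj S.X₃ := adj.homEquiv _ _ ρ.hom
  have hx : eQ ≫ cokernel.π (H.map S.g) = 0 := by
    apply eq_zero_of_uU_comp_eq_zero
    intro z
    obtain ⟨U, hzU, s, hs⟩ := hloc z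
    refine ⟨U, hzU, ?_⟩
    obtain ⟨τ', hτ'⟩ := exists_lift_freeOn U S.X₃ S.g s hs (uU U ≫ eQ)
    rw [← Category.assoc, ← hτ', Category.assoc, cokernel.condition, comp_zero]
  obtain ⟨y, hy⟩ := exists_lift_of_ext_subsingleton (S := S.map H) hHS.1 hExt eQ hx
  have hy' : y ≫ H.map S.g = eQ := hy
  refine ⟨ρ.inv ≫ (adj.homEquiv _ _).symm y, ?_⟩
  rw [Category.assoc, ← Adjunction.homEquiv_naturality_right_symm]
  have h3 : (adj.homEquiv (unitM X) S.X₃).symm (y ≫ (DCoh.sheafHom S.X₃).map S.g) = ρ.hom :=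
    (congrArg (adj.homEquiv (unitM X) S.X₃).symm hy').trans (Equiv.symm_apply_apply _ _)
  exact (congrArg (fun t => ρ.inv ≫ t) h3).trans ρ.inv_hom_id

end Groth.Agent.Helper19.ShHomSplit
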