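import Mathlib
import Groth.Agent.Helper19.LocLift6
import Groth.Agent.Helper19.ShHomSplit3
set_option autoImplicit false
set_option linter.style.haveILetI false
set_option linter.unusedSectionVars false
universe u

open CategoryTheory CategoryTheory.Limits AlgebraicGeometry Opposite TopologicalSpace

/-! # Local lifts along a square-zero thickening glue when `H¹(T₀, ℋom(a₀^*Ω, C)) = 0`
(helper19) -/

namespace Groth.Agent.Helper19.LocLift

open Groth.Agent.Lib.Helper29.QCoh Groth.Agent.Helper19.OmegaD Groth.Agent.Helper19.Conormal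
open Groth.Agent.Helper19.OmegaGrp Groth.Agent.Helper19.ConMapEx Groth.Agent.Helper19.LiftRetr

section abelian

variable {𝒜 : Type*} [Category 𝒜] [Abelian 𝒜]

/-- In a short exact sequence, a retraction of the monomorphism gives a section of the
epimorphism. -/
theorem exists_section_of_retraction {S : ShortComplex 𝒜} (hS : S.ShortExact)
    (r : S.X₂ ⟶ S.X₁) (hr : S.f ≫ r = 𝟙 _) : ∃ s : S.X₃ ⟶ S.X₂, s ≫ S.g = 𝟙 _ := by
  haveI := hS.epi_g
  have he : S.f ≫ (𝟙 S.X₂ - r ≫ S.f) = 0 := by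
    rw [Preadditive.comp_sub, Category.comp_id, ← Category.assoc, hr, Category.id_comp, sub_self]
  refine ⟨hS.exact.desc _ he, ?_⟩
  rw [← cancel_epi S.g, ← Category.assoc, hS.exact.g_desc, Preadditive.sub_comp, Category.id_comp,
    Category.assoc, S.zero, comp_zero, sub_zero, Category.comp_id]

end abelian

section mono

variable {Z : Scheme.{u}}

/-- A morphism of modules which is locally a split monomorphism is a monomorphism. -/
theorem mono_of_local_retraction {M N : Z.Modules} (a : M ⟶ N)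
    (hloc : ∀ z : Z, ∃ U : Z.Opens, z ∈ U ∧
      ∃ r : (Scheme.Modules.restrictFunctor U.ι).obj N ⟶
          (Scheme.Modules.restrictFunctor U.ι).obj M,
        (Scheme.Modules.restrictFunctor U.ι).map a ≫ r = 𝟙 _) : Mono a := by
  rw [mono_iff_app_injective]
  intro W
  have hadd : ∀ t t' : Γ(M, W), a.app W (t - t') = a.app W t - a.app W t' :=
    fun t t' => (appₗ a W).map_sub t t'
  intro t t' htt'
  rw [← sub_eq_zero]
  apply eq_zero_of_germ_eq_zero
  intro z hz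
  obtain ⟨U, hzU, r, hr⟩ := hloc z
  obtain ⟨ℓ, -, hℓ⟩ := Groth.Agent.Helper19.ConSplit.exists_sections_retraction a U r hr (W ⊓ U)
    inf_le_right
  have h1 : res M (inf_le_left : W ⊓ U ≤ W) (t - t') = 0 := by
    rw [← hℓ (res M inf_le_left (t - t')), Groth.Agent.Lib.Helper29.QCoh.app_res, hadd, htt',
      sub_self, map_zero, map_zero]
  rw [← germ_res M (inf_le_left : W ⊓ U ≤ W) z ⟨hz, hzU⟩, h1, map_zero]

end mono

section main

variable {D P C X S : Scheme.{u}} (γ : D ⟶ P) (pC : P ⟶ C) (pX : P ⟶ X)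
  [IsClosedImmersion γ] [IsClosedImmersion (γ ≫ pC)]

/-- **Local lifts glue when `H¹(ℋom(γ^*Ω, C)) = 0`** (graph form). -/
theorem exists_lift_of_local_graphs_H1 (hsq : (γ ≫ pC).ker ^ 2 = ⊥)
    (qC : C ⟶ S) (qX : X ⟶ S) (hq : pC ≫ qC = pX ≫ qX)
    (Ω : P.Modules) (d : OmegaSh.Der pC Ω) (hd : OmegaSh.IsUniversal d)
    (Q₀ : D.Modules) (θ : (Scheme.Modules.pullback γ).obj Ω ≅ Q₀) [DCoh.HasSheafHom Q₀]
    (hH1 : Subsingleton (Coh.HH D ((DCoh.sheafHom Q₀).obj (Omega.conormal (γ ≫ pC))) 1))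
    (hloc : ∀ z : D, ∃ (U : C.Opens) (Γg : (U : Scheme.{u}) ⟶ P), (γ ≫ pC) z ∈ U ∧
      Γg ≫ pC = U.ι ∧ ((γ ≫ pC) ⁻¹ᵁ U).ι ≫ γ = ((γ ≫ pC) ∣_ U) ≫ Γg) :
    ∃ h : C ⟶ X, (γ ≫ pC) ≫ h = γ ≫ pX ∧ h ≫ qX = qC := by
  have hsq0 : 𝟙 D ≫ (γ ≫ pC) = γ ≫ pC := Category.id_comp _
  obtain ⟨ψ, hψ⟩ := exists_conormalMap γ (γ ≫ pC) pC (𝟙 D) hsq0
  obtain ⟨φ, hφ⟩ := exists_conormalDiff γ d
  obtain ⟨w, hex, hepi⟩ := Groth.Agent.S9375.result pC γ (γ ≫ pC) rfl Ω d hd ψ hψ φ hφ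
  let a : Omega.conormal (γ ≫ pC) ⟶ Omega.conormal γ :=
    (Scheme.Modules.pullbackId D).inv.app (Omega.conormal (γ ≫ pC)) ≫ ψ
  have ha := conormalMap_clsG γ pC ψ hψ
  have w' : a ≫ (φ ≫ θ.hom) = 0 := by
    change ((Scheme.Modules.pullbackId D).inv.app (Omega.conormal (γ ≫ pC)) ≫ ψ) ≫ (φ ≫ θ.hom) = 0
    rw [Category.assoc, ← Category.assoc ψ, w, zero_comp, comp_zero]
  have hiso : ShortComplex.mk ψ φ w ≅ ShortComplex.mk a (φ ≫ θ.hom) w' :=
    ShortComplex.isoMk ((Scheme.Modules.pullbackId D).app (Omega.conormal (γ ≫ pC)))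
      (Iso.refl _) θ
      (by
        change (Scheme.Modules.pullbackId D).hom.app (Omega.conormal (γ ≫ pC)) ≫
          ((Scheme.Modules.pullbackId D).inv.app (Omega.conormal (γ ≫ pC)) ≫ ψ) = ψ ≫ 𝟙 _
        rw [Category.comp_id, Iso.hom_inv_id_app_assoc])
      (by simp)
  have hex' : (ShortComplex.mk a (φ ≫ θ.hom) w').Exact := ShortComplex.exact_of_iso hiso hex
  have hlocr : ∀ z : D, ∃ U₀ : D.Opens, z ∈ U₀ ∧
      ∃ r : (Scheme.Modules.restrictFunctor U₀.ι).obj (Omega.conormal γ) ⟶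
          (Scheme.Modules.restrictFunctor U₀.ι).obj (Omega.conormal (γ ≫ pC)),
        (Scheme.Modules.restrictFunctor U₀.ι).map a ≫ r = 𝟙 _ := by
    intro z
    obtain ⟨U, Γg, hzU, hΓ₁, hΓ₂⟩ := hloc z
    exact ⟨(γ ≫ pC) ⁻¹ᵁ U, hzU, exists_local_retraction_restrict γ pC a ha U Γg hΓ₁ hΓ₂⟩
  haveI hmono : Mono a := mono_of_local_retraction a hlocr
  haveI : Epi φ := hepi
  have hS' : (ShortComplex.mk a (φ ≫ θ.hom) w').ShortExact :=
    { exact := hex'
      mono_f := hmono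
      epi_g := inferInstanceAs (Epi (φ ≫ θ.hom)) }
  obtain ⟨s, hs⟩ := Groth.Agent.Helper19.ShHomSplit.exists_section_of_local
    (ShortComplex.mk a (φ ≫ θ.hom) w') hS' hH1 (by
      intro z
      obtain ⟨U₀, hzU₀, r, hr⟩ := hlocr z
      refine ⟨U₀, hzU₀, ?_⟩
      have hSU := hS'.map_of_exact (Scheme.Modules.restrictFunctor U₀.ι)
      exact exists_section_of_retraction hSU r hr)
  obtain ⟨r, har⟩ := Groth.Agent.Helper19.OmegaAlg.exists_retraction_of_exact hS'.exact s hs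
  exact exists_lift_of_retraction γ pC pX hsq a r har ha qC qX hq

end main

end Groth.Agent.Helper19.LocLift
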