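import Mathlib
set_option autoImplicit false
set_option linter.style.haveILetI false
set_option linter.unusedSectionVars false
universe u v

/-! # Correcting a lift by a derivation at finitely many rational points (helper19) -/

namespace Groth.Agent.Helper19.MarkedDef

open KaehlerDifferential Function

/-- Modify a ring hom `s` by a derivation `D` along a square-zero element `ε'`. -/
def modify {k B₀ B' : Type*} [CommRing k] [CommRing B₀] [CommRing B'] [Algebra k B₀]
    (s : B₀ →+* B') (ε' : B') (hε : ε' * ε' = 0) (D : Derivation k B₀ B₀) : B₀ →+* B' where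
  toFun b := s b - ε' * s (D b)
  map_one' := by simp
  map_mul' b c := by
    rw [Derivation.leibniz]
    simp only [map_mul, map_add, smul_eq_mul]
    have : (ε' * s (D b)) * (ε' * s (D c)) = 0 := by
      calc (ε' * s (D b)) * (ε' * s (D c)) = (ε' * ε') * (s (D b) * s (D c)) := by ring
        _ = 0 := by rw [hε, zero_mul]
    linear_combination (-1 : B') * this
  map_zero' := by simp
  map_add' b c := by simp only [map_add]; ring

@[simp] lemma modify_apply {k B₀ B' : Type*} [CommRing k] [CommRing B₀] [CommRing B']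
    [Algebra k B₀] (s : B₀ →+* B') (ε' : B') (hε : ε' * ε' = 0) (D : Derivation k B₀ B₀) (b : B₀) :
    modify s ε' hε D b = s b - ε' * s (D b) := rfl

/-- Surjectivity of evaluation at finitely many distinct rational points. -/
theorem pi_surjective {k : Type*} [Field k] {B₀ : Type*} [CommRing B₀] [Algebra k B₀]
    {ι : Type*} [Finite ι] (π : ι → (B₀ →ₐ[k] k)) (hπ : Function.Injective π) (c : ι → k) :
    ∃ b : B₀, ∀ j, π j b = c j := by
  have hsurj : ∀ j, Function.Surjective (π j) := fun j x =>
    ⟨algebraMap k B₀ x, by simp⟩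
  have hmax : ∀ j, (RingHom.ker (π j : B₀ →+* k)).IsMaximal := fun j =>
    RingHom.ker_isMaximal_of_surjective (π j : B₀ →+* k) (hsurj j)
  have hcop : Pairwise (IsCoprime on fun j => RingHom.ker (π j : B₀ →+* k)) := by
    intro j l hjl
    change IsCoprime (RingHom.ker (π j : B₀ →+* k)) (RingHom.ker (π l : B₀ →+* k))
    rw [Ideal.isCoprime_iff_sup_eq]
    refine Ideal.IsMaximal.coprime_of_ne (hmax j) (hmax l) ?_
    intro heq
    apply hjl
    apply hπ
    ext b
    have h1 : b - algebraMap k B₀ (π j b) ∈ RingHom.ker (π j : B₀ →+* k) := by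
      rw [RingHom.mem_ker]; simp
    rw [heq, RingHom.mem_ker] at h1
    have h2 : π l b - π j b = 0 := by simpa using h1
    exact (sub_eq_zero.mp h2).symm
  obtain ⟨r, hr⟩ := Ideal.exists_forall_sub_mem_ideal hcop (fun j => algebraMap k B₀ (c j))
  refine ⟨r, fun j => ?_⟩
  have := hr j
  rw [RingHom.mem_ker] at this
  have h2 : π j r - c j = 0 := by simpa using this
  exact sub_eq_zero.mp h2

/-- Existence of a global derivation with prescribed tangent vectors at finitely many distinct
rational points, when the module of differentials is projective. -/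
theorem exists_derivation {k : Type*} [Field k] {B₀ : Type*} [CommRing B₀] [Algebra k B₀]
    [Module.Projective B₀ Ω[B₀⁄k]]
    {ι : Type*} [Finite ι] (π : ι → (B₀ →ₐ[k] k)) (hπ : Function.Injective π)
    (δ : ι → B₀ → k) (hadd : ∀ j b c, δ j (b + c) = δ j b + δ j c)
    (hmul : ∀ j b c, δ j (b * c) = π j b * δ j c + π j c * δ j b)
    (halg : ∀ j x, δ j (algebraMap k B₀ x) = 0) :
    ∃ D : Derivation k B₀ B₀, ∀ j b, π j (D b) = δ j b := by
  classical
  let ρ : B₀ →+* (ι → k) := Pi.ringHom (fun j => (π j : B₀ →+* k))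
  letI algP : Algebra B₀ (ι → k) := ρ.toAlgebra
  have hsmul : ∀ (b : B₀) (v : ι → k), b • v = ρ b * v := fun b v => rfl
  have hρ : ∀ (b : B₀) (j : ι), ρ b j = π j b := fun b j => rfl
  haveI : IsScalarTower k B₀ (ι → k) := by
    refine ⟨fun x b v => ?_⟩
    rw [hsmul, hsmul]
    ext j
    simp only [Pi.mul_apply, Pi.smul_apply, hρ, map_smul, smul_eq_mul]
    ring
  have hlin : ∀ j (x : k) (b : B₀), δ j (x • b) = x * δ j b := by
    intro j x b
    rw [Algebra.smul_def, hmul, halg]
    simp
  let Δ : Derivation k B₀ (ι → k) :=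
    { toFun := fun b j => δ j b
      map_add' := fun b c => by ext j; exact hadd j b c
      map_smul' := fun x b => by ext j; simpa using hlin j x b
      map_one_eq_zero' := by
        ext j
        have := halg j 1
        simpa using this
      leibniz' := fun b c => by
        ext j
        change δ j (b * c) = (b • (fun j => δ j c) + c • (fun j => δ j b)) j
        rw [hsmul, hsmul, hmul]
        simp only [Pi.add_apply, Pi.mul_apply, hρ] }
  let ℓ : Ω[B₀⁄k] →ₗ[B₀] (ι → k) := Δ.liftKaehlerDifferential
  let ρl : B₀ →ₗ[B₀] (ι → k) := Algebra.linearMap B₀ (ι → k)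
  have hρl : Function.Surjective ρl := by
    intro c
    obtain ⟨b, hb⟩ := pi_surjective π hπ c
    refine ⟨b, ?_⟩
    ext j
    exact hb j
  obtain ⟨ℓ', hℓ'⟩ := Module.projective_lifting_property ρl ℓ hρl
  refine ⟨ℓ'.compDer (KaehlerDifferential.D k B₀), fun j b => ?_⟩
  have h1 : ρl (ℓ' (KaehlerDifferential.D k B₀ b)) = ℓ (KaehlerDifferential.D k B₀ b) :=
    congrArg (fun m => m (KaehlerDifferential.D k B₀ b)) hℓ'
  have h2 : ℓ (KaehlerDifferential.D k B₀ b) = Δ b := Derivation.liftKaehlerDifferential_comp_D _ _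
  have h3 := congrFun (h1.trans h2) j
  exact h3

end Groth.Agent.Helper19.MarkedDef
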