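import Mathlib
import Groth.Agent.Lib.Helper2.ToAffine
import Groth.Agent.Helper19.Ribbon5
import Groth.Agent.Helper19.TrivDef1
import Groth.Agent.Helper19.MarkedDef1
set_option autoImplicit false
set_option linter.style.haveILetI false
set_option linter.unusedSectionVars false
universe u v

open CategoryTheory CategoryTheory.Limits AlgebraicGeometry Opposite TopologicalSpace

/-! # Retractions of first order deformations respecting marked points (helper19) -/

namespace Groth.Agent.Helper19.MarkedDef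

open Groth.Agent.Lib.Helper2.ToAffine Groth.Agent.Helper19.Ribbon

/-- The ring map `Γ(Y, ⊤) → R` of a morphism `Spec R ⟶ Y`. -/
noncomputable def sharp {R : Type u} [CommRing R] {Y : Scheme.{u}}
    (p : Spec (CommRingCat.of R) ⟶ Y) : Γ(Y, ⊤) →+* R :=
  (Scheme.ΓSpecIso (CommRingCat.of R)).hom.hom.comp p.appTop.hom

lemma sharp_apply {R : Type u} [CommRing R] {Y : Scheme.{u}}
    (p : Spec (CommRingCat.of R) ⟶ Y) (y : Γ(Y, ⊤)) :
    sharp p y = (Scheme.ΓSpecIso (CommRingCat.of R)).hom.hom (p.appTop.hom y) := rfl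

lemma sharp_comp {R : Type u} [CommRing R] {Y Z : Scheme.{u}}
    (p : Spec (CommRingCat.of R) ⟶ Y) (h : Y ⟶ Z) (z : Γ(Z, ⊤)) :
    sharp (p ≫ h) z = sharp p (h.appTop.hom z) := by
  rw [sharp_apply, sharp_apply, Scheme.Hom.comp_appTop]
  rfl

lemma sharp_SpecMap_comp {R R' : Type u} [CommRing R] [CommRing R'] {Y : Scheme.{u}}
    (φ : R →+* R') (p : Spec (CommRingCat.of R) ⟶ Y) (y : Γ(Y, ⊤)) :
    sharp (Spec.map (CommRingCat.ofHom φ) ≫ p) y = φ (sharp p y) := by
  rw [sharp_apply, sharp_apply, Scheme.Hom.comp_appTop]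
  have h := Scheme.ΓSpecIso_naturality (CommRingCat.ofHom φ)
  have h2 := congrArg (fun m => m.hom (p.appTop.hom y)) h
  exact h2

lemma sharp_id {R : Type u} [CommRing R] (y : Γ(Spec (CommRingCat.of R), ⊤)) :
    sharp (𝟙 (Spec (CommRingCat.of R))) y = (Scheme.ΓSpecIso (CommRingCat.of R)).hom.hom y := by
  rw [sharp_apply]
  rfl

lemma sharp_id_inv {R : Type u} [CommRing R] (x : R) :
    sharp (𝟙 (Spec (CommRingCat.of R))) ((Scheme.ΓSpecIso (CommRingCat.of R)).inv.hom x) = x := by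
  rw [sharp_id]
  exact congrArg (fun m => m.hom x) (Scheme.ΓSpecIso (CommRingCat.of R)).inv_hom_id

lemma ext_sharp {R : Type u} [CommRing R] {Y : Scheme.{u}} [IsAffine Y]
    (p q : Spec (CommRingCat.of R) ⟶ Y) (h : ∀ y, sharp p y = sharp q y) : p = q := by
  have h1 : ⊤ ≤ p ⁻¹ᵁ ⊤ := le_top
  have h2 : ⊤ ≤ q ⁻¹ᵁ ⊤ := le_top
  apply ext_of_appLE _ _ (isAffineOpen_top Y) h1 h2
  rw [← appTop_eq_appLE p le_top, ← appTop_eq_appLE q le_top]
  ext y
  have := h y
  rw [sharp_apply, sharp_apply] at this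
  have h3 := congrArg (Scheme.ΓSpecIso (CommRingCat.of R)).inv.hom this
  have e : ∀ z : Γ(Spec (CommRingCat.of R), ⊤),
      (Scheme.ΓSpecIso (CommRingCat.of R)).inv.hom
        ((Scheme.ΓSpecIso (CommRingCat.of R)).hom.hom z) = z := fun z =>
    congrArg (fun m => m.hom z) (Scheme.ΓSpecIso (CommRingCat.of R)).hom_inv_id
  rw [e, e] at h3
  exact h3

end Groth.Agent.Helper19.MarkedDef
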