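import Mathlib
import Groth.Agent.Helper19.MarkedDef2
set_option autoImplicit false
set_option linter.style.haveILetI false
set_option linter.unusedSectionVars false
universe u v

open CategoryTheory CategoryTheory.Limits AlgebraicGeometry Opposite TopologicalSpace

/-! # Retractions of first order deformations respecting marked points, II (helper19) -/

namespace Groth.Agent.Helper19.MarkedDef

open Groth.Agent.Lib.Helper2.ToAffine Groth.Agent.Helper19.Ribbon

theorem exists_retraction_marked (k : Type u) [Field k] {X X' : Scheme.{u}}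
    (hX : X ⟶ Spec (CommRingCat.of k)) [IsAffine X] [Smooth hX]
    (g : X' ⟶ Spec (CommRingCat.of (DualNumber k))) (i : X ⟶ X') [IsClosedImmersion i]
    (hi : Function.Surjective i)
    (hw : i ≫ g = hX ≫ Spec.map (CommRingCat.ofHom (TrivSqZeroExt.fstHom k k k).toRingHom))
    (hnil : IsNilpotent (RingHom.ker i.appTop.hom))
    {ι : Type v} [Finite ι] (p : ι → (Spec (CommRingCat.of k) ⟶ X)) (hp : ∀ j, p j ≫ hX = 𝟙 _)
    (hinj : Function.Injective p)
    (p' : ι → (Spec (CommRingCat.of (DualNumber k)) ⟶ X')) (hp' : ∀ j, p' j ≫ g = 𝟙 _)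
    (hpp' : ∀ j, p j ≫ i =
      Spec.map (CommRingCat.ofHom (TrivSqZeroExt.fstHom k k k).toRingHom) ≫ p' j) :
    ∃ r : X' ⟶ X, i ≫ r = 𝟙 X ∧
      r ≫ hX = g ≫ Spec.map (CommRingCat.ofHom (algebraMap k (DualNumber k))) ∧
      ∀ j, p' j ≫ r = Spec.map (CommRingCat.ofHom (algebraMap k (DualNumber k))) ≫ p j := by
  haveI : IsAffine X' := Groth.Agent.S0440.result i hi
  set ek := Spec.map (CommRingCat.ofHom (TrivSqZeroExt.fstHom k k k).toRingHom) with hekdef
  set ak := Spec.map (CommRingCat.ofHom (algebraMap k (DualNumber k))) with hakdef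
  have hek : ek ≫ ak = 𝟙 _ := by
    rw [hekdef, hakdef, ← Spec.map_comp, ← Spec.map_id]
    congr 1
  have hq : i ≫ g ≫ ak = hX := by
    rw [← Category.assoc, hw, Category.assoc, hek, Category.comp_id]
  obtain ⟨r₀, hr1, hr2⟩ := Groth.Agent.Helper19.TrivDef.exists_retraction_of_smooth_affine i hi hX
    (g ≫ ak) hq hnil
  -- the `k`-algebra structure on `Γ(X, ⊤)`
  let Γk := Scheme.ΓSpecIso (CommRingCat.of k)
  let Γε := Scheme.ΓSpecIso (CommRingCat.of (DualNumber k))
  have hΓk1 : ∀ c : k, Γk.hom.hom (Γk.inv.hom c) = c := fun c =>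
    congrArg (fun m => m.hom c) Γk.inv_hom_id
  have hΓk2 : ∀ z, Γk.inv.hom (Γk.hom.hom z) = z := fun z =>
    congrArg (fun m => m.hom z) Γk.hom_inv_id
  let ιk : k →+* Γ(X, ⊤) := hX.appTop.hom.comp Γk.inv.hom
  letI algB₀ : Algebra k Γ(X, ⊤) := ιk.toAlgebra
  have halgdef : ∀ c : k, algebraMap k Γ(X, ⊤) c = hX.appTop.hom (Γk.inv.hom c) := fun c => rfl
  have hsm : (hX.appLE ⊤ ⊤ le_top).hom.Smooth :=
    hX.smooth_appLE (isAffineOpen_top _) (isAffineOpen_top X) le_top
  rw [← appTop_eq_appLE hX le_top] at hsm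
  have hbij : Function.Bijective Γk.inv.hom :=
    ⟨fun a b hab => by rw [← hΓk1 a, ← hΓk1 b, hab], fun z => ⟨Γk.hom.hom z, hΓk2 z⟩⟩
  have hsm2 : ιk.Smooth := RingHom.Smooth.comp (RingHom.Smooth.of_bijective hbij) hsm
  haveI : Algebra.FormallySmooth k Γ(X, ⊤) := hsm2.formallySmooth
  -- the rational points as algebra maps
  have hπalg : ∀ j (c : k), sharp (p j) (algebraMap k Γ(X, ⊤) c) = c := by
    intro j c
    rw [halgdef, ← sharp_comp, hp j]
    exact sharp_id_inv c
  let π : ι → (Γ(X, ⊤) →ₐ[k] k) := fun j => { sharp (p j) with commutes' := hπalg j }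
  have hπapp : ∀ j y, π j y = sharp (p j) y := fun j y => rfl
  have hπ : Function.Injective π := by
    intro j l hjl
    apply hinj
    apply ext_sharp
    intro y
    rw [← hπapp, ← hπapp, hjl]
  -- the sections composed with the first retraction
  let θ : ι → (Γ(X, ⊤) →+* DualNumber k) := fun j => sharp (p' j ≫ r₀)
  have hθfst : ∀ j b, TrivSqZeroExt.fst (θ j b) = π j b := by
    intro j b
    have h1 : sharp (ek ≫ (p' j ≫ r₀)) b = (TrivSqZeroExt.fstHom k k k).toRingHom (θ j b) :=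
      sharp_SpecMap_comp _ _ b
    have h2 : ek ≫ (p' j ≫ r₀) = p j := by
      rw [← Category.assoc, ← hpp' j, Category.assoc, hr1, Category.comp_id]
    rw [h2] at h1
    exact h1.symm
  have hθalg : ∀ j (c : k), θ j (algebraMap k Γ(X, ⊤) c) = algebraMap k (DualNumber k) c := by
    intro j c
    change sharp (p' j ≫ r₀) (algebraMap k Γ(X, ⊤) c) = _
    rw [halgdef, ← sharp_comp, Category.assoc, hr2, ← Category.assoc, hp' j, Category.id_comp]
    have h3 : sharp (ak ≫ 𝟙 _) (Γk.inv.hom c) =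
        algebraMap k (DualNumber k) (sharp (𝟙 _) (Γk.inv.hom c)) := sharp_SpecMap_comp _ _ _
    rw [Category.comp_id, sharp_id_inv] at h3
    exact h3
  let δ : ι → Γ(X, ⊤) → k := fun j b => TrivSqZeroExt.snd (θ j b)
  have hadd : ∀ j b c, δ j (b + c) = δ j b + δ j c := by
    intro j b c
    change TrivSqZeroExt.snd (θ j (b + c)) = _
    rw [map_add, TrivSqZeroExt.snd_add]
  have hmul : ∀ j b c, δ j (b * c) = π j b * δ j c + π j c * δ j b := by
    intro j b c
    change TrivSqZeroExt.snd (θ j (b * c)) = _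
    rw [map_mul, TrivSqZeroExt.snd_mul, hθfst, hθfst]
    simp only [δ, smul_eq_mul, MulOpposite.smul_eq_mul_unop, MulOpposite.unop_op]
    ring
  have halg : ∀ j x, δ j (algebraMap k Γ(X, ⊤) x) = 0 := by
    intro j x
    change TrivSqZeroExt.snd (θ j (algebraMap k Γ(X, ⊤) x)) = 0
    rw [hθalg, TrivSqZeroExt.algebraMap_eq_inl, TrivSqZeroExt.snd_inl]
  obtain ⟨D, hD⟩ := exists_derivation π hπ δ hadd hmul halg
  -- the corrected retraction
  let ε' : Γ(X', ⊤) := g.appTop.hom (Γε.inv.hom DualNumber.eps)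
  have hε : ε' * ε' = 0 := by
    change g.appTop.hom (Γε.inv.hom DualNumber.eps) * g.appTop.hom (Γε.inv.hom DualNumber.eps) = 0
    rw [← map_mul, ← map_mul, DualNumber.eps_mul_eps, map_zero, map_zero]
  let s : Γ(X, ⊤) →+* Γ(X', ⊤) := r₀.appTop.hom
  let φ : Γ(X, ⊤) ⟶ Γ(X', ⊤) := CommRingCat.ofHom (modify s ε' hε D)
  have hφ : ∀ y, φ.hom y = s y - ε' * s (D y) := fun y => rfl
  have hrapp : (ofRingHom (isAffineOpen_top X) φ).appTop = φ := by
    rw [appTop_eq_appLE _ (ofRingHom_le (isAffineOpen_top X) φ), ofRingHom_appLE]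
  have his : ∀ x, i.appTop.hom (s x) = x := by
    intro x
    have h := congrArg (fun m => m.appTop.hom x) hr1
    simp only [Scheme.Hom.comp_appTop] at h
    exact h
  have hiε : i.appTop.hom ε' = 0 := by
    change i.appTop.hom (g.appTop.hom (Γε.inv.hom DualNumber.eps)) = 0
    have h := congrArg (fun m => m.appTop.hom (Γε.inv.hom DualNumber.eps)) hw
    simp only [Scheme.Hom.comp_appTop] at h
    refine h.trans ?_
    change hX.appTop.hom (ek.appTop.hom (Γε.inv.hom DualNumber.eps)) = 0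
    have h2 := Scheme.ΓSpecIso_inv_naturality
      (CommRingCat.ofHom (TrivSqZeroExt.fstHom k k k).toRingHom)
    have h3 := congrArg (fun m => m.hom DualNumber.eps) h2
    have h4 : ek.appTop.hom (Γε.inv.hom DualNumber.eps) =
        Γk.inv.hom ((TrivSqZeroExt.fstHom k k k).toRingHom DualNumber.eps) := h3.symm
    rw [h4]
    have h5 : (TrivSqZeroExt.fstHom k k k).toRingHom DualNumber.eps = 0 := DualNumber.fst_eps
    rw [h5, map_zero, map_zero]
  refine ⟨ofRingHom (isAffineOpen_top X) φ, ?_, ?_, ?_⟩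
  · have h1 : ⊤ ≤ (i ≫ ofRingHom (isAffineOpen_top X) φ) ⁻¹ᵁ ⊤ := le_top
    have h2 : ⊤ ≤ (𝟙 X) ⁻¹ᵁ ⊤ := le_top
    apply ext_of_appLE _ _ (isAffineOpen_top X) h1 h2
    rw [← Scheme.Hom.appLE_comp_appLE _ _ ⊤ ⊤ ⊤ (ofRingHom_le (isAffineOpen_top X) φ) le_top,
      ofRingHom_appLE, ← appTop_eq_appLE i le_top, ← appTop_eq_appLE (𝟙 X) le_top]
    ext x
    change i.appTop.hom (φ.hom x) = x
    rw [hφ, map_sub, map_mul, his, hiε, zero_mul, sub_zero]
  · have h1 : ⊤ ≤ (ofRingHom (isAffineOpen_top X) φ ≫ hX) ⁻¹ᵁ ⊤ := le_top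
    have h2 : ⊤ ≤ (g ≫ ak) ⁻¹ᵁ ⊤ := le_top
    apply ext_of_appLE _ _ (isAffineOpen_top _) h1 h2
    rw [← Scheme.Hom.appLE_comp_appLE _ _ ⊤ ⊤ ⊤ le_top (ofRingHom_le (isAffineOpen_top X) φ),
      ofRingHom_appLE, ← appTop_eq_appLE hX le_top, ← appTop_eq_appLE (g ≫ ak) le_top]
    ext c
    change φ.hom (hX.appTop.hom c) = (g ≫ ak).appTop.hom c
    have hc : hX.appTop.hom c = algebraMap k Γ(X, ⊤) (Γk.hom.hom c) := by
      rw [halgdef, hΓk2]
    rw [hφ, hc, Derivation.map_algebraMap, map_zero, mul_zero, sub_zero, ← hc]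
    have h := congrArg (fun m => m.appTop.hom c) hr2
    simp only [Scheme.Hom.comp_appTop] at h
    exact h
  · intro j
    apply ext_sharp
    intro y
    rw [sharp_comp, hrapp, hφ, map_sub, map_mul]
    have e1 : ∀ z, sharp (p' j) (s z) = θ j z := fun z => (sharp_comp (p' j) r₀ z).symm
    have e2 : sharp (p' j) ε' = DualNumber.eps := by
      change sharp (p' j) (g.appTop.hom (Γε.inv.hom DualNumber.eps)) = _
      rw [← sharp_comp, hp' j]
      exact sharp_id_inv _
    have e3 : sharp (ak ≫ p j) y = algebraMap k (DualNumber k) (sharp (p j) y) :=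
      sharp_SpecMap_comp _ _ y
    rw [e1, e1, e2, e3, ← hπapp, TrivSqZeroExt.algebraMap_eq_inl]
    apply TrivSqZeroExt.ext
    · rw [TrivSqZeroExt.fst_sub, TrivSqZeroExt.fst_mul, DualNumber.fst_eps, zero_mul, sub_zero,
        hθfst, TrivSqZeroExt.fst_inl]
    · rw [TrivSqZeroExt.snd_sub, TrivSqZeroExt.snd_mul, DualNumber.fst_eps, DualNumber.snd_eps,
        hθfst, TrivSqZeroExt.snd_inl, hD]
      simp [δ]

end Groth.Agent.Helper19.MarkedDef
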