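import Mathlib
set_option autoImplicit false
universe u

open CategoryTheory CategoryTheory.Limits AlgebraicGeometry Opposite TopologicalSpace

namespace Groth.Agent.Helper19.NearFib

section lemmaL

variable {Y T : Scheme.{u}} {V : Y.Opens} (hV : IsAffineOpen V) {y : Y} (hy : y ∈ V)

include hV in
/-- membership in a basic open vs. the prime ideal of the point -/
theorem mem_basicOpen_iff_notMem_primeIdealOf (b : Γ(Y, V)) :
    y ∈ Y.basicOpen b ↔ b ∉ (hV.primeIdealOf ⟨y, hy⟩).asIdeal := by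
  letI : Algebra Γ(Y, V) (Y.presheaf.stalk y) := Y.presheaf.algebra_section_stalk ⟨y, hy⟩
  haveI : IsLocalization.AtPrime (Y.presheaf.stalk y) (hV.primeIdealOf ⟨y, hy⟩).asIdeal :=
    hV.isLocalization_stalk ⟨y, hy⟩
  rw [Scheme.mem_basicOpen Y b y hy]
  have h := IsLocalization.AtPrime.isUnit_to_map_iff (Y.presheaf.stalk y)
    (hV.primeIdealOf ⟨y, hy⟩).asIdeal b
  exact h.trans Ideal.mem_primeCompl_iff

include hV hy in
/-- A morphism whose image lies in every basic open neighbourhood of `y` (inside an affine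
open `V`) factors through `Spec 𝒪_{Y,y}`. -/
theorem exists_lift_fromSpecStalk (h : T ⟶ Y)
    (hh : ∀ s : Γ(Y, V), y ∈ Y.basicOpen s → ∀ t : T, h t ∈ Y.basicOpen s) :
    ∃ t₂ : T ⟶ Spec (Y.presheaf.stalk y), t₂ ≫ Y.fromSpecStalk y = h := by
  letI : Algebra Γ(Y, V) (Y.presheaf.stalk y) := Y.presheaf.algebra_section_stalk ⟨y, hy⟩
  haveI : IsLocalization.AtPrime (Y.presheaf.stalk y) (hV.primeIdealOf ⟨y, hy⟩).asIdeal :=
    hV.isLocalization_stalk ⟨y, hy⟩
  have hTV : (⊤ : T.Opens) ≤ h ⁻¹ᵁ V := by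
    intro t _
    have h1 : Y.basicOpen (1 : Γ(Y, V)) = V := Scheme.basicOpen_of_isUnit Y isUnit_one
    have := hh 1 (by rw [h1]; exact hy) t
    rw [h1] at this
    exact this
  let ψ : Γ(Y, V) ⟶ Γ(T, ⊤) := h.appLE V ⊤ hTV
  have hunit : ∀ m : (hV.primeIdealOf ⟨y, hy⟩).asIdeal.primeCompl, IsUnit (ψ.hom m) := by
    intro m
    have hm : y ∈ Y.basicOpen (m : Γ(Y, V)) :=
      (mem_basicOpen_iff_notMem_primeIdealOf hV hy _).mpr m.2
    have e1 : T.basicOpen (ψ.hom (m : Γ(Y, V))) = ⊤ := by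
      rw [Scheme.basicOpen_appLE, eq_top_iff]
      intro t _
      exact ⟨trivial, hh _ hm t⟩
    apply RingedSpace.isUnit_of_isUnit_germ T.toRingedSpace ⊤
    intro t ht
    have h3 : t ∈ T.basicOpen (ψ.hom (m : Γ(Y, V))) := by rw [e1]; trivial
    exact (Scheme.mem_basicOpen T _ t ht).mp h3
  let φ : ↑(Y.presheaf.stalk y) →+* ↑Γ(T, ⊤) :=
    IsLocalization.lift (M := (hV.primeIdealOf ⟨y, hy⟩).asIdeal.primeCompl) (g := ψ.hom) hunit
  have hφ : (Y.presheaf.germ V y hy) ≫ CommRingCat.ofHom φ = ψ := by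
    ext b
    exact IsLocalization.lift_eq (M := (hV.primeIdealOf ⟨y, hy⟩).asIdeal.primeCompl) hunit b
  refine ⟨T.toSpecΓ ≫ Spec.map (CommRingCat.ofHom φ), ?_⟩
  rw [← hV.fromSpecStalk_eq_fromSpecStalk hy, IsAffineOpen.fromSpecStalk, Category.assoc,
    ← Spec.map_comp_assoc, hφ]
  haveI : IsIso (⊤ : T.Opens).ι := by
    apply (config := { allowSynthFailures := true }) IsOpenImmersion.isIso
    rw [TopCat.epi_iff_surjective]
    intro t
    exact ⟨⟨t, trivial⟩, rfl⟩
  rw [← cancel_epi (⊤ : T.Opens).ι]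
  have h1 := Scheme.Opens.toSpecΓ_SpecMap_appLE h V ⊤ hTV
  rw [Scheme.Opens.toSpecΓ_top, Category.assoc] at h1
  rw [reassoc_of% h1, IsAffineOpen.toSpecΓ_fromSpec, Scheme.Hom.resLE_comp_ι]

end lemmaL


section diagram

variable {X Y : Scheme.{u}} (f : X ⟶ Y) (V : Y.Opens) (y : Y)

/-- index set: sections over `V` whose basic open contains `y` -/
abbrev Idx : Type u := {s : Γ(Y, V) // y ∈ Y.basicOpen s}

instance : Preorder (Idx V y) := Preorder.lift (fun s : Idx V y => Y.basicOpen s.1)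

theorem Idx.le_iff (s t : Idx V y) : s ≤ t ↔ Y.basicOpen s.1 ≤ Y.basicOpen t.1 := Iff.rfl

variable {V y} in
/-- the index `1` -/
def Idx.one (hy : y ∈ V) : Idx V y :=
  ⟨1, by rw [Scheme.basicOpen_of_isUnit Y isUnit_one]; exact hy⟩

theorem Idx.basicOpen_one (hy : y ∈ V) : Y.basicOpen (Idx.one hy).1 = V :=
  Scheme.basicOpen_of_isUnit Y isUnit_one

instance : IsCodirectedOrder (Idx V y) where
  directed s t := by
    refine ⟨⟨s.1 * t.1, ?_⟩, ?_, ?_⟩
    · rw [Scheme.basicOpen_mul]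
      exact ⟨s.2, t.2⟩
    · change Y.basicOpen (s.1 * t.1) ≤ Y.basicOpen s.1
      rw [Scheme.basicOpen_mul]
      exact inf_le_left
    · change Y.basicOpen (s.1 * t.1) ≤ Y.basicOpen t.1
      rw [Scheme.basicOpen_mul]
      exact inf_le_right

/-- the opens `f⁻¹(D(s))` -/
abbrev preOpen (s : Idx V y) : X.Opens := f ⁻¹ᵁ Y.basicOpen s.1

theorem preOpen_mono : Monotone (preOpen f V y) := fun _ _ h => f.preimage_mono h

/-- the diagram of the open subschemes `f⁻¹(D(s))` -/
noncomputable def diag : Idx V y ⥤ Scheme.{u} :=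
  (preOpen_mono f V y).functor ⋙ X.restrictFunctor ⋙ Over.forget X

theorem diag_obj (s : Idx V y) : (diag f V y).obj s = (preOpen f V y s : Scheme.{u}) := rfl

theorem diag_map {s t : Idx V y} (φ : s ⟶ t) :
    (diag f V y).map φ = X.homOfLE (preOpen_mono f V y φ.le) := rfl


variable {V y}

theorem isAffineHom_homOfLE (hV : IsAffineOpen V) {s t : Idx V y} (h : s ≤ t) :
    IsAffineHom (X.homOfLE (preOpen_mono f V y h)) := by
  have hs : IsAffineOpen (Y.basicOpen s.1) := hV.basicOpen s.1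
  have ht : IsAffineOpen (Y.basicOpen t.1) := hV.basicOpen t.1
  haveI : IsAffine (Y.basicOpen s.1 : Scheme.{u}) := hs
  haveI : IsAffine (Y.basicOpen t.1 : Scheme.{u}) := ht
  have hle : Y.basicOpen s.1 ≤ Y.basicOpen t.1 := h
  have sq : IsPullback (f ∣_ Y.basicOpen s.1) (X.homOfLE (preOpen_mono f V y h))
      (Y.homOfLE hle) (f ∣_ Y.basicOpen t.1) := by
    apply IsOpenImmersion.isPullback
    · rw [← cancel_mono (Y.basicOpen t.1).ι]
      simp [preOpen]
    · simp only [Scheme.opensRange_homOfLE]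
      rw [← Scheme.Hom.comp_preimage, morphismRestrict_ι, Scheme.Hom.comp_preimage]
  exact MorphismProperty.of_isPullback (P := @IsAffineHom) sq inferInstance


variable (y) in
/-- the apex of the cone: `X ×_Y Spec 𝒪_{Y,y}` -/
noncomputable abbrev locX : Scheme.{u} := pullback f (Y.fromSpecStalk y)

theorem range_fst_le (s : Idx V y) :
    Set.range (pullback.fst f (Y.fromSpecStalk y)) ⊆ Set.range (preOpen f V y s).ι := by
  rintro _ ⟨p, rfl⟩
  rw [Scheme.Opens.range_ι]
  change f (pullback.fst f (Y.fromSpecStalk y) p) ∈ Y.basicOpen s.1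
  rw [← Scheme.Hom.comp_apply, pullback.condition, Scheme.Hom.comp_apply]
  have h1 : Y.fromSpecStalk y (pullback.snd f (Y.fromSpecStalk y) p) ∈
      Set.range (Y.fromSpecStalk y) := ⟨_, rfl⟩
  rw [Scheme.range_fromSpecStalk] at h1
  exact (h1 : _ ⤳ y).mem_open (Y.basicOpen s.1).2 s.2

/-- the projections of the cone -/
noncomputable def coneπ (s : Idx V y) : locX f y ⟶ (preOpen f V y s : Scheme.{u}) :=
  IsOpenImmersion.lift (preOpen f V y s).ι (pullback.fst f (Y.fromSpecStalk y)) (range_fst_le f s)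

theorem coneπ_ι (s : Idx V y) :
    coneπ f s ≫ (preOpen f V y s).ι = pullback.fst f (Y.fromSpecStalk y) :=
  IsOpenImmersion.lift_fac _ _ _

variable (V) in
/-- the cone over the diagram with apex `X ×_Y Spec 𝒪_{Y,y}` -/
noncomputable def locCone : Cone (diag f V y) where
  pt := locX f y
  π :=
    { app := fun s => coneπ f s
      naturality := fun s t φ => by
        dsimp only [Functor.const_obj_obj, Functor.const_obj_map]
        rw [Category.id_comp, diag_map]
        change coneπ f t = coneπ f s ≫ X.homOfLE (preOpen_mono f V y φ.le)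
        rw [← cancel_mono (preOpen f V y t).ι, Category.assoc,
          Scheme.homOfLE_ι, coneπ_ι, coneπ_ι] }


theorem Idx.le_one (hy : y ∈ V) (s : Idx V y) : s ≤ Idx.one hy := by
  change Y.basicOpen s.1 ≤ Y.basicOpen (Idx.one hy).1
  rw [Idx.basicOpen_one]
  exact Y.basicOpen_le s.1

/-- the cone with apex `X ×_Y Spec 𝒪_{Y,y}` is a limit cone -/
theorem nonempty_isLimit_locCone (hV : IsAffineOpen V) (hy : y ∈ V) :
    Nonempty (IsLimit (locCone f V (y := y))) := by
  refine ⟨IsLimit.ofExistsUnique fun t => ?_⟩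
  let tπ : ∀ s : Idx V y, t.pt ⟶ (preOpen f V y s : Scheme.{u}) := fun s => t.π.app s
  have htw : ∀ (s : Idx V y) (h : s ≤ Idx.one hy),
      tπ s ≫ X.homOfLE (preOpen_mono f V y h) = tπ (Idx.one hy) := fun s h => t.w (homOfLE h)
  let t₁ : t.pt ⟶ X := tπ (Idx.one hy) ≫ (preOpen f V y (Idx.one hy)).ι
  have ht₁ : ∀ s : Idx V y, tπ s ≫ (preOpen f V y s).ι = t₁ := by
    intro s
    change _ = tπ (Idx.one hy) ≫ (preOpen f V y (Idx.one hy)).ι
    rw [← htw s (Idx.le_one hy s), Category.assoc, Scheme.homOfLE_ι]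
  have hh : ∀ s : Γ(Y, V), y ∈ Y.basicOpen s → ∀ p : t.pt, (t₁ ≫ f) p ∈ Y.basicOpen s := by
    intro s hs p
    rw [← ht₁ ⟨s, hs⟩, Category.assoc, Scheme.Hom.comp_apply]
    exact ((tπ ⟨s, hs⟩) p).2
  obtain ⟨t₂, ht₂⟩ := exists_lift_fromSpecStalk hV hy (t₁ ≫ f) hh
  let l : t.pt ⟶ locX f y := pullback.lift t₁ t₂ ht₂.symm
  have hl1 : l ≫ pullback.fst f (Y.fromSpecStalk y) = t₁ := pullback.lift_fst _ _ _
  have hl2 : l ≫ pullback.snd f (Y.fromSpecStalk y) = t₂ := pullback.lift_snd _ _ _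
  refine ⟨l, fun s => ?_, fun m hm => ?_⟩
  · change l ≫ coneπ f s = tπ s
    rw [← cancel_mono (preOpen f V y s).ι, Category.assoc, coneπ_ι, hl1, ht₁]
  · let m' : t.pt ⟶ locX f y := m
    have h3 : m' ≫ coneπ f (Idx.one hy) = tπ (Idx.one hy) := hm (Idx.one hy)
    have hm1 : m' ≫ pullback.fst f (Y.fromSpecStalk y) = t₁ := by
      rw [← coneπ_ι f (Idx.one hy), ← Category.assoc, h3]
    change m' = l
    apply pullback.hom_ext
    · rw [hm1, hl1]
    · rw [← cancel_mono (Y.fromSpecStalk y), Category.assoc, Category.assoc, ← pullback.condition,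
        ← Category.assoc, ← Category.assoc, hm1, hl1]

end diagram

end Groth.Agent.Helper19.NearFib
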