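import Mathlib
import Groth.Agent.Helper19.HomLift9
set_option autoImplicit false
universe u

open CategoryTheory CategoryTheory.Limits AlgebraicGeometry Opposite TopologicalSpace

namespace Groth.Agent.Helper19.NearFib

open Groth.Agent.Helper19.HomLift Groth.Agent.Lib.Helper29.QCoh

section congr

variable {W : Scheme.{u}}

/-- the internal Hom `DCoh.sheafHom` is invariant under isomorphisms of the first variable -/
noncomputable def dsheafHomCongr {P Q : W.Modules} (e : P ≅ Q) [DCoh.HasSheafHom P]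
    [DCoh.HasSheafHom Q] : DCoh.sheafHom P ≅ DCoh.sheafHom Q :=
  ((DCoh.sheafHomAdj P).ofNatIsoLeft ((DCoh.tensorBi (X := W)).mapIso e)).rightAdjointUniq
    (DCoh.sheafHomAdj Q)

/-- congruence of the internal Hom in both variables -/
noncomputable def dsheafHomCongr₂ {P Q P' Q' : W.Modules} (e : P ≅ Q) (e' : P' ≅ Q')
    [DCoh.HasSheafHom P] [DCoh.HasSheafHom Q] :
    (DCoh.sheafHom P).obj P' ≅ (DCoh.sheafHom Q).obj Q' :=
  (dsheafHomCongr e).app P' ≪≫ (DCoh.sheafHom Q).mapIso e'

end congr

section pullSq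

variable {Z P X W : Scheme.{u}} {i : Z ⟶ P} {p : P ⟶ X} {e : Z ⟶ W} {q : W ⟶ X}

/-- pullback of modules around a commutative square -/
noncomputable def pullSqIso (h : i ≫ p = e ≫ q) (M : X.Modules) :
    (Scheme.Modules.pullback i).obj ((Scheme.Modules.pullback p).obj M) ≅
      (Scheme.Modules.pullback e).obj ((Scheme.Modules.pullback q).obj M) :=
  (Scheme.Modules.pullbackComp i p).app M ≪≫ (Scheme.Modules.pullbackCongr h).app M ≪≫
    ((Scheme.Modules.pullbackComp e q).app M).symm

end pullSq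

section isoTransfer

variable {Z W : Scheme.{u}} (e : Z ⟶ W) [IsIso e]

/-- for an isomorphism `e`, `e_* e^* Q ≅ Q` -/
noncomputable def pushPullIsoOfIsIso (Q : W.Modules) :
    (Scheme.Modules.pushforward e).obj ((Scheme.Modules.pullback e).obj Q) ≅ Q :=
  (pushIsoPullInv e).app _ ≪≫ (Scheme.Modules.pullbackComp (inv e) e).app Q ≪≫
    (Scheme.Modules.pullbackCongr (IsIso.inv_hom_id e)).app Q ≪≫
      (Scheme.Modules.pullbackId W).app Q

/-- cohomology of the internal Hom is invariant under isomorphisms of schemes -/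
theorem nonempty_HH_sheafHom_addEquiv (P Q : W.Modules) (hP : FlatMod.IsFinLocFree P)
    (hQ : FlatMod.IsFinLocFree Q) [DCoh.HasSheafHom P]
    [DCoh.HasSheafHom ((Scheme.Modules.pullback e).obj P)] (p : ℕ) :
    Nonempty (Coh.HH Z ((DCoh.sheafHom ((Scheme.Modules.pullback e).obj P)).obj
        ((Scheme.Modules.pullback e).obj Q)) p ≃+ Coh.HH W ((DCoh.sheafHom P).obj Q) p) := by
  have hP' := isFinLocFree_pullback e hP
  have hQ' := isFinLocFree_pullback e hQ
  haveI : ((DCoh.sheafHom ((Scheme.Modules.pullback e).obj P)).obj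
      ((Scheme.Modules.pullback e).obj Q)).IsQuasicoherent :=
    isQuasicoherent_of_isFinLocFree (isFinLocFree_sheafHom _ _ hP' hQ')
  obtain ⟨e1⟩ := Groth.Agent.Lib.Helper22.Cech.nonempty_HH_addEquiv_HH_push e
    ((DCoh.sheafHom ((Scheme.Modules.pullback e).obj P)).obj
      ((Scheme.Modules.pullback e).obj Q)) p
  let i : (Scheme.Modules.pushforward e).obj ((DCoh.sheafHom ((Scheme.Modules.pullback e).obj P)).obj
      ((Scheme.Modules.pullback e).obj Q)) ≅ (DCoh.sheafHom P).obj Q :=
    ((sheafHomPushIso e P).app ((Scheme.Modules.pullback e).obj Q)).symm ≪≫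
      (DCoh.sheafHom P).mapIso (pushPullIsoOfIsIso e Q)
  exact ⟨e1.trans (HHaddEquivOfIso i p)⟩

end isoTransfer

end Groth.Agent.Helper19.NearFib
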