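import Mathlib
import Groth.Agent.Helper19.HomLift9
import Groth.Agent.Helper19.NearFib1
import Groth.Agent.Helper19.NearFib2
set_option autoImplicit false
universe u

open CategoryTheory CategoryTheory.Limits AlgebraicGeometry Opposite TopologicalSpace

namespace Groth.Agent.Helper19.NearFib

open Groth.Agent.Helper19.HomLift Groth.Agent.Lib.Helper29.QCoh

attribute [local instance] fiberOver

section loc

variable {X Y : Scheme.{u}} (f : X ⟶ Y) [IsProper f] [Flat f] [IsLocallyNoetherian Y] (y : Y)

/-- the local ring of `Y` at `y`, as a type -/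
abbrev Ay : Type u := ↑(Y.presheaf.stalk y)

/-- the structure morphism of `X ×_Y Spec 𝒪_{Y,y}` -/
noncomputable abbrev locStr : locX f y ⟶ Spec (CommRingCat.of (Ay y)) :=
  pullback.snd f (Y.fromSpecStalk y)

/-- `X ×_Y Spec 𝒪_{Y,y}` as a scheme over `Spec 𝒪_{Y,y}` -/
@[reducible] noncomputable def locOver : (locX f y).Over (Spec (CommRingCat.of (Ay y))) :=
  ⟨locStr f y⟩

attribute [local instance] locOver

instance : IsProper ((locX f y) ↘ Spec (CommRingCat.of (Ay y))) :=
  inferInstanceAs (IsProper (pullback.snd f (Y.fromSpecStalk y)))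

instance : Flat ((locX f y) ↘ Spec (CommRingCat.of (Ay y))) :=
  inferInstanceAs (Flat (pullback.snd f (Y.fromSpecStalk y)))

/-- the closed fibre of the localised family is the fibre of `f` at `y` -/
theorem exists_iso_closedFibre :
    ∃ e : Zf (Ay y) (locX f y) ≅ f.fiber y,
      e.hom ≫ f.fiberι y = ιf (Ay y) (locX f y) ≫ pullback.fst f (Y.fromSpecStalk y) := by
  have top := (isPullback_fiber (Ay y) (locX f y)).flip
  have bot := (IsPullback.of_hasPullback f (Y.fromSpecStalk y)).flip
  have big := (top.paste_vert bot).flip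
  have hr : (Spec (CommRingCat.of (Ay y))).fromSpecResidueField (IsLocalRing.closedPoint (Ay y)) ≫
      Y.fromSpecStalk y = (specResIso (Ay y)).hom ≫ Y.fromSpecResidueField y := by
    rw [← specResIso_hom_comp, Category.assoc]
    rfl
  rw [hr] at big
  have sq' := IsPullback.of_iso big (Iso.refl _) (Iso.refl _) (specResIso (Ay y)) (Iso.refl _)
    (fst' := ιf (Ay y) (locX f y) ≫ pullback.fst f (Y.fromSpecStalk y))
    (snd' := ((locX f y) ↘ Spec (CommRingCat.of (Ay y))).fiberToSpecResidueField
      (IsLocalRing.closedPoint (Ay y)) ≫ (specResIso (Ay y)).hom)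
    (f' := f) (g' := Y.fromSpecResidueField y)
    (by simp) (by simp) (by simp) (by simp)
  exact ⟨sq'.isoPullback, sq'.isoPullback_hom_fst⟩


variable (F G : X.Modules)

/-- **Isomorphism over the local ring**: if `F_y ≅ G_y` and `H¹(X_y, ℋom(F_y,F_y)) = 0`, the
pullbacks of `F` and `G` to `X ×_Y Spec 𝒪_{Y,y}` are isomorphic. -/
theorem nonempty_iso_pullback_locX (hF : FlatMod.IsFinLocFree F) (hG : FlatMod.IsFinLocFree G)
    [DCoh.HasSheafHom (CohIII.fiberMod f F y)]
    (h1 : Subsingleton (Coh.HH (f.fiber y)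
      ((DCoh.sheafHom (CohIII.fiberMod f F y)).obj (CohIII.fiberMod f F y)) 1))
    (hy : Nonempty (CohIII.fiberMod f F y ≅ CohIII.fiberMod f G y)) :
    Nonempty ((Scheme.Modules.pullback (pullback.fst f (Y.fromSpecStalk y))).obj F ≅
      (Scheme.Modules.pullback (pullback.fst f (Y.fromSpecStalk y))).obj G) := by
  obtain ⟨ε⟩ := hy
  obtain ⟨e, he⟩ := exists_iso_closedFibre f y
  let π₁ := pullback.fst f (Y.fromSpecStalk y)
  let ι := ιf (Ay y) (locX f y)
  let F' := (Scheme.Modules.pullback π₁).obj F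
  let G' := (Scheme.Modules.pullback π₁).obj G
  have hF' : FlatMod.IsFinLocFree F' := isFinLocFree_pullback π₁ hF
  have hG' : FlatMod.IsFinLocFree G' := isFinLocFree_pullback π₁ hG
  have hFy : FlatMod.IsFinLocFree (CohIII.fiberMod f F y) := isFinLocFree_pullback _ hF
  have hGy : FlatMod.IsFinLocFree (CohIII.fiberMod f G y) := isFinLocFree_pullback _ hG
  haveI : DCoh.HasSheafHom F' :=
    Groth.Agent.Lib.Helper17.Tensor.isLeftAdjoint_obj (O := (locX f y).sheaf) F'
  haveI : DCoh.HasSheafHom ((Scheme.Modules.pullback ι).obj F') :=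
    Groth.Agent.Lib.Helper17.Tensor.isLeftAdjoint_obj (O := (Zf (Ay y) (locX f y)).sheaf) _
  haveI : DCoh.HasSheafHom ((Scheme.Modules.pullback e.hom).obj (CohIII.fiberMod f F y)) :=
    Groth.Agent.Lib.Helper17.Tensor.isLeftAdjoint_obj (O := (Zf (Ay y) (locX f y)).sheaf) _
  -- the identifications on the closed fibre
  let a : (Scheme.Modules.pullback ι).obj F' ≅
      (Scheme.Modules.pullback e.hom).obj (CohIII.fiberMod f F y) := pullSqIso he.symm F
  let b : (Scheme.Modules.pullback ι).obj G' ≅
      (Scheme.Modules.pullback e.hom).obj (CohIII.fiberMod f G y) := pullSqIso he.symm G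
  let u₀ : (Scheme.Modules.pullback ι).obj F' ≅ (Scheme.Modules.pullback ι).obj G' :=
    a ≪≫ (Scheme.Modules.pullback e.hom).mapIso ε ≪≫ b.symm
  have h1' : Subsingleton (Coh.HH (Zf (Ay y) (locX f y))
      ((DCoh.sheafHom ((Scheme.Modules.pullback ι).obj F')).obj
        ((Scheme.Modules.pullback ι).obj G')) 1) := by
    obtain ⟨q⟩ := nonempty_HH_sheafHom_addEquiv e.hom (CohIII.fiberMod f F y)
      (CohIII.fiberMod f F y) hFy hFy 1
    let j : (DCoh.sheafHom ((Scheme.Modules.pullback ι).obj F')).obj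
        ((Scheme.Modules.pullback ι).obj G') ≅
        (DCoh.sheafHom ((Scheme.Modules.pullback e.hom).obj (CohIII.fiberMod f F y))).obj
          ((Scheme.Modules.pullback e.hom).obj (CohIII.fiberMod f F y)) :=
      dsheafHomCongr₂ a (u₀.symm ≪≫ a)
    exact ((HHaddEquivOfIso j 1).trans q).injective.subsingleton
  obtain ⟨u, hu⟩ := exists_lift (Ay y) (locX f y) F' G' hF' hG' h1' u₀.hom
  haveI := isQuasicoherent_of_isFinLocFree hF'
  haveI := isQuasicoherent_of_isFinLocFree hG'
  haveI := isFinitePresentation_of_isFinLocFree hG'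
  haveI : Mono u := mono_of_mono_pullback (Ay y) (locX f y) hF' hG' u (by rw [hu]; infer_instance)
  haveI : Epi u := epi_of_epi_pullback (Ay y) (locX f y) u (by rw [hu]; infer_instance)
  haveI : IsIso u := isIso_of_mono_of_epi u
  exact ⟨asIso u⟩

end loc

end Groth.Agent.Helper19.NearFib
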