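import Mathlib
import Groth.Agent.Helper19.NearFib3
import Groth.Agent.Lib.Helper12.HomGlue6
import Groth.Agent.Lib.Helper29.RelAmple
set_option autoImplicit false
universe u

open CategoryTheory CategoryTheory.Limits AlgebraicGeometry Opposite TopologicalSpace

namespace Groth.Agent.Helper19.NearFib

open Groth.Agent.Helper19.HomLift Groth.Agent.Lib.Helper29.QCoh

section main

variable {X Y : Scheme.{u}} (f : X ⟶ Y) [IsProper f] [Flat f] [IsLocallyNoetherian Y] (y : Y)
  (F G : X.Modules)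

/-- **Finite locally free modules isomorphic on a fibre with `H¹(End) = 0` are isomorphic near
the fibre.** -/
theorem exists_open_iso_near_fibre (hF : FlatMod.IsFinLocFree F) (hG : FlatMod.IsFinLocFree G)
    [DCoh.HasSheafHom (CohIII.fiberMod f F y)]
    (h1 : Subsingleton (Coh.HH (f.fiber y)
      ((DCoh.sheafHom (CohIII.fiberMod f F y)).obj (CohIII.fiberMod f F y)) 1))
    (hy : Nonempty (CohIII.fiberMod f F y ≅ CohIII.fiberMod f G y)) :
    ∃ U : Y.Opens, y ∈ U ∧ Nonempty (F.restrict (f ⁻¹ᵁ U).ι ≅ G.restrict (f ⁻¹ᵁ U).ι) := by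
  obtain ⟨ψ⟩ := nonempty_iso_pullback_locX f y F G hF hG h1 hy
  obtain ⟨V, hV, hyV, -⟩ :=
    exists_isAffineOpen_mem_and_subset (x := y) (U := (⊤ : Y.Opens)) trivial
  obtain ⟨hc⟩ := nonempty_isLimit_locCone f hV hyV
  haveI : Nonempty (Idx V y) := ⟨Idx.one hyV⟩
  haveI : ∀ {i j : Idx V y} (φ : i ⟶ j), IsAffineHom ((diag f V y).map φ) :=
    fun φ => isAffineHom_homOfLE f hV φ.le
  let i₀ : Idx V y := Idx.one hyV
  let ι₀ : (preOpen f V y i₀ : Scheme.{u}) ⟶ X := (preOpen f V y i₀).ι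
  let F₀ : ((diag f V y).obj i₀).Modules := (Scheme.Modules.pullback ι₀).obj F
  let G₀ : ((diag f V y).obj i₀).Modules := (Scheme.Modules.pullback ι₀).obj G
  have hF₀ : FlatMod.IsFinLocFree F₀ := isFinLocFree_pullback ι₀ hF
  have hG₀ : FlatMod.IsFinLocFree G₀ := isFinLocFree_pullback ι₀ hG
  haveI := isQuasicoherent_of_isFinLocFree hF₀
  haveI := isQuasicoherent_of_isFinLocFree hG₀
  haveI := isFinitePresentation_of_isFinLocFree hF₀
  haveI := isFinitePresentation_of_isFinLocFree hG₀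
  have hW : IsAffineOpen (Y.basicOpen i₀.1) := hV.basicOpen i₀.1
  haveI : CompactSpace ((diag f V y).obj i₀) := by
    have hcpt : IsCompact ((preOpen f V y i₀ : X.Opens) : Set X) :=
      QuasiCompact.isCompact_preimage (f := f) _ (Y.basicOpen i₀.1).2 hW.isCompact
    exact isCompact_iff_compactSpace.mp hcpt
  haveI : QuasiSeparatedSpace ((diag f V y).obj i₀) := by
    change QuasiSeparatedSpace (preOpen f V y i₀ : Scheme.{u})
    haveI : IsAffine (Y.basicOpen i₀.1 : Scheme.{u}) := hW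
    exact quasiSeparatedSpace_of_quasiSeparated (f ∣_ Y.basicOpen i₀.1)
  -- the isomorphism over the local ring, rewritten through stage `i₀`
  have e₀ : coneπ f i₀ ≫ ι₀ = pullback.fst f (Y.fromSpecStalk y) := coneπ_ι f i₀
  have key : Nonempty ((Scheme.Modules.pullback ((locCone f V (y := y)).π.app i₀)).obj F₀ ≅
      (Scheme.Modules.pullback ((locCone f V (y := y)).π.app i₀)).obj G₀) := by
    change Nonempty ((Scheme.Modules.pullback (coneπ f i₀)).obj F₀ ≅
      (Scheme.Modules.pullback (coneπ f i₀)).obj G₀)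
    exact ⟨Groth.Agent.Lib.Helper12.H12HomGlue.compIso (coneπ f i₀) ι₀ _ e₀ F ≪≫ ψ ≪≫
      (Groth.Agent.Lib.Helper12.H12HomGlue.compIso (coneπ f i₀) ι₀ _ e₀ G).symm⟩
  obtain ⟨j, φ, ⟨θ⟩⟩ :=
    (Groth.Agent.Lib.Helper12.H12HomGlue.nonempty_iso_pullback_iff_stage (diag f V y)
      (locCone f V) hc i₀ F₀ G₀).mp key
  refine ⟨Y.basicOpen j.1, j.2, ?_⟩
  have e₁ : (diag f V y).map φ ≫ ι₀ = (preOpen f V y j).ι := by
    rw [diag_map]
    exact Scheme.homOfLE_ι _ _
  change Nonempty (F.restrict (preOpen f V y j).ι ≅ G.restrict (preOpen f V y j).ι)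
  exact ⟨restrictIsoPullback (preOpen f V y j).ι F ≪≫
    (Groth.Agent.Lib.Helper12.H12HomGlue.compIso ((diag f V y).map φ) ι₀ _ e₁ F).symm ≪≫ θ ≪≫
    Groth.Agent.Lib.Helper12.H12HomGlue.compIso ((diag f V y).map φ) ι₀ _ e₁ G ≪≫
    (restrictIsoPullback (preOpen f V y j).ι G).symm⟩

end main

end Groth.Agent.Helper19.NearFib
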