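import Mathlib
import Groth.Agent.Helper19.NearFib1
import Groth.Agent.Lib.Helper12.HomGlue5
import Groth.Agent.Lib.Helper12.ModLim1
import Groth.Agent.Lib.Helper29.RelAmple
import Groth.Agent.Lib.Helper29.Twist4
import Groth.Agent.Lib.Helper29.GGDesc1
import Groth.Agent.Lib.Helper29.SerreA
set_option autoImplicit false
universe u

open CategoryTheory CategoryTheory.Limits AlgebraicGeometry Opposite TopologicalSpace

namespace Groth.Agent.Helper19.NearFib

open Groth.Agent.Lib.Helper29.QCoh Groth.Agent.Lib.Helper12.H12HomGlue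

section gg

variable {X Y : Scheme.{u}} (f : X ⟶ Y) [IsProper f] (y : Y) (L : X.Modules)

theorem isGloballyGenerated_freeMod (Z : Scheme.{u}) (k : ℕ) :
    Curv2.IsGloballyGenerated (FlatMod.freeMod Z k) :=
  isGloballyGenerated_of_iso (freeModIso Z k).symm
    ⟨ULift.{u} (Fin k), 𝟙 _, (inferInstance : Epi (𝟙 (freeM Z (ULift.{u} (Fin k)))))⟩

theorem isGloballyGenerated_of_epi {Z : Scheme.{u}} {M N : Z.Modules} (q : M ⟶ N) (hq : Epi q)
    (h : Curv2.IsGloballyGenerated M) : Curv2.IsGloballyGenerated N := by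
  obtain ⟨ι, p, hp⟩ := h
  have hp' : @Epi Z.Modules _ _ _ p := hp
  have h2 : @Epi Z.Modules _ _ _ (p ≫ q) := @epi_comp _ _ _ _ _ p hp' q hq
  exact ⟨ι, p ≫ q, h2⟩

/-- **Global generation spreads out from the local scheme of the base at a point.** -/
theorem exists_open_isGloballyGenerated (hL : PicF.IsInvertible L)
    (h : Curv2.IsGloballyGenerated
      ((Scheme.Modules.pullback (pullback.fst f (Y.fromSpecStalk y))).obj L)) :
    ∃ V : Y.Opens, y ∈ V ∧ Curv2.IsGloballyGenerated (L.restrict (f ⁻¹ᵁ V).ι) := by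
  obtain ⟨V, hV, hyV, -⟩ :=
    exists_isAffineOpen_mem_and_subset (x := y) (U := (⊤ : Y.Opens)) trivial
  obtain ⟨hc⟩ := nonempty_isLimit_locCone f hV hyV
  have : Nonempty (Idx V y) := ⟨Idx.one hyV⟩
  have : ∀ {i j : Idx V y} (φ : i ⟶ j), IsAffineHom ((diag f V y).map φ) :=
    fun φ => isAffineHom_homOfLE f hV φ.le
  let i₀ : Idx V y := Idx.one hyV
  let ι₀ : (preOpen f V y i₀ : Scheme.{u}) ⟶ X := (preOpen f V y i₀).ι
  let L₀ : ((diag f V y).obj i₀).Modules := (Scheme.Modules.pullback ι₀).obj L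
  have hL₀ : PicF.IsInvertible L₀ := isInvertible_pullback ι₀ hL
  have := isQuasicoherent_of_isInvertible hL
  have := isFiniteType_of_isInvertible hL
  have := isQuasicoherent_of_isInvertible hL₀
  have := isFiniteType_of_isInvertible hL₀
  -- the local scheme is quasi-compact
  haveI : CompactSpace (locX f y) :=
    QuasiCompact.compactSpace_of_compactSpace (pullback.snd f (Y.fromSpecStalk y))
  obtain ⟨k, p, hp⟩ := exists_epi_freeMod_of_isGloballyGenerated
    ((Scheme.Modules.pullback (pullback.fst f (Y.fromSpecStalk y))).obj L) h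
  let F₀ : ((diag f V y).obj i₀).Modules := FlatMod.freeMod ((diag f V y).obj i₀) k
  have hF₀ : FlatMod.IsFinLocFree F₀ := isFinLocFree_of_iso_freeMod (Iso.refl _)
  have := isQuasicoherent_of_isFinLocFree hF₀
  have := isFinitePresentation_of_isFinLocFree hF₀
  have hW : IsAffineOpen (Y.basicOpen i₀.1) := hV.basicOpen i₀.1
  haveI : CompactSpace ((diag f V y).obj i₀) := by
    have hcpt : IsCompact ((preOpen f V y i₀ : X.Opens) : Set X) :=
      QuasiCompact.isCompact_preimage (f := f) _ (Y.basicOpen i₀.1).2 hW.isCompact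
    exact isCompact_iff_compactSpace.mp hcpt
  haveI : QuasiSeparatedSpace ((diag f V y).obj i₀) := by
    change QuasiSeparatedSpace (preOpen f V y i₀ : Scheme.{u})
    haveI : IsAffine (Y.basicOpen i₀.1 : Scheme.{u}) := hW
    exact quasiSeparatedSpace_of_quasiSeparated (f ∣_ Y.basicOpen i₀.1)
  have e₀ : coneπ f i₀ ≫ ι₀ = pullback.fst f (Y.fromSpecStalk y) := coneπ_ι f i₀
  -- the epimorphism, rewritten through stage `i₀`
  let ε : (Scheme.Modules.pullback ((locCone f V (y := y)).π.app i₀)).obj F₀ ⟶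
      (Scheme.Modules.pullback ((locCone f V (y := y)).π.app i₀)).obj L₀ :=
    (pullbackFreeModIso (coneπ f i₀) k).hom ≫ p ≫ (compIso (coneπ f i₀) ι₀ _ e₀ L).inv
  have hε : Epi ε := by
    have hp' : @Epi (locX f y).Modules _ _ _ p := hp
    have h2 : Epi (p ≫ (compIso (coneπ f i₀) ι₀ _ e₀ L).inv) :=
      @epi_comp _ _ _ _ _ p hp' _ inferInstance
    exact @epi_comp _ _ _ _ _ (pullbackFreeModIso (coneπ f i₀) k).hom inferInstance _ h2
  obtain ⟨j, φ, hj, hhj⟩ := exists_stage_hom_pullback (diag f V y) (locCone f V) hc i₀ F₀ L₀ ε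
  have hepi : Epi ((Scheme.Modules.pullback ((locCone f V (y := y)).π.app j)).map hj) := by
    have h1 : (Scheme.Modules.pullback ((locCone f V (y := y)).π.app j)).map hj =
        ((Scheme.Modules.pullbackComp ((locCone f V (y := y)).π.app j) ((diag f V y).map φ) ≪≫
          Scheme.Modules.pullbackCongr ((locCone f V (y := y)).w φ)).app F₀).hom ≫ ε ≫
        ((Scheme.Modules.pullbackComp ((locCone f V (y := y)).π.app j) ((diag f V y).map φ) ≪≫
          Scheme.Modules.pullbackCongr ((locCone f V (y := y)).w φ)).app L₀).inv := by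
      rw [← hhj]
      simp
    rw [h1]
    have h2 : Epi (ε ≫ ((Scheme.Modules.pullbackComp ((locCone f V (y := y)).π.app j)
        ((diag f V y).map φ) ≪≫
          Scheme.Modules.pullbackCongr ((locCone f V (y := y)).w φ)).app L₀).inv) :=
      @epi_comp _ _ _ _ _ ε hε _ inferInstance
    exact @epi_comp _ _ _ _ _ _ inferInstance _ h2
  haveI : CompactSpace ((diag f V y).obj j) :=
    QuasiCompact.compactSpace_of_compactSpace ((diag f V y).map φ)
  obtain ⟨j', ψ, hψ⟩ := (Groth.Agent.Lib.Helper12.H12ModLim.epi_pullback_iff_stage (diag f V y)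
    (locCone f V) hc j hj).mp hepi
  refine ⟨Y.basicOpen j'.1, j'.2, ?_⟩
  change Curv2.IsGloballyGenerated (L.restrict (preOpen f V y j').ι)
  have e₁ : (diag f V y).map (ψ ≫ φ) ≫ ι₀ = (preOpen f V y j').ι := by
    rw [diag_map]
    exact Scheme.homOfLE_ι _ _
  have hgg : Curv2.IsGloballyGenerated ((Scheme.Modules.pullback ((diag f V y).map ψ)).obj
      ((Scheme.Modules.pullback ((diag f V y).map φ)).obj F₀)) :=
    Groth.Agent.Lib.Helper29.GGDesc.isGloballyGenerated_pullback _ _
      (Groth.Agent.Lib.Helper29.GGDesc.isGloballyGenerated_pullback _ _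
        (isGloballyGenerated_freeMod _ k))
  have h3 := isGloballyGenerated_of_epi _ hψ hgg
  exact isGloballyGenerated_of_iso
    (compIso ((diag f V y).map ψ) ((diag f V y).map φ) _ ((diag f V y).map_comp ψ φ).symm L₀ ≪≫
      compIso ((diag f V y).map (ψ ≫ φ)) ι₀ _ e₁ L ≪≫
      (restrictIsoPullback (preOpen f V y j').ι L).symm) h3

end gg

end Groth.Agent.Helper19.NearFib
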