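import Mathlib
import Groth.Agent.Helper19.NearFib1
import Groth.Agent.Lib.Helper12.ModGlue16
import Groth.Agent.Lib.Helper12.ModLim11
import Groth.Agent.Lib.Helper12.HomGlue3
import Groth.Agent.Lib.Helper29.RelAmple
import Groth.Agent.Lib.Helper29.SerreA
set_option autoImplicit false
universe u

open CategoryTheory CategoryTheory.Limits AlgebraicGeometry Opposite TopologicalSpace

namespace Groth.Agent.Helper19.NearFib

open Groth.Agent.Lib.Helper29.QCoh Groth.Agent.Lib.Helper12.H12HomGlue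

section invdesc

theorem isInvertible_iff_rank_one {Z : Scheme.{u}} (M : Z.Modules) :
    PicF.IsInvertible M ↔ FlatMod.IsFinLocFreeOfRank 1 M := by
  constructor
  · intro h x
    obtain ⟨U, hx, ⟨e⟩⟩ := h x
    exact ⟨U, hx, ⟨e ≪≫ (freeModOneIso _).symm⟩⟩
  · intro h x
    obtain ⟨U, hx, ⟨e⟩⟩ := h x
    exact ⟨U, hx, ⟨e ≪≫ freeModOneIso _⟩⟩

variable {X S : Scheme.{u}} (f : X ⟶ S) [IsProper f] (s : S)

/-- **An invertible module on `X ×_S Spec O_{S,s}` comes from a neighbourhood of the fibre.** -/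
theorem exists_open_invertible_descend
    (L : (pullback f (S.fromSpecStalk s)).Modules) (hL : PicF.IsInvertible L) :
    ∃ (V : S.Opens) (_ : s ∈ V) (L' : (↑(f ⁻¹ᵁ V) : Scheme.{u}).Modules), PicF.IsInvertible L' ∧
      ∀ (ι : pullback f (S.fromSpecStalk s) ⟶ ↑(f ⁻¹ᵁ V)),
        ι ≫ (f ⁻¹ᵁ V).ι = pullback.fst f (S.fromSpecStalk s) →
        Nonempty ((Scheme.Modules.pullback ι).obj L' ≅ L) := by
  obtain ⟨V, hV, hsV, -⟩ :=
    exists_isAffineOpen_mem_and_subset (x := s) (U := (⊤ : S.Opens)) trivial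
  obtain ⟨hc⟩ := nonempty_isLimit_locCone f hV hsV
  have : Nonempty (Idx V s) := ⟨Idx.one hsV⟩
  have : ∀ {i j : Idx V s} (φ : i ⟶ j), IsAffineHom ((diag f V s).map φ) :=
    fun φ => isAffineHom_homOfLE f hV φ.le
  let i₀ : Idx V s := Idx.one hsV
  have hW : IsAffineOpen (S.basicOpen i₀.1) := hV.basicOpen i₀.1
  haveI : CompactSpace ((diag f V s).obj i₀) := by
    have hcpt : IsCompact ((preOpen f V s i₀ : X.Opens) : Set X) :=
      QuasiCompact.isCompact_preimage (f := f) _ (S.basicOpen i₀.1).2 hW.isCompact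
    exact isCompact_iff_compactSpace.mp hcpt
  haveI : QuasiSeparatedSpace ((diag f V s).obj i₀) := by
    change QuasiSeparatedSpace (preOpen f V s i₀ : Scheme.{u})
    haveI : IsAffine (S.basicOpen i₀.1 : Scheme.{u}) := hW
    exact quasiSeparatedSpace_of_quasiSeparated (f ∣_ S.basicOpen i₀.1)
  have hL1 : FlatMod.IsFinLocFreeOfRank 1 L := (isInvertible_iff_rank_one L).mp hL
  have hLf : FlatMod.IsFinLocFree L := fun x => by
    obtain ⟨U, hx, e⟩ := hL1 x
    exact ⟨U, 1, hx, e⟩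
  let L₁ : (locCone f V (y := s)).pt.Modules := L
  haveI : L₁.IsQuasicoherent := isQuasicoherent_of_isFinLocFree hLf
  haveI : L₁.IsFinitePresentation := isFinitePresentation_of_isFinLocFree hLf
  obtain ⟨i, φ, Li, hLi1, hLi2, ⟨eL⟩⟩ :=
    Groth.Agent.Lib.Helper12.H12ModGlue.exists_module_descend (diag f V s) (locCone f V) hc i₀ L₁
  haveI := hLi1
  haveI := hLi2
  haveI : CompactSpace ((diag f V s).obj i) :=
    QuasiCompact.compactSpace_of_compactSpace ((diag f V s).map φ)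
  -- rank one at a stage
  have htop : Groth.Agent.Lib.Helper12.H12ModLim.freeLocus
      ((Scheme.Modules.pullback ((locCone f V (y := s)).π.app i)).obj Li) (· = 1) = ⊤ := by
    have h1 : Groth.Agent.Lib.Helper12.H12ModLim.freeLocus L₁ (· = 1) = ⊤ :=
      (Groth.Agent.Lib.Helper12.H12ModLim.isFinLocFreeOfRank_iff_freeLocus 1 L₁).mp hL1
    exact top_le_iff.mp (h1 ▸
      Groth.Agent.Lib.Helper12.H12ModLim.freeLocus_le_of_iso eL.symm (· = 1))
  obtain ⟨j, ψ, hj⟩ := (Groth.Agent.Lib.Helper12.H12ModLim.freeLocus_eq_top_iff_stage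
    (diag f V s) (locCone f V) hc i Li (· = 1)).mp htop
  have hL'1 : FlatMod.IsFinLocFreeOfRank 1
      ((Scheme.Modules.pullback ((diag f V s).map ψ)).obj Li) :=
    (Groth.Agent.Lib.Helper12.H12ModLim.isFinLocFreeOfRank_iff_freeLocus 1 _).mpr hj
  refine ⟨S.basicOpen j.1, j.2, (Scheme.Modules.pullback ((diag f V s).map ψ)).obj Li,
    (isInvertible_iff_rank_one _).mpr hL'1, fun ι hι => ?_⟩
  have hιeq : ι = coneπ f j := by
    rw [← cancel_mono (preOpen f V s j).ι]
    exact hι.trans (coneπ_ι f j).symm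
  subst hιeq
  exact ⟨compIso (coneπ f j) ((diag f V s).map ψ) (coneπ f i) ((locCone f V (y := s)).w ψ) Li ≪≫ eL⟩

end invdesc

end Groth.Agent.Helper19.NearFib
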