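import Mathlib.CategoryTheory.Comma.Over.Pullback
import Mathlib.CategoryTheory.Limits.Shapes.Pullback.IsPullback.Basic

/-!
# Formal manipulations with the "Néron mapping property"

`NMP N Z p` : for objects `N Z` over `Y` and a map `p : W ⟶ Z.left` (thought of as the inclusion of the
restriction of `Z` to an open of the base), every `Y`-morphism `W ⟶ N` extends uniquely to a `Y`-morphism `Z ⟶ N`.
`bijective_iff_of_isPullback` : bijectivity of `g ↦ (Over.pullback f).map g` on `Z ⟶ N` is `NMP N Z p` for
any pullback square `p, q` of `Z.hom` and `f`.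
-/

namespace Groth.Agent.Helper19.NeronFormal

open CategoryTheory Limits

universe v u
variable {C : Type u} [Category.{v} C] [HasPullbacks C]

/-- unique extension property along `p`. -/
def NMP {Y : C} (N Z : Over Y) {W : C} (p : W ⟶ Z.left) : Prop :=
  ∀ h : W ⟶ N.left, h ≫ N.hom = p ≫ Z.hom →
    ∃! g : Z.left ⟶ N.left, g ≫ N.hom = Z.hom ∧ p ≫ g = h

omit [HasPullbacks C] in
theorem nmp_precomp_iso {Y : C} (N Z : Over Y) {W W' : C} (e : W' ≅ W) (p : W ⟶ Z.left) :
    NMP N Z (e.hom ≫ p) ↔ NMP N Z p := by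
  constructor
  · intro H h hh
    obtain ⟨g, ⟨hg1, hg2⟩, hu⟩ := H (e.hom ≫ h) (by rw [Category.assoc, hh, Category.assoc])
    refine ⟨g, ⟨hg1, ?_⟩, ?_⟩
    · rw [Category.assoc] at hg2
      exact (cancel_epi e.hom).mp hg2
    · rintro g' ⟨h1, h2⟩
      exact hu g' ⟨h1, by rw [Category.assoc, h2]⟩
  · intro H h hh
    obtain ⟨g, ⟨hg1, hg2⟩, hu⟩ := H (e.inv ≫ h) (by
      rw [Category.assoc, hh, Category.assoc, e.inv_hom_id_assoc])
    refine ⟨g, ⟨hg1, ?_⟩, ?_⟩
    · rw [Category.assoc, hg2, e.hom_inv_id_assoc]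
    · rintro g' ⟨h1, h2⟩
      exact hu g' ⟨h1, by rw [← h2, Category.assoc, e.inv_hom_id_assoc]⟩

theorem bijective_iff {X Y : C} (f : X ⟶ Y) (N Z : Over Y) :
    Function.Bijective (fun g : Z ⟶ N => (Over.pullback f).map g) ↔
      NMP N Z (pullback.fst Z.hom f) := by
  have hleft : ∀ g : Z ⟶ N, ((Over.pullback f).map g).left ≫ pullback.fst N.hom f =
      pullback.fst Z.hom f ≫ g.left := fun g => by
    exact pullback.lift_fst _ _ _
  have hright : ∀ g : Z ⟶ N, ((Over.pullback f).map g).left ≫ pullback.snd N.hom f =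
      pullback.snd Z.hom f := fun g => by
    exact pullback.lift_snd _ _ _
  constructor
  · rintro ⟨hinj, hsurj⟩ h hh
    obtain ⟨g, hg⟩ := hsurj (Over.homMk (pullback.lift h (pullback.snd _ _)
      (by rw [hh, pullback.condition])) (pullback.lift_snd _ _ _))
    have hg2 : (Over.pullback f).map g = Over.homMk (pullback.lift h (pullback.snd _ _)
      (by rw [hh, pullback.condition])) (pullback.lift_snd _ _ _) := hg
    have hg' : pullback.fst Z.hom f ≫ g.left = h := by
      rw [← hleft, hg2]
      exact pullback.lift_fst _ _ _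
    refine ⟨g.left, ⟨Over.w g, hg'⟩, ?_⟩
    rintro g' ⟨h1, h2⟩
    have : Over.homMk g' h1 = g := by
      apply hinj
      apply Over.OverMorphism.ext
      apply pullback.hom_ext
      · show ((Over.pullback f).map (Over.homMk g' h1)).left ≫ _ = ((Over.pullback f).map g).left ≫ _
        rw [hleft, hleft, hg']
        exact h2
      · show ((Over.pullback f).map (Over.homMk g' h1)).left ≫ _ = ((Over.pullback f).map g).left ≫ _
        rw [hright, hright]
    rw [← this]
    rfl
  · intro H
    constructor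
    · intro g g' hgg'
      have hgg2 : (Over.pullback f).map g = (Over.pullback f).map g' := hgg'
      have h1 : pullback.fst Z.hom f ≫ g.left = pullback.fst Z.hom f ≫ g'.left := by
        rw [← hleft, ← hleft, hgg2]
      obtain ⟨g₀, -, hu⟩ := H (pullback.fst Z.hom f ≫ g.left) (by rw [Category.assoc, Over.w g])
      apply Over.OverMorphism.ext
      rw [hu g.left ⟨Over.w g, rfl⟩, hu g'.left ⟨Over.w g', h1.symm⟩]
    · intro φ
      have hφ : φ.left ≫ pullback.snd N.hom f = pullback.snd Z.hom f := Over.w φ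
      obtain ⟨g, ⟨hg1, hg2⟩, -⟩ := H (φ.left ≫ pullback.fst N.hom f) (by
        rw [Category.assoc, pullback.condition, ← Category.assoc, hφ, pullback.condition])
      refine ⟨Over.homMk g hg1, ?_⟩
      apply Over.OverMorphism.ext
      apply pullback.hom_ext
      · show ((Over.pullback f).map (Over.homMk g hg1)).left ≫ _ = _
        rw [hleft]
        exact hg2
      · show ((Over.pullback f).map (Over.homMk g hg1)).left ≫ _ = _
        rw [hright, hφ]

theorem bijective_iff_of_isPullback {X Y : C} (f : X ⟶ Y) (N Z : Over Y) {W : C}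
    {p : W ⟶ Z.left} {q : W ⟶ X} (hsq : IsPullback p q Z.hom f) :
    Function.Bijective (fun g : Z ⟶ N => (Over.pullback f).map g) ↔ NMP N Z p := by
  rw [bijective_iff, ← nmp_precomp_iso N Z hsq.isoPullback (pullback.fst Z.hom f),
    IsPullback.isoPullback_hom_fst]

end Groth.Agent.Helper19.NeronFormal
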