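import Mathlib.AlgebraicGeometry.Pullbacks
import Mathlib.AlgebraicGeometry.OpenImmersion
import Groth.Agent.Helper19.NeronFormal

/-!
# Restriction to nested opens `S₀ ≤ S₁` of a scheme `S`, as pullback squares
-/

namespace Groth.Agent.Helper19.NeronOpens

open CategoryTheory AlgebraicGeometry Limits

universe u

theorem exists_iso (S : Scheme.{u}) (S₀ S₁ : S.Opens) (h01 : S₀ ≤ S₁) :
    ∃ ε : (S₀ : Scheme.{u}) ≅ ((S₁.ι ⁻¹ᵁ S₀ : (S₁ : Scheme.{u}).Opens) : Scheme.{u}),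
      ε.hom ≫ (S₁.ι ⁻¹ᵁ S₀).ι ≫ S₁.ι = S₀.ι := by
  have e : Set.range S₀.ι = Set.range ((S₁.ι ⁻¹ᵁ S₀).ι ≫ S₁.ι) := by
    rw [Scheme.Hom.comp_base, TopCat.coe_comp, Set.range_comp, Scheme.Opens.range_ι,
      Scheme.Opens.range_ι]
    show (S₀ : Set S) = S₁.ι '' (S₁.ι ⁻¹' (S₀ : Set S))
    rw [Set.image_preimage_eq_inter_range, Scheme.Opens.range_ι]
    exact (Set.inter_eq_left.mpr h01).symm
  exact ⟨IsOpenImmersion.isoOfRangeEq S₀.ι ((S₁.ι ⁻¹ᵁ S₀).ι ≫ S₁.ι) e,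
    IsOpenImmersion.isoOfRangeEq_hom_fac _ _ _⟩

/-- The restriction of `Z` to `S₀` is the restriction to `S₁.ι ⁻¹ᵁ S₀` of the restriction of `Z` to `S₁`. -/
theorem isPullback_restrict {S : Scheme.{u}} (S₀ S₁ : S.Opens) (h01 : S₀ ≤ S₁) (Z : Over S) :
    ∃ (r : pullback Z.hom S₀.ι ⟶ pullback Z.hom S₁.ι)
      (q : pullback Z.hom S₀.ι ⟶ ((S₁.ι ⁻¹ᵁ S₀ : (S₁ : Scheme.{u}).Opens) : Scheme.{u})),
      r ≫ pullback.fst Z.hom S₁.ι = pullback.fst Z.hom S₀.ι ∧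
      IsPullback r q (pullback.snd Z.hom S₁.ι) (S₁.ι ⁻¹ᵁ S₀).ι := by
  obtain ⟨ε, hε⟩ := exists_iso S S₀ S₁ h01
  have hcond : pullback.fst Z.hom S₀.ι ≫ Z.hom =
      (pullback.snd Z.hom S₀.ι ≫ ε.hom ≫ (S₁.ι ⁻¹ᵁ S₀).ι) ≫ S₁.ι := by
    rw [Category.assoc, Category.assoc, hε, pullback.condition]
  refine ⟨pullback.lift (pullback.fst Z.hom S₀.ι)
    (pullback.snd Z.hom S₀.ι ≫ ε.hom ≫ (S₁.ι ⁻¹ᵁ S₀).ι) hcond,
    pullback.snd Z.hom S₀.ι ≫ ε.hom, pullback.lift_fst _ _ _, ?_⟩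
  have big : IsPullback (pullback.fst Z.hom S₀.ι) (pullback.snd Z.hom S₀.ι ≫ ε.hom) Z.hom
      ((S₁.ι ⁻¹ᵁ S₀).ι ≫ S₁.ι) :=
    IsPullback.of_iso (IsPullback.of_hasPullback Z.hom S₀.ι) (Iso.refl _) (Iso.refl _) ε (Iso.refl _)
      (by simp) (by simp) (by simp) (by simp [hε])
  refine IsPullback.of_right ?_ ?_ (IsPullback.of_hasPullback Z.hom S₁.ι)
  · rw [pullback.lift_fst]; exact big
  · rw [pullback.lift_snd, Category.assoc]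

end Groth.Agent.Helper19.NeronOpens
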