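import Mathlib
import Groth.Agent.Helper19.NoetherT

/-!
# Refined Noether normalization: the inductive step (helper19)
-/

set_option autoImplicit false
universe u

namespace Groth.Agent.Helper19.NoetherT

open MvPolynomial

variable {k : Type u} [Field k] {n : ℕ}

/-- inclusion of the last `n` variables -/
noncomputable abbrev incl : MvPolynomial (Fin n) k →ₐ[k] MvPolynomial (Fin (n + 1)) k :=
  rename Fin.succ

lemma incl_injective : Function.Injective (incl : MvPolynomial (Fin n) k →ₐ[k] _) :=
  rename_injective _ (Fin.succ_injective n)

lemma finSuccEquiv_incl (p : MvPolynomial (Fin n) k) :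
    finSuccEquiv k n (incl p) = Polynomial.C p := by
  induction p using MvPolynomial.induction_on with
  | C a => simp [incl, finSuccEquiv_apply]
  | add p q hp hq => rw [map_add, map_add, hp, hq, map_add]
  | mul_X p i hp =>
    rw [map_mul, map_mul, hp, map_mul]
    congr 1
    simp [incl, finSuccEquiv_X_succ]

lemma finSuccEquiv_symm_eq_eval₂ (G : Polynomial (MvPolynomial (Fin n) k)) :
    (finSuccEquiv k n).symm G =
      Polynomial.eval₂ (incl (k := k) (n := n)).toRingHom (X 0) G := by
  apply (finSuccEquiv k n).injective
  rw [AlgEquiv.apply_symm_apply]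
  have h1 : ((finSuccEquiv k n).toAlgHom.toRingHom).comp
      (incl (k := k) (n := n)).toRingHom = Polynomial.C := by
    apply RingHom.ext
    intro p
    exact finSuccEquiv_incl p
  have h2 := Polynomial.hom_eval₂ G (incl (k := k) (n := n)).toRingHom
    (finSuccEquiv k n).toAlgHom.toRingHom (X 0)
  have h3 : (finSuccEquiv k n).toAlgHom.toRingHom (X 0) = Polynomial.X :=
    finSuccEquiv_X_zero
  rw [h1, h3, Polynomial.eval₂_C_X] at h2
  exact h2.symm

/-- substitute `g` for the variable `X 0` -/
noncomputable def substZero (g : MvPolynomial (Fin (n + 1)) k) :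
    MvPolynomial (Fin (n + 1)) k →ₐ[k] MvPolynomial (Fin (n + 1)) k :=
  aeval (Fin.cons g (fun j => X (Fin.succ j)) : Fin (n + 1) → MvPolynomial (Fin (n + 1)) k)

lemma substZero_X_zero (g : MvPolynomial (Fin (n + 1)) k) : substZero g (X 0) = g := by
  simp [substZero]

lemma substZero_X_succ (g : MvPolynomial (Fin (n + 1)) k) (j : Fin n) :
    substZero g (X (Fin.succ j)) = X (Fin.succ j) := by
  simp [substZero]

lemma substZero_incl (g : MvPolynomial (Fin (n + 1)) k) (p : MvPolynomial (Fin n) k) :
    substZero g (incl p) = incl p := by
  have : (substZero g).comp incl = incl := by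
    apply MvPolynomial.algHom_ext
    intro j
    simp [incl, substZero_X_succ]
  exact AlgHom.congr_fun this p

lemma substZero_isIntegral (g : MvPolynomial (Fin (n + 1)) k)
    (hu : IsUnit (finSuccEquiv k n g).leadingCoeff)
    (hdeg : 0 < (finSuccEquiv k n g).natDegree) :
    (substZero g).toRingHom.IsIntegral := by
  have hX : ∀ i, (substZero g).toRingHom.IsIntegralElem (X i) := by
    intro i
    refine Fin.cases ?_ ?_ i
    · -- the variable `X 0`
      set G := finSuccEquiv k n g with hG
      set P₀ : Polynomial (MvPolynomial (Fin (n + 1)) k) :=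
        G.map (incl (k := k) (n := n)).toRingHom - Polynomial.C (X 0) with hP₀
      have hinj : Function.Injective
          (incl (k := k) (n := n)).toRingHom :=
        incl_injective
      have hdegmap : (G.map (incl (k := k) (n := n)).toRingHom).degree =
          G.degree := Polynomial.degree_map_eq_of_injective hinj G
      have hlt : (Polynomial.C (X 0 : MvPolynomial (Fin (n + 1)) k)).degree <
          (G.map (incl (k := k) (n := n)).toRingHom).degree := by
        rw [hdegmap]
        calc (Polynomial.C (X 0 : MvPolynomial (Fin (n + 1)) k)).degree ≤ 0 :=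
              Polynomial.degree_C_le
          _ < G.degree := by
              rw [Polynomial.degree_eq_natDegree
                (fun h => by rw [h, Polynomial.natDegree_zero] at hdeg; exact lt_irrefl _ hdeg)]
              exact_mod_cast hdeg
      have hlc : P₀.leadingCoeff =
          (incl : MvPolynomial (Fin n) k →ₐ[k] MvPolynomial (Fin (n + 1)) k) G.leadingCoeff := by
        rw [hP₀, Polynomial.leadingCoeff_sub_of_degree_lt hlt,
          Polynomial.leadingCoeff_map_of_injective hinj]
        rfl
      have hunit : IsUnit P₀.leadingCoeff := by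
        rw [hlc]
        exact hu.map _
      refine ⟨hunit.unit⁻¹ • P₀, Polynomial.monic_of_isUnit_leadingCoeff_inv_smul hunit, ?_⟩
      have heval : Polynomial.eval₂ (substZero g).toRingHom (X 0) P₀ = 0 := by
        rw [hP₀, Polynomial.eval₂_sub, Polynomial.eval₂_map, Polynomial.eval₂_C]
        have hcomp : (substZero g).toRingHom.comp
            (incl (k := k) (n := n)).toRingHom =
            (incl (k := k) (n := n)).toRingHom := by
          apply RingHom.ext
          intro p
          exact substZero_incl g p
        rw [hcomp, ← finSuccEquiv_symm_eq_eval₂, hG, AlgEquiv.symm_apply_apply]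
        have : (substZero g).toRingHom (X 0) = g := substZero_X_zero g
        rw [this, sub_self]
      rw [Units.smul_def, Polynomial.eval₂_smul, heval, mul_zero]
    · intro j
      have : (X (Fin.succ j) : MvPolynomial (Fin (n + 1)) k) =
          (substZero g).toRingHom (X (Fin.succ j)) := (substZero_X_succ g j).symm
      rw [this]
      exact RingHom.isIntegralElem_map _
  intro x
  induction x using MvPolynomial.induction_on with
  | C a =>
    have : (C a : MvPolynomial (Fin (n + 1)) k) = (substZero g).toRingHom (C a) := by
      simp [substZero]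
    rw [this]
    exact RingHom.isIntegralElem_map _
  | add p q hp hq => exact RingHom.IsIntegralElem.add _ hp hq
  | mul_X p i hp => exact RingHom.IsIntegralElem.mul _ hp (hX i)

/-- extend an endomorphism of the polynomial ring in the last `n` variables -/
noncomputable def liftHom (φ' : MvPolynomial (Fin n) k →ₐ[k] MvPolynomial (Fin n) k) :
    MvPolynomial (Fin (n + 1)) k →ₐ[k] MvPolynomial (Fin (n + 1)) k :=
  aeval (Fin.cons (X 0) (fun j => incl (φ' (X j))) : Fin (n + 1) → MvPolynomial (Fin (n + 1)) k)

lemma liftHom_X_zero (φ' : MvPolynomial (Fin n) k →ₐ[k] MvPolynomial (Fin n) k) :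
    liftHom φ' (X 0) = X 0 := by
  simp [liftHom]

lemma liftHom_X_succ (φ' : MvPolynomial (Fin n) k →ₐ[k] MvPolynomial (Fin n) k) (j : Fin n) :
    liftHom φ' (X (Fin.succ j)) = incl (φ' (X j)) := by
  simp [liftHom]

lemma liftHom_incl (φ' : MvPolynomial (Fin n) k →ₐ[k] MvPolynomial (Fin n) k)
    (p : MvPolynomial (Fin n) k) : liftHom φ' (incl p) = incl (φ' p) := by
  have : (liftHom φ').comp incl = (incl : MvPolynomial (Fin n) k →ₐ[k] _).comp φ' := by
    apply MvPolynomial.algHom_ext
    intro j
    simp [incl, liftHom_X_succ]
  exact AlgHom.congr_fun this p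

lemma liftHom_isIntegral (φ' : MvPolynomial (Fin n) k →ₐ[k] MvPolynomial (Fin n) k)
    (h : φ'.toRingHom.IsIntegral) : (liftHom φ').toRingHom.IsIntegral := by
  have hX : ∀ i, (liftHom φ').toRingHom.IsIntegralElem (X i) := by
    intro i
    refine Fin.cases ?_ ?_ i
    · have : (X 0 : MvPolynomial (Fin (n + 1)) k) = (liftHom φ').toRingHom (X 0) :=
        (liftHom_X_zero φ').symm
      rw [this]
      exact RingHom.isIntegralElem_map _
    · intro j
      have h1 := (h (X j)).map (incl (k := k) (n := n)).toRingHom
      have hcomp : (incl (k := k) (n := n)).toRingHom.comp φ'.toRingHom = (liftHom φ').toRingHom.comp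
            (incl (k := k) (n := n)).toRingHom := by
        apply RingHom.ext
        intro p
        exact (liftHom_incl φ' p).symm
      rw [hcomp] at h1
      have h2 := h1.of_comp
      have h3 : (incl (k := k) (n := n)).toRingHom
          (X j) = X (Fin.succ j) := by simp [incl]
      rwa [h3] at h2
  intro x
  induction x using MvPolynomial.induction_on with
  | C a =>
    have : (C a : MvPolynomial (Fin (n + 1)) k) = (liftHom φ').toRingHom (C a) := by
      simp [liftHom]
    rw [this]
    exact RingHom.isIntegralElem_map _
  | add p q hp hq => exact RingHom.IsIntegralElem.add _ hp hq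
  | mul_X p i hp => exact RingHom.IsIntegralElem.mul _ hp (hX i)

end Groth.Agent.Helper19.NoetherT
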