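import Mathlib
import Groth.Prelude.Def_Models
import Groth.Agent.Lib.Helper11.NumType
import Groth.Agent.Lib.Helper26.NumType
import Groth.Agent.S7353

/-! Numerical types: row criterion for non-negativity of the intersection form on a
sub-configuration, exclusion of cycles of `(-2)`-indices, and the normal form of chains of
`(-2)`-indices (helper19). -/

set_option autoImplicit false

namespace Groth.Agent.Helper19.NumChain

open Finset Models

variable {n : ℕ} (T : NumericalType n)

/-- row criterion: if every row of the sub-configuration, restricted to a set of neighbours, pairs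
non-negatively with the non-negative vector `c`, the form is non-negative on `c`. -/
theorem quad_nonneg_of_rows {r : ℕ} (v : Fin r ↪ Fin n) (c : Fin r → ℤ) (hc : ∀ s, 0 ≤ c s)
    (hrow : ∀ s, ∃ N : Finset (Fin r), s ∉ N ∧
      0 ≤ T.a (v s) (v s) * c s + ∑ t ∈ N, T.a (v s) (v t) * c t) :
    0 ≤ ∑ s, ∑ t, T.a (v s) (v t) * c s * c t := by
  classical
  refine Finset.sum_nonneg fun s _ => ?_
  obtain ⟨N, hsN, hN⟩ := hrow s
  have h1 : ∑ t, T.a (v s) (v t) * c s * c t = c s * ∑ t, T.a (v s) (v t) * c t := by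
    rw [Finset.mul_sum]
    exact Finset.sum_congr rfl fun t _ => by ring
  rw [h1]
  apply mul_nonneg (hc s)
  have h2 : ∑ t ∈ insert s N, T.a (v s) (v t) * c t ≤ ∑ t, T.a (v s) (v t) * c t := by
    apply Finset.sum_le_sum_of_subset_of_nonneg (Finset.subset_univ _)
    intro t _ ht
    have hts : t ≠ s := fun h => ht (h ▸ Finset.mem_insert_self s N)
    exact mul_nonneg (T.offDiag_nonneg _ _ (fun h => hts (v.injective h).symm)) (hc t)
  rw [Finset.sum_insert hsN] at h2
  linarith

/-- exclusion of a proper sub-configuration carrying a non-zero non-negative vector all of whose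
rows pair non-negatively -/
theorem false_of_rows {r : ℕ} (v : Fin r ↪ Fin n) (hr : r < n) (c : Fin r → ℤ)
    (hc : ∀ s, 0 ≤ c s) (hc0 : ∃ s, c s ≠ 0)
    (hrow : ∀ s, ∃ N : Finset (Fin r), s ∉ N ∧
      0 ≤ T.a (v s) (v s) * c s + ∑ t ∈ N, T.a (v s) (v t) * c t) : False :=
  Groth.Agent.Lib.Helper26.NumType.false_of_subgraph T v hr c hc0
    (quad_nonneg_of_rows T v c hc hrow)

/-- a row with two neighbours in a cycle -/
theorem row_two {r : ℕ} (v : Fin r ↪ Fin n) (hv : ∀ s, T.IsMinusTwo (v s)) (c : Fin r → ℤ)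
    (s t₁ t₂ : Fin r) (h1 : t₁ ≠ s) (h2 : t₂ ≠ s) (h12 : t₁ ≠ t₂)
    (ha1 : T.a (v s) (v t₁) ≠ 0) (ha2 : T.a (v s) (v t₂) ≠ 0)
    (hcs : c s = 1) (hc1 : c t₁ = 1) (hc2 : c t₂ = 1) :
    ∃ N : Finset (Fin r), s ∉ N ∧ 0 ≤ T.a (v s) (v s) * c s + ∑ t ∈ N, T.a (v s) (v t) * c t := by
  classical
  refine ⟨{t₁, t₂}, ?_, ?_⟩
  · simp only [Finset.mem_insert, Finset.mem_singleton, not_or]
    exact ⟨fun h => h1 h.symm, fun h => h2 h.symm⟩
  · rw [Finset.sum_pair h12, hcs, hc1, hc2, (hv s).2]
    have e1 := (Groth.Agent.Lib.Helper26.NumType.w_le_of_ne T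
      (fun h => h1 (v.injective h).symm) ha1).1
    have e2 := (Groth.Agent.Lib.Helper26.NumType.w_le_of_ne T
      (fun h => h2 (v.injective h).symm) ha2).1
    linarith

/-- no cycle of `(-2)`-indices in a proper sub-configuration: a path with a closing edge -/
theorem false_of_cycle {r : ℕ} (v : Fin r ↪ Fin n) (hr : r < n) (hv : ∀ s, T.IsMinusTwo (v s))
    (k : ℕ) (hk : 2 ≤ k) (p : Fin (k + 1) → Fin r) (hp : Function.Injective p)
    (hedge : ∀ (i : Fin (k + 1)) (h : i.val + 1 < k + 1),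
      T.a (v (p i)) (v (p ⟨i.val + 1, h⟩)) ≠ 0)
    (hclose : T.a (v (p 0)) (v (p (Fin.last k))) ≠ 0) : False := by
  classical
  obtain ⟨c, hcdef⟩ : ∃ c : Fin r → ℤ, c = fun s => if ∃ i, p i = s then 1 else 0 := ⟨_, rfl⟩
  have hcp : ∀ i, c (p i) = 1 := by
    intro i
    rw [hcdef]
    exact if_pos ⟨i, rfl⟩
  have hc : ∀ s, 0 ≤ c s := by
    intro s
    rw [hcdef]
    dsimp only
    split_ifs <;> norm_num
  have hsymm : ∀ i j, T.a i j = T.a j i := fun i j => Groth.Agent.Lib.Helper11.NumType.a_symm T i j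
  refine false_of_rows T v hr c hc ⟨p 0, by rw [hcp]; norm_num⟩ ?_
  intro s
  by_cases hs : ∃ i, p i = s
  · obtain ⟨i, rfl⟩ := hs
    have hne : ∀ i j : Fin (k + 1), i ≠ j → p i ≠ p j := fun i j hij h => hij (hp h)
    by_cases hi0 : i.val = 0
    · have hi : i = 0 := Fin.ext hi0
      subst hi
      have hlast : (Fin.last k) ≠ (0 : Fin (k + 1)) := by
        intro h
        have := congrArg Fin.val h
        simp at this <;> omega
      have h1k : (⟨1, by omega⟩ : Fin (k + 1)) ≠ 0 := by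
        intro h
        have := congrArg Fin.val h
        simp at this
      have h1l : (⟨1, by omega⟩ : Fin (k + 1)) ≠ Fin.last k := by
        intro h
        have := congrArg Fin.val h
        simp at this <;> omega
      exact row_two T v hv c (p 0) (p ⟨1, by omega⟩) (p (Fin.last k)) (hne _ _ h1k)
        (hne _ _ hlast) (hne _ _ h1l) (hedge 0 (by simp; omega)) hclose (hcp _) (hcp _) (hcp _)
    · by_cases hik : i.val = k
      · have hi : i = Fin.last k := Fin.ext hik
        subst hi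
        have hpred : (⟨k - 1, by omega⟩ : Fin (k + 1)) ≠ Fin.last k := by
          intro h
          have := congrArg Fin.val h
          simp at this <;> omega
        have h0l : (0 : Fin (k + 1)) ≠ Fin.last k := by
          intro h
          have := congrArg Fin.val h
          simp at this <;> omega
        have hp0 : (⟨k - 1, by omega⟩ : Fin (k + 1)) ≠ 0 := by
          intro h
          have := congrArg Fin.val h
          simp at this <;> omega
        have he := hedge ⟨k - 1, by omega⟩ (by simp; omega)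
        have he' : T.a (v (p (Fin.last k))) (v (p ⟨k - 1, by omega⟩)) ≠ 0 := by
          rw [hsymm]
          convert he using 4
          apply Fin.ext
          simp
          omega
        exact row_two T v hv c (p (Fin.last k)) (p ⟨k - 1, by omega⟩) (p 0) (hne _ _ hpred)
          (hne _ _ h0l) (hne _ _ hp0) he' (by rw [hsymm]; exact hclose) (hcp _) (hcp _) (hcp _)
      · have hilt : i.val < k := by
          have := i.2
          omega
        have hpred : (⟨i.val - 1, by omega⟩ : Fin (k + 1)) ≠ i := by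
          intro h
          have := congrArg Fin.val h
          simp at this <;> omega
        have hsucc : (⟨i.val + 1, by omega⟩ : Fin (k + 1)) ≠ i := by
          intro h
          have := congrArg Fin.val h
          simp at this
        have hps : (⟨i.val - 1, by omega⟩ : Fin (k + 1)) ≠ ⟨i.val + 1, by omega⟩ := by
          intro h
          have := congrArg Fin.val h
          simp at this <;> omega
        have he := hedge ⟨i.val - 1, by omega⟩ (by simp; omega)
        have he' : T.a (v (p i)) (v (p ⟨i.val - 1, by omega⟩)) ≠ 0 := by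
          rw [hsymm]
          convert he using 4
          apply Fin.ext
          simp
          omega
        exact row_two T v hv c (p i) (p ⟨i.val - 1, by omega⟩) (p ⟨i.val + 1, by omega⟩)
          (hne _ _ hpred) (hne _ _ hsucc) (hne _ _ hps) he' (hedge i (by omega))
          (hcp _) (hcp _) (hcp _)
  · refine ⟨∅, Finset.notMem_empty _, ?_⟩
    have : c s = 0 := by
      rw [hcdef]
      exact if_neg hs
    rw [this]
    simp

/-- the possible shapes of an end of a chain of `(-2)`-indices whose interior has weight `W`: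
`x` is the weight of the end vertex and `e` the intersection number of the end edge -/
def EndOK (W x e : ℤ) : Prop := (x = W ∧ e = W) ∨ (x = 2 * W ∧ e = 2 * W) ∨ (2 * x = W ∧ e = W)

/-- normal form of a chain of five `(-2)`-indices -/
theorem window (hn : 5 < n) (x : Fin 5 ↪ Fin n) (hx : ∀ j, T.IsMinusTwo (x j))
    (h01 : T.a (x 0) (x 1) ≠ 0) (h12 : T.a (x 1) (x 2) ≠ 0) (h23 : T.a (x 2) (x 3) ≠ 0)
    (h34 : T.a (x 3) (x 4) ≠ 0) :
    ∃ W, T.w (x 1) = W ∧ T.w (x 2) = W ∧ T.w (x 3) = W ∧ T.a (x 1) (x 2) = W ∧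
      T.a (x 2) (x 3) = W ∧ EndOK W (T.w (x 0)) (T.a (x 0) (x 1)) ∧
      EndOK W (T.w (x 4)) (T.a (x 3) (x 4)) := by
  have hsymm : ∀ i j, T.a i j = T.a j i := fun i j => Groth.Agent.Lib.Helper11.NumType.a_symm T i j
  obtain ⟨-, u, w, hu, hcases⟩ := Groth.Agent.S7353.result T hn x hx h01 h12 h23 h34
  have r0 : Fin.rev (0 : Fin 5) = 4 := by decide
  have r1 : Fin.rev (1 : Fin 5) = 3 := by decide
  have r2 : Fin.rev (2 : Fin 5) = 2 := by decide
  have r3 : Fin.rev (3 : Fin 5) = 1 := by decide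
  have r4 : Fin.rev (4 : Fin 5) = 0 := by decide
  rcases hu with hu | hu
  · rw [hu 0, hu 1, hu 2, hu 3, hu 4] at hcases
    rcases hcases with ⟨a0, a1, a2, a3, a4, e0, e1, e2, e3, -⟩ | ⟨a0, a1, a2, a3, a4, e0, e1, e2, e3, -⟩ |
      ⟨a0, a1, a2, a3, a4, e0, e1, e2, e3, -⟩
    · exact ⟨w, a1, a2, a3, e1, e2, Or.inl ⟨a0, e0⟩, Or.inl ⟨a4, e3⟩⟩
    · exact ⟨w, a1, a2, a3, e1, e2, Or.inl ⟨a0, e0⟩, Or.inr (Or.inl ⟨a4, e3⟩)⟩
    · exact ⟨2 * w, a1, a2, a3, e1, e2, Or.inl ⟨a0, e0⟩, Or.inr (Or.inr ⟨by rw [a4], e3⟩)⟩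
  · rw [hu 0, hu 1, hu 2, hu 3, hu 4, r0, r1, r2, r3, r4] at hcases
    rcases hcases with ⟨a0, a1, a2, a3, a4, e0, e1, e2, e3, -⟩ | ⟨a0, a1, a2, a3, a4, e0, e1, e2, e3, -⟩ |
      ⟨a0, a1, a2, a3, a4, e0, e1, e2, e3, -⟩
    · rw [hsymm] at e0 e1 e2 e3
      exact ⟨w, a3, a2, a1, e2, e1, Or.inl ⟨a4, e3⟩, Or.inl ⟨a0, e0⟩⟩
    · rw [hsymm] at e0 e1 e2 e3
      exact ⟨w, a3, a2, a1, e2, e1, Or.inr (Or.inl ⟨a4, e3⟩), Or.inl ⟨a0, e0⟩⟩
    · rw [hsymm] at e0 e1 e2 e3
      exact ⟨2 * w, a3, a2, a1, e2, e1, Or.inr (Or.inr ⟨by rw [a4], e3⟩), Or.inl ⟨a0, e0⟩⟩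

/-- normal form of a chain of `L ≥ 5` `(-2)`-indices, given by a function on `ℕ`: the interior
vertices all have the same weight `W`, interior edges have intersection number `W`, and the two
ends are of one of three shapes. -/
theorem chain (hn : 5 < n) (L : ℕ) (hL : 5 ≤ L) (vv : ℕ → Fin n)
    (hinj : ∀ i j, i < L → j < L → vv i = vv j → i = j)
    (hv2 : ∀ j, j < L → T.IsMinusTwo (vv j))
    (hch : ∀ j, j + 1 < L → T.a (vv j) (vv (j + 1)) ≠ 0) :
    ∃ W, 0 < W ∧ (∀ j, 1 ≤ j → j + 1 < L → T.w (vv j) = W) ∧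
      (∀ j, 1 ≤ j → j + 2 < L → T.a (vv j) (vv (j + 1)) = W) ∧
      EndOK W (T.w (vv 0)) (T.a (vv 0) (vv 1)) ∧
      EndOK W (T.w (vv (L - 1))) (T.a (vv (L - 2)) (vv (L - 1))) := by
  have hwin : ∀ s, s + 4 < L → ∃ W, T.w (vv (s + 1)) = W ∧ T.w (vv (s + 2)) = W ∧
      T.w (vv (s + 3)) = W ∧ T.a (vv (s + 1)) (vv (s + 2)) = W ∧
      T.a (vv (s + 2)) (vv (s + 3)) = W ∧ EndOK W (T.w (vv s)) (T.a (vv s) (vv (s + 1))) ∧
      EndOK W (T.w (vv (s + 4))) (T.a (vv (s + 3)) (vv (s + 4))) := by
    intro s hs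
    have hxinj : Function.Injective (fun i : Fin 5 => vv (s + i.val)) := by
      intro i j hij
      have := hinj (s + i.val) (s + j.val) (by have := i.2; omega) (by have := j.2; omega) hij
      exact Fin.ext (by omega)
    have := window T hn ⟨fun i : Fin 5 => vv (s + i.val), hxinj⟩
      (fun j => hv2 _ (by have := j.2; show s + j.val < L; omega))
      (hch s (by omega)) (hch (s + 1) (by omega)) (hch (s + 2) (by omega)) (hch (s + 3) (by omega))
    exact this
  have hall : ∀ s, s + 4 < L → T.w (vv (s + 1)) = T.w (vv 1) := by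
    intro s
    induction s with
    | zero => intro _; rfl
    | succ s ih =>
      intro hs
      obtain ⟨W, c1, b2, -, -, -, -, -⟩ := hwin s (by omega)
      have h1 := ih (by omega)
      have : T.w (vv (s + 1 + 1)) = W := b2
      rw [this, ← h1, c1]
  refine ⟨T.w (vv 1), T.w_pos _, ?_, ?_, ?_, ?_⟩
  · intro j h1 hjL
    by_cases hj : j + 3 < L
    · obtain ⟨s, rfl⟩ : ∃ s, j = s + 1 := ⟨j - 1, by omega⟩
      exact hall s (by omega)
    · obtain ⟨W, c1, c2, c3, -, -, -, -⟩ := hwin (L - 5) (by omega)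
      have hW := hall (L - 5) (by omega)
      rw [c1] at hW
      have hj' : j = L - 5 + 2 ∨ j = L - 5 + 3 := by omega
      rcases hj' with rfl | rfl
      · rw [c2, hW]
      · rw [c3, hW]
  · intro j h1 hjL
    by_cases hj : j + 3 < L
    · obtain ⟨s, rfl⟩ : ∃ s, j = s + 1 := ⟨j - 1, by omega⟩
      obtain ⟨W, c1, -, -, e1, -, -, -⟩ := hwin s (by omega)
      have hW := hall s (by omega)
      rw [c1] at hW
      rw [← hW]
      exact e1
    · obtain ⟨W, c1, -, -, -, e2, -, -⟩ := hwin (L - 5) (by omega)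
      have hW := hall (L - 5) (by omega)
      rw [c1] at hW
      have hj' : j = L - 5 + 2 := by omega
      subst hj'
      rw [← hW]
      exact e2
  · obtain ⟨W, c1, -, -, -, -, el, -⟩ := hwin 0 (by omega)
    simp only [zero_add] at c1 el
    rw [← c1] at el
    exact el
  · obtain ⟨W, c1, -, -, -, -, -, er⟩ := hwin (L - 5) (by omega)
    have hW := hall (L - 5) (by omega)
    rw [c1] at hW
    have h1 : L - 5 + 4 = L - 1 := by omega
    have h2 : L - 5 + 3 = L - 2 := by omega
    rw [h1, h2, hW] at er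
    exact er

end Groth.Agent.Helper19.NumChain
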