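import Mathlib
import Groth.Agent.Helper19.OmegaLocal2
set_option autoImplicit false
set_option linter.style.haveILetI false
set_option linter.unusedSectionVars false
universe u

open CategoryTheory CategoryTheory.Limits AlgebraicGeometry Opposite TopologicalSpace
open scoped TensorProduct
open TensorProduct

/-! # Base change of `Omega.sheaf f`, affine-locally -/

namespace Groth.Agent.Helper19.OmegaLocal

open Groth.Agent.Lib.Helper29.QCoh

variable {X S S' : Scheme.{u}} (f : X ⟶ S) (g : S' ⟶ S)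
  {U : X.Opens} (hU : IsAffineOpen U) {V : S.Opens} (hV : IsAffineOpen V)
  {V' : S'.Opens} (hV' : IsAffineOpen V') (e₁ : U ≤ f ⁻¹ᵁ V) (e₂ : V' ≤ g ⁻¹ᵁ V)

/-- The open `U ×_V V'` of `X ×_S S'`. -/
noncomputable def bcOpen (U : X.Opens) (V' : S'.Opens) : (pullback f g).Opens :=
  (pullback.fst f g) ⁻¹ᵁ U ⊓ (pullback.snd f g) ⁻¹ᵁ V'

include hU hV hV' e₁ e₂ in
lemma isAffineOpen_bcOpen : IsAffineOpen (bcOpen f g U V') := by
  have H : IsPullback (pullback.fst f g) (pullback.snd f g) f g := IsPullback.of_hasPullback f g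
  have : IsAffine V := hV
  have : IsAffine V' := hV'
  have : IsAffine U := hU
  exact .of_isIso (Scheme.Hom.isPullback_resLE H e₂ e₁ (UY := bcOpen f g U V') rfl).isoPullback.hom

include hU hV hV' in
lemma isPushout_bcOpen :
    IsPushout (g.appLE V V' e₂) (f.appLE V U e₁)
      ((pullback.snd f g).appLE V' (bcOpen f g U V') inf_le_right)
      ((pullback.fst f g).appLE U (bcOpen f g U V') inf_le_left) := by
  have H : IsPullback (pullback.fst f g) (pullback.snd f g) f g := IsPullback.of_hasPullback f g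
  have h1 := (isIso_pushoutSection_iff H e₂ e₁ (UY := bcOpen f g U V') rfl).mp
    (isIso_pushoutSection_of_isAffineOpen H e₂ e₁ rfl hV hV' hU)
  exact h1.flip

include hU hV hV' e₁ e₂ in
/-- Affine-local base change for differentials. -/
theorem nonempty_linearEquiv_pullback_omega [QuasiSeparated f] :
    Nonempty (Γ((Scheme.Modules.pullback (pullback.fst f g)).obj (Omega.sheaf f),
        bcOpen f g U V') ≃ₗ[Γ(pullback f g, bcOpen f g U V')]
      Γ(Omega.sheaf (pullback.snd f g), bcOpen f g U V')) := by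
  have hU' := isAffineOpen_bcOpen f g hU hV hV' e₁ e₂
  letI iRA : Algebra Γ(S, V) Γ(X, U) := algΓ f e₁
  letI iRR' : Algebra Γ(S, V) Γ(S', V') := (g.appLE V V' e₂).hom.toAlgebra
  letI iR'B : Algebra Γ(S', V') Γ(pullback f g, bcOpen f g U V') :=
    algΓ (pullback.snd f g) (inf_le_right : bcOpen f g U V' ≤ _)
  letI iAB : Algebra Γ(X, U) Γ(pullback f g, bcOpen f g U V') :=
    ((pullback.fst f g).appLE U (bcOpen f g U V') inf_le_left).hom.toAlgebra
  letI iRB : Algebra Γ(S, V) Γ(pullback f g, bcOpen f g U V') :=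
    (f.appLE V U e₁ ≫ (pullback.fst f g).appLE U (bcOpen f g U V') inf_le_left).hom.toAlgebra
  haveI : IsScalarTower Γ(S, V) Γ(X, U) Γ(pullback f g, bcOpen f g U V') :=
    IsScalarTower.of_algebraMap_eq' rfl
  have hpo := isPushout_bcOpen f g hU hV hV' e₁ e₂
  haveI : IsScalarTower Γ(S, V) Γ(S', V') Γ(pullback f g, bcOpen f g U V') :=
    IsScalarTower.of_algebraMap_eq' (by
      have := congrArg CommRingCat.Hom.hom hpo.w
      exact this.symm)
  haveI : Algebra.IsPushout Γ(S, V) Γ(S', V') Γ(X, U) Γ(pullback f g, bcOpen f g U V') :=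
    CommRingCat.isPushout_iff_isPushout.mp hpo
  obtain ⟨E₂⟩ := nonempty_linearEquiv_sections_omega f hU hV e₁
  obtain ⟨E₃⟩ := nonempty_linearEquiv_sections_omega (pullback.snd f g) hU' hV'
    (inf_le_right : bcOpen f g U V' ≤ _)
  let E₁ := pullbackSectionsEquiv (pullback.fst f g) (Omega.sheaf f) hU' hU
    (inf_le_left : bcOpen f g U V' ≤ _)
  exact ⟨E₁ ≪≫ₗ AlgebraTensorModule.congr (LinearEquiv.refl _ _) E₂ ≪≫ₗ
    KaehlerDifferential.tensorKaehlerEquiv Γ(S, V) Γ(S', V') Γ(X, U)
      Γ(pullback f g, bcOpen f g U V') ≪≫ₗ E₃.symm⟩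

end Groth.Agent.Helper19.OmegaLocal
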