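import Mathlib
import Groth.Agent.Helper19.OmegaLocal2
set_option autoImplicit false
set_option linter.style.haveILetI false
set_option linter.unusedSectionVars false
universe u

open CategoryTheory CategoryTheory.Limits AlgebraicGeometry Opposite TopologicalSpace
open scoped TensorProduct
open TensorProduct

/-! # Stalks of `Omega.sheaf f` and unramifiedness of the stalk map -/

namespace Groth.Agent.Helper19.OmegaLocal

open Groth.Agent.Lib.Helper29.QCoh

variable {X S : Scheme.{u}} (f : X ⟶ S)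

theorem stalk_subsingleton_iff_formallyUnramified [QuasiSeparated f] (x : X) :
    Subsingleton ((Omega.sheaf f).presheaf.stalk x) ↔ (f.stalkMap x).hom.FormallyUnramified := by
  obtain ⟨V, hV, hxV, -⟩ := exists_isAffineOpen_mem_and_subset (x := f x) (U := ⊤) trivial
  obtain ⟨U, hU, hxU, e⟩ := exists_isAffineOpen_mem_and_subset (x := x) (U := f ⁻¹ᵁ V) hxV
  letI iRA := algΓ f e
  letI iAO : Algebra Γ(X, U) (X.presheaf.stalk x) :=
    TopCat.Presheaf.algebra_section_stalk X.presheaf ⟨x, hxU⟩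
  letI iRO : Algebra Γ(S, V) (S.presheaf.stalk (f x)) :=
    TopCat.Presheaf.algebra_section_stalk S.presheaf ⟨f x, hxV⟩
  letI iOO : Algebra (S.presheaf.stalk (f x)) (X.presheaf.stalk x) := (f.stalkMap x).hom.toAlgebra
  letI iRX : Algebra Γ(S, V) (X.presheaf.stalk x) :=
    ((algebraMap Γ(X, U) (X.presheaf.stalk x)).comp (algebraMap Γ(S, V) Γ(X, U))).toAlgebra
  haveI t1 : IsScalarTower Γ(S, V) Γ(X, U) (X.presheaf.stalk x) :=
    IsScalarTower.of_algebraMap_eq' rfl
  haveI t2 : IsScalarTower Γ(S, V) (S.presheaf.stalk (f x)) (X.presheaf.stalk x) := by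
    refine IsScalarTower.of_algebraMap_eq' ?_
    ext r
    change X.presheaf.germ U x hxU ((f.appLE V U e).hom r) =
      (f.stalkMap x).hom (S.presheaf.germ V (f x) hxV r)
    rw [Scheme.Hom.germ_stalkMap_apply]
    change X.presheaf.germ U x hxU (X.presheaf.map (homOfLE e).op ((f.app V).hom r)) = _
    exact TopCat.Presheaf.germ_res_apply X.presheaf (homOfLE e) x hxU _
  have hlocX := hU.isLocalization_stalk ⟨x, hxU⟩
  have hlocS := hV.isLocalization_stalk ⟨f x, hxV⟩
  obtain ⟨E⟩ := nonempty_linearEquiv_sections_omega f hU hV e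
  -- Step A
  have hA : Subsingleton ((Omega.sheaf f).presheaf.stalk x) ↔
      hU.primeIdealOf ⟨x, hxU⟩ ∉ Module.support Γ(X, U) Γ(Omega.sheaf f, U) := by
    rw [stalk_subsingleton_iff (Omega.sheaf f) hU x hxU, Module.notMem_support_iff']
    refine forall_congr' fun m => ?_
    constructor
    · rintro ⟨r, hr, hrm⟩
      exact ⟨r, (mem_basicOpen_iff_notMem_primeIdealOf hU x hxU r).mp hr, hrm⟩
    · rintro ⟨r, hr, hrm⟩
      exact ⟨r, (mem_basicOpen_iff_notMem_primeIdealOf hU x hxU r).mpr hr, hrm⟩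
  rw [hA, E.support_eq]
  -- Step C
  have hC : hU.primeIdealOf ⟨x, hxU⟩ ∉ Module.support Γ(X, U) Ω[Γ(X, U)⁄Γ(S, V)] ↔
      Algebra.FormallyUnramified Γ(S, V)
        (Localization.AtPrime (hU.primeIdealOf ⟨x, hxU⟩).asIdeal) := by
    have := Algebra.unramifiedLocus_eq_compl_support (R := Γ(S, V)) (A := Γ(X, U))
    rw [← Set.mem_compl_iff, ← this]
    rfl
  rw [hC]
  -- Step D
  let eD : Localization.AtPrime (hU.primeIdealOf ⟨x, hxU⟩).asIdeal ≃ₐ[Γ(X, U)]
      X.presheaf.stalk x :=
    IsLocalization.algEquiv (hU.primeIdealOf ⟨x, hxU⟩).asIdeal.primeCompl _ _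
  have hD : Algebra.FormallyUnramified Γ(S, V)
      (Localization.AtPrime (hU.primeIdealOf ⟨x, hxU⟩).asIdeal) ↔
      Algebra.FormallyUnramified Γ(S, V) (X.presheaf.stalk x) :=
    ⟨fun _ => Algebra.FormallyUnramified.of_equiv (eD.restrictScalars Γ(S, V)),
      fun _ => Algebra.FormallyUnramified.of_equiv (eD.restrictScalars Γ(S, V)).symm⟩
  rw [hD]
  -- Step E
  change _ ↔ Algebra.FormallyUnramified (S.presheaf.stalk (f x)) (X.presheaf.stalk x)
  constructor
  · intro h
    exact Algebra.FormallyUnramified.of_restrictScalars Γ(S, V) _ _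
  · intro h
    haveI : Algebra.FormallyUnramified Γ(S, V) (S.presheaf.stalk (f x)) :=
      Algebra.FormallyUnramified.of_isLocalization
        (hV.primeIdealOf ⟨f x, hxV⟩).asIdeal.primeCompl
    exact Algebra.FormallyUnramified.comp Γ(S, V) (S.presheaf.stalk (f x)) _

end Groth.Agent.Helper19.OmegaLocal
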