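import Groth.Prelude.Def_ParaF
import Groth.Agent.Lib.Helper29.QCohLocFree

set_option autoImplicit false
set_option linter.style.haveILetI false
set_option linter.unusedSectionVars false
universe u
open CategoryTheory CategoryTheory.Limits AlgebraicGeometry TopologicalSpace

namespace Groth.Agent.Helper19.ParaFLib

open Scheme.Modules

theorem isInvertible_of_iso {X : Scheme.{u}} {L L' : X.Modules} (e : L ≅ L')
    (h : PicF.IsInvertible L) : PicF.IsInvertible L' := by
  intro y
  obtain ⟨U, hy, ⟨i⟩⟩ := h y
  exact ⟨U, hy, ⟨(restrictFunctor U.ι).mapIso e.symm ≪≫ i⟩⟩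

theorem isInvertible_restrict {U V : Scheme.{u}} (j : U ⟶ V) [IsOpenImmersion j]
    {L : V.Modules} (h : PicF.IsInvertible L) : PicF.IsInvertible (L.restrict j) :=
  isInvertible_of_iso ((restrictFunctorIsoPullback j).app L).symm
    (Groth.Agent.Lib.Helper29.QCoh.isInvertible_pullback j h)

/-- conjugating by isomorphisms is a bijection on hom-sets -/
theorem bijective_conj {C : Type*} [Category C] {A A' B B' : C} (a : A' ≅ A) (b : B ≅ B') :
    Function.Bijective (fun φ : A ⟶ B => a.hom ≫ φ ≫ b.hom) := by
  constructor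
  · intro φ ψ h
    have h' : a.hom ≫ φ ≫ b.hom = a.hom ≫ ψ ≫ b.hom := h
    rwa [cancel_epi, cancel_mono] at h'
  · intro χ
    exact ⟨a.inv ≫ χ ≫ b.inv, by simp⟩

/-- two out of three for `InvRestrictEquiv`: if the composite and the first restriction are
equivalences on invertible modules then so is the second. -/
theorem invRestrictEquiv_of_comp {U₂ U₁ V : Scheme.{u}} (a : U₂ ⟶ U₁) (b : U₁ ⟶ V)
    [IsOpenImmersion a] [IsOpenImmersion b]
    (hab : ParaF.InvRestrictEquiv (a ≫ b)) (ha : ParaF.InvRestrictEquiv a) :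
    ParaF.InvRestrictEquiv b := by
  have key : ∀ (L L' : V.Modules) (φ : L ⟶ L'),
      (restrictFunctor (a ≫ b)).map φ =
        (restrictFunctorComp a b).hom.app L ≫ (restrictFunctor a).map ((restrictFunctor b).map φ) ≫
          (restrictFunctorComp a b).inv.app L' := by
    intro L L' φ
    have := (restrictFunctorComp a b).hom.naturality φ
    rw [Functor.comp_map] at this
    rw [← Category.assoc, ← this, Category.assoc, Iso.hom_inv_id_app, Category.comp_id]
  refine ⟨?_, ?_⟩
  · intro L L' hL hL'
    have h1 := hab.1 L L' hL hL'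
    have h2 := ha.1 _ _ (isInvertible_restrict b hL) (isInvertible_restrict b hL')
    -- the composite map is bijective
    have h3 : Function.Bijective (fun φ : L ⟶ L' =>
        (restrictFunctor a).map ((restrictFunctor b).map φ)) := by
      have hc := bijective_conj ((restrictFunctorComp a b).app L).symm
        ((restrictFunctorComp a b).app L')
      have : (fun φ : L ⟶ L' => (restrictFunctor a).map ((restrictFunctor b).map φ)) =
          (fun χ => ((restrictFunctorComp a b).app L).symm.hom ≫ χ ≫
            ((restrictFunctorComp a b).app L').hom) ∘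
          (fun φ : L ⟶ L' => (restrictFunctor (a ≫ b)).map φ) := by
        funext φ
        simp [key]
      rw [this]
      exact hc.comp h1
    constructor
    · intro φ φ' hφ
      apply h3.1
      change (restrictFunctor a).map ((restrictFunctor b).map φ) =
        (restrictFunctor a).map ((restrictFunctor b).map φ')
      have hφ' : (restrictFunctor b).map φ = (restrictFunctor b).map φ' := hφ
      rw [hφ']
    · intro ψ
      obtain ⟨φ, hφ⟩ := h3.2 ((restrictFunctor a).map ψ)
      exact ⟨φ, h2.1 hφ⟩
  · intro L₀ hL₀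
    obtain ⟨M, hM, ⟨e⟩⟩ := hab.2 (L₀.restrict a) (isInvertible_restrict a hL₀)
    refine ⟨M, hM, ?_⟩
    have hMb := isInvertible_restrict b hM
    -- iso between restrictions to U₂
    have e' : (M.restrict b).restrict a ≅ L₀.restrict a :=
      ((restrictFunctorComp a b).app M).symm ≪≫ e
    obtain ⟨ψ, hψ⟩ := (ha.1 _ _ hMb hL₀).2 e'.hom
    obtain ⟨ψ', hψ'⟩ := (ha.1 _ _ hL₀ hMb).2 e'.inv
    have hψ1 : (restrictFunctor a).map ψ = e'.hom := hψ
    have hψ2 : (restrictFunctor a).map ψ' = e'.inv := hψ'
    refine ⟨⟨ψ, ψ', ?_, ?_⟩⟩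
    · apply (ha.1 _ _ hMb hMb).1
      change (restrictFunctor a).map (ψ ≫ ψ') = (restrictFunctor a).map (𝟙 _)
      rw [CategoryTheory.Functor.map_comp, hψ1, hψ2, e'.hom_inv_id, CategoryTheory.Functor.map_id]
    · apply (ha.1 _ _ hL₀ hL₀).1
      change (restrictFunctor a).map (ψ' ≫ ψ) = (restrictFunctor a).map (𝟙 _)
      rw [CategoryTheory.Functor.map_comp, hψ1, hψ2, e'.inv_hom_id, CategoryTheory.Functor.map_id]

/-- transport of `InvRestrictEquiv` along an equality of the smaller open -/
theorem invRestrictEquiv_congr {X : Scheme.{u}} {A A' V : X.Opens} (e : A = A') (hA : A ≤ V)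
    (h : ParaF.InvRestrictEquiv (X.homOfLE hA)) :
    ParaF.InvRestrictEquiv (X.homOfLE (e ▸ hA : A' ≤ V)) := by
  subst e
  exact h

/-- `InvRestrictEquiv` only depends on the morphism up to equality -/
theorem invRestrictEquiv_of_eq {U V : Scheme.{u}} {f g : U ⟶ V} (hfg : f = g)
    [IsOpenImmersion f] [IsOpenImmersion g] (hg : ParaF.InvRestrictEquiv g) :
    ParaF.InvRestrictEquiv f := by
  subst hfg
  exact hg

/-- composition of two restrictions that are equivalences on invertible modules -/
theorem invRestrictEquiv_comp {U₂ U₁ V : Scheme.{u}} (a : U₂ ⟶ U₁) (b : U₁ ⟶ V)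
    [IsOpenImmersion a] [IsOpenImmersion b]
    (ha : ParaF.InvRestrictEquiv a) (hb : ParaF.InvRestrictEquiv b) :
    ParaF.InvRestrictEquiv (a ≫ b) := by
  have key : ∀ (L L' : V.Modules) (φ : L ⟶ L'),
      (restrictFunctor (a ≫ b)).map φ =
        (restrictFunctorComp a b).hom.app L ≫ (restrictFunctor a).map ((restrictFunctor b).map φ) ≫
          (restrictFunctorComp a b).inv.app L' := by
    intro L L' φ
    have := (restrictFunctorComp a b).hom.naturality φ
    rw [Functor.comp_map] at this
    rw [← Category.assoc, ← this, Category.assoc, Iso.hom_inv_id_app, Category.comp_id]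
  refine ⟨?_, ?_⟩
  · intro L L' hL hL'
    have h1 := hb.1 L L' hL hL'
    have h2 := ha.1 _ _ (isInvertible_restrict b hL) (isInvertible_restrict b hL')
    have hc := bijective_conj ((restrictFunctorComp a b).app L)
      ((restrictFunctorComp a b).app L').symm
    have : (fun φ : L ⟶ L' => (restrictFunctor (a ≫ b)).map φ) =
        (fun χ => ((restrictFunctorComp a b).app L).hom ≫ χ ≫
          ((restrictFunctorComp a b).app L').symm.hom) ∘
        ((fun ψ => (restrictFunctor a).map ψ) ∘ (fun φ : L ⟶ L' => (restrictFunctor b).map φ)) := by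
      funext φ
      simp [key]
    rw [this]
    exact hc.comp (h2.comp h1)
  · intro L₀ hL₀
    obtain ⟨M₁, hM₁, ⟨e₁⟩⟩ := ha.2 L₀ hL₀
    obtain ⟨M, hM, ⟨e⟩⟩ := hb.2 M₁ hM₁
    exact ⟨M, hM, ⟨(restrictFunctorComp a b).app M ≪≫ (restrictFunctor a).mapIso e ≪≫ e₁⟩⟩

/-- restriction along an isomorphism of schemes is an equivalence of module categories -/
noncomputable def restrictEquivalence {U V : Scheme.{u}} (j : U ⟶ V) [IsIso j] :
    V.Modules ≌ U.Modules :=
  CategoryTheory.Equivalence.mk (restrictFunctor j) (restrictFunctor (inv j))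
    (restrictFunctorId.symm ≪≫ restrictFunctorCongr (IsIso.inv_hom_id j).symm ≪≫
      restrictFunctorComp (inv j) j)
    ((restrictFunctorComp j (inv j)).symm ≪≫ restrictFunctorCongr (IsIso.hom_inv_id j) ≪≫
      restrictFunctorId)

theorem invRestrictEquiv_of_isIso {U V : Scheme.{u}} (j : U ⟶ V) [IsIso j] :
    ParaF.InvRestrictEquiv j := by
  refine ⟨?_, ?_⟩
  · intro L L' _ _
    exact (restrictEquivalence j).fullyFaithfulFunctor.map_bijective L L'
  · intro L₀ hL₀
    exact ⟨(restrictFunctor (inv j)).obj L₀, isInvertible_restrict (inv j) hL₀,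
      ⟨(restrictEquivalence j).counitIso.app L₀⟩⟩

/-- `InvRestrictEquiv` is invariant under isomorphisms of arrows -/
theorem invRestrictEquiv_of_iso_square {U U' V V' : Scheme.{u}} (j : U ⟶ V) (j' : U' ⟶ V')
    [IsOpenImmersion j] [IsOpenImmersion j'] (α : U' ≅ U) (β : V' ≅ V)
    (w : j' ≫ β.hom = α.hom ≫ j) (h : ParaF.InvRestrictEquiv j) : ParaF.InvRestrictEquiv j' := by
  have e : j' = α.hom ≫ j ≫ β.inv := by
    rw [← Category.assoc, ← w, Category.assoc, Iso.hom_inv_id, Category.comp_id]
  refine invRestrictEquiv_of_eq e ?_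
  exact invRestrictEquiv_comp _ _ (invRestrictEquiv_of_isIso α.hom)
    (invRestrictEquiv_comp _ _ h (invRestrictEquiv_of_isIso β.inv))

end Groth.Agent.Helper19.ParaFLib
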