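import Mathlib
import Groth.Agent.Lib.Helper2.PrinPart.Box
set_option autoImplicit false
set_option linter.style.haveILetI false
set_option linter.unusedSectionVars false
universe u

open CategoryTheory CategoryTheory.Limits
open scoped TensorProduct

/-! # Base change of principal parts: ring-level core (helper19) -/

namespace Groth.Agent.Helper19.PnBC

section core

variable {B B' T T' : Type u} [CommRing B] [CommRing B'] [CommRing T] [CommRing T']
  [Algebra B B'] [Algebra B T] [Algebra B' T'] [Algebra T T'] [Algebra B T']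
  [IsScalarTower B B' T'] [IsScalarTower B T T'] [Algebra.IsPushout B B' T T']
  {M M' : Type u} [AddCommGroup M] [Module B M] [AddCommGroup M'] [Module B' M'] [Module B M']
  [IsScalarTower B B' M']

/-- Injectivity of the base-change comparison map for quotient-like modules of a pushout. -/
theorem liftBaseChange_injective (J : Ideal T) (π : T →ₗ[B] M) (hπs : Function.Surjective π)
    (hπ : ∀ t ∈ J, π t = 0) (π' : T' →ₗ[B'] M')
    (hπ' : ∀ t', π' t' = 0 → t' ∈ Ideal.map (algebraMap T T') J)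
    (Λ : M →ₗ[B] M') (hΛ : ∀ t, Λ (π t) = π' (algebraMap T T' t)) :
    Function.Injective (LinearMap.liftBaseChange B' Λ) := by
  let ε := Algebra.IsPushout.equiv B B' T T'
  have hε : ∀ (b' : B') (t : T), ε (b' ⊗ₜ[B] t) = algebraMap B' T' b' * algebraMap T T' t :=
    fun b' t => Algebra.IsPushout.equiv_tmul B B' T T' b' t
  have claim1 : ∀ w : B' ⊗[B] T,
      LinearMap.liftBaseChange B' Λ (LinearMap.lTensor B' π w) = π' (ε w) := by
    intro w
    induction w using TensorProduct.induction_on with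
    | zero => simp only [map_zero]
    | tmul b' t =>
      rw [LinearMap.lTensor_tmul, LinearMap.liftBaseChange_tmul, hΛ, hε, ← Algebra.smul_def,
        map_smul]
    | add w₁ w₂ h₁ h₂ => simp only [map_add, h₁, h₂]
  -- right multiplication by an element of `J` kills `lTensor π`
  have hmul : ∀ κ ∈ J, ∀ w : B' ⊗[B] T,
      LinearMap.lTensor B' π (w * ((1 : B') ⊗ₜ[B] κ)) = 0 := by
    intro κ hκ w
    induction w using TensorProduct.induction_on with
    | zero => rw [zero_mul, map_zero]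
    | tmul b' t =>
      rw [Algebra.TensorProduct.tmul_mul_tmul, mul_one, LinearMap.lTensor_tmul,
        hπ _ (J.mul_mem_left t hκ), TensorProduct.tmul_zero]
    | add w₁ w₂ h₁ h₂ => rw [add_mul, map_add, h₁, h₂, add_zero]
  have claim2 : ∀ y ∈ Ideal.map (algebraMap T T') J, ∀ t' : T',
      LinearMap.lTensor B' π (ε.symm (t' * y)) = 0 := by
    intro y hy
    refine Submodule.span_induction ?_ ?_ ?_ ?_ hy
    · rintro _ ⟨κ, hκ, rfl⟩ t'
      have h1 : ε.symm (t' * algebraMap T T' κ) = ε.symm t' * ((1 : B') ⊗ₜ[B] κ) := by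
        apply ε.injective
        rw [AlgEquiv.apply_symm_apply, map_mul, AlgEquiv.apply_symm_apply, hε, map_one, one_mul]
      rw [h1]
      exact hmul κ hκ _
    · intro t'
      rw [mul_zero, map_zero, map_zero]
    · intro y z _ _ hy hz t'
      rw [mul_add, map_add, map_add, hy, hz, add_zero]
    · intro s y _ hy t'
      rw [smul_eq_mul, ← mul_assoc]
      exact hy (t' * s)
  rw [injective_iff_map_eq_zero]
  intro z hz
  obtain ⟨w, rfl⟩ := LinearMap.lTensor_surjective B' hπs z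
  rw [claim1] at hz
  have h3 := claim2 _ (hπ' _ hz) 1
  rw [one_mul, AlgEquiv.symm_apply_apply] at h3
  exact h3

end core

section codiag

variable {R A P : CommRingCat.{u}} {a : R ⟶ A} {i1 i2 : A ⟶ P}

/-- The kernel of the codiagonal of a pushout `A ⊗_R A` is generated by the differences. -/
theorem ker_codiag_le_span (h : IsPushout a a i1 i2) (μ : P ⟶ A) (h1 : i1 ≫ μ = 𝟙 A)
    (h2 : i2 ≫ μ = 𝟙 A) :
    RingHom.ker μ.hom ≤ Ideal.span (Set.range fun b : A => i2.hom b - i1.hom b) := by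
  intro t ht
  obtain ⟨Q, rfl⟩ := Groth.Agent.Lib.Helper2.PrinPartB.exists_sum_of_isPushout h t
  have e1 : ∀ x : A, μ.hom (i1.hom x) = x := fun x => congrArg (fun φ => φ.hom x) h1
  have e2 : ∀ x : A, μ.hom (i2.hom x) = x := fun x => congrArg (fun φ => φ.hom x) h2
  rw [RingHom.mem_ker, map_sum] at ht
  have ht' : ∑ q ∈ Q, q.1 * q.2 = 0 := by
    rw [← ht]
    refine Finset.sum_congr rfl fun q _ => ?_
    rw [map_mul, e1, e2]
  have key : ∑ q ∈ Q, i1.hom q.1 * i2.hom q.2 =
      ∑ q ∈ Q, i1.hom q.1 * (i2.hom q.2 - i1.hom q.2) + i1.hom (∑ q ∈ Q, q.1 * q.2) := by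
    rw [map_sum, ← Finset.sum_add_distrib]
    refine Finset.sum_congr rfl fun q _ => ?_
    rw [map_mul]
    ring
  rw [key, ht', map_zero, add_zero]
  refine Ideal.sum_mem _ fun q _ => ?_
  exact Ideal.mul_mem_left _ _ (Ideal.subset_span ⟨q.2, rfl⟩)

end codiag

section square

variable {A A' B B' T T' : CommRingCat.{u}} {α : A ⟶ B} {γ : A ⟶ A'} {β : B ⟶ B'} {α' : A' ⟶ B'}
  {i1 i2 : B ⟶ T} {i1' i2' : B' ⟶ T'} {τ : T ⟶ T'}

/-- The left-factor square of the two boxes is a pushout. -/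
theorem isPushout_left (hB' : IsPushout α γ β α') (hT : IsPushout α α i1 i2)
    (hT' : IsPushout α' α' i1' i2') (hτ1 : i1 ≫ τ = β ≫ i1') (hτ2 : i2 ≫ τ = β ≫ i2') :
    IsPushout β i1 i1' τ := by
  -- `T'` is the pushout of `A ⟶ B'` and `α`
  have h1 : IsPushout (γ ≫ α') α i1' (β ≫ i2') := hB'.flip.paste_horiz hT'
  have h2 : IsPushout (α ≫ β) α i1' (i2 ≫ τ) := by
    rw [hB'.w, hτ2]
    exact h1
  exact h2.of_left hτ1.symm hT

/-- The kernel of the codiagonal of the second box is generated by the image of that of the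
first. -/
theorem ker_codiag_le_map (hB' : IsPushout α γ β α') (hT' : IsPushout α' α' i1' i2')
    (hτ1 : i1 ≫ τ = β ≫ i1') (hτ2 : i2 ≫ τ = β ≫ i2')
    (μ : T ⟶ B) (h1 : i1 ≫ μ = 𝟙 B) (h2 : i2 ≫ μ = 𝟙 B)
    (μ' : T' ⟶ B') (h1' : i1' ≫ μ' = 𝟙 B') (h2' : i2' ≫ μ' = 𝟙 B') :
    RingHom.ker μ'.hom ≤ Ideal.map τ.hom (RingHom.ker μ.hom) := by
  refine (ker_codiag_le_span hT' μ' h1' h2').trans ?_
  rw [Ideal.span_le]
  rintro _ ⟨b', rfl⟩
  obtain ⟨Q, rfl⟩ := Groth.Agent.Lib.Helper2.PrinPartB.exists_sum_of_isPushout hB' b'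
  have e1 : ∀ x : B, μ.hom (i1.hom x) = x := fun x => congrArg (fun φ => φ.hom x) h1
  have e2 : ∀ x : B, μ.hom (i2.hom x) = x := fun x => congrArg (fun φ => φ.hom x) h2
  have t1 : ∀ x : B, τ.hom (i1.hom x) = i1'.hom (β.hom x) :=
    fun x => congrArg (fun φ => φ.hom x) hτ1
  have t2 : ∀ x : B, τ.hom (i2.hom x) = i2'.hom (β.hom x) :=
    fun x => congrArg (fun φ => φ.hom x) hτ2
  have w : ∀ x : A', i2'.hom (α'.hom x) = i1'.hom (α'.hom x) :=
    fun x => (congrArg (fun φ => φ.hom x) hT'.w).symm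
  have key : i2'.hom (∑ q ∈ Q, β.hom q.1 * α'.hom q.2) -
      i1'.hom (∑ q ∈ Q, β.hom q.1 * α'.hom q.2) =
      ∑ q ∈ Q, i1'.hom (α'.hom q.2) * τ.hom (i2.hom q.1 - i1.hom q.1) := by
    rw [map_sum, map_sum, ← Finset.sum_sub_distrib]
    refine Finset.sum_congr rfl fun q _ => ?_
    rw [map_mul, map_mul, w, map_sub, t1, t2]
    ring
  change i2'.hom (∑ q ∈ Q, β.hom q.1 * α'.hom q.2) -
      i1'.hom (∑ q ∈ Q, β.hom q.1 * α'.hom q.2) ∈ _
  rw [key]
  refine Ideal.sum_mem _ fun q _ => ?_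
  refine Ideal.mul_mem_left _ _ (Ideal.mem_map_of_mem _ ?_)
  rw [RingHom.mem_ker, map_sub, e1, e2, sub_self]

end square

end Groth.Agent.Helper19.PnBC
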