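import Mathlib
import Groth.Agent.Lib.Helper2.PrinPart.Affine
set_option autoImplicit false
set_option linter.style.haveILetI false
set_option linter.unusedSectionVars false
universe u

open CategoryTheory CategoryTheory.Limits AlgebraicGeometry TopologicalSpace Opposite
open scoped TensorProduct

/-! # Principal parts on an affine box: the presentation `Γ(box) ↠ Γ(P^n, U)` (helper19) -/

namespace Groth.Agent.Helper19.PnBC

open Groth.Agent.Lib.Helper2.PrinPartB Groth.Agent.Lib.Helper29.QCoh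

section chart

variable {X S : Scheme.{u}} (f : X ⟶ S) (n : ℕ) (U : X.Opens)

theorem pr1_le_box : PrinPart.pr1 f n ⁻¹ᵁ U ≤ PrinPart.nbhdι f n ⁻¹ᵁ OmegaSh.diagNbhd f U := by
  intro z hz
  have h2 : z ∈ PrinPart.pr2 f n ⁻¹ᵁ U := (PrinPart.preimage_pr1 f n U).le hz
  exact ⟨hz, h2⟩

/-- `θ : Γ(X ×_S X, box) ⟶ Γ(Δ^(n), pr1⁻¹ U)`. -/
noncomputable def theta : Γ(pullback f f, OmegaSh.diagNbhd f U) ⟶
    Γ(PrinPart.nbhd f n, PrinPart.pr1 f n ⁻¹ᵁ U) :=
  (PrinPart.nbhdι f n).appLE (OmegaSh.diagNbhd f U) (PrinPart.pr1 f n ⁻¹ᵁ U) (pr1_le_box f n U)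

/-- first inclusion -/
noncomputable abbrev i1 : Γ(X, U) ⟶ Γ(pullback f f, OmegaSh.diagNbhd f U) :=
  (pullback.fst f f).appLE U (OmegaSh.diagNbhd f U) inf_le_left

/-- second inclusion -/
noncomputable abbrev i2 : Γ(X, U) ⟶ Γ(pullback f f, OmegaSh.diagNbhd f U) :=
  (pullback.snd f f).appLE U (OmegaSh.diagNbhd f U) inf_le_right

/-- the codiagonal -/
noncomputable abbrev mu : Γ(pullback f f, OmegaSh.diagNbhd f U) ⟶ Γ(X, U) :=
  (pullback.diagonal f).appLE (OmegaSh.diagNbhd f U) U (OmegaSh.le_preimage_diagNbhd f U)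

theorem i1_mu : i1 f U ≫ mu f U = 𝟙 _ := by
  rw [Scheme.Hom.appLE_comp_appLE]
  exact OmegaSh.id_appLE_eq_id (pullback.diagonal_fst f) _

theorem i2_mu : i2 f U ≫ mu f U = 𝟙 _ := by
  rw [Scheme.Hom.appLE_comp_appLE]
  exact OmegaSh.id_appLE_eq_id (pullback.diagonal_snd f) _

theorem i1_theta : i1 f U ≫ theta f n U = (PrinPart.pr1 f n).app U := by
  rw [theta, Scheme.Hom.appLE_comp_appLE, Scheme.Hom.app_eq_appLE]
  rfl

theorem i2_theta : i2 f U ≫ theta f n U =
    (PrinPart.pr2 f n).appLE U (PrinPart.pr1 f n ⁻¹ᵁ U) (PrinPart.preimage_pr1 f n U).le := by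
  rw [theta, Scheme.Hom.appLE_comp_appLE]
  rfl

theorem theta_i1 (b : Γ(X, U)) : (theta f n U).hom ((i1 f U).hom b) =
    ((PrinPart.pr1 f n).app U).hom b :=
  congrArg (fun φ => φ.hom b) (i1_theta f n U)

theorem theta_i2 (b : Γ(X, U)) : (theta f n U).hom ((i2 f U).hom b) =
    ((PrinPart.pr2 f n).appLE U (PrinPart.pr1 f n ⁻¹ᵁ U)
      (PrinPart.preimage_pr1 f n U).le).hom b :=
  congrArg (fun φ => φ.hom b) (i2_theta f n U)

/-- `Γ(P^n, U) ≃+ Γ(Δ^(n), pr1⁻¹U)`. -/
noncomputable def secEquiv : Γ(PrinPart.P f n, U) ≃+ Γ(PrinPart.nbhd f n, PrinPart.pr1 f n ⁻¹ᵁ U) :=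
  AddEquiv.ofBijective (secE f n U) (secE_bijective f n U)

theorem secEquiv_apply (m : Γ(PrinPart.P f n, U)) : secEquiv f n U m = secE f n U m := rfl

/-- The presentation `Γ(box) → Γ(P^n, U)`. -/
noncomputable def piT : Γ(pullback f f, OmegaSh.diagNbhd f U) →+ Γ(PrinPart.P f n, U) :=
  (secEquiv f n U).symm.toAddMonoidHom.comp (theta f n U).hom.toAddMonoidHom

theorem secE_piT (t : Γ(pullback f f, OmegaSh.diagNbhd f U)) :
    secE f n U (piT f n U t) = (theta f n U).hom t :=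
  (secEquiv f n U).apply_symm_apply _

theorem piT_i1_mul (b : Γ(X, U)) (t : Γ(pullback f f, OmegaSh.diagNbhd f U)) :
    piT f n U ((i1 f U).hom b * t) = b • piT f n U t := by
  apply (secE_bijective f n U).1
  rw [secE_piT, secE_smul, secE_piT, map_mul, theta_i1]

theorem piT_i1_i2 (a b : Γ(X, U)) :
    piT f n U ((i1 f U).hom a * (i2 f U).hom b) = a • PrinPart.dn f n U b := by
  apply (secE_bijective f n U).1
  rw [secE_piT, secE_smul, secE_dn, map_mul, theta_i1, theta_i2]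

variable {V : S.Opens} (hU : IsAffineOpen U) (hV : IsAffineOpen V) (hUV : U ≤ f ⁻¹ᵁ V)

include hU hV hUV in
theorem theta_surjective : Function.Surjective (theta f n U).hom := by
  intro c
  obtain ⟨Q, rfl⟩ := exists_sum_pr1_pr2 f hU hV hUV n c
  refine ⟨∑ q ∈ Q, (i1 f U).hom q.1 * (i2 f U).hom q.2, ?_⟩
  rw [map_sum]
  refine Finset.sum_congr rfl fun q _ => ?_
  rw [map_mul, theta_i1, theta_i2]

include hU hV hUV in
theorem piT_surjective : Function.Surjective (piT f n U) := by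
  intro m
  obtain ⟨t, ht⟩ := theta_surjective f n U hU hV hUV (secE f n U m)
  refine ⟨t, (secE_bijective f n U).1 ?_⟩
  rw [secE_piT, ht]

include hU hV hUV in
theorem piT_eq_zero_iff (t : Γ(pullback f f, OmegaSh.diagNbhd f U)) :
    piT f n U t = 0 ↔ t ∈ RingHom.ker (mu f U).hom ^ (n + 1) := by
  rw [← ker_nbhdι_appLE_box f hU hV hUV n (pr1_le_box f n U), RingHom.mem_ker]
  constructor
  · intro h
    have := secE_piT f n U t
    rw [h, map_zero] at this
    exact this.symm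
  · intro h
    apply (secE_bijective f n U).1
    rw [secE_piT, map_zero]
    exact h

end chart

end Groth.Agent.Helper19.PnBC
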