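import Mathlib
import Groth.Agent.Helper19.PnBC1
import Groth.Agent.Helper19.PnBC2
import Groth.Agent.Helper19.OmegaD4
set_option autoImplicit false
set_option linter.style.haveILetI false
set_option linter.unusedSectionVars false
universe u

open CategoryTheory CategoryTheory.Limits AlgebraicGeometry TopologicalSpace Opposite
open scoped TensorProduct

/-! # Base change of principal parts: the two boxes (helper19) -/

namespace Groth.Agent.Helper19.PnBC

open Groth.Agent.Lib.Helper2.PrinPartB Groth.Agent.Lib.Helper29.QCoh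

section boxes

variable {X S X' S' : Scheme.{u}} (f : X ⟶ S) (g : S' ⟶ S) (u : X' ⟶ X) (f' : X' ⟶ S')
  (hsq : IsPullback u f' f g)

/-- The map `X' ×_{S'} X' ⟶ X ×_S X`. -/
noncomputable def mm : pullback f' f' ⟶ pullback f f :=
  pullback.map f' f' f f u u g hsq.w.symm hsq.w.symm

theorem mm_fst : mm f g u f' hsq ≫ pullback.fst f f = pullback.fst f' f' ≫ u :=
  pullback.lift_fst _ _ _

theorem mm_snd : mm f g u f' hsq ≫ pullback.snd f f = pullback.snd f' f' ≫ u :=
  pullback.lift_snd _ _ _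

theorem diagonal_mm : pullback.diagonal f' ≫ mm f g u f' hsq = u ≫ pullback.diagonal f := by
  apply pullback.hom_ext
  · rw [Category.assoc, mm_fst, pullback.diagonal_fst_assoc, Category.assoc,
      pullback.diagonal_fst, Category.comp_id]
  · rw [Category.assoc, mm_snd, pullback.diagonal_snd_assoc, Category.assoc,
      pullback.diagonal_snd, Category.comp_id]

variable {U : X.Opens} {U' : X'.Opens} (e' : U' ≤ u ⁻¹ᵁ U)

include e' in
theorem box_le : OmegaSh.diagNbhd f' U' ≤ mm f g u f' hsq ⁻¹ᵁ OmegaSh.diagNbhd f U := by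
  intro z hz
  constructor
  · change (pullback.fst f f) (mm f g u f' hsq z) ∈ U
    rw [← Scheme.Hom.comp_apply, mm_fst]
    exact e' hz.1
  · change (pullback.snd f f) (mm f g u f' hsq z) ∈ U
    rw [← Scheme.Hom.comp_apply, mm_snd]
    exact e' hz.2

/-- `τ : Γ(box) ⟶ Γ(box')`. -/
noncomputable def tau : Γ(pullback f f, OmegaSh.diagNbhd f U) ⟶
    Γ(pullback f' f', OmegaSh.diagNbhd f' U') :=
  (mm f g u f' hsq).appLE (OmegaSh.diagNbhd f U) (OmegaSh.diagNbhd f' U') (box_le f g u f' hsq e')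

theorem i1_tau : i1 f U ≫ tau f g u f' hsq e' = u.appLE U U' e' ≫ i1 f' U' := by
  rw [tau, Scheme.Hom.appLE_comp_appLE, Scheme.Hom.appLE_comp_appLE]
  exact OmegaSh.appLE_congr_hom (mm_fst f g u f' hsq) _ _

theorem i2_tau : i2 f U ≫ tau f g u f' hsq e' = u.appLE U U' e' ≫ i2 f' U' := by
  rw [tau, Scheme.Hom.appLE_comp_appLE, Scheme.Hom.appLE_comp_appLE]
  exact OmegaSh.appLE_congr_hom (mm_snd f g u f' hsq) _ _

end boxes

section dn

variable {X S : Scheme.{u}} (f : X ⟶ S) (n : ℕ)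

theorem dn_map {U V : X.Opens} (e : V ≤ U) (c : Γ(X, U)) :
    PrinPart.dn f n V (X.presheaf.map (homOfLE e).op c) =
      res (PrinPart.P f n) e (PrinPart.dn f n U c) :=
  PrinPart.dP_map f n (Coh.structureModule X) e (OmegaSh.strSect X U c)

end dn

section lam

variable {X S X' S' : Scheme.{u}} (f : X ⟶ S) (u : X' ⟶ X) (f' : X' ⟶ S') (n : ℕ)
  (φ : (Scheme.Modules.pullback u).obj (PrinPart.P f n) ⟶ PrinPart.P f' n)
  {U : X.Opens} {U' : X'.Opens} (e' : U' ≤ u ⁻¹ᵁ U)

/-- The semilinear map `Γ(P^n_{X/S}, U) → Γ(P^n_{X'/S'}, U')` induced by `φ`. -/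
noncomputable def Lam : Γ(PrinPart.P f n, U) →+ Γ(PrinPart.P f' n, U') :=
  ((appₗ φ U').toAddMonoidHom.comp
    (res ((Scheme.Modules.pullback u).obj (PrinPart.P f n)) e')).comp
      (pullSect u (PrinPart.P f n) U)

theorem Lam_apply (m : Γ(PrinPart.P f n, U)) :
    Lam f u f' n φ e' m = φ.app U'
      (res ((Scheme.Modules.pullback u).obj (PrinPart.P f n)) e'
        (pullSect u (PrinPart.P f n) U m)) := rfl

theorem Lam_smul (b : Γ(X, U)) (m : Γ(PrinPart.P f n, U)) :
    Lam f u f' n φ e' (b • m) = (u.appLE U U' e').hom b • Lam f u f' n φ e' m := by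
  rw [Lam_apply, Lam_apply, pullSect_smul, res_smul]
  exact (appₗ φ U').map_smul _ _

variable (hφ : PrinPart.IsPMap f f' u n φ)

include hφ in
theorem Lam_dn (b : Γ(X, U)) :
    Lam f u f' n φ e' (PrinPart.dn f n U b) = PrinPart.dn f' n U' ((u.appLE U U' e').hom b) := by
  rw [Lam_apply, app_res]
  have h1 := hφ U b
  have h2 : φ.app (u ⁻¹ᵁ U) (pullSect u (PrinPart.P f n) U (PrinPart.dn f n U b)) =
      PrinPart.dn f' n (u ⁻¹ᵁ U) (u.app U b) := h1
  rw [h2, ← dn_map]
  rfl

end lam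

end Groth.Agent.Helper19.PnBC
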