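import Mathlib
import Groth.Agent.Helper19.PnBC3
import Groth.Agent.Helper19.PullUnit
set_option autoImplicit false
set_option linter.style.haveILetI false
set_option linter.unusedSectionVars false
universe u

open CategoryTheory CategoryTheory.Limits AlgebraicGeometry TopologicalSpace Opposite
open scoped TensorProduct

/-! # Base change of principal parts: bijectivity on a pushout chart (helper19) -/

namespace Groth.Agent.Helper19.PnBC

open Groth.Agent.Lib.Helper2.PrinPartB Groth.Agent.Lib.Helper29.QCoh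

section chartBC

variable {X S X' S' : Scheme.{u}} (f : X ⟶ S) (g : S' ⟶ S) (u : X' ⟶ X) (f' : X' ⟶ S')
  (hsq : IsPullback u f' f g) (n : ℕ)
  (φ : (Scheme.Modules.pullback u).obj (PrinPart.P f n) ⟶ PrinPart.P f' n)
  (hφ : PrinPart.IsPMap f f' u n φ)
  {U : X.Opens} {V : S.Opens} {V' : S'.Opens} {U' : X'.Opens}
  (hU : IsAffineOpen U) (hV : IsAffineOpen V) (hV' : IsAffineOpen V')
  (hUV : U ≤ f ⁻¹ᵁ V) (hV'V : V' ≤ g ⁻¹ᵁ V) (hU'eq : U' = u ⁻¹ᵁ U ⊓ f' ⁻¹ᵁ V')

include hU'eq in
theorem le_left : U' ≤ u ⁻¹ᵁ U := by rw [hU'eq]; exact inf_le_left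

include hU'eq in
theorem le_right : U' ≤ f' ⁻¹ᵁ V' := by rw [hU'eq]; exact inf_le_right

include hsq hU hV hV' hUV hV'V hU'eq in
theorem isAffineOpen_chart : IsAffineOpen U' := by
  haveI : IsAffine (V : Scheme.{u}) := hV
  haveI : IsAffine (U : Scheme.{u}) := hU
  haveI : IsAffine (V' : Scheme.{u}) := hV'
  exact .of_isIso (Scheme.Hom.isPullback_resLE hsq hV'V hUV hU'eq).isoPullback.hom

include hsq hU hV hV' hUV hV'V hU'eq in
theorem isPushout_chart :
    IsPushout (f.appLE V U hUV) (g.appLE V V' hV'V)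
      (u.appLE U U' (le_left u f' hU'eq)) (f'.appLE V' U' (le_right u f' hU'eq)) := by
  haveI := isIso_pushoutSection_of_isAffineOpen hsq hV'V hUV hU'eq hV hV' hU
  exact (isIso_pushoutSection_iff hsq hV'V hUV hU'eq).mp inferInstance

include hφ hU hV hUV in
theorem Lam_piT (e' : U' ≤ u ⁻¹ᵁ U) (t : Γ(pullback f f, OmegaSh.diagNbhd f U)) :
    Lam f u f' n φ e' (piT f n U t) = piT f' n U' ((tau f g u f' hsq e').hom t) := by
  obtain ⟨Q, rfl⟩ := exists_sum_box f hU hV hUV t
  rw [map_sum, map_sum, map_sum, map_sum]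
  refine Finset.sum_congr rfl fun q _ => ?_
  have t1 : ∀ x, (tau f g u f' hsq e').hom ((i1 f U).hom x) =
      (i1 f' U').hom ((u.appLE U U' e').hom x) :=
    fun x => congrArg (fun ψ => ψ.hom x) (i1_tau f g u f' hsq e')
  have t2 : ∀ x, (tau f g u f' hsq e').hom ((i2 f U).hom x) =
      (i2 f' U').hom ((u.appLE U U' e').hom x) :=
    fun x => congrArg (fun ψ => ψ.hom x) (i2_tau f g u f' hsq e')
  rw [piT_i1_i2 f n U q.1 q.2, Lam_smul, Lam_dn f u f' n φ e' hφ, map_mul, t1, t2, piT_i1_i2]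


include hsq hφ hU hV hV' hUV hV'V hU'eq in
theorem phi_app_surjective : Function.Surjective (φ.app U') := by
  have e' := le_left u f' hU'eq
  have hU' := isAffineOpen_chart f g u f' hsq hU hV hV' hUV hV'V hU'eq
  have hB' := isPushout_chart f g u f' hsq hU hV hV' hUV hV'V hU'eq
  have hleft := isPushout_left hB' (isPushout_box f hU hV hUV)
    (isPushout_box f' hU' hV' (le_right u f' hU'eq)) (i1_tau f g u f' hsq e')
    (i2_tau f g u f' hsq e')
  intro m'
  obtain ⟨t', rfl⟩ := piT_surjective f' n U' hU' hV' (le_right u f' hU'eq) m'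
  obtain ⟨Q, rfl⟩ := exists_sum_of_isPushout hleft t'
  refine ⟨∑ q ∈ Q, q.1 • res ((Scheme.Modules.pullback u).obj (PrinPart.P f n)) e'
    (pullSect u (PrinPart.P f n) U (piT f n U q.2)), ?_⟩
  have hlin : ∀ (b' : Γ(X', U')) (x : Γ((Scheme.Modules.pullback u).obj (PrinPart.P f n), U')),
      φ.app U' (b' • x) = b' • φ.app U' x := fun b' x => (appₗ φ U').map_smul b' x
  have hsum : ∀ (s : Finset (Γ(X', U') × Γ(pullback f f, OmegaSh.diagNbhd f U)))
      (F : Γ(X', U') × Γ(pullback f f, OmegaSh.diagNbhd f U) →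
        Γ((Scheme.Modules.pullback u).obj (PrinPart.P f n), U')),
      φ.app U' (∑ q ∈ s, F q) = ∑ q ∈ s, φ.app U' (F q) := fun s F => map_sum (appₗ φ U') F s
  rw [hsum, map_sum]
  refine Finset.sum_congr rfl fun q _ => ?_
  rw [hlin, piT_i1_mul, ← Lam_piT f g u f' hsq n φ hφ hU hV hUV e']
  rfl


set_option maxHeartbeats 800000 in
set_option maxRecDepth 8000 in
include hsq hφ hU hV hV' hUV hV'V hU'eq in
theorem phi_app_injective : Function.Injective (φ.app U') := by
  have e' := le_left u f' hU'eq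
  have hU' := isAffineOpen_chart f g u f' hsq hU hV hV' hUV hV'V hU'eq
  have hB' := isPushout_chart f g u f' hsq hU hV hV' hUV hV'V hU'eq
  have hT := isPushout_box f hU hV hUV
  have hT' := isPushout_box f' hU' hV' (le_right u f' hU'eq)
  have hτ1 := i1_tau f g u f' hsq e'
  have hτ2 := i2_tau f g u f' hsq e'
  have hleft := isPushout_left hB' hT hT' hτ1 hτ2
  have hker := ker_codiag_le_map hB' hT' hτ1 hτ2 (mu f U) (i1_mu f U) (i2_mu f U)
    (mu f' U') (i1_mu f' U') (i2_mu f' U')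
  -- algebra structures
  letI aBB' : Algebra Γ(X, U) Γ(X', U') := (u.appLE U U' e').hom.toAlgebra
  letI aBT : Algebra Γ(X, U) Γ(pullback f f, OmegaSh.diagNbhd f U) := (i1 f U).hom.toAlgebra
  letI aB'T' : Algebra Γ(X', U') Γ(pullback f' f', OmegaSh.diagNbhd f' U') :=
    (i1 f' U').hom.toAlgebra
  letI aTT' : Algebra Γ(pullback f f, OmegaSh.diagNbhd f U)
      Γ(pullback f' f', OmegaSh.diagNbhd f' U') := (tau f g u f' hsq e').hom.toAlgebra
  letI aBT' : Algebra Γ(X, U) Γ(pullback f' f', OmegaSh.diagNbhd f' U') :=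
    ((i1 f' U').hom.comp (u.appLE U U' e').hom).toAlgebra
  haveI t1 : IsScalarTower Γ(X, U) Γ(X', U') Γ(pullback f' f', OmegaSh.diagNbhd f' U') :=
    IsScalarTower.of_algebraMap_eq (fun x => rfl)
  haveI t2 : IsScalarTower Γ(X, U) Γ(pullback f f, OmegaSh.diagNbhd f U)
      Γ(pullback f' f', OmegaSh.diagNbhd f' U') :=
    IsScalarTower.of_algebraMap_eq (fun x => (congrArg (fun ψ => ψ.hom x) hτ1).symm)
  haveI hpo : Algebra.IsPushout Γ(X, U) Γ(X', U') Γ(pullback f f, OmegaSh.diagNbhd f U)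
      Γ(pullback f' f', OmegaSh.diagNbhd f' U') :=
    CommRingCat.isPushout_iff_isPushout.mp hleft
  letI mBM' : Module Γ(X, U) Γ(PrinPart.P f' n, U') :=
    Module.compHom Γ(PrinPart.P f' n, U') (u.appLE U U' e').hom
  haveI t3 : IsScalarTower Γ(X, U) Γ(X', U') Γ(PrinPart.P f' n, U') :=
    ⟨fun b b' m' => mul_smul ((u.appLE U U' e').hom b) b' m'⟩
  -- the linear maps
  let π : Γ(pullback f f, OmegaSh.diagNbhd f U) →ₗ[Γ(X, U)] Γ(PrinPart.P f n, U) :=
    { toFun := piT f n U
      map_add' := map_add _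
      map_smul' := fun b t => piT_i1_mul f n U b t }
  let π' : Γ(pullback f' f', OmegaSh.diagNbhd f' U') →ₗ[Γ(X', U')] Γ(PrinPart.P f' n, U') :=
    { toFun := piT f' n U'
      map_add' := map_add _
      map_smul' := fun b t => piT_i1_mul f' n U' b t }
  let Λ : Γ(PrinPart.P f n, U) →ₗ[Γ(X, U)] Γ(PrinPart.P f' n, U') :=
    { toFun := Lam f u f' n φ e'
      map_add' := map_add _
      map_smul' := fun b m => Lam_smul f u f' n φ e' b m }
  have hinj := liftBaseChange_injective (B' := Γ(X', U'))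
    (RingHom.ker (mu f U).hom ^ (n + 1)) π (piT_surjective f n U hU hV hUV)
    (fun t ht => (piT_eq_zero_iff f n U hU hV hUV t).2 ht) π'
    (fun t' ht' => by
      have h1 := (piT_eq_zero_iff f' n U' hU' hV' (le_right u f' hU'eq) t').1 ht'
      have h2 : RingHom.ker (mu f' U').hom ^ (n + 1) ≤
          Ideal.map (algebraMap Γ(pullback f f, OmegaSh.diagNbhd f U)
            Γ(pullback f' f', OmegaSh.diagNbhd f' U')) (RingHom.ker (mu f U).hom ^ (n + 1)) := by
        rw [Ideal.map_pow]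
        exact Ideal.pow_right_mono hker (n + 1)
      exact h2 h1)
    Λ (fun t => Lam_piT f g u f' hsq n φ hφ hU hV hUV e' t)
  -- the dictionary for the pullback
  haveI : (Coh.structureModule X).IsQuasicoherent := inferInstanceAs (unitM X).IsQuasicoherent
  haveI : (PrinPart.P f n).IsQuasicoherent := isQuasicoherent_PMod f n _
  let Θ := pullbackSectionsEquiv u (PrinPart.P f n) hU' hU e'
  have hΘ : ∀ m : Γ(PrinPart.P f n, U),
      Θ.symm ((1 : Γ(X', U')) ⊗ₜ[Γ(X, U)] m) =
        res ((Scheme.Modules.pullback u).obj (PrinPart.P f n)) e'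
          (pullSect u (PrinPart.P f n) U m) := by
    intro m
    rw [LinearEquiv.symm_apply_eq]
    exact (Groth.Agent.Helper19.PullUnit.pullbackSectionsEquiv_pullSect u (PrinPart.P f n)
      hU' hU e' m).symm
  have key : ∀ z : Γ(X', U') ⊗[Γ(X, U)] Γ(PrinPart.P f n, U),
      appₗ φ U' (Θ.symm z) = LinearMap.liftBaseChange Γ(X', U') Λ z := by
    intro z
    induction z using TensorProduct.induction_on with
    | zero => rw [map_zero, map_zero, map_zero]
    | tmul b' m =>
      have h1 : b' ⊗ₜ[Γ(X, U)] m = b' • ((1 : Γ(X', U')) ⊗ₜ[Γ(X, U)] m) := by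
        rw [TensorProduct.smul_tmul', smul_eq_mul, mul_one]
      rw [h1, map_smul, map_smul, map_smul, hΘ, LinearMap.liftBaseChange_tmul, one_smul]
      rfl
    | add z₁ z₂ h₁ h₂ => rw [map_add, map_add, map_add, h₁, h₂]
  intro x y hxy
  apply Θ.injective
  apply hinj
  rw [← key, ← key, LinearEquiv.symm_apply_apply, LinearEquiv.symm_apply_apply]
  exact hxy

end chartBC

end Groth.Agent.Helper19.PnBC
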