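import Mathlib
set_option autoImplicit false
set_option linter.style.haveILetI false
set_option linter.unusedSectionVars false
universe u

open CategoryTheory CategoryTheory.Limits
open scoped TensorProduct

/-! # Ring core for `δ : P^(n+n') → P^n'(P^n)` (helper19) -/

namespace Groth.Agent.Helper19.PnDelta

theorem sup_pow_succ_le {R : Type*} [CommRing R] (I J : Ideal R) (a b : ℕ) :
    (I ⊔ J) ^ (a + b + 1) ≤ I ^ (a + 1) ⊔ J ^ (b + 1) := by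
  rw [← Ideal.add_eq_sup, ← Ideal.add_eq_sup, add_pow, Ideal.sum_eq_sup]
  apply Finset.sup_le
  intro i hi
  by_cases hn : a + 1 ≤ i
  · exact (Ideal.mul_le_left.trans (Ideal.mul_le_left.trans
      ((Ideal.pow_le_pow_right hn).trans le_sup_left)))
  · refine (Ideal.mul_le_left.trans (Ideal.mul_le_right.trans
      ((Ideal.pow_le_pow_right ?_).trans le_sup_right)))
    lia

section core

variable {B R P1 P2 : Type u} [CommRing B] [CommRing R] [CommRing P1] [CommRing P2]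
  [Algebra B P1] [Algebra B P2]

/-- If `K` is generated by the differences `i2 b - i1 b`, `θ1` kills `K^(a+1)`, `θ2` kills
`K^(b+1)` and `Ψ : R → P1 ⊗_B P2` is `θ1 ⊗ 1` on `i1` and `1 ⊗ θ2` on `i2`, then `Ψ` kills
`K^(a+b+1)`. -/
theorem ker_le_of_tensor (i1 i2 : B →+* R) (K : Ideal R)
    (hK : K = Ideal.span (Set.range fun b : B => i2 b - i1 b))
    (θ1 : R →+* P1) (θ2 : R →+* P2) (a b : ℕ)
    (h1 : K ^ (a + 1) ≤ RingHom.ker θ1) (h2 : K ^ (b + 1) ≤ RingHom.ker θ2)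
    (halg1 : ∀ x : B, algebraMap B P1 x = θ1 (i2 x))
    (halg2 : ∀ x : B, algebraMap B P2 x = θ2 (i1 x))
    (Ψ : R →+* P1 ⊗[B] P2)
    (hΨ1 : ∀ x : B, Ψ (i1 x) = θ1 (i1 x) ⊗ₜ[B] (1 : P2))
    (hΨ2 : ∀ x : B, Ψ (i2 x) = (1 : P1) ⊗ₜ[B] θ2 (i2 x)) :
    K ^ (a + b + 1) ≤ RingHom.ker Ψ := by
  let incL : P1 →+* P1 ⊗[B] P2 := (Algebra.TensorProduct.includeLeft (R := B) (S := B) (A := P1) (B := P2)).toRingHom
  let incR : P2 →+* P1 ⊗[B] P2 := (Algebra.TensorProduct.includeRight (R := B) (A := P1) (B := P2)).toRingHom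
  have hL : ∀ x : P1, incL x = x ⊗ₜ[B] (1 : P2) := fun x => rfl
  have hR : ∀ x : P2, incR x = (1 : P1) ⊗ₜ[B] x := fun x => rfl
  set 𝔞 : Ideal (P1 ⊗[B] P2) := (K.map θ1).map incL with h𝔞
  set 𝔠 : Ideal (P1 ⊗[B] P2) := (K.map θ2).map incR with h𝔠
  have hKΨ : K.map Ψ ≤ 𝔞 ⊔ 𝔠 := by
    have hgen : ∀ x : B, i2 x - i1 x ∈ K := fun x => by
      rw [hK]; exact Ideal.subset_span ⟨x, rfl⟩
    conv_lhs => rw [hK]
    rw [Ideal.map_span, Ideal.span_le]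
    rintro _ ⟨_, ⟨x, rfl⟩, rfl⟩
    have e1 : Ψ (i2 x - i1 x) = incL (θ1 (i2 x - i1 x)) + incR (θ2 (i2 x - i1 x)) := by
      rw [map_sub, hΨ1, hΨ2, hL, hR, map_sub, map_sub, TensorProduct.sub_tmul,
        TensorProduct.tmul_sub]
      have e2 : (1 : P1) ⊗ₜ[B] θ2 (i1 x) = θ1 (i2 x) ⊗ₜ[B] (1 : P2) := by
        rw [← halg1, ← halg2, Algebra.algebraMap_eq_smul_one, Algebra.algebraMap_eq_smul_one,
          TensorProduct.smul_tmul]
      rw [e2]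
      abel
    change Ψ (i2 x - i1 x) ∈ 𝔞 ⊔ 𝔠
    rw [e1]
    exact Ideal.add_mem _
      (Ideal.mem_sup_left (Ideal.mem_map_of_mem _ (Ideal.mem_map_of_mem _ (hgen x))))
      (Ideal.mem_sup_right (Ideal.mem_map_of_mem _ (Ideal.mem_map_of_mem _ (hgen x))))
  have h𝔞0 : 𝔞 ^ (a + 1) = ⊥ := by
    rw [h𝔞, ← Ideal.map_pow, ← Ideal.map_pow, (Ideal.map_eq_bot_iff_le_ker θ1).2 h1, Ideal.map_bot]
  have h𝔠0 : 𝔠 ^ (b + 1) = ⊥ := by
    rw [h𝔠, ← Ideal.map_pow, ← Ideal.map_pow, (Ideal.map_eq_bot_iff_le_ker θ2).2 h2, Ideal.map_bot]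
  rw [← Ideal.map_eq_bot_iff_le_ker, Ideal.map_pow, eq_bot_iff]
  refine (Ideal.pow_right_mono hKΨ _).trans ((sup_pow_succ_le 𝔞 𝔠 a b).trans ?_)
  rw [h𝔞0, h𝔠0, sup_bot_eq]

end core

section pushout

variable {A B R : CommRingCat.{u}} {φ : A ⟶ B} {i1 i2 : B ⟶ R} {P1 P2 : Type u}
  [CommRing P1] [CommRing P2] [Algebra B P1] [Algebra B P2]

theorem exists_Psi (h : IsPushout φ φ i1 i2) (θ1 : R →+* P1) (θ2 : R →+* P2)
    (halg1 : ∀ x : B, algebraMap B P1 x = θ1 (i2.hom x))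
    (halg2 : ∀ x : B, algebraMap B P2 x = θ2 (i1.hom x)) :
    ∃ Ψ : R →+* P1 ⊗[B] P2, (∀ x : B, Ψ (i1.hom x) = θ1 (i1.hom x) ⊗ₜ[B] (1 : P2)) ∧
      ∀ x : B, Ψ (i2.hom x) = (1 : P1) ⊗ₜ[B] θ2 (i2.hom x) := by
  let incL : P1 →+* P1 ⊗[B] P2 :=
    (Algebra.TensorProduct.includeLeft (R := B) (S := B) (A := P1) (B := P2)).toRingHom
  let incR : P2 →+* P1 ⊗[B] P2 :=
    (Algebra.TensorProduct.includeRight (R := B) (A := P1) (B := P2)).toRingHom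
  let g1 : B ⟶ CommRingCat.of (P1 ⊗[B] P2) := CommRingCat.ofHom (incL.comp (θ1.comp i1.hom))
  let g2 : B ⟶ CommRingCat.of (P1 ⊗[B] P2) := CommRingCat.ofHom (incR.comp (θ2.comp i2.hom))
  have hcomm : ∀ a : A, i1.hom (φ.hom a) = i2.hom (φ.hom a) := fun a =>
    congrArg (fun ψ => ψ.hom a) h.w
  have hg : φ ≫ g1 = φ ≫ g2 := by
    ext a
    change (θ1 (i1.hom (φ.hom a))) ⊗ₜ[B] (1 : P2) = (1 : P1) ⊗ₜ[B] θ2 (i2.hom (φ.hom a))
    rw [hcomm a, ← halg1, ← hcomm a, ← halg2, Algebra.algebraMap_eq_smul_one,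
      Algebra.algebraMap_eq_smul_one, TensorProduct.smul_tmul]
  refine ⟨(h.desc g1 g2 hg).hom, fun x => ?_, fun x => ?_⟩
  · exact congrArg (fun ψ => ψ.hom x) (h.inl_desc g1 g2 hg)
  · exact congrArg (fun ψ => ψ.hom x) (h.inr_desc g1 g2 hg)

end pushout

end Groth.Agent.Helper19.PnDelta
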