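import Mathlib
import Groth.Agent.Helper19.PnDelta1
import Groth.Agent.Helper19.PnBC2
import Groth.Agent.Helper19.PnBC1
import Groth.Agent.Lib.Helper2.PrinPart.AffineMod
set_option autoImplicit false
set_option linter.style.haveILetI false
set_option linter.unusedSectionVars false
universe u

open CategoryTheory CategoryTheory.Limits AlgebraicGeometry TopologicalSpace Opposite
open scoped TensorProduct

/-! # `δ : P^(n+n') → P^n'(P^n)` on an affine chart (helper19) -/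

namespace Groth.Agent.Helper19.PnDelta

open Groth.Agent.Lib.Helper2.PrinPartB Groth.Agent.Lib.Helper29.QCoh Groth.Agent.Helper19.PnBC

section chart

variable {X S : Scheme.{u}} (f : X ⟶ S) (n n' : ℕ) {U : X.Opens} {V : S.Opens}
  (hU : IsAffineOpen U) (hV : IsAffineOpen V) (hUV : U ≤ f ⁻¹ᵁ V)

include hU hV hUV in
theorem ker_mu_eq_span : RingHom.ker (mu f U).hom =
    Ideal.span (Set.range fun b : Γ(X, U) => (i2 f U).hom b - (i1 f U).hom b) := by
  refine le_antisymm (ker_codiag_le_span (isPushout_box f hU hV hUV) (mu f U) (i1_mu f U)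
    (i2_mu f U)) ?_
  rw [Ideal.span_le]
  rintro _ ⟨b, rfl⟩
  have e1 : ∀ x, (mu f U).hom ((i1 f U).hom x) = x :=
    fun x => congrArg (fun φ => φ.hom x) (i1_mu f U)
  have e2 : ∀ x, (mu f U).hom ((i2 f U).hom x) = x :=
    fun x => congrArg (fun φ => φ.hom x) (i2_mu f U)
  change (mu f U).hom ((i2 f U).hom b - (i1 f U).hom b) = 0
  rw [map_sub, e1, e2, sub_self]

include hU hV hUV in
theorem ker_theta (m : ℕ) : RingHom.ker (theta f m U).hom = RingHom.ker (mu f U).hom ^ (m + 1) :=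
  ker_nbhdι_appLE_box f hU hV hUV m (PnBC.pr1_le_box f m U)

set_option maxRecDepth 8000 in
include hU hV hUV in
theorem exists_delta_chart :
    ∃ φ : Γ(PrinPart.P f (n + n'), U) →+ Γ(PrinPart.PMod f n' (PrinPart.P f n), U),
      (∀ (b : Γ(X, U)) (m : Γ(PrinPart.P f (n + n'), U)), φ (b • m) = b • φ m) ∧
      ∀ t : Γ(X, U), φ (PrinPart.dn f (n + n') U t) =
        PrinPart.dP f n' (PrinPart.P f n) U (PrinPart.dn f n U t) := by
  letI alg1 : Algebra Γ(X, U) Γ(PrinPart.nbhd f n', PrinPart.pr1 f n' ⁻¹ᵁ U) :=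
    ((PrinPart.pr2 f n').appLE U (PrinPart.pr1 f n' ⁻¹ᵁ U)
      (PrinPart.preimage_pr1 f n' U).le).hom.toAlgebra
  letI alg2 : Algebra Γ(X, U) Γ(PrinPart.nbhd f n, PrinPart.pr1 f n ⁻¹ᵁ U) :=
    ((PrinPart.pr1 f n).app U).hom.toAlgebra
  haveI : (PrinPart.P f n).IsQuasicoherent := isQuasicoherent_PMod f n _
  have hpo := isPushout_box f hU hV hUV
  obtain ⟨Ψ, hΨ1, hΨ2⟩ := exists_Psi hpo (theta f n' U).hom (theta f n U).hom
    (fun x => (theta_i2 f n' U x).symm) (fun x => (theta_i1 f n U x).symm)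
  have hker : RingHom.ker (mu f U).hom ^ (n' + n + 1) ≤ RingHom.ker Ψ :=
    ker_le_of_tensor (i1 f U).hom (i2 f U).hom (RingHom.ker (mu f U).hom)
      (ker_mu_eq_span f hU hV hUV) (theta f n' U).hom (theta f n U).hom n' n
      (ker_theta f hU hV hUV n').ge (ker_theta f hU hV hUV n).ge
      (fun x => (theta_i2 f n' U x).symm) (fun x => (theta_i1 f n U x).symm) Ψ hΨ1 hΨ2
  letI alg0 : Algebra Γ(S, V) Γ(X, U) := (f.appLE V U hUV).hom.toAlgebra
  have hΩ := isAffineOpen_pr1_preimage_box f hU hV hUV n'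
  let pSE := pullbackSectionsEquiv (PrinPart.pr2 f n') (PrinPart.P f n) hΩ hU
    (PrinPart.preimage_pr1 f n' U).le
  -- the left-linear identification `Γ(Δ^(n), pr1⁻¹U) → Γ(P^n, U)`
  let g : Γ(PrinPart.nbhd f n, PrinPart.pr1 f n ⁻¹ᵁ U) →ₗ[Γ(X, U)] Γ(PrinPart.P f n, U) :=
    { toFun := (secEquiv f n U).symm
      map_add' := fun x y => map_add _ x y
      map_smul' := fun b x => by
        apply (secE_bijective f n U).1
        rw [RingHom.id_apply, secE_smul]
        change secEquiv f n U ((secEquiv f n U).symm _) = _ * secEquiv f n U ((secEquiv f n U).symm x)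
        rw [AddEquiv.apply_symm_apply, AddEquiv.apply_symm_apply]
        rfl }
  have hg : ∀ w, g ((theta f n U).hom w) = piT f n U w := fun w => rfl
  let G := TensorProduct.AlgebraTensorModule.map
    (LinearMap.id : Γ(PrinPart.nbhd f n', PrinPart.pr1 f n' ⁻¹ᵁ U) →ₗ[Γ(PrinPart.nbhd f n', PrinPart.pr1 f n' ⁻¹ᵁ U)] Γ(PrinPart.nbhd f n', PrinPart.pr1 f n' ⁻¹ᵁ U)) g
  let Φ : Γ(pullback f f, OmegaSh.diagNbhd f U) →+
      Γ((Scheme.Modules.pullback (PrinPart.pr2 f n')).obj (PrinPart.P f n), PrinPart.pr1 f n' ⁻¹ᵁ U) :=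
    pSE.symm.toLinearMap.toAddMonoidHom.comp (G.toAddMonoidHom.comp Ψ.toAddMonoidHom)
  have hΦ : ∀ w, Φ w = pSE.symm (G (Ψ w)) := fun w => rfl
  have hΦ1 : ∀ (b : Γ(X, U)) w, Φ ((i1 f U).hom b * w) =
      ((PrinPart.pr1 f n').app U).hom b • Φ w := by
    intro b w
    rw [hΦ, hΦ, map_mul, hΨ1, theta_i1]
    have e : (((PrinPart.pr1 f n').app U).hom b ⊗ₜ[Γ(X, U)]
        (1 : Γ(PrinPart.nbhd f n, PrinPart.pr1 f n ⁻¹ᵁ U))) * Ψ w =
        ((PrinPart.pr1 f n').app U).hom b • Ψ w := by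
      rw [Algebra.smul_def, Algebra.TensorProduct.algebraMap_apply]
      rfl
    rw [e, map_smul, map_smul]
  have hΦ2 : ∀ t : Γ(X, U), Φ ((i2 f U).hom t) =
      PrinPart.dP f n' (PrinPart.P f n) U (PrinPart.dn f n U t) := by
    intro t
    rw [hΦ, hΨ2]
    have e1 : G ((1 : Γ(PrinPart.nbhd f n', PrinPart.pr1 f n' ⁻¹ᵁ U)) ⊗ₜ[Γ(X, U)]
        (theta f n U).hom ((i2 f U).hom t)) =
        (1 : Γ(PrinPart.nbhd f n', PrinPart.pr1 f n' ⁻¹ᵁ U)) ⊗ₜ[Γ(X, U)]
          PrinPart.dn f n U t := by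
      change (1 : Γ(PrinPart.nbhd f n', PrinPart.pr1 f n' ⁻¹ᵁ U)) ⊗ₜ[Γ(X, U)]
        g ((theta f n U).hom ((i2 f U).hom t)) = _
      rw [hg]
      have := piT_i1_i2 f n U 1 t
      rw [map_one, one_mul, one_smul] at this
      rw [this]
    rw [e1, LinearEquiv.symm_apply_eq]
    exact (Groth.Agent.Helper19.PullUnit.pullbackSectionsEquiv_pullSect (PrinPart.pr2 f n')
      (PrinPart.P f n) hΩ hU (PrinPart.preimage_pr1 f n' U).le (PrinPart.dn f n U t)).symm
  have hΦ0 : ∀ w, w ∈ RingHom.ker (mu f U).hom ^ (n + n' + 1) → Φ w = 0 := by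
    intro w hw
    rw [Nat.add_comm n n'] at hw
    have := hker hw
    rw [RingHom.mem_ker] at this
    rw [hΦ, this, map_zero, map_zero]
  -- descend through `piT`
  have hsurj := piT_surjective f (n + n') U hU hV hUV
  have hle : (piT f (n + n') U).ker ≤ Φ.ker := by
    intro w hw
    rw [AddMonoidHom.mem_ker] at hw ⊢
    exact hΦ0 w ((piT_eq_zero_iff f (n + n') U hU hV hUV w).1 hw)
  let φ : Γ(PrinPart.P f (n + n'), U) →+ Γ(PrinPart.PMod f n' (PrinPart.P f n), U) :=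
    (piT f (n + n') U).liftOfRightInverse (Function.surjInv hsurj)
      (Function.rightInverse_surjInv hsurj) ⟨Φ, hle⟩
  have hφ : ∀ w, φ (piT f (n + n') U w) = Φ w := fun w =>
    AddMonoidHom.liftOfRightInverse_comp_apply _ _ (Function.rightInverse_surjInv hsurj) ⟨Φ, hle⟩ w
  refine ⟨φ, ?_, ?_⟩
  · intro b m
    obtain ⟨w, rfl⟩ := hsurj m
    rw [← piT_i1_mul, hφ, hφ, hΦ1]
    rfl
  · intro t
    have := piT_i1_i2 f (n + n') U 1 t
    rw [map_one, one_mul, one_smul] at this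
    rw [← this, hφ, hΦ2]

end chart

end Groth.Agent.Helper19.PnDelta
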