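import Mathlib
import Groth.Agent.Helper19.GrDict1
import Groth.Agent.Helper19.GrDict8
import Groth.Agent.Helper19.OmegaD3
import Groth.Agent.Lib.Helper29.QCohExact
set_option autoImplicit false
set_option linter.style.haveILetI false
set_option linter.unusedSectionVars false
universe u

open CategoryTheory CategoryTheory.Limits AlgebraicGeometry Opposite TopologicalSpace
open scoped TensorProduct

/-! # Inclusions of ideal modules, sections of finite coproducts (helper19) -/

namespace Groth.Agent.Helper19.RegInter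

open Groth.Agent.Lib.Helper29.QCoh Groth.Agent.Helper19.OmegaD Groth.Agent.Helper19.OmegaLocal
open Groth.Agent.Helper19.OmegaAlg Groth.Agent.Helper19.GrDict

section incl

variable {X : Scheme.{u}} {J I : X.IdealSheafData} (h : J ≤ I)

include h in
theorem idealModι_toSubscheme_eq_zero : ClSub.idealModι J ≫ ClSub.toSubscheme I = 0 := by
  apply hom_ext_of_basis _ X.isBasis_affineOpens
  rintro U (hU : IsAffineOpen U) s
  have h1 : fromUnit ((ClSub.idealModι J).app U s) ∈ I.ideal ⟨U, hU⟩ :=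
    h ⟨U, hU⟩ (idealModι_app_mem J ⟨U, hU⟩ s)
  rw [← I.ker_subschemeι_app ⟨U, hU⟩, RingHom.mem_ker] at h1
  exact h1

/-- The inclusion of ideal modules for `J ≤ I`. -/
noncomputable def idealModIncl : ClSub.idealMod J ⟶ ClSub.idealMod I :=
  kernel.lift (ClSub.toSubscheme I) (ClSub.idealModι J) (idealModι_toSubscheme_eq_zero h)

theorem idealModIncl_ι : idealModIncl h ≫ ClSub.idealModι I = ClSub.idealModι J :=
  kernel.lift_ι _ _ _

theorem idealModIncl_app {U : X.Opens} (hU : IsAffineOpen U) (x : J.ideal ⟨U, hU⟩) :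
    (idealModIncl h).app U ((idealModSectionsEquiv J ⟨U, hU⟩).symm x) =
      (idealModSectionsEquiv I ⟨U, hU⟩).symm ⟨x.1, h ⟨U, hU⟩ x.2⟩ := by
  rw [LinearEquiv.eq_symm_apply]
  apply Subtype.ext
  rw [idealModSectionsEquiv_apply]
  have h1 : (ClSub.idealModι I).app U ((idealModIncl h).app U
      ((idealModSectionsEquiv J ⟨U, hU⟩).symm x)) =
      (ClSub.idealModι J).app U ((idealModSectionsEquiv J ⟨U, hU⟩).symm x) :=
    congrArg (fun k => (Scheme.Modules.Hom.app k U) ((idealModSectionsEquiv J ⟨U, hU⟩).symm x))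
      (idealModIncl_ι h)
  rw [h1]
  have h2 := idealModSectionsEquiv_apply J ⟨U, hU⟩ ((idealModSectionsEquiv J ⟨U, hU⟩).symm x)
  rw [LinearEquiv.apply_symm_apply] at h2
  exact h2.symm

end incl

section clsIncl

variable {Z X : Scheme.{u}} (i : Z ⟶ X) {J I : X.IdealSheafData} (h : J ≤ I)
  {U : X.Opens} (hU : IsAffineOpen U) {V : Z.Opens} (e : V ≤ i ⁻¹ᵁ U)

/-- The pulled back inclusion on classes. -/
theorem pullback_incl_clsV (x : J.ideal ⟨U, hU⟩) :
    ((Scheme.Modules.pullback i).map (idealModIncl h)).app V (clsV i J hU e x) =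
      clsV i I hU e ⟨x.1, h ⟨U, hU⟩ x.2⟩ := by
  unfold clsV cls
  rw [app_res]
  congr 1
  have h1 := pullSect_naturality i (idealModIncl h) U ((idealModSectionsEquiv J ⟨U, hU⟩).symm x)
  rw [idealModIncl_app h hU x] at h1
  exact h1

end clsIncl

section zero

variable {Z X : Scheme.{u}} (i : Z ⟶ X) (J : X.IdealSheafData)
  {U : X.Opens} (hU : IsAffineOpen U) {V : Z.Opens} (e : V ≤ i ⁻¹ᵁ U) (hV : IsAffineOpen V)
  (hc : Function.Surjective (i.appLE U V e).hom)

include hV hc in
/-- Zero criterion for classes: `cls x = 0` iff `x ∈ ker · J`. -/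
theorem clsV_eq_zero_iff (x : J.ideal ⟨U, hU⟩) :
    clsV i J hU e x = 0 ↔ x.1 ∈ RingHom.ker (i.appLE U V e).hom * J.ideal ⟨U, hU⟩ := by
  letI := (i.appLE U V e).hom.toAlgebra
  have h8 : (RingHom.ker (algebraMap Γ(X, U) Γ(Z, V)) •
      (⊤ : Submodule Γ(X, U) ↥(J.ideal ⟨U, hU⟩))).map
      (Submodule.subtype (J.ideal ⟨U, hU⟩)) =
      RingHom.ker (i.appLE U V e).hom * J.ideal ⟨U, hU⟩ := by
    rw [Submodule.map_smul'', Submodule.map_top, Submodule.range_subtype]
    rfl
  rw [← (sectionsEquiv i J hU e hV).map_eq_zero_iff, sectionsEquiv_clsV]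
  constructor
  · intro h0
    have h4 := mem_smul_top_of_one_tmul_eq_zero (P := Γ(X, U)) (S := Γ(Z, V)) hc x h0
    rw [← h8]
    exact ⟨x, h4, rfl⟩
  · intro hx
    rw [← h8] at hx
    obtain ⟨y, hy, hyx⟩ := hx
    have : y = x := Subtype.ext hyx
    rw [← this]
    exact one_tmul_eq_zero_of_mem_smul_top (P := Γ(X, U)) (S := Γ(Z, V)) y hy

end zero

section coprod

variable {X : Scheme.{u}} {r : ℕ} (M : Fin r → X.Modules)

theorem sum_app {A B : X.Modules} (s : Finset (Fin r)) (φ : Fin r → (A ⟶ B)) (V : X.Opens)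
    (w : Γ(A, V)) : (∑ l ∈ s, φ l).app V w = ∑ l ∈ s, (φ l).app V w := by
  induction s using Finset.induction_on with
  | empty =>
    rw [Finset.sum_empty, Finset.sum_empty]
    rfl
  | insert a s ha ih =>
    rw [Finset.sum_insert ha, Finset.sum_insert ha, ← ih]
    rfl

/-- Every section of a finite coproduct is a sum of sections of the summands. -/
theorem exists_sum_ι (V : X.Opens) (w : Γ(∐ M, V)) :
    ∃ m : ∀ l, Γ(M l, V), w = ∑ l, (Sigma.ι M l).app V (m l) := by
  haveI : HasFiniteBiproducts X.Modules := HasFiniteBiproducts.of_hasFiniteProducts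
  haveI : HasBiproduct M := inferInstance
  let p : ∀ l, (∐ M) ⟶ M l := fun l => (biproduct.isoCoproduct M).inv ≫ biproduct.π M l
  have hid : 𝟙 (∐ M) = ∑ l, p l ≫ Sigma.ι M l := by
    have h1 : (biproduct.isoCoproduct M).inv ≫ (biproduct.isoCoproduct M).hom = 𝟙 _ :=
      Iso.inv_hom_id _
    have h2 : (biproduct.isoCoproduct M).hom = ∑ l, biproduct.π M l ≫ Sigma.ι M l := by
      apply biproduct.hom_ext'
      intro l
      rw [biproduct.isoCoproduct_hom, biproduct.ι_desc, Preadditive.comp_sum]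
      rw [Finset.sum_eq_single l]
      · rw [biproduct.ι_π_self_assoc]
      · intro b _ hb
        rw [biproduct.ι_π_ne_assoc _ hb.symm, zero_comp]
      · intro hl
        exact (hl (Finset.mem_univ l)).elim
    rw [← h1, h2, Preadditive.comp_sum]
    refine Finset.sum_congr rfl fun l _ => ?_
    rw [Category.assoc]
  refine ⟨fun l => (p l).app V w, ?_⟩
  have h3 : (𝟙 (∐ M) : (∐ M) ⟶ ∐ M).app V w = ∑ l, (p l ≫ Sigma.ι M l).app V w := by
    rw [hid, sum_app]
  have h4 : (𝟙 (∐ M) : (∐ M) ⟶ ∐ M).app V w = w := rfl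
  calc w = (𝟙 (∐ M) : (∐ M) ⟶ ∐ M).app V w := h4.symm
    _ = ∑ l, (p l ≫ Sigma.ι M l).app V w := h3
    _ = ∑ l, (Sigma.ι M l).app V ((p l).app V w) := Finset.sum_congr rfl fun l _ => rfl

end coprod

end Groth.Agent.Helper19.RegInter
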