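import Mathlib
import Groth.Agent.Helper19.PnBC2
import Groth.Agent.Helper19.PnBC1
import Groth.Agent.Helper19.RegInter2
import Groth.Agent.Lib.Helper29.QCohCrit
import Groth.Agent.Helper19.Conormal7
set_option autoImplicit false
set_option linter.style.haveILetI false
set_option linter.unusedSectionVars false
universe u

open CategoryTheory CategoryTheory.Limits AlgebraicGeometry TopologicalSpace Opposite
open scoped TensorProduct

/-! # `P^1 = O ⊕ Ω`: chart lemmas (helper19) -/

namespace Groth.Agent.Helper19.PnOne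

open Groth.Agent.Lib.Helper2.PrinPartB Groth.Agent.Lib.Helper29.QCoh Groth.Agent.Helper19.PnBC
open Groth.Agent.Helper19.GrDict Groth.Agent.Helper19.RegInter

section coprod

variable {X : Scheme.{u}} (A B : X.Modules)

/-- Sections of a binary coproduct are sums of sections of the summands. -/
theorem exists_coprod_sections (V : X.Opens) (w : Γ(A ⨿ B, V)) :
    ∃ (a : Γ(A, V)) (b : Γ(B, V)),
      w = (coprod.inl : A ⟶ A ⨿ B).app V a + (coprod.inr : B ⟶ A ⨿ B).app V b := by
  let pA : A ⨿ B ⟶ A := coprod.desc (𝟙 A) 0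
  let pB : A ⨿ B ⟶ B := coprod.desc 0 (𝟙 B)
  have hid : 𝟙 (A ⨿ B) = pA ≫ coprod.inl + pB ≫ coprod.inr := by
    apply coprod.hom_ext
    · rw [Preadditive.comp_add, Category.comp_id, coprod.inl_desc_assoc, coprod.inl_desc_assoc,
        Category.id_comp, zero_comp, add_zero]
    · rw [Preadditive.comp_add, Category.comp_id, coprod.inr_desc_assoc, coprod.inr_desc_assoc,
        Category.id_comp, zero_comp, zero_add]
  refine ⟨pA.app V w, pB.app V w, ?_⟩
  have h4 : (𝟙 (A ⨿ B) : A ⨿ B ⟶ A ⨿ B).app V w = w := rfl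
  have h3 : (𝟙 (A ⨿ B) : A ⨿ B ⟶ A ⨿ B).app V w =
      (pA ≫ coprod.inl + pB ≫ coprod.inr : A ⨿ B ⟶ A ⨿ B).app V w := by
    rw [← hid]
  calc w = (𝟙 (A ⨿ B) : A ⨿ B ⟶ A ⨿ B).app V w := h4.symm
    _ = (pA ≫ coprod.inl + pB ≫ coprod.inr : A ⨿ B ⟶ A ⨿ B).app V w := h3
    _ = _ := rfl

instance isQuasicoherent_coprod [A.IsQuasicoherent] [B.IsQuasicoherent] :
    (A ⨿ B).IsQuasicoherent :=
  isQuasicoherent_colimit_aux (pair A B) (fun j => by
    rcases j with ⟨_ | _⟩
    · exact inferInstanceAs A.IsQuasicoherent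
    · exact inferInstanceAs B.IsQuasicoherent)

end coprod

section chart

variable {X S : Scheme.{u}} (f : X ⟶ S) [QuasiSeparated f] {U : X.Opens} {V : S.Opens}
  (hU : IsAffineOpen U) (hV : IsAffineOpen V) (hUV : U ≤ f ⁻¹ᵁ V)

include hU hV hUV in
/-- The ideal of the diagonal on the box is the kernel of the codiagonal. -/
theorem ker_ideal_box :
    (pullback.diagonal f).ker.ideal ⟨OmegaSh.diagNbhd f U, isAffineOpen_box f hU hV hUV⟩ =
      RingHom.ker (mu f U).hom := by
  rw [Scheme.Hom.ker_apply]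
  exact (ker_appLE_of_eq (pullback.diagonal f) (OmegaSh.diagNbhd f U) U
    (diagonal_preimage_box f U).symm).symm

include hU hV hUV in
theorem diagDiff_mem (b : Γ(X, U)) : OmegaSh.diagDiff f U b ∈
    (pullback.diagonal f).ker.ideal ⟨OmegaSh.diagNbhd f U, isAffineOpen_box f hU hV hUV⟩ := by
  rw [ker_ideal_box f hU hV hUV, RingHom.mem_ker]
  have e1 : ∀ x, (mu f U).hom ((i1 f U).hom x) = x :=
    fun x => congrArg (fun φ => φ.hom x) (i1_mu f U)
  have e2 : ∀ x, (mu f U).hom ((i2 f U).hom x) = x :=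
    fun x => congrArg (fun φ => φ.hom x) (i2_mu f U)
  change (mu f U).hom ((i2 f U).hom b - (i1 f U).hom b) = 0
  rw [map_sub, e1, e2, sub_self]

/-- `d s` is the class of `pr₂♯ s − pr₁♯ s`. -/
theorem dSect_eq_clsV (b : Γ(X, U)) :
    OmegaSh.dSect f U b = clsV (pullback.diagonal f) (pullback.diagonal f).ker
      (isAffineOpen_box f hU hV hUV) (OmegaSh.le_preimage_diagNbhd f U)
      ⟨OmegaSh.diagDiff f U b, diagDiff_mem f hU hV hUV b⟩ := by
  have h1 : (idealModSectionsEquiv (pullback.diagonal f).ker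
      ⟨OmegaSh.diagNbhd f U, isAffineOpen_box f hU hV hUV⟩).symm
        ⟨OmegaSh.diagDiff f U b, diagDiff_mem f hU hV hUV b⟩ = OmegaSh.idealLift f U b := by
    rw [LinearEquiv.symm_apply_eq]
    apply Subtype.ext
    rw [idealModSectionsEquiv_apply, OmegaSh.ι_idealLift]
    rfl
  unfold clsV cls
  rw [h1]
  rfl

end chart

end Groth.Agent.Helper19.PnOne
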