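import Mathlib
import Groth.Agent.Helper19.PnOne1
set_option autoImplicit false
set_option linter.style.haveILetI false
set_option linter.unusedSectionVars false
universe u

open CategoryTheory CategoryTheory.Limits AlgebraicGeometry TopologicalSpace Opposite
open scoped TensorProduct

/-! # `P^1 = O ⊕ Ω`: bijectivity on affine charts (helper19) -/

namespace Groth.Agent.Helper19.PnOne

open Groth.Agent.Lib.Helper2.PrinPartB Groth.Agent.Lib.Helper29.QCoh Groth.Agent.Helper19.PnBC
open Groth.Agent.Helper19.GrDict Groth.Agent.Helper19.RegInter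

section piT

variable {X S : Scheme.{u}} (f : X ⟶ S) (n : ℕ) (U : X.Opens)

theorem piT_one : piT f n U 1 = PrinPart.dn f n U 1 := by
  have h := piT_i1_i2 f n U 1 1
  rwa [map_one, map_one, one_mul, one_smul] at h

theorem piT_i1 (b : Γ(X, U)) : piT f n U ((i1 f U).hom b) = b • PrinPart.dn f n U 1 := by
  have h := piT_i1_mul f n U b 1
  rwa [mul_one, piT_one] at h

theorem piT_i2 (b : Γ(X, U)) : piT f n U ((i2 f U).hom b) = PrinPart.dn f n U b := by
  have h := piT_i1_i2 f n U 1 b
  rwa [map_one, one_mul, one_smul] at h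

theorem piT_diagDiff (b : Γ(X, U)) :
    piT f n U (OmegaSh.diagDiff f U b) = PrinPart.dn f n U b - b • PrinPart.dn f n U 1 := by
  have h : OmegaSh.diagDiff f U b = (i2 f U).hom b - (i1 f U).hom b := rfl
  rw [h, map_sub, piT_i1, piT_i2]

variable {V : S.Opens} (hU : IsAffineOpen U) (hV : IsAffineOpen V) (hUV : U ≤ f ⁻¹ᵁ V)

include hU hV hUV in
theorem piT_mul_of_mem (t x : Γ(pullback f f, OmegaSh.diagNbhd f U))
    (hx : x ∈ RingHom.ker (mu f U).hom) :
    piT f 1 U (t * x) = (mu f U).hom t • piT f 1 U x := by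
  have e1 : ∀ y, (mu f U).hom ((i1 f U).hom y) = y :=
    fun y => congrArg (fun φ => φ.hom y) (i1_mu f U)
  have h1 : t * x = (i1 f U).hom ((mu f U).hom t) * x + (t - (i1 f U).hom ((mu f U).hom t)) * x := by
    ring
  have h2 : t - (i1 f U).hom ((mu f U).hom t) ∈ RingHom.ker (mu f U).hom := by
    rw [RingHom.mem_ker, map_sub, e1, sub_self]
  have h3 : piT f 1 U ((t - (i1 f U).hom ((mu f U).hom t)) * x) = 0 := by
    rw [piT_eq_zero_iff f 1 U hU hV hUV, pow_succ, pow_one]
    exact Ideal.mul_mem_mul h2 hx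
  rw [h1, map_add, h3, add_zero, piT_i1_mul]

end piT

section main

variable {X S : Scheme.{u}} (f : X ⟶ S) [QuasiSeparated f]
  (ι : Omega.sheaf f ⟶ PrinPart.P f 1)
  (hι : ∀ (U : X.Opens) (s : Γ(X, U)),
    ι.app U ((OmegaSh.dOmega f).app U s) = PrinPart.dn f 1 U s - s • PrinPart.dn f 1 U 1)
  {U : X.Opens} {V : S.Opens} (hU : IsAffineOpen U) (hV : IsAffineOpen V) (hUV : U ≤ f ⁻¹ᵁ V)

include hι hU hV hUV in
/-- `ι` on the class of an element of the diagonal ideal. -/
theorem iota_clsV (x : Γ(pullback f f, OmegaSh.diagNbhd f U))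
    (hx : x ∈ (pullback.diagonal f).ker.ideal
      ⟨OmegaSh.diagNbhd f U, isAffineOpen_box f hU hV hUV⟩) :
    ι.app U (clsV (pullback.diagonal f) (pullback.diagonal f).ker
      (isAffineOpen_box f hU hV hUV) (OmegaSh.le_preimage_diagNbhd f U) ⟨x, hx⟩) =
      piT f 1 U x := by
  have hK := ker_ideal_box f hU hV hUV
  have hspan := ker_codiag_le_span (isPushout_box f hU hV hUV) (mu f U) (i1_mu f U) (i2_mu f U)
  have hspanK : Ideal.span (Set.range fun b : Γ(X, U) => (i2 f U).hom b - (i1 f U).hom b) ≤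
      (pullback.diagonal f).ker.ideal
        ⟨OmegaSh.diagNbhd f U, isAffineOpen_box f hU hV hUV⟩ := by
    rw [Ideal.span_le]
    rintro _ ⟨b, rfl⟩
    exact diagDiff_mem f hU hV hUV b
  have hxs : x ∈ Ideal.span (Set.range fun b : Γ(X, U) => (i2 f U).hom b - (i1 f U).hom b) :=
    hspan (hK ▸ hx)
  have key : ∀ (y : Γ(pullback f f, OmegaSh.diagNbhd f U))
      (_ : y ∈ Ideal.span (Set.range fun b : Γ(X, U) => (i2 f U).hom b - (i1 f U).hom b))
      (hy : y ∈ (pullback.diagonal f).ker.ideal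
        ⟨OmegaSh.diagNbhd f U, isAffineOpen_box f hU hV hUV⟩),
      ι.app U (clsV (pullback.diagonal f) (pullback.diagonal f).ker
        (isAffineOpen_box f hU hV hUV) (OmegaSh.le_preimage_diagNbhd f U) ⟨y, hy⟩) =
        piT f 1 U y := by
    intro y hys
    refine Submodule.span_induction (p := fun y _ => ∀ (hy : y ∈ (pullback.diagonal f).ker.ideal
        ⟨OmegaSh.diagNbhd f U, isAffineOpen_box f hU hV hUV⟩),
      ι.app U (clsV (pullback.diagonal f) (pullback.diagonal f).ker
        (isAffineOpen_box f hU hV hUV) (OmegaSh.le_preimage_diagNbhd f U) ⟨y, hy⟩) =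
        piT f 1 U y) ?_ ?_ ?_ ?_ hys
    · rintro _ ⟨b, rfl⟩ hy
      have h1 := dSect_eq_clsV f hU hV hUV b
      have h2 : (OmegaSh.dOmega f).app U b = OmegaSh.dSect f U b := rfl
      have h3 := hι U b
      rw [h2, h1] at h3
      have h4 := piT_diagDiff f 1 U b
      exact h3.trans h4.symm
    · intro hy
      have h0 : (⟨0, hy⟩ : (pullback.diagonal f).ker.ideal
          ⟨OmegaSh.diagNbhd f U, isAffineOpen_box f hU hV hUV⟩) = 0 := rfl
      rw [h0, clsV_zero hU, map_zero]
      exact map_zero (appₗ ι U)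
    · intro y z hys hzs hy hz hyz
      have hyK := hspanK hys
      have hzK := hspanK hzs
      have h0 : (⟨y + z, hyz⟩ : (pullback.diagonal f).ker.ideal
          ⟨OmegaSh.diagNbhd f U, isAffineOpen_box f hU hV hUV⟩) = ⟨y, hyK⟩ + ⟨z, hzK⟩ := rfl
      rw [h0, clsV_add hU, map_add, ← hy hyK, ← hz hzK]
      exact map_add (appₗ ι U) _ _
    · intro a y hys hy hay
      have hyK := hspanK hys
      have h0 : (⟨a • y, hay⟩ : (pullback.diagonal f).ker.ideal
          ⟨OmegaSh.diagNbhd f U, isAffineOpen_box f hU hV hUV⟩) = a • ⟨y, hyK⟩ := rfl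
      rw [h0, clsV_smul hU, smul_eq_mul,
        piT_mul_of_mem f U hU hV hUV a y (hK ▸ hyK), ← hy hyK]
      exact (appₗ ι U).map_smul _ _
  exact key x hxs hx

end main

end Groth.Agent.Helper19.PnOne
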