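import Mathlib
import Groth.Agent.Helper19.PnOne2
set_option autoImplicit false
set_option linter.style.haveILetI false
set_option linter.unusedSectionVars false
universe u

open CategoryTheory CategoryTheory.Limits AlgebraicGeometry TopologicalSpace Opposite
open scoped TensorProduct

/-! # `P^1 = O ⊕ Ω`: the isomorphism (helper19) -/

namespace Groth.Agent.Helper19.PnOne

open Groth.Agent.Lib.Helper2.PrinPartB Groth.Agent.Lib.Helper29.QCoh Groth.Agent.Helper19.PnBC
open Groth.Agent.Helper19.GrDict Groth.Agent.Helper19.RegInter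

section main

variable {X S : Scheme.{u}} (f : X ⟶ S) [QuasiSeparated f]
  (e : Coh.structureModule X ⟶ PrinPart.P f 1)
  (he : ∀ (U : X.Opens) (s : Γ(X, U)), e.app U (OmegaSh.strSect X U s) = s • PrinPart.dn f 1 U 1)
  (ι : Omega.sheaf f ⟶ PrinPart.P f 1)
  (hι : ∀ (U : X.Opens) (s : Γ(X, U)),
    ι.app U ((OmegaSh.dOmega f).app U s) = PrinPart.dn f 1 U s - s • PrinPart.dn f 1 U 1)
  {U : X.Opens} {V : S.Opens} (hU : IsAffineOpen U) (hV : IsAffineOpen V) (hUV : U ≤ f ⁻¹ᵁ V)

theorem desc_app_add (a : Γ(Coh.structureModule X, U)) (ω : Γ(Omega.sheaf f, U)) :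
    (coprod.desc e ι).app U ((coprod.inl : Coh.structureModule X ⟶ _ ⨿ Omega.sheaf f).app U a +
      (coprod.inr : Omega.sheaf f ⟶ Coh.structureModule X ⨿ _).app U ω) =
      e.app U a + ι.app U ω := by
  have h1 : (coprod.inl : Coh.structureModule X ⟶ _ ⨿ Omega.sheaf f) ≫ coprod.desc e ι = e :=
    coprod.inl_desc _ _
  have h2 : (coprod.inr : Omega.sheaf f ⟶ Coh.structureModule X ⨿ _) ≫ coprod.desc e ι = ι :=
    coprod.inr_desc _ _
  have h3 : (coprod.desc e ι).app U
      ((coprod.inl : Coh.structureModule X ⟶ _ ⨿ Omega.sheaf f).app U a) = e.app U a :=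
    congrArg (fun k => (Scheme.Modules.Hom.app k U) a) h1
  have h4 : (coprod.desc e ι).app U
      ((coprod.inr : Omega.sheaf f ⟶ Coh.structureModule X ⨿ _).app U ω) = ι.app U ω :=
    congrArg (fun k => (Scheme.Modules.Hom.app k U) ω) h2
  rw [← h3, ← h4]
  exact map_add (appₗ (coprod.desc e ι) U) _ _

include he hι hU hV hUV in
theorem desc_app_surjective : Function.Surjective ((coprod.desc e ι).app U) := by
  intro m'
  obtain ⟨t, rfl⟩ := piT_surjective f 1 U hU hV hUV m'
  obtain ⟨Q, rfl⟩ := exists_sum_box f hU hV hUV t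
  refine ⟨(coprod.inl : Coh.structureModule X ⟶ _ ⨿ Omega.sheaf f).app U
      (OmegaSh.strSect X U (∑ q ∈ Q, q.1 * q.2)) +
    (coprod.inr : Omega.sheaf f ⟶ Coh.structureModule X ⨿ _).app U
      (∑ q ∈ Q, q.1 • (OmegaSh.dOmega f).app U q.2), ?_⟩
  rw [desc_app_add, he]
  have hsum : ι.app U (∑ q ∈ Q, q.1 • (OmegaSh.dOmega f).app U q.2) =
      ∑ q ∈ Q, q.1 • (PrinPart.dn f 1 U q.2 - q.2 • PrinPart.dn f 1 U 1) := by
    have h1 : ι.app U (∑ q ∈ Q, q.1 • (OmegaSh.dOmega f).app U q.2) =
        ∑ q ∈ Q, ι.app U (q.1 • (OmegaSh.dOmega f).app U q.2) :=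
      map_sum (appₗ ι U) _ Q
    rw [h1]
    refine Finset.sum_congr rfl fun q _ => ?_
    have h2 : ι.app U (q.1 • (OmegaSh.dOmega f).app U q.2) =
        q.1 • ι.app U ((OmegaSh.dOmega f).app U q.2) := (appₗ ι U).map_smul _ _
    rw [h2, hι]
  rw [hsum, map_sum, Finset.sum_smul, ← Finset.sum_add_distrib]
  refine Finset.sum_congr rfl fun q _ => ?_
  rw [piT_i1_i2, smul_sub, smul_smul]
  abel

include he hι hU hV hUV in
theorem desc_app_injective : Function.Injective ((coprod.desc e ι).app U) := by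
  have hbox := isAffineOpen_box f hU hV hUV
  have hK := ker_ideal_box f hU hV hUV
  have e1 : ∀ y, (mu f U).hom ((i1 f U).hom y) = y :=
    fun y => congrArg (fun φ => φ.hom y) (i1_mu f U)
  have hc : Function.Surjective ((pullback.diagonal f).appLE (OmegaSh.diagNbhd f U) U
      (OmegaSh.le_preimage_diagNbhd f U)).hom := fun y => ⟨(i1 f U).hom y, e1 y⟩
  have hinj : ∀ w, (coprod.desc e ι).app U w = 0 → w = 0 := by
    intro w hw
    obtain ⟨a, ω, rfl⟩ := exists_coprod_sections _ _ U w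
    rw [desc_app_add] at hw
    obtain ⟨x, hωx⟩ : ∃ x : (pullback.diagonal f).ker.ideal ⟨OmegaSh.diagNbhd f U, hbox⟩,
        ω = clsV (pullback.diagonal f) (pullback.diagonal f).ker hbox
          (OmegaSh.le_preimage_diagNbhd f U) x :=
      exists_clsV_eq (i := pullback.diagonal f) (J := (pullback.diagonal f).ker)
        (hU := hbox) (e := OmegaSh.le_preimage_diagNbhd f U) hU hc ω
    have h6 : ι.app U ω = piT f 1 U x.1 :=
      (congrArg (fun z : Γ(Omega.sheaf f, U) => ι.app U z) hωx).trans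
        (iota_clsV f ι hι hU hV hUV x.1 x.2)
    have ha : a = OmegaSh.strSect X U (OmegaSh.fnSect X U a) := rfl
    rw [ha, he, h6, ← piT_i1, ← map_add,
      piT_eq_zero_iff f 1 U hU hV hUV, pow_succ, pow_one] at hw
    have hxK : x.1 ∈ RingHom.ker (mu f U).hom := hK ▸ x.2
    -- apply the codiagonal
    have hmu : (mu f U).hom ((i1 f U).hom (OmegaSh.fnSect X U a) + x.1) = 0 := by
      have : RingHom.ker (mu f U).hom * RingHom.ker (mu f U).hom ≤ RingHom.ker (mu f U).hom :=
        Ideal.mul_le_left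
      exact this hw
    rw [map_add, e1, RingHom.mem_ker.1 hxK, add_zero] at hmu
    rw [hmu, map_zero, zero_add] at hw
    have hx0 : clsV (pullback.diagonal f) (pullback.diagonal f).ker hbox
        (OmegaSh.le_preimage_diagNbhd f U) x = 0 := by
      have h5 : RingHom.ker ((pullback.diagonal f).appLE (OmegaSh.diagNbhd f U) U
          (OmegaSh.le_preimage_diagNbhd f U)).hom *
          (pullback.diagonal f).ker.ideal ⟨OmegaSh.diagNbhd f U, hbox⟩ =
          RingHom.ker (mu f U).hom * RingHom.ker (mu f U).hom :=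
        congrArg (fun I => RingHom.ker (mu f U).hom * I) hK
      rw [clsV_eq_zero_iff (pullback.diagonal f) (pullback.diagonal f).ker hbox
        (OmegaSh.le_preimage_diagNbhd f U) hU hc, h5]
      exact hw
    have hω0 : ω = 0 := hωx.trans hx0
    have ha0 : a = 0 := by
      rw [ha, hmu, map_zero]
    rw [hω0, ha0]
    have z1 : (coprod.inl : Coh.structureModule X ⟶ _ ⨿ Omega.sheaf f).app U 0 = 0 :=
      map_zero (appₗ (coprod.inl : Coh.structureModule X ⟶ _ ⨿ Omega.sheaf f) U)
    have z2 : (coprod.inr : Omega.sheaf f ⟶ Coh.structureModule X ⨿ _).app U 0 = 0 :=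
      map_zero (appₗ (coprod.inr : Omega.sheaf f ⟶ Coh.structureModule X ⨿ _) U)
    rw [z1, z2, add_zero]
  intro w₁ w₂ h
  have h1 : (coprod.desc e ι).app U (w₁ - w₂) = 0 := by
    have : (coprod.desc e ι).app U (w₁ - w₂) =
        (coprod.desc e ι).app U w₁ - (coprod.desc e ι).app U w₂ :=
      map_sub (appₗ (coprod.desc e ι) U) _ _
    rw [this, h, sub_self]
  exact sub_eq_zero.1 (hinj _ h1)

end main

end Groth.Agent.Helper19.PnOne
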