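import Mathlib
import Groth.Agent.Helper19.NearFib2
import Groth.Agent.Lib.Lead.Pn.Vanish
import Groth.Agent.Lib.Lead.Pn.H0
import Groth.Agent.Lib.Helper5.CechCard
import Groth.Agent.Lib.Helper25.PolyRelProj1
import Groth.Agent.Lib.Helper3.TwistBC
import Groth.Agent.Lib.Helper12.HomGlue3
import Groth.Agent.Lib.Helper29.QCohPullback
import Groth.Agent.Lib.Helper29.VA7
import Groth.Agent.Lib.Helper29.RelAmple
import Groth.Agent.Lib.Helper12.RS1
set_option autoImplicit false
universe u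

open CategoryTheory CategoryTheory.Limits AlgebraicGeometry Opposite TopologicalSpace

namespace Groth.Agent.Helper19.PnVan

open Groth.Agent.Lib.Helper29.QCoh Groth.Agent.Helper19.HomLift Groth.Agent.Helper19.NearFib

section general
variable {Z W : Scheme.{u}} (e : Z ⟶ W) [IsIso e]

/-- cohomology is invariant under pullback along an isomorphism of schemes -/
theorem nonempty_HH_pullback_addEquiv (Q : W.Modules) [Q.IsQuasicoherent] (p : ℕ) :
    Nonempty (Coh.HH Z ((Scheme.Modules.pullback e).obj Q) p ≃+ Coh.HH W Q p) := by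
  obtain ⟨e1⟩ := Groth.Agent.Lib.Helper22.Cech.nonempty_HH_addEquiv_HH_push e
    ((Scheme.Modules.pullback e).obj Q) p
  exact ⟨e1.trans (HHaddEquivOfIso (pushPullIsoOfIsIso e Q) p)⟩

end general

section proj
open Groth.Agent.Lib.Lead.Pn Groth.Agent.Lib.Helper22.Cech

variable (n : ℕ) (A : Type u) [CommRing A]

/-- vanishing of `H^i(P^n_A, O(d))` outside the two classical ranges -/
theorem subsingleton_HH_twist_proj (i : ℕ) (d : ℤ)
    (h : ¬ ((i = 0 ∧ 0 ≤ d) ∨ (i = n ∧ d ≤ -((n : ℤ) + 1)))) :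
    Subsingleton (Coh.HH (Proj (CohB1.polyGrading n A)) (Twist.twist (CohB1.polyGrading n A) d) i) := by
  push_neg at h
  rcases i with _ | q
  · have hd : d < 0 := h.1 rfl
    have hn : 1 ≤ n := by
      by_contra hn
      have hn0 : 0 = n := by omega
      have := h.2 hn0
      subst hn0
      simp at this
      omega
    exact subsingleton_HH_zero (R := A) hn hd
  · by_cases hq : q + 1 < n ∨ -((n : ℤ) + 1) < d
    · exact subsingleton_HH_succ (R := A) q hq
    · push_neg at hq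
      have hne : q + 1 ≠ n := fun hqn => by
        have := h.2 hqn
        omega
      obtain ⟨e⟩ := nonempty_cechH_addEquiv_HH (Proj (𝒜 n A)) (Twist.twist (𝒜 n A) d) (stdCov n A)
        (iSup_stdCov n A) isAffineOpen_iInf_stdCov (q + 1)
      have hz : IsZero (CohB1.cechH (stdCov n A) (Twist.twist (𝒜 n A) d) (q + 1)) :=
        Groth.Agent.Lib.Helper5.CechCard.main _ (stdCov n A) (q + 1) (by
          rw [Nat.card_congr Equiv.ulift, Nat.card_fin]
          omega)
      have : Subsingleton ↑(CohB1.cechH (stdCov n A) (Twist.twist (𝒜 n A) d) (q + 1)) :=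
        AddCommGrpCat.subsingleton_of_isZero hz
      exact e.symm.toEquiv.subsingleton

end proj

section affineBase
open Groth.Agent.Lib.Lead.Pn
variable (n : ℕ)

instance isQuasicoherent_twistOver (S : Scheme.{u}) (d : ℤ) :
    (Twist.twistOver n S d).IsQuasicoherent := by
  unfold Twist.twistOver Twist.twistProjSpace
  haveI : (Twist.twist (CohB1.polyGrading n (ULift.{u} ℤ)) d).IsQuasicoherent :=
    twist_isQuasicoherent n (ULift.{u} ℤ) d
  exact isQuasicoherent_pullback (X := CohB1.ProjSpaceOver n S)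
    (Y := Proj (CohB1.polyGrading n (ULift.{u} ℤ)))
    (pullback.fst (CohB1.ProjSpace.toSpec n (ULift.{u} ℤ)) (specULiftZIsTerminal.from S))
    (Twist.twist (CohB1.polyGrading n (ULift.{u} ℤ)) d)

attribute [local instance] MvPolynomial.algebraMvPolynomial

/-- the `ULift ℤ`-algebra structure on a ring -/
@[reducible] noncomputable def zAlg (R : Type u) [CommRing R] : Algebra (ULift.{u} ℤ) R :=
  ((Int.castRingHom R).comp (ULift.ringEquiv : ULift.{u} ℤ ≃+* ℤ).toRingHom).toAlgebra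

/-- vanishing of `H^i(P^n_ℤ × Spec A, O(d))` outside the two classical ranges -/
theorem subsingleton_HH_twistOver_spec (A : Type u) [CommRing A] (i : ℕ) (d : ℤ)
    (h : ¬ ((i = 0 ∧ 0 ≤ d) ∨ (i = n ∧ d ≤ -((n : ℤ) + 1)))) :
    Subsingleton (Coh.HH (CohB1.ProjSpaceOver n (Spec (CommRingCat.of A)))
      (Twist.twistOver n (Spec (CommRingCat.of A)) d) i) := by
  let _ : Algebra (ULift.{u} ℤ) A := zAlg A
  have PB := Groth.Agent.Lib.Helper25.PolyRelProj.isPullback_projSpace n (ULift.{u} ℤ) A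
  have hT : Spec.map (CommRingCat.ofHom (algebraMap (ULift.{u} ℤ) A)) =
      specULiftZIsTerminal.from (Spec (CommRingCat.of A)) := specULiftZIsTerminal.hom_ext _ _
  rw [hT] at PB
  let e : Proj (CohB1.polyGrading n A) ≅ CohB1.ProjSpaceOver n (Spec (CommRingCat.of A)) :=
    PB.isoPullback
  have he : e.hom ≫ pullback.fst (CohB1.ProjSpace.toSpec n (ULift.{u} ℤ))
      (specULiftZIsTerminal.from (Spec (CommRingCat.of A))) =
      Proj.map (Groth.Agent.Lib.Helper25.PolyRelProj.polyMapG n (ULift.{u} ℤ) A)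
        (Groth.Agent.Lib.Helper25.PolyRelProj.polyMapG_irr n (ULift.{u} ℤ) A) :=
    PB.isoPullback_hom_fst
  obtain ⟨τ⟩ := Groth.Agent.Lib.Helper3.TwistBC.nonempty_iso_pullback_twist
    (R := ULift.{u} ℤ) (R' := A)
    (CohB1.polyGrading n (ULift.{u} ℤ)) (CohB1.polyGrading n A)
    (algebraMap (ULift.{u} ℤ) (CohB1.polyGrading n (ULift.{u} ℤ) 0)) (fun _ => rfl)
    (algebraMap A (CohB1.polyGrading n A 0)) (fun _ => rfl)
    (Groth.Agent.Lib.Helper25.PolyRelProj.polyMapG n (ULift.{u} ℤ) A) (fun _ => rfl)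
    (Groth.Agent.Lib.Helper25.PolyRelProj.polyMapG_irr n (ULift.{u} ℤ) A) d
  obtain ⟨e1⟩ := nonempty_HH_pullback_addEquiv e.hom
    (Twist.twistOver n (Spec (CommRingCat.of A)) d) i
  let κ : (Scheme.Modules.pullback e.hom).obj (Twist.twistOver n (Spec (CommRingCat.of A)) d) ≅
      Twist.twist (CohB1.polyGrading n A) d :=
    Groth.Agent.Lib.Helper12.H12HomGlue.compIso e.hom (pullback.fst _ _) _ he
      (Twist.twistProjSpace n (ULift.{u} ℤ) d) ≪≫ τ
  have := subsingleton_HH_twist_proj n A i d h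
  exact (e1.symm.trans (HHaddEquivOfIso κ i)).toEquiv.subsingleton

end affineBase

section base
variable (n : ℕ) (Y : Scheme.{u})

/-- vanishing of the cohomology of `O(d)` over the preimage of an affine open of the base -/
theorem subsingleton_HHon_preimage (W : Y.Opens) (hW : IsAffineOpen W) (i : ℕ) (d : ℤ)
    (h : ¬ ((i = 0 ∧ 0 ≤ d) ∨ (i = n ∧ d ≤ -((n : ℤ) + 1)))) :
    Subsingleton (Coh.HHon (CohB1.ProjSpaceOver n Y) (Twist.twistOver n Y d)
      ((CohB1.ProjSpaceOver.toBase n Y) ⁻¹ᵁ W) i) := by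
  let tS := CohB1.ProjSpace.toSpec n (ULift.{u} ℤ)
  let fstY : CohB1.ProjSpaceOver n Y ⟶ CohB1.ProjSpace n (ULift.{u} ℤ) :=
    pullback.fst tS (specULiftZIsTerminal.from Y)
  let f : CohB1.ProjSpaceOver n Y ⟶ Y := pullback.snd tS (specULiftZIsTerminal.from Y)
  have sq1 : IsPullback (f ⁻¹ᵁ W).ι (f ∣_ W) f W.ι := (isPullback_morphismRestrict f W).flip
  have sq2 : IsPullback fstY f tS (specULiftZIsTerminal.from Y) := IsPullback.of_hasPullback _ _
  have sq3 := sq1.paste_horiz sq2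
  have sq4 : IsPullback ((f ⁻¹ᵁ W).ι ≫ fstY) (f ∣_ W ≫ hW.isoSpec.hom) tS
      (specULiftZIsTerminal.from (Spec Γ(Y, W))) :=
    IsPullback.of_iso sq3 (Iso.refl _) (Iso.refl _) hW.isoSpec (Iso.refl _)
      (by simp) (by simp) (by simp) (specULiftZIsTerminal.hom_ext _ _)
  let θ : ((f ⁻¹ᵁ W : Scheme.{u})) ≅ CohB1.ProjSpaceOver n (Spec Γ(Y, W)) := sq4.isoPullback
  have hθ : θ.hom ≫ pullback.fst tS (specULiftZIsTerminal.from (Spec Γ(Y, W))) =
      (f ⁻¹ᵁ W).ι ≫ fstY := sq4.isoPullback_hom_fst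
  let κ : (Twist.twistOver n Y d).restrict (f ⁻¹ᵁ W).ι ≅
      (Scheme.Modules.pullback θ.hom).obj (Twist.twistOver n (Spec Γ(Y, W)) d) :=
    restrictIsoPullback (f ⁻¹ᵁ W).ι (Twist.twistOver n Y d) ≪≫
      Groth.Agent.Lib.Helper12.H12HomGlue.compIso (f ⁻¹ᵁ W).ι fstY _ hθ.symm
        (Twist.twistProjSpace n (ULift.{u} ℤ) d) ≪≫
      (Groth.Agent.Lib.Helper12.H12HomGlue.compIso θ.hom
        (pullback.fst tS (specULiftZIsTerminal.from (Spec Γ(Y, W)))) _ rfl
        (Twist.twistProjSpace n (ULift.{u} ℤ) d)).symm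
  obtain ⟨e1⟩ := nonempty_HH_pullback_addEquiv θ.hom (Twist.twistOver n (Spec Γ(Y, W)) d) i
  have := subsingleton_HH_twistOver_spec n Γ(Y, W) i d h
  exact ((HHaddEquivOfIso κ i).trans e1).toEquiv.subsingleton

/-- **`R^i f_* O(d) = 0` on `P^n_Y` outside the two classical ranges.** -/
theorem isZero_RpushAb_twistOver (i : ℕ) (d : ℤ)
    (h : ¬ ((i = 0 ∧ 0 ≤ d) ∨ (i = n ∧ d ≤ -((n : ℤ) + 1)))) :
    IsZero ((Coh.RpushAb (CohB1.ProjSpaceOver.toBase n Y) i).obj
      (Coh.toAb (Twist.twistOver n Y d))) := by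
  refine Groth.Agent.Lib.Helper12.H12RS.isZero_RpushAb_of_subsingleton_HHon
    (CohB1.ProjSpaceOver.toBase n Y) (Twist.twistOver n Y d) i
    (fun W : Y.affineOpens => (W : Y.Opens)) (fun W => W.2) (fun y => ?_)
    (fun W => subsingleton_HHon_preimage n Y W.1 W.2 i d h)
  obtain ⟨V, hV, hyV, -⟩ :=
    exists_isAffineOpen_mem_and_subset (x := y) (U := (⊤ : Y.Opens)) trivial
  exact ⟨⟨V, hV⟩, hyV⟩

end base

end Groth.Agent.Helper19.PnVan
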