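import Mathlib

/-!
# Irreducible closed subsets of a projective spectrum (helper19)

Dictionary between irreducible closed subsets of `ProjectiveSpectrum 𝒜` and its points
(relevant homogeneous primes), and the resulting descriptions of topological Krull dimensions.
-/

set_option autoImplicit false

namespace Groth.Agent.Helper19.ProjDict

open TopologicalSpace Topology

section general

variable {A σ : Type*} [CommRing A] [SetLike σ A] [AddSubmonoidClass σ A]
variable (𝒜 : ℕ → σ) [GradedRing 𝒜]

local notation "P" => ProjectiveSpectrum 𝒜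

theorem closure_singleton (x : P) :
    closure ({x} : Set P) = ProjectiveSpectrum.zeroLocus 𝒜 (x.asHomogeneousIdeal : Set A) := by
  rw [← ProjectiveSpectrum.zeroLocus_vanishingIdeal_eq_closure,
    ProjectiveSpectrum.vanishingIdeal_singleton]

theorem mem_closure_singleton_iff (x y : P) : y ∈ closure ({x} : Set P) ↔ x ≤ y := by
  rw [closure_singleton, ProjectiveSpectrum.mem_zeroLocus]
  exact Iff.rfl

theorem closure_singleton_subset_iff (x y : P) :
    closure ({y} : Set P) ⊆ closure ({x} : Set P) ↔ x ≤ y := by
  constructor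
  · intro h
    exact (mem_closure_singleton_iff 𝒜 x y).mp (h (subset_closure rfl))
  · intro h z hz
    rw [mem_closure_singleton_iff] at hz ⊢
    exact h.trans hz

/-- every irreducible closed subset has a generic point -/
theorem exists_generic (Z : Set P) (hZi : IsIrreducible Z) (hZc : IsClosed Z) :
    ∃ x : P, Z = closure ({x} : Set P) := by
  obtain ⟨z, hz⟩ := hZi.nonempty
  have hZeq : ProjectiveSpectrum.zeroLocus 𝒜
      ((ProjectiveSpectrum.vanishingIdeal Z : HomogeneousIdeal 𝒜) : Set A) = Z := by
    rw [ProjectiveSpectrum.zeroLocus_vanishingIdeal_eq_closure, hZc.closure_eq]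
  have hprime : (ProjectiveSpectrum.vanishingIdeal Z).toIdeal.IsPrime := by
    apply Ideal.IsHomogeneous.isPrime_of_homogeneous_mem_or_mem
      (ProjectiveSpectrum.vanishingIdeal Z).isHomogeneous
    · intro htop
      have h1 : (1 : A) ∈ (ProjectiveSpectrum.vanishingIdeal Z).toIdeal := by
        rw [htop]; exact Submodule.mem_top
      have h2 := (ProjectiveSpectrum.mem_vanishingIdeal Z 1).mp h1 z hz
      exact (z.isPrime.ne_top) ((Ideal.eq_top_iff_one _).mpr h2)
    · intro a b ha hb hab
      -- Z ⊆ V(a) ∪ V(b)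
      have hsub : Z ⊆ ProjectiveSpectrum.zeroLocus 𝒜 {a} ∪ ProjectiveSpectrum.zeroLocus 𝒜 {b} := by
        intro w hw
        have h3 := (ProjectiveSpectrum.mem_vanishingIdeal Z (a * b)).mp hab w hw
        rcases w.isPrime.mem_or_mem h3 with h4 | h4
        · left
          rw [ProjectiveSpectrum.mem_zeroLocus]
          simpa using h4
        · right
          rw [ProjectiveSpectrum.mem_zeroLocus]
          simpa using h4
      have hpre := hZi.isPreirreducible
      rw [isPreirreducible_iff_isClosed_union_isClosed] at hpre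
      rcases hpre _ _ (ProjectiveSpectrum.isClosed_zeroLocus 𝒜 {a})
        (ProjectiveSpectrum.isClosed_zeroLocus 𝒜 {b}) hsub with h5 | h5
      · left
        refine (ProjectiveSpectrum.mem_vanishingIdeal Z _).mpr ?_
        intro w hw
        have := h5 hw
        rw [ProjectiveSpectrum.mem_zeroLocus] at this
        simpa using this
      · right
        refine (ProjectiveSpectrum.mem_vanishingIdeal Z _).mpr ?_
        intro w hw
        have := h5 hw
        rw [ProjectiveSpectrum.mem_zeroLocus] at this
        simpa using this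
  have hrel : ¬ HomogeneousIdeal.irrelevant 𝒜 ≤ ProjectiveSpectrum.vanishingIdeal Z := by
    intro hle
    apply z.not_irrelevant_le
    refine hle.trans ?_
    intro a ha
    exact (ProjectiveSpectrum.mem_vanishingIdeal Z a).mp ha z hz
  refine ⟨⟨ProjectiveSpectrum.vanishingIdeal Z, hprime, hrel⟩, ?_⟩
  rw [closure_singleton]
  exact hZeq.symm

/-- the generic point of an irreducible closed subset -/
noncomputable def genPt (Z : IrreducibleCloseds P) : P :=
  (exists_generic 𝒜 (Z : Set P) Z.isIrreducible Z.isClosed).choose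

theorem coe_eq_closure_genPt (Z : IrreducibleCloseds P) :
    (Z : Set P) = closure ({genPt 𝒜 Z} : Set P) :=
  (exists_generic 𝒜 (Z : Set P) Z.isIrreducible Z.isClosed).choose_spec

/-- the closure of a point as an irreducible closed set -/
def clPt (x : P) : IrreducibleCloseds P :=
  ⟨closure ({x} : Set P), isIrreducible_singleton.closure, isClosed_closure⟩

theorem genPt_clPt (x : P) : genPt 𝒜 (clPt 𝒜 x) = x := by
  have h := coe_eq_closure_genPt 𝒜 (clPt 𝒜 x)
  have h1 : closure ({x} : Set P) = closure ({genPt 𝒜 (clPt 𝒜 x)} : Set P) := h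
  apply le_antisymm
  · exact (closure_singleton_subset_iff 𝒜 _ _).mp h1.le
  · exact (closure_singleton_subset_iff 𝒜 _ _).mp h1.ge

theorem clPt_genPt (Z : IrreducibleCloseds P) : clPt 𝒜 (genPt 𝒜 Z) = Z :=
  IrreducibleCloseds.ext (coe_eq_closure_genPt 𝒜 Z).symm

/-- irreducible closed subsets correspond to points, order-reversingly -/
noncomputable def genIso : IrreducibleCloseds P ≃o (P)ᵒᵈ where
  toFun Z := OrderDual.toDual (genPt 𝒜 Z)
  invFun x := clPt 𝒜 (OrderDual.ofDual x)
  left_inv Z := clPt_genPt 𝒜 Z
  right_inv x := by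
    show OrderDual.toDual (genPt 𝒜 (clPt 𝒜 (OrderDual.ofDual x))) = x
    rw [genPt_clPt]
    rfl
  map_rel_iff' := by
    intro Z W
    show genPt 𝒜 W ≤ genPt 𝒜 Z ↔ Z ≤ W
    rw [← closure_singleton_subset_iff, ← coe_eq_closure_genPt, ← coe_eq_closure_genPt]
    exact Iff.rfl

theorem coheight_eq_height_genPt (Z : IrreducibleCloseds P) :
    Order.coheight Z = Order.height (genPt 𝒜 Z) := by
  rw [← Order.coheight_orderIso (genIso 𝒜) Z]
  rfl

theorem topologicalKrullDim_eq_krullDim : topologicalKrullDim P = Order.krullDim P := by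
  unfold topologicalKrullDim
  rw [Order.krullDim_eq_of_orderIso (genIso 𝒜), Order.krullDim_orderDual]

end general

section closedSub

variable {Y : Type*} [TopologicalSpace Y]

theorem isIrreducible_preimage_val (X : Set Y) (Z : Set Y) (hZ : IsIrreducible Z) (hZX : Z ⊆ X) :
    IsIrreducible ((Subtype.val : ↥X → Y) ⁻¹' Z) := by
  obtain ⟨z, hz⟩ := hZ.nonempty
  refine ⟨⟨⟨z, hZX hz⟩, hz⟩, ?_⟩
  intro U' V' hU' hV' hU hV
  obtain ⟨U, hUo, rfl⟩ := isOpen_induced_iff.mp hU'
  obtain ⟨V, hVo, rfl⟩ := isOpen_induced_iff.mp hV'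
  obtain ⟨a, haZ, haU⟩ := hU
  obtain ⟨b, hbZ, hbV⟩ := hV
  obtain ⟨c, hcZ, hcU, hcV⟩ := hZ.isPreirreducible U V hUo hVo ⟨a.1, haZ, haU⟩ ⟨b.1, hbZ, hbV⟩
  exact ⟨⟨c, hZX hcZ⟩, hcZ, hcU, hcV⟩

/-- irreducible closed subsets of a closed subspace are the irreducible closed subsets of the
ambient space contained in it -/
noncomputable def closedSubIso (X : Set Y) (hX : IsClosed X) :
    IrreducibleCloseds ↥X ≃o {Z : IrreducibleCloseds Y // (Z : Set Y) ⊆ X} where
  toFun T := ⟨⟨Subtype.val '' (T : Set ↥X),
      T.isIrreducible.image _ continuous_subtype_val.continuousOn,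
      hX.isClosedEmbedding_subtypeVal.isClosedMap _ T.isClosed⟩, by
        rintro _ ⟨t, _, rfl⟩; exact t.2⟩
  invFun Z := ⟨Subtype.val ⁻¹' (Z.1 : Set Y), isIrreducible_preimage_val X _ Z.1.isIrreducible Z.2,
      Z.1.isClosed.preimage continuous_subtype_val⟩
  left_inv T := by
    apply IrreducibleCloseds.ext
    show Subtype.val ⁻¹' (Subtype.val '' (T : Set ↥X)) = (T : Set ↥X)
    exact Set.preimage_image_eq _ Subtype.val_injective
  right_inv Z := by
    apply Subtype.ext
    apply IrreducibleCloseds.ext
    show Subtype.val '' (Subtype.val ⁻¹' (Z.1 : Set Y)) = (Z.1 : Set Y)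
    rw [Subtype.image_preimage_coe]
    exact Set.inter_eq_right.mpr Z.2
  map_rel_iff' := by
    intro T T'
    show Subtype.val '' (T : Set ↥X) ⊆ Subtype.val '' (T' : Set ↥X) ↔ T ≤ T'
    rw [Set.image_subset_image_iff Subtype.val_injective]
    exact Iff.rfl

end closedSub

section dims

variable {A σ : Type*} [CommRing A] [SetLike σ A] [AddSubmonoidClass σ A]
variable (𝒜 : ℕ → σ) [GradedRing 𝒜]

local notation "P" => ProjectiveSpectrum 𝒜

/-- the dimension of the closure of a point is the coheight of the point -/
theorem topologicalKrullDim_closure_singleton (x : P) :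
    topologicalKrullDim ↥(closure ({x} : Set P)) = (Order.coheight x : WithBot ℕ∞) := by
  unfold topologicalKrullDim
  rw [Order.krullDim_eq_of_orderIso (closedSubIso (closure ({x} : Set P)) isClosed_closure)]
  -- the subtype is anti-isomorphic to `Set.Ici x`
  let e : {Z : IrreducibleCloseds P // (Z : Set P) ⊆ closure ({x} : Set P)} ≃o (Set.Ici x)ᵒᵈ :=
    { toFun := fun Z => OrderDual.toDual ⟨genPt 𝒜 Z.1, by
        have h := Z.2
        rw [coe_eq_closure_genPt 𝒜 Z.1, closure_singleton_subset_iff] at h
        exact h⟩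
      invFun := fun y => ⟨clPt 𝒜 (OrderDual.ofDual y).1, by
        show closure ({(OrderDual.ofDual y).1} : Set P) ⊆ closure ({x} : Set P)
        rw [closure_singleton_subset_iff]
        exact (OrderDual.ofDual y).2⟩
      left_inv := fun Z => Subtype.ext (clPt_genPt 𝒜 Z.1)
      right_inv := fun y => by
        apply OrderDual.ofDual.injective
        apply Subtype.ext
        exact genPt_clPt 𝒜 _
      map_rel_iff' := by
        intro Z W
        show genPt 𝒜 W.1 ≤ genPt 𝒜 Z.1 ↔ Z.1 ≤ W.1
        rw [← closure_singleton_subset_iff, ← coe_eq_closure_genPt, ← coe_eq_closure_genPt]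
        exact Iff.rfl }
  rw [Order.krullDim_eq_of_orderIso e, Order.krullDim_orderDual, Order.coheight_eq_krullDim_Ici]

/-- irreducible components of a closed subset `W`: generic points are the minimal points of `W` -/
theorem component_generic (W : Set P) (hW : IsClosed W) (C : Set ↥W)
    (hC : C ∈ irreducibleComponents ↥W) :
    ∃ y : P, y ∈ W ∧ (∀ z : P, z ∈ W → z ≤ y → z = y) ∧
      topologicalKrullDim ↥C = (Order.coheight y : WithBot ℕ∞) := by
  have hCc : IsClosed C := isClosed_of_mem_irreducibleComponents C hC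
  have hCi : IsIrreducible C := hC.1
  let T : IrreducibleCloseds ↥W := ⟨C, hCi, hCc⟩
  let Z : IrreducibleCloseds P := (closedSubIso W hW T).1
  have hZW : (Z : Set P) ⊆ W := (closedSubIso W hW T).2
  have hZcoe : (Z : Set P) = Subtype.val '' C := rfl
  refine ⟨genPt 𝒜 Z, ?_, ?_, ?_⟩
  · apply hZW
    rw [coe_eq_closure_genPt 𝒜 Z]
    exact subset_closure rfl
  · intro z hzW hzy
    have hsub : closure ({z} : Set P) ⊆ W := (IsClosed.closure_subset_iff hW).mpr (by simpa using hzW)
    let T' : IrreducibleCloseds ↥W := (closedSubIso W hW).symm ⟨clPt 𝒜 z, hsub⟩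
    have hle : T ≤ T' := by
      rw [← (closedSubIso W hW).le_iff_le, OrderIso.apply_symm_apply]
      show (Z : Set P) ⊆ closure ({z} : Set P)
      rw [coe_eq_closure_genPt 𝒜 Z, closure_singleton_subset_iff]
      exact hzy
    have hge : (T' : Set ↥W) ⊆ C := hC.2 T'.isIrreducible hle
    have hTT' : T' = T := le_antisymm hge hle
    have hZZ' : clPt 𝒜 z = Z := by
      have := congrArg (fun t => ((closedSubIso W hW) t).1) hTT'
      simpa [T'] using this
    rw [← hZZ', genPt_clPt]
  · have h1 : topologicalKrullDim ↥C = topologicalKrullDim ↥(Subtype.val '' C : Set P) :=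
      IsHomeomorph.topologicalKrullDim_eq _
        (IsEmbedding.subtypeVal.homeomorphImage C).isHomeomorph
    rw [h1, ← hZcoe, coe_eq_closure_genPt 𝒜 Z, topologicalKrullDim_closure_singleton]

/-- every point of a closed set lies over a minimal point, provided minimal primes exist; here:
any irreducible closed subset of `W` is contained in a component. We only need the existence of
components through points. -/
theorem exists_component_of_mem (W : Set P) (w : P) (hw : w ∈ W) :
    ∃ C ∈ irreducibleComponents ↥W, (⟨w, hw⟩ : ↥W) ∈ C :=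
  ⟨irreducibleComponent (⟨w, hw⟩ : ↥W), irreducibleComponent_mem_irreducibleComponents _,
    mem_irreducibleComponent⟩

end dims

end Groth.Agent.Helper19.ProjDict
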