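import Mathlib
import Groth.Agent.Helper19.ProjDict

/-!
# Zero-dimensional closed subsets of a projective spectrum (helper19)
-/

set_option autoImplicit false

namespace Groth.Agent.Helper19.ProjDict

open TopologicalSpace Topology

section dims

variable {A σ : Type*} [CommRing A] [SetLike σ A] [AddSubmonoidClass σ A]
variable (𝒜 : ℕ → σ) [GradedRing 𝒜]

local notation "P" => ProjectiveSpectrum 𝒜

theorem genPt_mem (Z : IrreducibleCloseds P) : genPt 𝒜 Z ∈ (Z : Set P) := by
  rw [coe_eq_closure_genPt 𝒜 Z]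
  exact subset_closure rfl

theorem genPt_le_genPt {Z Z' : IrreducibleCloseds P} (h : Z ≤ Z') : genPt 𝒜 Z' ≤ genPt 𝒜 Z := by
  rw [← closure_singleton_subset_iff, ← coe_eq_closure_genPt, ← coe_eq_closure_genPt]
  exact h

theorem closure_singleton_subset_of_mem {W : Set P} (hW : IsClosed W) {w : P} (hw : w ∈ W) :
    closure ({w} : Set P) ⊆ W :=
  (IsClosed.closure_subset_iff hW).mpr (by simpa using hw)

/-- a nonempty closed subset all of whose points are maximal has dimension zero -/
theorem topologicalKrullDim_eq_zero_of_coheight (W : Set P) (hW : IsClosed W) (hne : W.Nonempty)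
    (h0 : ∀ y ∈ W, Order.coheight y = 0) : topologicalKrullDim ↥W = 0 := by
  unfold topologicalKrullDim
  rw [Order.krullDim_eq_of_orderIso (closedSubIso W hW)]
  apply le_antisymm
  · rw [Order.krullDim_nonpos_iff_forall_isMax]
    intro Z Z' hZZ'
    have hle : Z.1 ≤ Z'.1 := hZZ'
    have h1 := genPt_le_genPt 𝒜 hle
    have hmem : genPt 𝒜 Z'.1 ∈ W := Z'.2 (genPt_mem 𝒜 Z'.1)
    have hmax : IsMax (genPt 𝒜 Z'.1) := Order.coheight_eq_zero.mp (h0 _ hmem)
    have h2 : genPt 𝒜 Z.1 ≤ genPt 𝒜 Z'.1 := hmax h1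
    show Z'.1 ≤ Z.1
    have : (Z'.1 : Set P) ⊆ (Z.1 : Set P) := by
      rw [coe_eq_closure_genPt 𝒜 Z'.1, coe_eq_closure_genPt 𝒜 Z.1, closure_singleton_subset_iff]
      exact h2
    exact this
  · obtain ⟨w, hw⟩ := hne
    haveI : Nonempty {Z : IrreducibleCloseds P // (Z : Set P) ⊆ W} :=
      ⟨⟨clPt 𝒜 w, closure_singleton_subset_of_mem 𝒜 hW hw⟩⟩
    exact Order.krullDim_nonneg

/-- conversely, in a closed subset of dimension zero all points are maximal among its points -/
theorem not_lt_of_topologicalKrullDim_eq_zero (W : Set P) (hW : IsClosed W)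
    (h0 : topologicalKrullDim ↥W = 0) {y y' : P} (hy : y ∈ W) (hyy' : y < y') : False := by
  unfold topologicalKrullDim at h0
  rw [Order.krullDim_eq_of_orderIso (closedSubIso W hW)] at h0
  have hy' : y' ∈ W := closure_singleton_subset_of_mem 𝒜 hW hy
    ((mem_closure_singleton_iff 𝒜 y y').mpr hyy'.le)
  have hmax := (Order.krullDim_nonpos_iff_forall_isMax.mp h0.le)
    (⟨clPt 𝒜 y', closure_singleton_subset_of_mem 𝒜 hW hy'⟩ :
      {Z : IrreducibleCloseds P // (Z : Set P) ⊆ W})
  have hle : (⟨clPt 𝒜 y', closure_singleton_subset_of_mem 𝒜 hW hy'⟩ :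
      {Z : IrreducibleCloseds P // (Z : Set P) ⊆ W}) ≤
      ⟨clPt 𝒜 y, closure_singleton_subset_of_mem 𝒜 hW hy⟩ := by
    show closure ({y'} : Set P) ⊆ closure ({y} : Set P)
    rw [closure_singleton_subset_iff]
    exact hyy'.le
  have hge := hmax hle
  have : closure ({y} : Set P) ⊆ closure ({y'} : Set P) := hge
  rw [closure_singleton_subset_iff] at this
  exact absurd hyy' (not_lt_of_ge this)

end dims

end Groth.Agent.Helper19.ProjDict
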