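import Mathlib
import Groth.Prelude.Def_CohB1
import Groth.Agent.S10833
import Groth.Agent.Helper19.ProjDict

/-!
# Dimension theory of projective space over a field (helper19)

Algebraic core: homogeneous primes of `k[x_0..x_n]`, dimension drop along a homogeneous
hypersurface section, `dim V_+(p) = dim S/p - 1`.
-/

set_option autoImplicit false
universe u

namespace Groth.Agent.Helper19.ProjDim

open TopologicalSpace Topology MvPolynomial Groth.Agent.Helper19.ProjDict

section gradedGeneral

variable {A σ : Type*} [CommRing A] [SetLike σ A] [AddSubmonoidClass σ A]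
variable (𝒜 : ℕ → σ) [GradedRing 𝒜]

/-- minimal primes over a homogeneous ideal are homogeneous -/
theorem isHomogeneous_of_mem_minimalPrimes {I : Ideal A} (hI : I.IsHomogeneous 𝒜) {q : Ideal A}
    (hq : q ∈ I.minimalPrimes) : q.IsHomogeneous 𝒜 := by
  haveI := hq.1.1
  have hprime : (q.homogeneousCore 𝒜).toIdeal.IsPrime := Ideal.IsPrime.homogeneousCore hq.1.1
  have hle : I ≤ (q.homogeneousCore 𝒜).toIdeal := by
    have h1 : (I.homogeneousCore 𝒜).toIdeal ≤ (q.homogeneousCore 𝒜).toIdeal :=
      Ideal.homogeneousCore_mono 𝒜 hq.1.2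
    rwa [hI.toIdeal_homogeneousCore_eq_self] at h1
  have hle2 : (q.homogeneousCore 𝒜).toIdeal ≤ q := Ideal.toIdeal_homogeneousCore_le 𝒜 q
  have heq : q = (q.homogeneousCore 𝒜).toIdeal :=
    le_antisymm (hq.2 ⟨hprime, hle⟩ hle2) hle2
  rw [heq]
  exact (q.homogeneousCore 𝒜).isHomogeneous

end gradedGeneral

theorem add_one_cancel_nat (a : WithBot ℕ∞) (d : ℕ)
    (h : a + 1 = ((d : ℕ∞) : WithBot ℕ∞) + 1) : a = ((d : ℕ∞) : WithBot ℕ∞) := by
  cases a with
  | bot =>
    exfalso
    have h0 : ((d : ℕ∞) : WithBot ℕ∞) + 1 = (((d + 1 : ℕ) : ℕ∞) : WithBot ℕ∞) := by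
      push_cast; rfl
    rw [h0] at h
    exact WithBot.bot_ne_coe h
  | coe e =>
    have h1 : ((e + 1 : ℕ∞) : WithBot ℕ∞) = (((d : ℕ∞) + 1 : ℕ∞) : WithBot ℕ∞) := by
      push_cast
      exact h
    have h2 : e + 1 = (d : ℕ∞) + 1 := WithBot.coe_injective h1
    induction e using ENat.recTopCoe with
    | top =>
      exfalso
      exact ENat.top_ne_coe (d + 1) (by push_cast; exact h2)
    | coe m =>
      have : m + 1 = d + 1 := by exact_mod_cast h2
      have : m = d := by omega
      rw [this]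

section poly

variable (k : Type u) [Field k] (n : ℕ)

local notation "S" => MvPolynomial (Fin (n + 1)) k
local notation "𝒜" => CohB1.polyGrading n k
local notation "P" => ProjectiveSpectrum (CohB1.polyGrading n k)

/-- the irrelevant ideal -/
noncomputable def mplus : Ideal S := (HomogeneousIdeal.irrelevant 𝒜).toIdeal

theorem sub_C_mem_of_X_mem (I : Ideal S) (hI : ∀ i, (X i : S) ∈ I) (f : S) :
    f - C (constantCoeff f) ∈ I := by
  induction f using MvPolynomial.induction_on with
  | C a => simp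
  | add p q hp hq =>
    have : p + q - C (constantCoeff (p + q)) = (p - C (constantCoeff p)) + (q - C (constantCoeff q)) := by
      rw [map_add, map_add]; ring
    rw [this]
    exact I.add_mem hp hq
  | mul_X p i _ =>
    have : constantCoeff (p * X i) = 0 := by simp
    rw [this, map_zero, sub_zero]
    exact I.mul_mem_left _ (hI i)

theorem X_mem_mplus (i : Fin (n + 1)) : (X i : S) ∈ mplus k n :=
  HomogeneousIdeal.mem_irrelevant_of_mem 𝒜 (i := 1) one_pos (isHomogeneous_X k i)

theorem one_notMem_mplus : (1 : S) ∉ mplus k n := by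
  intro h
  have h1 : (1 : S) ∈ HomogeneousIdeal.irrelevant 𝒜 := h
  rw [HomogeneousIdeal.mem_irrelevant_iff, GradedRing.proj_apply,
    DirectSum.decompose_of_mem_same 𝒜 (isHomogeneous_one (Fin (n + 1)) k)] at h1
  exact one_ne_zero h1

theorem mem_mplus_iff (f : S) : f ∈ mplus k n ↔ constantCoeff f = 0 := by
  have h1 := sub_C_mem_of_X_mem k n (mplus k n) (X_mem_mplus k n) f
  constructor
  · intro hf
    by_contra hc
    have h2 : C (constantCoeff f) ∈ mplus k n := by
      have := (mplus k n).sub_mem hf h1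
      simpa using this
    have h3 : (1 : S) ∈ mplus k n := by
      have := (mplus k n).mul_mem_left (C (constantCoeff f)⁻¹) h2
      rwa [← C_mul, inv_mul_cancel₀ hc, C_1] at this
    exact one_notMem_mplus k n h3
  · intro hf
    rw [hf, C_0, sub_zero] at h1
    exact h1

theorem mplus_eq_ker : mplus k n = RingHom.ker (constantCoeff : S →+* k) := by
  ext f
  rw [mem_mplus_iff, RingHom.mem_ker]

theorem mplus_isMaximal : (mplus k n).IsMaximal := by
  rw [mplus_eq_ker]
  exact RingHom.ker_isMaximal_of_surjective _ (fun a => ⟨C a, by simp⟩)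

theorem mplus_isHomogeneous : (mplus k n).IsHomogeneous 𝒜 :=
  (HomogeneousIdeal.irrelevant 𝒜).isHomogeneous

/-- a proper homogeneous ideal is contained in the irrelevant ideal -/
theorem le_mplus_of_isHomogeneous {I : Ideal S} (hI : I.IsHomogeneous 𝒜) (hne : I ≠ ⊤) :
    I ≤ mplus k n := by
  intro f hf
  rw [mem_mplus_iff]
  by_contra hc
  have h0 := MvPolynomial.homogeneousComponent_mem_of_mem hI hf 0
  rw [homogeneousComponent_zero] at h0
  apply hne
  rw [Ideal.eq_top_iff_one]
  have := I.mul_mem_left (C (coeff 0 f)⁻¹) h0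
  have hc' : coeff 0 f ≠ 0 := hc
  rwa [← C_mul, inv_mul_cancel₀ hc', C_1] at this

/-- a point of projective space misses some coordinate -/
theorem exists_X_notMem (x : P) : ∃ i, (X i : S) ∉ x.asHomogeneousIdeal.toIdeal := by
  by_contra h
  push Not at h
  apply x.not_irrelevant_le
  intro f hf
  have h1 := sub_C_mem_of_X_mem k n x.asHomogeneousIdeal.toIdeal h f
  have h2 : constantCoeff f = 0 := (mem_mplus_iff k n f).mp hf
  rw [h2, C_0, sub_zero] at h1
  exact h1

theorem ideal_lt_mplus (x : P) : x.asHomogeneousIdeal.toIdeal < mplus k n := by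
  refine lt_of_le_of_ne (le_mplus_of_isHomogeneous k n x.asHomogeneousIdeal.isHomogeneous
    x.isPrime.ne_top) ?_
  intro h
  apply x.not_irrelevant_le
  intro f hf
  have : f ∈ mplus k n := hf
  rw [← h] at this
  exact this

/-- the quotient by a prime is a finitely generated domain over `k` -/
theorem ringKrullDim_quotient_eq_coheight (p : PrimeSpectrum S) :
    ringKrullDim (S ⧸ p.asIdeal) = ((Order.coheight p : ℕ∞) : WithBot ℕ∞) := by
  rw [ringKrullDim_quotient, Order.coheight_eq_krullDim_Ici]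
  have : PrimeSpectrum.zeroLocus (p.asIdeal : Set S) = Set.Ici p := by
    ext q
    rw [PrimeSpectrum.mem_zeroLocus, Set.mem_Ici]
    rfl
  rw [this]

/-- dimension drop: a minimal prime over `p + (f)` with `f ∉ p` has `dim S/p = dim S/q + 1` -/
theorem dim_drop (p : Ideal S) [hp : p.IsPrime] (f : S) (hfp : f ∉ p) (q : Ideal S)
    (hq : q ∈ (p ⊔ Ideal.span {f}).minimalPrimes) :
    ringKrullDim (S ⧸ p) = ringKrullDim (S ⧸ q) + 1 := by
  haveI hqp : q.IsPrime := hq.1.1
  have hpq : p ≤ q := le_sup_left.trans hq.1.2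
  have hfq : f ∈ q := hq.1.2 (le_sup_right (a := p) (Ideal.mem_span_singleton_self f))
  let mk := Ideal.Quotient.mk p
  have hmk : Function.Surjective mk := Ideal.Quotient.mk_surjective
  have hker : RingHom.ker mk ≤ q := by rw [Ideal.mk_ker]; exact hpq
  haveI hQ : (q.map mk).IsPrime := Ideal.map_isPrime_of_surjective hmk hker
  have hcomap : (q.map mk).comap mk = q := by
    rw [Ideal.comap_map_of_surjective mk hmk, ← RingHom.ker_eq_comap_bot, Ideal.mk_ker]
    exact sup_eq_left.mpr hpq
  have hQ0 : q.map mk ≠ ⊥ := by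
    intro h
    have h1 : mk f ∈ q.map mk := Ideal.mem_map_of_mem mk hfq
    rw [h, Ideal.mem_bot, Ideal.Quotient.eq_zero_iff_mem] at h1
    exact hfp h1
  -- `q.map mk` is minimal over `(mk f)`
  have hmin : q.map mk ∈ (Ideal.span {mk f}).minimalPrimes := by
    refine ⟨⟨hQ, ?_⟩, ?_⟩
    · rw [Ideal.span_singleton_le_iff_mem]
      exact Ideal.mem_map_of_mem mk hfq
    · rintro Q' ⟨hQ'prime, hQ'f⟩ hQ'le
      have h1 : p ⊔ Ideal.span {f} ≤ Q'.comap mk := by
        apply sup_le
        · intro a ha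
          rw [Ideal.mem_comap]
          have : mk a = 0 := Ideal.Quotient.eq_zero_iff_mem.mpr ha
          rw [this]
          exact Q'.zero_mem
        · rw [Ideal.span_singleton_le_iff_mem, Ideal.mem_comap]
          exact hQ'f (Ideal.mem_span_singleton_self _)
      have h2 : Q'.comap mk ≤ q := by
        rw [← hcomap]
        exact Ideal.comap_mono hQ'le
      have h3 : q ≤ Q'.comap mk := hq.2 ⟨Ideal.comap_isPrime mk Q', h1⟩ h2
      calc q.map mk ≤ (Q'.comap mk).map mk := Ideal.map_mono h3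
        _ ≤ Q' := Ideal.map_comap_le
  have hht : (q.map mk).height ≤ 1 :=
    Ideal.height_le_one_of_isPrincipal_of_mem_minimalPrimes _ _ hmin
  have hcov : ∀ Q' : Ideal (S ⧸ p), Q'.IsPrime → Q' < q.map mk → Q' = ⊥ := by
    intro Q' hQ' hlt
    by_contra hne
    have hbot : (⊥ : Ideal (S ⧸ p)) < Q' := bot_lt_iff_ne_bot.mpr hne
    haveI : (⊥ : Ideal (S ⧸ p)).IsPrime := Ideal.isPrime_bot
    have h1 := Ideal.height_add_one_le_of_lt_of_isPrime hbot
    have h2 := Ideal.height_add_one_le_of_lt_of_isPrime hlt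
    rw [Ideal.height_bot, zero_add] at h1
    have h3 : (2 : ℕ∞) ≤ (q.map mk).height :=
      calc (2 : ℕ∞) = 1 + 1 := by norm_num
        _ ≤ Q'.height + 1 := by gcongr
        _ ≤ _ := h2
    have := h3.trans hht
    norm_num at this
  have key := Groth.Agent.S10833.dim_eq_dim_quot_add_one k (q.map mk) hQ0 hcov
  rw [key]
  congr 1
  exact ringKrullDim_eq_of_ringEquiv (DoubleQuot.quotQuotEquivQuotOfLE hpq)

/-- existence of a minimal prime over `p + (f)` inside the irrelevant ideal -/
theorem exists_minimalPrime_le_mplus (p : Ideal S) (hp : p ≤ mplus k n) (f : S)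
    (hf : f ∈ mplus k n) :
    ∃ q ∈ (p ⊔ Ideal.span {f}).minimalPrimes, q ≤ mplus k n := by
  haveI := (mplus_isMaximal k n).isPrime
  exact Ideal.exists_minimalPrimes_le
    (sup_le hp ((Ideal.span_singleton_le_iff_mem _).mpr hf))

theorem ringKrullDim_quotient_mplus : ringKrullDim (S ⧸ mplus k n) = 0 := by
  haveI := mplus_isMaximal k n
  letI : Field (S ⧸ mplus k n) := Ideal.Quotient.field (mplus k n)
  exact ringKrullDim_eq_zero_of_field _

/-- a homogeneous prime whose quotient has positive dimension is relevant -/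
theorem relevant_of_dim_pos (q : HomogeneousIdeal 𝒜) [hq : q.toIdeal.IsPrime]
    (hdim : 1 ≤ ringKrullDim (S ⧸ q.toIdeal)) : ¬ HomogeneousIdeal.irrelevant 𝒜 ≤ q := by
  intro hle
  have h1 : mplus k n ≤ q.toIdeal := hle
  have h2 : mplus k n = q.toIdeal := (mplus_isMaximal k n).eq_of_le hq.ne_top h1
  rw [← h2, ringKrullDim_quotient_mplus] at hdim
  norm_num at hdim

theorem ringKrullDim_quotient_le (I : Ideal S) :
    ringKrullDim (S ⧸ I) ≤ ((n + 1 : ℕ) : WithBot ℕ∞) := by
  have h1 : ringKrullDim (S ⧸ I) ≤ ringKrullDim S :=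
    ringKrullDim_le_of_surjective (Ideal.Quotient.mk I) Ideal.Quotient.mk_surjective
  have h2 : ringKrullDim S = ((n + 1 : ℕ) : WithBot ℕ∞) := by
    rw [MvPolynomial.ringKrullDim_of_isNoetherianRing, ringKrullDim_eq_zero_of_field]
    simp
  rw [← h2]
  exact h1

/-- the dimension of `S/x` as a natural number -/
theorem exists_dim_nat (I : Ideal S) (hI : I ≠ ⊤) :
    ∃ d : ℕ, ringKrullDim (S ⧸ I) = ((d : ℕ∞) : WithBot ℕ∞) := by
  haveI : Nontrivial (S ⧸ I) := Ideal.Quotient.nontrivial_iff.mpr hI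
  have h1 := ringKrullDim_quotient_le k n I
  have h0 : (0 : WithBot ℕ∞) ≤ ringKrullDim (S ⧸ I) := ringKrullDim_nonneg_of_nontrivial
  obtain ⟨e, he⟩ : ∃ e : ℕ∞, ringKrullDim (S ⧸ I) = (e : WithBot ℕ∞) := by
    cases h : ringKrullDim (S ⧸ I) with
    | bot => rw [h] at h0; simp at h0
    | coe e => exact ⟨e, rfl⟩
  rw [he] at h1
  have h2 : e ≤ ((n + 1 : ℕ) : ℕ∞) := by exact_mod_cast h1
  have h3 : e ≠ ⊤ := fun h => by rw [h] at h2; simp at h2
  obtain ⟨d, rfl⟩ := ENat.ne_top_iff_exists.mp h3
  exact ⟨d, he⟩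

/-- lower bound for the coheight of a point of projective space -/
theorem le_coheight_add_one : ∀ (d : ℕ) (x : P),
    ringKrullDim (S ⧸ x.asHomogeneousIdeal.toIdeal) = ((d : ℕ∞) : WithBot ℕ∞) →
    (d : ℕ∞) ≤ Order.coheight x + 1 := by
  intro d
  induction d with
  | zero => intro x _; simp
  | succ d ih =>
    intro x hx
    rcases Nat.eq_zero_or_pos d with hd | hd
    · subst hd
      simp
    obtain ⟨i, hi⟩ := exists_X_notMem k n x
    obtain ⟨q, hq, hqm⟩ := exists_minimalPrime_le_mplus k n x.asHomogeneousIdeal.toIdeal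
      (ideal_lt_mplus k n x).le (X i) (X_mem_mplus k n i)
    haveI hqp : q.IsPrime := hq.1.1
    have hqh : q.IsHomogeneous 𝒜 := isHomogeneous_of_mem_minimalPrimes 𝒜
      (x.asHomogeneousIdeal.isHomogeneous.sup (Ideal.homogeneous_span 𝒜 _ (by
        rintro _ rfl
        exact ⟨1, isHomogeneous_X k i⟩))) hq
    have hdrop := dim_drop k n x.asHomogeneousIdeal.toIdeal (X i) hi q hq
    rw [hx] at hdrop
    have hdq : ringKrullDim (S ⧸ q) = ((d : ℕ∞) : WithBot ℕ∞) := by
      have h1 : (((d + 1 : ℕ) : ℕ∞) : WithBot ℕ∞) = ((d : ℕ∞) : WithBot ℕ∞) + 1 := by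
        push_cast; rfl
      rw [h1] at hdrop
      exact add_one_cancel_nat _ _ hdrop.symm
    have hqrel : ¬ HomogeneousIdeal.irrelevant 𝒜 ≤ (⟨q, hqh⟩ : HomogeneousIdeal 𝒜) := by
      haveI : (HomogeneousIdeal.toIdeal (⟨q, hqh⟩ : HomogeneousIdeal 𝒜)).IsPrime := hqp
      apply relevant_of_dim_pos k n ⟨q, hqh⟩
      show 1 ≤ ringKrullDim (S ⧸ q)
      rw [hdq]
      exact_mod_cast hd
    let y : P := ⟨⟨q, hqh⟩, hqp, hqrel⟩
    have hxy : x < y := by
      apply lt_of_le_of_ne
      · rw [← ProjectiveSpectrum.as_ideal_le_as_ideal]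
        intro a ha
        exact hq.1.2 (le_sup_left (b := Ideal.span {(X i : S)}) ha)
      · intro h
        apply hi
        rw [h]
        exact hq.1.2 (le_sup_right (a := x.asHomogeneousIdeal.toIdeal)
          (Ideal.mem_span_singleton_self _))
    have h1 := ih y hdq
    have h2 := Order.coheight_add_one_le hxy
    calc ((d + 1 : ℕ) : ℕ∞) = (d : ℕ∞) + 1 := by push_cast; rfl
      _ ≤ Order.coheight y + 1 + 1 := by gcongr
      _ ≤ Order.coheight x + 1 := by gcongr

/-- `dim V_+(x) + 1 = dim S/x` -/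
theorem dim_eq_coheight_add_one (x : P) :
    ringKrullDim (S ⧸ x.asHomogeneousIdeal.toIdeal) =
      ((Order.coheight x + 1 : ℕ∞) : WithBot ℕ∞) := by
  obtain ⟨d, hd⟩ := exists_dim_nat k n x.asHomogeneousIdeal.toIdeal x.isPrime.ne_top
  apply le_antisymm
  · rw [hd]
    exact_mod_cast le_coheight_add_one k n d x hd
  · -- chains in `P` extend by the irrelevant ideal
    let ι : WithTop P → PrimeSpectrum S := fun y =>
      match y with
      | ⊤ => ⟨mplus k n, (mplus_isMaximal k n).isPrime⟩
      | (y : P) => ⟨y.asHomogeneousIdeal.toIdeal, y.isPrime⟩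
    have hι : StrictMono ι := by
      intro a b hab
      cases a with
      | top => exact absurd hab (not_top_lt)
      | coe a =>
        cases b with
        | top => exact ideal_lt_mplus k n a
        | coe b =>
          have hab' : a < b := WithTop.coe_lt_coe.mp hab
          show a.asHomogeneousIdeal.toIdeal < b.asHomogeneousIdeal.toIdeal
          exact (ProjectiveSpectrum.as_ideal_lt_as_ideal 𝒜 a b).mpr hab'
    have h1 := Order.coheight_le_coheight_apply_of_strictMono ι hι (x : WithTop P)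
    rw [Order.coheight_coe_withTop] at h1
    have h2 := ringKrullDim_quotient_eq_coheight k n
      ⟨x.asHomogeneousIdeal.toIdeal, x.isPrime⟩
    rw [h2]
    exact_mod_cast h1

/-- the generic point of projective space -/
noncomputable def botPt : P :=
  ⟨⊥, by rw [HomogeneousIdeal.toIdeal_bot]; exact Ideal.isPrime_bot, by
    intro h
    have h1 : (X 0 : S) ∈ (⊥ : HomogeneousIdeal 𝒜) := h (X_mem_mplus k n 0)
    have h2 : (X 0 : S) ∈ (⊥ : HomogeneousIdeal 𝒜).toIdeal := h1
    rw [HomogeneousIdeal.toIdeal_bot] at h2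
    exact X_ne_zero (R := k) (0 : Fin (n + 1)) ((Ideal.mem_bot).mp h2)⟩

theorem botPt_toIdeal : (botPt k n).asHomogeneousIdeal.toIdeal = ⊥ :=
  HomogeneousIdeal.toIdeal_bot

theorem botPt_le (x : P) : botPt k n ≤ x := by
  rw [← ProjectiveSpectrum.as_ideal_le_as_ideal]
  intro a ha
  have : a ∈ (⊥ : Ideal S) := by rwa [← botPt_toIdeal k n]
  rw [Ideal.mem_bot.mp this]
  exact Ideal.zero_mem _

theorem ringKrullDim_S : ringKrullDim S = ((n + 1 : ℕ) : WithBot ℕ∞) := by
  rw [MvPolynomial.ringKrullDim_of_isNoetherianRing, ringKrullDim_eq_zero_of_field]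
  simp

theorem coheight_botPt : Order.coheight (botPt k n) = (n : ℕ∞) := by
  have h1 := dim_eq_coheight_add_one k n (botPt k n)
  rw [botPt_toIdeal] at h1
  have h2 : ringKrullDim (S ⧸ (⊥ : Ideal S)) = ringKrullDim S :=
    ringKrullDim_eq_of_ringEquiv (RingEquiv.quotientBot S)
  rw [h2, ringKrullDim_S] at h1
  have h3 : ((n + 1 : ℕ) : ℕ∞) = Order.coheight (botPt k n) + 1 := by exact_mod_cast h1
  have hne : Order.coheight (botPt k n) ≠ ⊤ := by
    intro h
    rw [h] at h3
    simp at h3
  obtain ⟨m, hm⟩ := ENat.ne_top_iff_exists.mp hne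
  rw [← hm] at h3 ⊢
  have : n + 1 = m + 1 := by exact_mod_cast h3
  have : m = n := by omega
  rw [this]

theorem coheight_le (x : P) : Order.coheight x ≤ (n : ℕ∞) := by
  rw [← coheight_botPt k n]
  exact Order.coheight_anti (botPt_le k n x)

theorem coheight_ne_top (x : P) : Order.coheight x ≠ ⊤ := by
  intro h
  have := coheight_le k n x
  rw [h] at this
  simp at this

/-- projective `n`-space has dimension `n` -/
theorem topologicalKrullDim_proj :
    topologicalKrullDim P = ((n : ℕ∞) : WithBot ℕ∞) := by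
  rw [topologicalKrullDim_eq_krullDim]
  haveI : Nonempty P := ⟨botPt k n⟩
  rw [Order.krullDim_eq_iSup_coheight_of_nonempty]
  congr 1
  apply le_antisymm
  · exact iSup_le (coheight_le k n)
  · rw [← coheight_botPt k n]
    exact le_iSup (fun a : P => Order.coheight a) (botPt k n)

end poly

end Groth.Agent.Helper19.ProjDim
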