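import Mathlib
import Groth.Prelude.Def_CohB1
import Groth.Agent.Helper19.ProjDim

/-!
# Projective dimension theorem: algebraic form (helper19)
-/

set_option autoImplicit false
universe u

namespace Groth.Agent.Helper19.ProjDim

open TopologicalSpace Topology MvPolynomial Groth.Agent.Helper19.ProjDict

section poly

variable (k : Type u) [Field k] (n : ℕ)

local notation "S" => MvPolynomial (Fin (n + 1)) k
local notation "𝒜" => CohB1.polyGrading n k
local notation "P" => ProjectiveSpectrum (CohB1.polyGrading n k)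

/-- a homogeneous prime below a point is a point -/
noncomputable def ptOfLe (q : Ideal S) (hq : q.IsPrime) (hqh : q.IsHomogeneous 𝒜) (y : P)
    (hqy : q ≤ y.asHomogeneousIdeal.toIdeal) : P :=
  ⟨⟨q, hqh⟩, hq, fun h => y.not_irrelevant_le (fun a ha => hqy (h ha))⟩

theorem ptOfLe_toIdeal (q : Ideal S) (hq : q.IsPrime) (hqh : q.IsHomogeneous 𝒜) (y : P)
    (hqy : q ≤ y.asHomogeneousIdeal.toIdeal) :
    (ptOfLe k n q hq hqh y hqy).asHomogeneousIdeal.toIdeal = q := rfl

/-- a homogeneous prime with positive dimensional quotient is a point -/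
noncomputable def ptOfDim (q : Ideal S) (hq : q.IsPrime) (hqh : q.IsHomogeneous 𝒜)
    (hdim : 1 ≤ ringKrullDim (S ⧸ q)) : P :=
  ⟨⟨q, hqh⟩, hq, by
    haveI : (HomogeneousIdeal.toIdeal (⟨q, hqh⟩ : HomogeneousIdeal 𝒜)).IsPrime := hq
    exact relevant_of_dim_pos k n ⟨q, hqh⟩ hdim⟩

theorem ptOfDim_toIdeal (q : Ideal S) (hq : q.IsPrime) (hqh : q.IsHomogeneous 𝒜)
    (hdim : 1 ≤ ringKrullDim (S ⧸ q)) :
    (ptOfDim k n q hq hqh hdim).asHomogeneousIdeal.toIdeal = q := rfl

theorem le_iff_ideal_le (x y : P) :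
    x ≤ y ↔ x.asHomogeneousIdeal.toIdeal ≤ y.asHomogeneousIdeal.toIdeal :=
  (ProjectiveSpectrum.as_ideal_le_as_ideal 𝒜 x y).symm

/-- minimal points over a homogeneous ideal are minimal primes -/
theorem mem_minimalPrimes_of_minimal (I : Ideal S) (hI : I.IsHomogeneous 𝒜) (y : P)
    (hIy : I ≤ y.asHomogeneousIdeal.toIdeal)
    (hmin : ∀ z : P, I ≤ z.asHomogeneousIdeal.toIdeal → z ≤ y → z = y) :
    y.asHomogeneousIdeal.toIdeal ∈ I.minimalPrimes := by
  obtain ⟨q, hq, hqy⟩ := Ideal.exists_minimalPrimes_le hIy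
  have hqh := isHomogeneous_of_mem_minimalPrimes 𝒜 hI hq
  have hz := hmin (ptOfLe k n q hq.1.1 hqh y hqy) hq.1.2
    ((le_iff_ideal_le k n _ _).mpr hqy)
  have : q = y.asHomogeneousIdeal.toIdeal := by
    rw [← hz]
    rfl
  rw [← this]
  exact hq

/-- dimension drop at minimal points -/
theorem dim_drop_pt (x : P) (f : S) (hfh : (Ideal.span {f}).IsHomogeneous 𝒜)
    (hfx : f ∉ x.asHomogeneousIdeal.toIdeal) (y : P) (hxy : x ≤ y)
    (hfy : f ∈ y.asHomogeneousIdeal.toIdeal)
    (hmin : ∀ z : P, x ≤ z → f ∈ z.asHomogeneousIdeal.toIdeal → z ≤ y → z = y) :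
    Order.coheight x = Order.coheight y + 1 := by
  have hI : (x.asHomogeneousIdeal.toIdeal ⊔ Ideal.span {f}).IsHomogeneous 𝒜 :=
    x.asHomogeneousIdeal.isHomogeneous.sup hfh
  have hIy : x.asHomogeneousIdeal.toIdeal ⊔ Ideal.span {f} ≤ y.asHomogeneousIdeal.toIdeal :=
    sup_le ((le_iff_ideal_le k n x y).mp hxy) ((Ideal.span_singleton_le_iff_mem _).mpr hfy)
  have hmem := mem_minimalPrimes_of_minimal k n _ hI y hIy (by
    intro z hz hzy
    exact hmin z ((le_iff_ideal_le k n x z).mpr (le_sup_left.trans hz))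
      (hz (le_sup_right (a := x.asHomogeneousIdeal.toIdeal) (Ideal.mem_span_singleton_self f))) hzy)
  have hdrop := dim_drop k n x.asHomogeneousIdeal.toIdeal f hfx _ hmem
  rw [dim_eq_coheight_add_one, dim_eq_coheight_add_one] at hdrop
  have h1 : Order.coheight x + 1 = Order.coheight y + 1 + 1 := by exact_mod_cast hdrop
  have hx := coheight_ne_top k n x
  have hy := coheight_ne_top k n y
  obtain ⟨a, ha⟩ := ENat.ne_top_iff_exists.mp hx
  obtain ⟨b, hb⟩ := ENat.ne_top_iff_exists.mp hy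
  rw [← ha, ← hb] at h1 ⊢
  have : a + 1 = b + 1 + 1 := by exact_mod_cast h1
  have : a = b + 1 := by omega
  rw [this]
  rfl

/-- existence of points on a hypersurface section of a positive dimensional variety -/
theorem exists_pt_section (x : P) (hx : 1 ≤ Order.coheight x) (f : S)
    (hfh : (Ideal.span {f}).IsHomogeneous 𝒜) (hfm : f ∈ mplus k n) :
    ∃ y : P, x ≤ y ∧ f ∈ y.asHomogeneousIdeal.toIdeal := by
  by_cases hfx : f ∈ x.asHomogeneousIdeal.toIdeal
  · exact ⟨x, le_rfl, hfx⟩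
  obtain ⟨q, hq, hqm⟩ := exists_minimalPrime_le_mplus k n x.asHomogeneousIdeal.toIdeal
    (ideal_lt_mplus k n x).le f hfm
  have hqh : q.IsHomogeneous 𝒜 := isHomogeneous_of_mem_minimalPrimes 𝒜
    (x.asHomogeneousIdeal.isHomogeneous.sup hfh) hq
  have hdrop := dim_drop k n x.asHomogeneousIdeal.toIdeal f hfx q hq
  rw [dim_eq_coheight_add_one] at hdrop
  have hdim : 1 ≤ ringKrullDim (S ⧸ q) := by
    obtain ⟨d, hd⟩ := exists_dim_nat k n q hq.1.1.ne_top
    rw [hd] at hdrop ⊢
    have h1 : Order.coheight x + 1 = (d : ℕ∞) + 1 := by exact_mod_cast hdrop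
    obtain ⟨a, ha⟩ := ENat.ne_top_iff_exists.mp (coheight_ne_top k n x)
    rw [← ha] at h1 hx
    have h2 : a + 1 = d + 1 := by exact_mod_cast h1
    have h3 : 1 ≤ a := by exact_mod_cast hx
    have h4 : 1 ≤ d := by omega
    exact_mod_cast h4
  refine ⟨ptOfDim k n q hq.1.1 hqh hdim, ?_, ?_⟩
  · rw [le_iff_ideal_le]
    exact le_sup_left.trans hq.1.2
  · exact hq.1.2 (le_sup_right (a := x.asHomogeneousIdeal.toIdeal) (Ideal.mem_span_singleton_self f))

end poly

end Groth.Agent.Helper19.ProjDim
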