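import Mathlib
import Groth.Prelude.Def_CohB1
import Groth.Agent.Helper19.ProjDim2

/-!
# Projective dimension theorem for several equations (helper19)
-/

set_option autoImplicit false
universe u

namespace Groth.Agent.Helper19.ProjDim

open TopologicalSpace Topology MvPolynomial Groth.Agent.Helper19.ProjDict

section poly

variable (k : Type u) [Field k] (n : ℕ)

local notation "S" => MvPolynomial (Fin (n + 1)) k
local notation "𝒜" => CohB1.polyGrading n k
local notation "P" => ProjectiveSpectrum (CohB1.polyGrading n k)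

/-- below any point containing a homogeneous ideal there is a minimal such point -/
theorem exists_minimal_pt (I : Ideal S) (hI : I.IsHomogeneous 𝒜) (y : P)
    (hIy : I ≤ y.asHomogeneousIdeal.toIdeal) :
    ∃ y' : P, y' ≤ y ∧ I ≤ y'.asHomogeneousIdeal.toIdeal ∧
      ∀ z : P, I ≤ z.asHomogeneousIdeal.toIdeal → z ≤ y' → z = y' := by
  obtain ⟨q, hq, hqy⟩ := Ideal.exists_minimalPrimes_le hIy
  have hqh := isHomogeneous_of_mem_minimalPrimes 𝒜 hI hq
  refine ⟨ptOfLe k n q hq.1.1 hqh y hqy, (le_iff_ideal_le k n _ _).mpr hqy, hq.1.2, ?_⟩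
  intro z hz hzy
  apply le_antisymm hzy
  rw [le_iff_ideal_le]
  exact hq.2 ⟨z.isPrime, hz⟩ ((le_iff_ideal_le k n _ _).mp hzy)

theorem isHomogeneous_sup_span_range (x : P) {r : ℕ} (f : Fin r → S)
    (hfh : ∀ i, (Ideal.span {f i}).IsHomogeneous 𝒜) :
    (x.asHomogeneousIdeal.toIdeal ⊔ Ideal.span (Set.range f)).IsHomogeneous 𝒜 := by
  apply x.asHomogeneousIdeal.isHomogeneous.sup
  have : Ideal.span (Set.range f) = ⨆ i, Ideal.span {f i} := by
    rw [← Ideal.span_iUnion]
    congr 1
    ext a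
    simp [eq_comm]
  rw [this]
  exact Ideal.IsHomogeneous.iSup hfh

theorem sup_span_range_le_iff (x z : P) {r : ℕ} (f : Fin r → S) :
    x.asHomogeneousIdeal.toIdeal ⊔ Ideal.span (Set.range f) ≤ z.asHomogeneousIdeal.toIdeal ↔
      x ≤ z ∧ ∀ i, f i ∈ z.asHomogeneousIdeal.toIdeal := by
  rw [sup_le_iff, Ideal.span_le, Set.range_subset_iff, le_iff_ideal_le]
  exact Iff.rfl

/-- codimension of components of an intersection with `r` hypersurfaces is at most `r` -/
theorem coheight_le_add : ∀ (r : ℕ) (f : Fin r → S),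
    (∀ i, (Ideal.span {f i}).IsHomogeneous 𝒜) → ∀ (x y : P), x ≤ y →
    (∀ i, f i ∈ y.asHomogeneousIdeal.toIdeal) →
    (∀ z : P, x ≤ z → (∀ i, f i ∈ z.asHomogeneousIdeal.toIdeal) → z ≤ y → z = y) →
    Order.coheight x ≤ Order.coheight y + (r : ℕ∞) := by
  intro r
  induction r with
  | zero =>
    intro f _ x y hxy _ hmin
    have : x = y := hmin x le_rfl (fun i => i.elim0) hxy
    rw [this]
    simp
  | succ r ih =>
    intro f hfh x y hxy hfy hmin
    let f' : Fin r → S := fun i => f i.castSucc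
    have hI' := isHomogeneous_sup_span_range k n x f' (fun i => hfh i.castSucc)
    have hI'y : x.asHomogeneousIdeal.toIdeal ⊔ Ideal.span (Set.range f') ≤
        y.asHomogeneousIdeal.toIdeal :=
      (sup_span_range_le_iff k n x y f').mpr ⟨hxy, fun i => hfy i.castSucc⟩
    obtain ⟨y', hy'y, hIy', hy'min⟩ := exists_minimal_pt k n _ hI' y hI'y
    obtain ⟨hxy', hfy'⟩ := (sup_span_range_le_iff k n x y' f').mp hIy'
    have h1 := ih f' (fun i => hfh i.castSucc) x y' hxy' hfy' (by
      intro z hxz hfz hzy'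
      exact hy'min z ((sup_span_range_le_iff k n x z f').mpr ⟨hxz, hfz⟩) hzy')
    by_cases hg : f (Fin.last r) ∈ y'.asHomogeneousIdeal.toIdeal
    · have hall : ∀ i, f i ∈ y'.asHomogeneousIdeal.toIdeal := by
        intro i
        refine Fin.lastCases hg (fun j => hfy' j) i
      have : y' = y := hmin y' hxy' hall hy'y
      rw [← this]
      calc Order.coheight x ≤ Order.coheight y' + (r : ℕ∞) := h1
        _ ≤ Order.coheight y' + ((r + 1 : ℕ) : ℕ∞) := by
          gcongr
          exact_mod_cast Nat.le_succ r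
    · have h2 := dim_drop_pt k n y' (f (Fin.last r)) (hfh _) hg y hy'y (hfy _) (by
        intro z hy'z hgz hzy
        apply hmin z (hxy'.trans hy'z) ?_ hzy
        intro i
        refine Fin.lastCases hgz (fun j => ?_) i
        exact (le_iff_ideal_le k n y' z).mp hy'z (hfy' j))
      rw [h2] at h1
      calc Order.coheight x ≤ Order.coheight y + 1 + (r : ℕ∞) := h1
        _ = Order.coheight y + ((r + 1 : ℕ) : ℕ∞) := by
          push_cast
          rw [add_assoc, add_comm 1 (r : ℕ∞)]

/-- nonemptiness of an intersection with `r` hypersurfaces when `r ≤ dim` -/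
theorem exists_pt_sections : ∀ (r : ℕ) (f : Fin r → S),
    (∀ i, (Ideal.span {f i}).IsHomogeneous 𝒜) → (∀ i, f i ∈ mplus k n) → ∀ (x : P),
    (r : ℕ∞) ≤ Order.coheight x →
    ∃ y : P, x ≤ y ∧ ∀ i, f i ∈ y.asHomogeneousIdeal.toIdeal := by
  intro r
  induction r with
  | zero =>
    intro f _ _ x _
    exact ⟨x, le_rfl, fun i => i.elim0⟩
  | succ r ih =>
    intro f hfh hfm x hx
    let f' : Fin r → S := fun i => f i.castSucc
    have hx' : (r : ℕ∞) ≤ Order.coheight x := le_trans (by exact_mod_cast Nat.le_succ r) hx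
    obtain ⟨y₀, hxy₀, hfy₀⟩ := ih f' (fun i => hfh i.castSucc) (fun i => hfm i.castSucc) x hx'
    have hI' := isHomogeneous_sup_span_range k n x f' (fun i => hfh i.castSucc)
    obtain ⟨y', hy'y, hIy', hy'min⟩ := exists_minimal_pt k n _ hI' y₀
      ((sup_span_range_le_iff k n x y₀ f').mpr ⟨hxy₀, hfy₀⟩)
    obtain ⟨hxy', hfy'⟩ := (sup_span_range_le_iff k n x y' f').mp hIy'
    have h1 := coheight_le_add k n r f' (fun i => hfh i.castSucc) x y' hxy' hfy' (by
      intro z hxz hfz hzy'
      exact hy'min z ((sup_span_range_le_iff k n x z f').mpr ⟨hxz, hfz⟩) hzy')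
    have hpos : 1 ≤ Order.coheight y' := by
      obtain ⟨a, ha⟩ := ENat.ne_top_iff_exists.mp (coheight_ne_top k n x)
      obtain ⟨b, hb⟩ := ENat.ne_top_iff_exists.mp (coheight_ne_top k n y')
      rw [← ha, ← hb] at h1
      rw [← ha] at hx
      rw [← hb]
      have h2 : a ≤ b + r := by exact_mod_cast h1
      have h3 : r + 1 ≤ a := by exact_mod_cast hx
      have h4 : 1 ≤ b := by omega
      exact_mod_cast h4
    obtain ⟨y, hy'y2, hgy⟩ := exists_pt_section k n y' hpos (f (Fin.last r)) (hfh _) (hfm _)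
    refine ⟨y, hxy'.trans hy'y2, ?_⟩
    intro i
    refine Fin.lastCases hgy (fun j => ?_) i
    exact (le_iff_ideal_le k n y' y).mp hy'y2 (hfy' j)

end poly

end Groth.Agent.Helper19.ProjDim
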