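import Mathlib
import Groth.Prelude.Def_CohB1
import Groth.Agent.Helper19.ProjDim3

/-!
# Hypersurfaces in projective space: height one points (helper19)
-/

set_option autoImplicit false
universe u

namespace Groth.Agent.Helper19.ProjDim

open TopologicalSpace Topology MvPolynomial Groth.Agent.Helper19.ProjDict

section poly

variable (k : Type u) [Field k] (n : ℕ)

local notation "S" => MvPolynomial (Fin (n + 1)) k
local notation "𝒜" => CohB1.polyGrading n k
local notation "P" => ProjectiveSpectrum (CohB1.polyGrading n k)

/-- a generator of a homogeneous principal ideal is homogeneous -/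
theorem isHomogeneous_of_span_isHomogeneous (f : S) (hf : (Ideal.span {f}).IsHomogeneous 𝒜) :
    f.IsHomogeneous f.totalDegree := by
  by_cases hf0 : f = 0
  · rw [hf0]; exact isHomogeneous_zero _ _ _
  have hzero : ∀ i, i ≠ f.totalDegree → homogeneousComponent i f = 0 := by
    intro i hi
    by_contra hne
    have hmem : homogeneousComponent i f ∈ Ideal.span {f} :=
      MvPolynomial.homogeneousComponent_mem_of_mem hf (Ideal.mem_span_singleton_self f) i
    have hdvd : f ∣ homogeneousComponent i f := Ideal.mem_span_singleton.mp hmem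
    have h1 := totalDegree_le_of_dvd_of_isDomain hdvd hne
    rw [(homogeneousComponent_isHomogeneous i f).totalDegree hne] at h1
    rcases lt_or_gt_of_ne hi with h2 | h2
    · omega
    · exact hne (homogeneousComponent_eq_zero i f h2)
  have hsum := sum_homogeneousComponent f
  rw [Finset.sum_eq_single f.totalDegree (fun i _ hi => hzero i hi)
    (fun h => absurd (Finset.mem_range.mpr (Nat.lt_succ_self _)) h)] at hsum
  have := homogeneousComponent_isHomogeneous f.totalDegree f
  rw [hsum] at this
  exact this

theorem span_singleton_isHomogeneous (f : S) (d : ℕ) (hf : f.IsHomogeneous d) :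
    (Ideal.span {f}).IsHomogeneous 𝒜 :=
  Ideal.homogeneous_span 𝒜 {f} (by rintro _ rfl; exact ⟨d, hf⟩)

/-- points containing a nonzero homogeneous polynomial contain one of its irreducible
(homogeneous) factors -/
theorem exists_irreducible_factor_mem (x : P) (g : S) (hg : g ≠ 0)
    (hgh : (Ideal.span {g}).IsHomogeneous 𝒜) (hgx : g ∈ x.asHomogeneousIdeal.toIdeal) :
    ∃ f : S, Irreducible f ∧ f.IsHomogeneous f.totalDegree ∧
      f ∈ x.asHomogeneousIdeal.toIdeal ∧ f ∣ g := by
  have hle : Ideal.span {g} ≤ x.asHomogeneousIdeal.toIdeal :=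
    (Ideal.span_singleton_le_iff_mem _).mpr hgx
  obtain ⟨q, hq, hqx⟩ := Ideal.exists_minimalPrimes_le hle
  haveI hqp : q.IsPrime := hq.1.1
  have hqh := isHomogeneous_of_mem_minimalPrimes 𝒜 hgh hq
  have hgq : g ∈ q := hq.1.2 (Ideal.mem_span_singleton_self g)
  have hq0 : q ≠ ⊥ := by
    intro h
    rw [h, Ideal.mem_bot] at hgq
    exact hg hgq
  have hht : q.height ≤ 1 := Ideal.height_le_one_of_isPrincipal_of_mem_minimalPrimes _ _ hq
  obtain ⟨f, hfq, hfprime⟩ := Ideal.IsPrime.exists_mem_prime_of_ne_bot hqp hq0
  haveI hfP : (Ideal.span {f}).IsPrime := (Ideal.span_singleton_prime hfprime.ne_zero).mpr hfprime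
  have hfle : Ideal.span {f} ≤ q := (Ideal.span_singleton_le_iff_mem q).mpr hfq
  have heq : Ideal.span {f} = q := by
    by_contra hne
    have hlt : Ideal.span {f} < q := lt_of_le_of_ne hfle hne
    have hbot : (⊥ : Ideal S) < Ideal.span {f} := by
      rw [bot_lt_iff_ne_bot]
      intro h
      rw [Ideal.span_singleton_eq_bot] at h
      exact hfprime.ne_zero h
    haveI : (⊥ : Ideal S).IsPrime := Ideal.isPrime_bot
    have h1 := Ideal.height_add_one_le_of_lt_of_isPrime hbot
    have h2 := Ideal.height_add_one_le_of_lt_of_isPrime hlt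
    rw [Ideal.height_bot, zero_add] at h1
    have h3 : (2 : ℕ∞) ≤ q.height :=
      calc (2 : ℕ∞) = 1 + 1 := by norm_num
        _ ≤ (Ideal.span {f}).height + 1 := by gcongr
        _ ≤ _ := h2
    have := h3.trans hht
    norm_num at this
  refine ⟨f, hfprime.irreducible, ?_, hqx hfq, ?_⟩
  · apply isHomogeneous_of_span_isHomogeneous
    rw [heq]
    exact hqh
  · rw [← heq] at hgq
    exact Ideal.mem_span_singleton.mp hgq

/-- the point of an irreducible homogeneous polynomial below a given point -/
noncomputable def ptOfIrreducible (f : S) (hf : Irreducible f) (d : ℕ) (hfh : f.IsHomogeneous d)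
    (z : P) (hfz : f ∈ z.asHomogeneousIdeal.toIdeal) : P :=
  ptOfLe k n (Ideal.span {f})
    ((Ideal.span_singleton_prime hf.ne_zero).mpr (UniqueFactorizationMonoid.irreducible_iff_prime.mp hf))
    (span_singleton_isHomogeneous k n f d hfh) z ((Ideal.span_singleton_le_iff_mem _).mpr hfz)

theorem ptOfIrreducible_toIdeal (f : S) (hf : Irreducible f) (d : ℕ) (hfh : f.IsHomogeneous d)
    (z : P) (hfz : f ∈ z.asHomogeneousIdeal.toIdeal) :
    (ptOfIrreducible k n f hf d hfh z hfz).asHomogeneousIdeal.toIdeal = Ideal.span {f} := rfl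

theorem ne_botPt_of_mem (x : P) (g : S) (hg : g ≠ 0) (hgx : g ∈ x.asHomogeneousIdeal.toIdeal) :
    x ≠ botPt k n := by
  intro h
  rw [h, botPt_toIdeal, Ideal.mem_bot] at hgx
  exact hg hgx

theorem height_botPt : Order.height (botPt k n) = 0 := by
  rw [Order.height_eq_zero]
  intro y hy
  exact botPt_le k n y

/-- nonzero points contain irreducible homogeneous polynomials -/
theorem exists_irreducible_mem_of_ne_botPt (x : P) (hx : x ≠ botPt k n) :
    ∃ f : S, Irreducible f ∧ f.IsHomogeneous f.totalDegree ∧ f ∈ x.asHomogeneousIdeal.toIdeal := by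
  have hne : x.asHomogeneousIdeal.toIdeal ≠ ⊥ := by
    intro h
    apply hx
    apply le_antisymm _ (botPt_le k n x)
    rw [le_iff_ideal_le, h]
    exact bot_le
  obtain ⟨g, hgx, hg0⟩ := Submodule.exists_mem_ne_zero_of_ne_bot hne
  -- a nonzero homogeneous component
  have hcomp : ∃ i, homogeneousComponent i g ≠ 0 := by
    by_contra h
    push Not at h
    apply hg0
    rw [← sum_homogeneousComponent g]
    exact Finset.sum_eq_zero (fun i _ => h i)
  obtain ⟨i, hi⟩ := hcomp
  have hmem : homogeneousComponent i g ∈ x.asHomogeneousIdeal.toIdeal :=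
    MvPolynomial.homogeneousComponent_mem_of_mem x.asHomogeneousIdeal.isHomogeneous hgx i
  obtain ⟨f, hf1, hf2, hf3, _⟩ := exists_irreducible_factor_mem k n x _ hi
    (span_singleton_isHomogeneous k n _ i (homogeneousComponent_isHomogeneous i g)) hmem
  exact ⟨f, hf1, hf2, hf3⟩

/-- points of height one are the principal ones -/
theorem height_eq_one_iff (x : P) :
    Order.height x = 1 ↔ ∃ f : S, Irreducible f ∧ (∃ d, f.IsHomogeneous d) ∧
      x.asHomogeneousIdeal.toIdeal = Ideal.span {f} := by
  constructor
  · intro hx
    have hxb : x ≠ botPt k n := by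
      intro h
      rw [h, height_botPt] at hx
      exact zero_ne_one hx
    obtain ⟨f, hf1, hf2, hf3⟩ := exists_irreducible_mem_of_ne_botPt k n x hxb
    refine ⟨f, hf1, ⟨_, hf2⟩, ?_⟩
    let y := ptOfIrreducible k n f hf1 _ hf2 x hf3
    have hyx : y ≤ x := (le_iff_ideal_le k n y x).mpr ((Ideal.span_singleton_le_iff_mem _).mpr hf3)
    have hby : botPt k n < y := by
      apply lt_of_le_of_ne (botPt_le k n y)
      intro h
      exact ne_botPt_of_mem k n y f hf1.ne_zero (Ideal.mem_span_singleton_self f) h.symm
    have hy1 : 1 ≤ Order.height y := by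
      have := Order.height_add_one_le hby
      rwa [height_botPt, zero_add] at this
    rcases eq_or_lt_of_le hyx with h | h
    · rw [← h]; rfl
    · exfalso
      have h2 := Order.height_add_one_le h
      rw [hx] at h2
      have h3 : (1 : ℕ∞) + 1 ≤ 1 := le_trans (by gcongr) h2
      norm_num at h3
  · rintro ⟨f, hf1, ⟨d, hf2⟩, hx⟩
    have hfx : f ∈ x.asHomogeneousIdeal.toIdeal := by rw [hx]; exact Ideal.mem_span_singleton_self f
    have hbx : botPt k n < x := by
      apply lt_of_le_of_ne (botPt_le k n x)
      intro h
      exact ne_botPt_of_mem k n x f hf1.ne_zero hfx h.symm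
    apply le_antisymm
    · have : Order.height x ≤ ((1 : ℕ) : ℕ∞) := by
        rw [Order.height_le_coe_iff]
        intro y hy
        have hyb : y = botPt k n := by
          by_contra hne
          obtain ⟨g, hg1, _, hg3⟩ := exists_irreducible_mem_of_ne_botPt k n y hne
          have hgx : g ∈ Ideal.span {f} := by
            rw [← hx]
            exact (le_iff_ideal_le k n y x).mp hy.le hg3
          have hdvd : f ∣ g := Ideal.mem_span_singleton.mp hgx
          have hass : Associated f g := hf1.associated_of_dvd hg1 hdvd
          have hfy : f ∈ y.asHomogeneousIdeal.toIdeal := by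
            have : Ideal.span {f} = Ideal.span {g} := Ideal.span_singleton_eq_span_singleton.mpr hass
            have h1 : f ∈ Ideal.span {g} := by rw [← this]; exact Ideal.mem_span_singleton_self f
            exact (Ideal.span_singleton_le_iff_mem _).mpr hg3 h1
          have hxy : x ≤ y := by
            rw [le_iff_ideal_le, hx]
            exact (Ideal.span_singleton_le_iff_mem _).mpr hfy
          exact absurd hy (not_lt_of_ge hxy)
        rw [hyb, height_botPt]
        norm_num
      simpa using this
    · have := Order.height_add_one_le hbx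
      rwa [height_botPt, zero_add] at this

end poly

end Groth.Agent.Helper19.ProjDim
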