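import Mathlib
import Groth.Prelude.Def_CohB1
import Groth.Agent.Helper19.ProjDim4
import Groth.Agent.Helper19.ProjDict2

/-!
# Homogeneous prime avoidance and hypersurface sections avoiding a closed set (helper19)
-/

set_option autoImplicit false
universe u

namespace Groth.Agent.Helper19.ProjDim

open TopologicalSpace Topology MvPolynomial Groth.Agent.Helper19.ProjDict

/-- homogeneous prime avoidance in a polynomial ring, for elements of positive degree -/
theorem homog_prime_avoidance {σ R : Type*} [CommRing R] (J : Ideal (MvPolynomial σ R)) :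
    ∀ (T : Finset (Ideal (MvPolynomial σ R))), (∀ q ∈ T, q.IsPrime) →
      (∀ q ∈ T, ∃ a ∈ J, ∃ d, 0 < d ∧ a.IsHomogeneous d ∧ a ∉ q) →
      ∃ h ∈ J, ∃ d, 0 < d ∧ h.IsHomogeneous d ∧ ∀ q ∈ T, h ∉ q := by
  classical
  intro T
  induction T using Finset.strongInduction with
  | H T ih =>
    intro hprime hex
    rcases T.eq_empty_or_nonempty with rfl | hne
    · exact ⟨0, J.zero_mem, 1, one_pos, isHomogeneous_zero _ _ _, by simp⟩
    have hq : ∀ q ∈ T, ∃ a ∈ J, ∃ d, 0 < d ∧ a.IsHomogeneous d ∧ ∀ q' ∈ T.erase q, a ∉ q' := by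
      intro q hqT
      exact ih (T.erase q) (Finset.erase_ssubset hqT)
        (fun q' hq' => hprime q' (Finset.mem_of_mem_erase hq'))
        (fun q' hq' => hex q' (Finset.mem_of_mem_erase hq'))
    choose! a haJ d hd hah hanot using hq
    by_cases hall : ∃ q ∈ T, a q ∉ q
    · obtain ⟨q, hqT, hq⟩ := hall
      refine ⟨a q, haJ q hqT, d q, hd q hqT, hah q hqT, ?_⟩
      intro q' hq'
      by_cases h : q' = q
      · rw [h]; exact hq
      · exact hanot q hqT q' (Finset.mem_erase.mpr ⟨h, hq'⟩)
    push Not at hall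
    obtain ⟨q1, hq1⟩ := hne
    rcases (T.erase q1).eq_empty_or_nonempty with hemp | hne2
    · obtain ⟨a', ha'J, d', hd', ha'h, ha'⟩ := hex q1 hq1
      refine ⟨a', ha'J, d', hd', ha'h, ?_⟩
      intro q hq
      have : q = q1 := by
        by_contra h
        have h1 : q ∈ T.erase q1 := Finset.mem_erase.mpr ⟨h, hq⟩
        rw [hemp] at h1
        simp at h1
      rw [this]; exact ha'
    · have hch : (∏ q ∈ T.erase q1, a q).IsHomogeneous (∑ q ∈ T.erase q1, d q) :=
        IsHomogeneous.prod _ _ _ (fun q hq => hah q (Finset.mem_of_mem_erase hq))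
      have hγ : 0 < ∑ q ∈ T.erase q1, d q :=
        Finset.sum_pos (fun q hq => hd q (Finset.mem_of_mem_erase hq)) hne2
      have hcJ : (∏ q ∈ T.erase q1, a q) ∈ J := by
        obtain ⟨q2, hq2⟩ := hne2
        exact J.mem_of_dvd (Finset.dvd_prod_of_mem a hq2) (haJ q2 (Finset.mem_of_mem_erase hq2))
      have hcq : ∀ q ∈ T.erase q1, (∏ q ∈ T.erase q1, a q) ∈ q := fun q hq =>
        q.mem_of_dvd (Finset.dvd_prod_of_mem a hq) (hall q (Finset.mem_of_mem_erase hq))
      have hcq1 : (∏ q ∈ T.erase q1, a q) ∉ q1 := by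
        haveI := hprime q1 hq1
        rw [Ideal.IsPrime.prod_mem_iff]
        push Not
        intro q hq
        exact hanot q (Finset.mem_of_mem_erase hq) q1
          (Finset.mem_erase.mpr ⟨fun h => (Finset.mem_erase.mp hq).1 h.symm, hq1⟩)
      refine ⟨a q1 ^ (∑ q ∈ T.erase q1, d q) + (∏ q ∈ T.erase q1, a q) ^ (d q1),
        J.add_mem (J.pow_mem_of_mem (haJ q1 hq1) _ hγ) (J.pow_mem_of_mem hcJ _ (hd q1 hq1)),
        d q1 * ∑ q ∈ T.erase q1, d q, Nat.mul_pos (hd q1 hq1) hγ, ?_, ?_⟩
      · apply IsHomogeneous.add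
        · exact (hah q1 hq1).pow _
        · have := hch.pow (d q1)
          rwa [mul_comm] at this
      · intro q hq
        by_cases h : q = q1
        · rw [h]
          intro hmem
          have hp1 := hprime q1 hq1
          have h1 : a q1 ^ (∑ q ∈ T.erase q1, d q) ∈ q1 :=
            Ideal.pow_mem_of_mem _ (hall q1 hq1) _ hγ
          have h2 : (∏ q ∈ T.erase q1, a q) ^ d q1 ∈ q1 := (Ideal.add_mem_iff_right _ h1).mp hmem
          exact hcq1 (hp1.mem_of_pow_mem _ h2)
        · intro hmem
          have hp := hprime q hq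
          have hqe : q ∈ T.erase q1 := Finset.mem_erase.mpr ⟨h, hq⟩
          have h1 : (∏ q ∈ T.erase q1, a q) ^ d q1 ∈ q :=
            Ideal.pow_mem_of_mem _ (hcq q hqe) _ (hd q1 hq1)
          have h2 : a q1 ^ (∑ q ∈ T.erase q1, d q) ∈ q := (Ideal.add_mem_iff_left _ h1).mp hmem
          exact hanot q1 hq1 q hqe (hp.mem_of_pow_mem _ h2)

section poly

variable (k : Type u) [Field k] (n : ℕ)

local notation "S" => MvPolynomial (Fin (n + 1)) k
local notation "𝒜" => CohB1.polyGrading n k
local notation "P" => ProjectiveSpectrum (CohB1.polyGrading n k)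

/-- a homogeneous ideal not contained in a relevant prime has a form of positive degree outside -/
theorem exists_homog_notMem (J : Ideal S) (hJ : J.IsHomogeneous 𝒜) (q : Ideal S) [hq : q.IsPrime]
    (hrel : ¬ mplus k n ≤ q) (hJq : ¬ J ≤ q) :
    ∃ a ∈ J, ∃ d, 0 < d ∧ a.IsHomogeneous d ∧ a ∉ q := by
  obtain ⟨b, hbJ, hbq⟩ := SetLike.not_le_iff_exists.mp hJq
  have hcomp : ∃ i, homogeneousComponent i b ∉ q := by
    by_contra h
    push Not at h
    apply hbq
    rw [← sum_homogeneousComponent b]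
    exact Ideal.sum_mem _ (fun i _ => h i)
  obtain ⟨i, hi⟩ := hcomp
  have hiJ : homogeneousComponent i b ∈ J := MvPolynomial.homogeneousComponent_mem_of_mem hJ hbJ i
  have hX : ∃ j, (X j : S) ∉ q := by
    by_contra h
    push Not at h
    apply hrel
    intro f hf
    have h1 := sub_C_mem_of_X_mem k n q h f
    rw [(mem_mplus_iff k n f).mp hf, map_zero, sub_zero] at h1
    exact h1
  obtain ⟨j, hj⟩ := hX
  refine ⟨homogeneousComponent i b * X j, J.mul_mem_right _ hiJ, i + 1, Nat.succ_pos i,
    (homogeneousComponent_isHomogeneous i b).mul (isHomogeneous_X k j), ?_⟩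
  intro hmem
  rcases hq.mem_or_mem hmem with h | h
  · exact hi h
  · exact hj h

/-- hypersurfaces through `V(J)` cutting `V(I)` down to `V(J)` -/
theorem exists_forms_avoid : ∀ (s : ℕ) (I J : Ideal S), I.IsHomogeneous 𝒜 → J.IsHomogeneous 𝒜 →
    (∀ y : P, I ≤ y.asHomogeneousIdeal.toIdeal → ¬ J ≤ y.asHomogeneousIdeal.toIdeal →
      Order.coheight y + 1 ≤ (s : ℕ∞)) →
    ∃ h : Fin s → S, (∀ i, h i ∈ J ∧ ∃ d, 0 < d ∧ (h i).IsHomogeneous d) ∧
      ∀ y : P, I ≤ y.asHomogeneousIdeal.toIdeal → (∀ i, h i ∈ y.asHomogeneousIdeal.toIdeal) →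
        J ≤ y.asHomogeneousIdeal.toIdeal := by
  classical
  intro s
  induction s with
  | zero =>
    intro I J hI hJ hb
    refine ⟨fun i => i.elim0, fun i => i.elim0, ?_⟩
    intro y hy _
    by_contra hJy
    have := hb y hy hJy
    simp at this
  | succ s ih =>
    intro I J hI hJ hb
    have hfin : {q ∈ I.minimalPrimes | ¬ mplus k n ≤ q ∧ ¬ J ≤ q}.Finite :=
      (Ideal.finite_minimalPrimes_of_isNoetherianRing S I).subset (Set.sep_subset _ _)
    obtain ⟨h0, h0J, d0, hd0, h0h, h0not⟩ := homog_prime_avoidance J hfin.toFinset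
      (fun q hq => ((hfin.mem_toFinset).mp hq).1.1.1)
      (fun q hq => by
        have hq' := (hfin.mem_toFinset).mp hq
        haveI := hq'.1.1.1
        exact exists_homog_notMem k n J hJ q hq'.2.1 hq'.2.2)
    have h0hs : (Ideal.span {h0}).IsHomogeneous 𝒜 := span_singleton_isHomogeneous k n h0 d0 h0h
    have hI' : (I ⊔ Ideal.span {h0}).IsHomogeneous 𝒜 := hI.sup h0hs
    obtain ⟨h', hh'1, hh'2⟩ := ih (I ⊔ Ideal.span {h0}) J hI' hJ (by
      intro y hy hJy
      have hIy : I ≤ y.asHomogeneousIdeal.toIdeal := le_sup_left.trans hy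
      have h0y : h0 ∈ y.asHomogeneousIdeal.toIdeal :=
        hy (Ideal.mem_sup_right (Ideal.mem_span_singleton_self h0))
      obtain ⟨q, hq, hqy⟩ := Ideal.exists_minimalPrimes_le hIy
      have hqh := isHomogeneous_of_mem_minimalPrimes 𝒜 hI hq
      let z := ptOfLe k n q hq.1.1 hqh y hqy
      have hzy : z ≤ y := (le_iff_ideal_le k n z y).mpr hqy
      have hJq : ¬ J ≤ q := fun h => hJy (h.trans hqy)
      have h0z : h0 ∉ q := h0not q ((hfin.mem_toFinset).mpr ⟨hq, z.not_irrelevant_le, hJq⟩)
      have hlt : z < y := by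
        apply lt_of_le_of_ne hzy
        intro h
        apply h0z
        have : h0 ∈ z.asHomogeneousIdeal.toIdeal := by rw [h]; exact h0y
        exact this
      have h1 := Order.coheight_add_one_le hlt
      have h2 := hb z hq.1.2 hJq
      have h3 : Order.coheight y + 1 + 1 ≤ (s : ℕ∞) + 1 :=
        calc Order.coheight y + 1 + 1 ≤ Order.coheight z + 1 := by gcongr
          _ ≤ (s : ℕ∞) + 1 := by push_cast at h2; exact h2
      exact (ENat.add_le_add_iff_right (by simp)).mp h3)
    refine ⟨Fin.cons h0 h', ?_, ?_⟩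
    · intro i
      refine Fin.cases ?_ ?_ i
      · simpa using ⟨h0J, d0, hd0, h0h⟩
      · intro j
        simpa using hh'1 j
    · intro y hy hall
      apply hh'2 y
      · exact sup_le hy ((Ideal.span_singleton_le_iff_mem _).mpr (by simpa using hall 0))
      · intro i
        simpa using hall i.succ

end poly

section general

variable {A σ : Type*} [CommRing A] [SetLike σ A] [AddSubmonoidClass σ A]
variable (𝒜 : ℕ → σ) [GradedRing 𝒜]

/-- the coheight of a point is at most the dimension of a subset containing its closure -/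
theorem coheight_le_topologicalKrullDim (W : Set (ProjectiveSpectrum 𝒜)) (y : ProjectiveSpectrum 𝒜)
    (hy : closure ({y} : Set (ProjectiveSpectrum 𝒜)) ⊆ W) :
    (Order.coheight y : WithBot ℕ∞) ≤ topologicalKrullDim ↥W := by
  rw [← topologicalKrullDim_closure_singleton 𝒜 y]
  exact (Topology.IsEmbedding.inclusion hy).isInducing.topologicalKrullDim_le

end general

end Groth.Agent.Helper19.ProjDim
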