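import Mathlib
import Groth.Prelude.Def_CohB1
import Groth.Agent.Helper19.ProjAvoid

/-!
# Dimension of locally closed subsets of projective space (helper19)

For a point `y` of a locally closed subset `U` of `P^n_k`, the coheight of `y` in `P^n_k`
is at most the topological Krull dimension of `U`.
-/

set_option autoImplicit false
universe u

namespace Groth.Agent.Helper19.ProjDim

open TopologicalSpace Topology MvPolynomial Groth.Agent.Helper19.ProjDict

section general

variable {A σ : Type*} [CommRing A] [SetLike σ A] [AddSubmonoidClass σ A]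
variable (𝒜 : ℕ → σ) [GradedRing 𝒜]

/-- the specialization poset of a subspace of `Proj` bounds its topological dimension -/
theorem krullDim_subtype_le (U : Set (ProjectiveSpectrum 𝒜)) :
    Order.krullDim ↥U ≤ topologicalKrullDim ↥U := by
  unfold topologicalKrullDim
  rw [← Order.krullDim_orderDual (α := ↥U)]
  have key : ∀ a b : ↥U, closure ({a} : Set ↥U) ⊆ closure ({b} : Set ↥U) ↔ b ≤ a := by
    intro a b
    have hmem : ∀ a b : ↥U, a ∈ closure ({b} : Set ↥U) ↔ b ≤ a := by
      intro a b
      rw [closure_subtype, Set.image_singleton, mem_closure_singleton_iff]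
      exact Iff.rfl
    constructor
    · intro h
      exact (hmem a b).mp (h (subset_closure rfl))
    · intro h
      exact (IsClosed.closure_subset_iff isClosed_closure).mpr
        (by simpa using (hmem a b).mpr h)
  apply Order.krullDim_le_of_strictMono
    (fun a : (↥U)ᵒᵈ => (⟨closure ({OrderDual.ofDual a} : Set ↥U),
      isIrreducible_singleton.closure, isClosed_closure⟩ : IrreducibleCloseds ↥U))
  apply strictMono_of_le_iff_le
  intro a b
  exact (key (OrderDual.ofDual a) (OrderDual.ofDual b)).symm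

end general

section poly

variable (k : Type u) [Field k] (n : ℕ)

local notation "S" => MvPolynomial (Fin (n + 1)) k
local notation "𝒜" => CohB1.polyGrading n k
local notation "P" => ProjectiveSpectrum (CohB1.polyGrading n k)

/-- a point of positive coheight outside a hypersurface has an immediate specialization
outside it -/
theorem exists_succ_notMem (y : P) (g : S) (hgh : (Ideal.span {g}).IsHomogeneous 𝒜)
    (hgy : g ∉ y.asHomogeneousIdeal.toIdeal) (hy : 1 ≤ Order.coheight y) :
    ∃ y₁ : P, y < y₁ ∧ Order.coheight y = Order.coheight y₁ + 1 ∧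
      g ∉ y₁.asHomogeneousIdeal.toIdeal := by
  classical
  have hfin : {q ∈ (y.asHomogeneousIdeal.toIdeal ⊔ Ideal.span {g}).minimalPrimes |
      ¬ mplus k n ≤ q}.Finite :=
    (Ideal.finite_minimalPrimes_of_isNoetherianRing S _).subset (Set.sep_subset _ _)
  obtain ⟨f, _, d, hd, hfh, hfnot⟩ := homog_prime_avoidance (mplus k n)
    (insert y.asHomogeneousIdeal.toIdeal hfin.toFinset)
    (by
      intro q hq
      rcases Finset.mem_insert.mp hq with rfl | hq
      · exact y.isPrime
      · exact ((hfin.mem_toFinset).mp hq).1.1.1)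
    (by
      intro q hq
      rcases Finset.mem_insert.mp hq with rfl | hq
      · haveI := y.isPrime
        exact exists_homog_notMem k n (mplus k n) (mplus_isHomogeneous k n) _
          y.not_irrelevant_le y.not_irrelevant_le
      · have hq' := (hfin.mem_toFinset).mp hq
        haveI := hq'.1.1.1
        exact exists_homog_notMem k n (mplus k n) (mplus_isHomogeneous k n) q hq'.2 hq'.2)
  have hfy : f ∉ y.asHomogeneousIdeal.toIdeal := hfnot _ (Finset.mem_insert_self _ _)
  have hfhs : (Ideal.span {f}).IsHomogeneous 𝒜 := span_singleton_isHomogeneous k n f d hfh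
  have hfm : f ∈ mplus k n := HomogeneousIdeal.mem_irrelevant_of_mem 𝒜 hd hfh
  obtain ⟨w, hyw, hfw⟩ := exists_pt_section k n y hy f hfhs hfm
  obtain ⟨y₁, hy₁w, hIy₁, hmin⟩ := exists_minimal_pt k n
    (y.asHomogeneousIdeal.toIdeal ⊔ Ideal.span {f})
    (y.asHomogeneousIdeal.isHomogeneous.sup hfhs) w
    (sup_le ((le_iff_ideal_le k n y w).mp hyw) ((Ideal.span_singleton_le_iff_mem _).mpr hfw))
  have hyy₁ : y ≤ y₁ := (le_iff_ideal_le k n y y₁).mpr (le_sup_left.trans hIy₁)
  have hfy₁ : f ∈ y₁.asHomogeneousIdeal.toIdeal :=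
    hIy₁ (Ideal.mem_sup_right (Ideal.mem_span_singleton_self f))
  have hdrop := dim_drop_pt k n y f hfhs hfy y₁ hyy₁ hfy₁ (fun z hyz hfz hzy₁ =>
    hmin z (sup_le ((le_iff_ideal_le k n y z).mp hyz)
      ((Ideal.span_singleton_le_iff_mem _).mpr hfz)) hzy₁)
  have hlt : y < y₁ := lt_of_le_of_ne hyy₁ (by rintro rfl; exact hfy hfy₁)
  refine ⟨y₁, hlt, hdrop, ?_⟩
  intro hgy₁
  obtain ⟨z, hzy₁, hIz, hzmin⟩ := exists_minimal_pt k n
    (y.asHomogeneousIdeal.toIdeal ⊔ Ideal.span {g})
    (y.asHomogeneousIdeal.isHomogeneous.sup hgh) y₁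
    (sup_le ((le_iff_ideal_le k n y y₁).mp hyy₁) ((Ideal.span_singleton_le_iff_mem _).mpr hgy₁))
  have hyz : y ≤ z := (le_iff_ideal_le k n y z).mpr (le_sup_left.trans hIz)
  have hgz : g ∈ z.asHomogeneousIdeal.toIdeal :=
    hIz (Ideal.mem_sup_right (Ideal.mem_span_singleton_self g))
  have hdrop2 := dim_drop_pt k n y g hgh hgy z hyz hgz (fun z' hyz' hgz' hz'z =>
    hzmin z' (sup_le ((le_iff_ideal_le k n y z').mp hyz')
      ((Ideal.span_singleton_le_iff_mem _).mpr hgz')) hz'z)
  have hco : Order.coheight z + 1 = Order.coheight y₁ + 1 := by rw [← hdrop, ← hdrop2]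
  have hz : z = y₁ := by
    by_contra hne
    have hlt' : z < y₁ := lt_of_le_of_ne hzy₁ hne
    have h1 := Order.coheight_add_one_le hlt'
    have h2 : Order.coheight y₁ + 1 + 1 ≤ Order.coheight y₁ + 1 := by
      calc Order.coheight y₁ + 1 + 1 ≤ Order.coheight z + 1 := by gcongr
        _ = Order.coheight y₁ + 1 := hco
    have h3 : Order.coheight y₁ + 1 ≠ ⊤ := by
      simp [coheight_ne_top k n y₁]
    exact absurd h2 (not_le.mpr ((ENat.lt_add_one_iff h3).mpr le_rfl))
  have hzmem : z.asHomogeneousIdeal.toIdeal ∈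
      (y.asHomogeneousIdeal.toIdeal ⊔ Ideal.span {g}).minimalPrimes :=
    mem_minimalPrimes_of_minimal k n _ (y.asHomogeneousIdeal.isHomogeneous.sup hgh) z hIz hzmin
  have hfz : f ∉ z.asHomogeneousIdeal.toIdeal :=
    hfnot _ (Finset.mem_insert_of_mem ((hfin.mem_toFinset).mpr ⟨hzmem, z.not_irrelevant_le⟩))
  apply hfz
  rw [hz]
  exact hfy₁

/-- coheight inside a subset containing all specializations of `y₀` outside a hypersurface -/
theorem le_coheight_subtype (U : Set P) (g : S) (hgh : (Ideal.span {g}).IsHomogeneous 𝒜) (y₀ : P)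
    (hU : ∀ p : P, y₀ ≤ p → g ∉ p.asHomogeneousIdeal.toIdeal → p ∈ U) :
    ∀ (c : ℕ) (y : P) (hy₀ : y₀ ≤ y) (hgy : g ∉ y.asHomogeneousIdeal.toIdeal),
      Order.coheight y = c → (c : ℕ∞) ≤ Order.coheight (⟨y, hU y hy₀ hgy⟩ : ↥U) := by
  intro c
  induction c with
  | zero =>
    intro y hy₀ hgy _
    simp
  | succ c ih =>
    intro y hy₀ hgy hc
    obtain ⟨y₁, hlt, hdrop, hgy₁⟩ := exists_succ_notMem k n y g hgh hgy (by
      rw [hc]
      push_cast
      exact le_add_self)
    have hc₁ : Order.coheight y₁ = c := by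
      rw [hc] at hdrop
      push_cast at hdrop
      exact ((ENat.add_left_injective_of_ne_top (by simp)) hdrop).symm
    have h1 := ih y₁ (hy₀.trans hlt.le) hgy₁ hc₁
    have hlt' : (⟨y, hU y hy₀ hgy⟩ : ↥U) < ⟨y₁, hU y₁ (hy₀.trans hlt.le) hgy₁⟩ := hlt
    have h2 := Order.coheight_add_one_le hlt'
    push_cast
    exact le_trans (by gcongr) h2

/-- the coheight of a point of a locally closed subset is at most the dimension of the subset -/
theorem coheight_le_dim_of_isLocallyClosed (U : Set P) (hU : IsLocallyClosed U) (y : P)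
    (hy : y ∈ U) : (Order.coheight y : WithBot ℕ∞) ≤ topologicalKrullDim ↥U := by
  have hopen : IsOpen (coborder U) := hU.isOpen_coborder
  obtain ⟨v, ⟨g, rfl⟩, hyv, hvU⟩ :=
    (ProjectiveSpectrum.isTopologicalBasis_basic_opens 𝒜).exists_subset_of_mem_open
      (subset_coborder hy) hopen
  have hgy : g ∉ y.asHomogeneousIdeal.toIdeal := hyv
  have hcomp : ∃ i, homogeneousComponent i g ∉ y.asHomogeneousIdeal.toIdeal := by
    by_contra h
    push Not at h
    apply hgy
    rw [← sum_homogeneousComponent g]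
    exact Ideal.sum_mem _ (fun i _ => h i)
  obtain ⟨i, hi⟩ := hcomp
  have hgh : (Ideal.span {homogeneousComponent i g}).IsHomogeneous 𝒜 :=
    span_singleton_isHomogeneous k n _ i (homogeneousComponent_isHomogeneous i g)
  have hUp : ∀ p : P, y ≤ p → homogeneousComponent i g ∉ p.asHomogeneousIdeal.toIdeal → p ∈ U := by
    intro p hyp hgp
    have h1 : g ∉ p.asHomogeneousIdeal.toIdeal := fun h =>
      hgp (MvPolynomial.homogeneousComponent_mem_of_mem p.asHomogeneousIdeal.isHomogeneous h i)
    have h2 : p ∈ coborder U := hvU h1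
    have h3 : p ∈ closure U :=
      closure_mono (Set.singleton_subset_iff.mpr hy) ((mem_closure_singleton_iff 𝒜 y p).mpr hyp)
    have h4 : p ∈ coborder U ∩ closure U := ⟨h2, h3⟩
    rwa [coborder_inter_closure] at h4
  obtain ⟨c, hc⟩ := ENat.ne_top_iff_exists.mp (coheight_ne_top k n y)
  have h1 := le_coheight_subtype k n U _ hgh y hUp c y le_rfl hi hc.symm
  rw [← hc]
  calc ((c : ℕ∞) : WithBot ℕ∞) ≤ (Order.coheight (⟨y, hUp y le_rfl hi⟩ : ↥U) : WithBot ℕ∞) := by
        exact_mod_cast h1
    _ ≤ Order.krullDim ↥U := Order.coheight_le_krullDim _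
    _ ≤ topologicalKrullDim ↥U := krullDim_subtype_le 𝒜 U

end poly

end Groth.Agent.Helper19.ProjDim
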