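import Mathlib
import Groth.Agent.Lib.Helper5.CompAcyclic

/-! # A left exact functor keeps a complex exact when `R¹` of the kernel vanishes -/

set_option autoImplicit false
universe v u v' u'

open CategoryTheory CategoryTheory.Limits

namespace Groth.Agent.Helper19.PropSupp

variable {𝒜 : Type u} [Category.{v} 𝒜] [Abelian 𝒜] {ℬ : Type u'} [Category.{v'} ℬ] [Abelian ℬ]
  [EnoughInjectives 𝒜]

/-- If `C` is exact and `R¹P (ker C.f) = 0` for a left exact `P`, then `P C` is exact. -/
theorem exact_map_of_isZero_rightDerived_kernel (P : 𝒜 ⥤ ℬ) [P.Additive] [PreservesFiniteLimits P]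
    (C : ShortComplex 𝒜) (hC : C.Exact)
    (h1 : IsZero ((P.rightDerived 1).obj (kernel C.f))) : (C.map P).Exact := by
  -- the short exact sequence `0 → ker f → X₁ → ker g → 0`
  have hepi : Epi (kernel.lift C.g C.f C.zero) := C.exact_iff_epi_kernel_lift.mp hC
  have hw : kernel.ι C.f ≫ kernel.lift C.g C.f C.zero = 0 := by
    rw [← cancel_mono (kernel.ι C.g), Category.assoc, kernel.lift_ι, kernel.condition, zero_comp]
  let S' : ShortComplex 𝒜 := ShortComplex.mk (kernel.ι C.f) (kernel.lift C.g C.f C.zero) hw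
  have hlim : IsLimit (KernelFork.ofι (kernel.ι C.f) hw) :=
    isKernelOfComp (kernel.ι C.g) C.f (kernelIsKernel C.f) hw (kernel.lift_ι _ _ _)
  have hS' : S'.ShortExact :=
    { exact := ShortComplex.exact_of_f_is_kernel S' hlim
      mono_f := inferInstanceAs (Mono (kernel.ι C.f))
      epi_g := hepi }
  have hepi2 : Epi (P.map (kernel.lift C.g C.f C.zero)) :=
    Groth.Agent.Lib.Helper5.CompAcyclic.epi_map_g (G := P) hS' h1
  -- compare with the kernel of `P g`
  rw [ShortComplex.exact_iff_epi_kernel_lift]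
  have hz : P.map C.f ≫ P.map C.g = 0 := by rw [← P.map_comp, C.zero, P.map_zero]
  have hcmp : P.map (kernel.lift C.g C.f C.zero) ≫ kernelComparison C.g P =
      kernel.lift (P.map C.g) (P.map C.f) hz := by
    rw [← cancel_mono (kernel.ι (P.map C.g)), Category.assoc, kernel.lift_ι,
      kernelComparison_comp_ι, ← P.map_comp, kernel.lift_ι]
  change Epi (kernel.lift (P.map C.g) (P.map C.f) hz)
  rw [← hcmp]
  haveI : IsIso (kernelComparison C.g P) := inferInstance
  exact epi_comp _ _

end Groth.Agent.Helper19.PropSupp
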