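import Mathlib
import Groth.Agent.Lib.Helper12.PS7
import Groth.Agent.Lib.Helper12.RS1
import Groth.Agent.S0927
import Groth.Agent.Lib.Helper29.RelAmple
import Groth.Agent.Lib.Helper29.PullTensor
import Groth.Agent.Lib.Helper29.TensorIso

/-! # Relative Serre vanishing for coherent modules with proper support -/

set_option autoImplicit false
universe u

open CategoryTheory CategoryTheory.Limits AlgebraicGeometry TopologicalSpace Opposite

namespace Groth.Agent.Helper19.PropSupp

open Groth.Agent.Lib.Helper29.QCoh Groth.Agent.Lib.Helper12.H12PS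

variable {X Y : Scheme.{u}} (f : X ⟶ Y) [IsNoetherian Y] [LocallyOfFiniteType f]
  [HasInjectiveResolutions X.Modules]

/-- **Relative Serre vanishing, proper support.** -/
theorem exists_forall_isZero_Rpush_twist (L : X.Modules) (hL : PicF.IsInvertible L)
    (hamp : RelAmple.IsRelAmple f L) (F : X.Modules) (hF : Coh.IsCoh F)
    (T : Set X) (hs : ClSub.IsProperOver f T) (hFT : CohB1.support F ⊆ T) :
    ∃ N : ℕ, ∀ n : ℕ, N ≤ n → ∀ p : ℕ, 0 < p →
      IsZero ((Coh.Rpush f p).obj (CohB1.tensorMod F (CohB1.tensorPow L n))) := by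
  haveI := hF.1
  haveI := hF.2
  let Z : Scheme.{u} := (annIdeal F).subscheme
  let i : Z ⟶ X := (annIdeal F).subschemeι
  haveI : IsProper (i ≫ f) :=
    isProper_of_range_subset f _ hs i (by
      rw [Scheme.IdealSheafData.range_subschemeι]
      exact (support_annIdeal_subset F).trans hFT)
  haveI : EnoughInjectives Z.Modules :=
    Groth.Agent.S0485.result (Opens.grothendieckTopology Z) Z.ringCatSheaf
  haveI : HasInjectiveResolutions Z.Modules := inferInstance
  have hk : ∀ (U : X.affineOpens) (a : Γ(X, U.1)),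
      a ∈ i.ker.ideal U → ∀ s : Γ(F, U.1), a • s = 0 := by
    intro U a ha s
    rw [Scheme.IdealSheafData.ker_subschemeι] at ha
    exact killed_of_epi (𝟙 F) U a ha s
  let adj := Scheme.Modules.pullbackPushforwardAdjunction i
  haveI hη : IsIso (adj.unit.app F) :=
    Groth.Agent.Helper19.ClImmUnit.isIso_unit_of_killed i F hk
  let G : Z.Modules := (Scheme.Modules.pullback i).obj F
  have hG : Coh.IsCoh G := Groth.Agent.Lib.Helper12.H12ConsP.isCoh_pullback i F hF
  let L' : Z.Modules := (Scheme.Modules.pullback i).obj L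
  have hL' : PicF.IsInvertible L' := isInvertible_pullback i hL
  have hamp' : RelAmple.IsRelAmple (i ≫ f) L' :=
    isRelAmple_pullback_of_isEmbedding f i i.isClosedEmbedding.isEmbedding hamp
  obtain ⟨N, hN⟩ := Groth.Agent.Lib.Helper12.H12RS.relative_serre_vanishing (i ≫ f) L' hL'
    (fun W hW => hamp'.2 ⟨W, hW⟩) G hG
  refine ⟨N, fun n hn p hp => ?_⟩
  have h1 := hN n hn p hp
  have h2 : IsZero ((Coh.Rpush (i ≫ f) p).obj (CohB1.tensorMod G (CohB1.tensorPow L' n))) := by
    have ν := (Groth.Agent.Lib.Helper12.H12RP.RpushAbIso (i ≫ f) p).app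
      (CohB1.tensorMod G (CohB1.tensorPow L' n))
    have h3 : IsZero ((Groth.Agent.Lib.Helper5.RpushAb.TT Y).obj
        ((Coh.Rpush (i ≫ f) p).obj (CohB1.tensorMod G (CohB1.tensorPow L' n)))) := h1.of_iso ν
    rw [IsZero.iff_id_eq_zero] at h3 ⊢
    haveI : (Groth.Agent.Lib.Helper5.RpushAb.TT Y).Faithful :=
      inferInstanceAs (SheafOfModules.toSheaf Y.ringCatSheaf).Faithful
    apply (Groth.Agent.Lib.Helper5.RpushAb.TT Y).map_injective
    rw [CategoryTheory.Functor.map_id, CategoryTheory.Functor.map_zero]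
    exact h3
  obtain ⟨e1⟩ := Groth.Agent.Lib.Helper12.H12PS7.nonempty_Rpush_pushforward_iso i f
    (CohB1.tensorMod G (CohB1.tensorPow L' n)) p
  have hLn : FlatMod.IsFinLocFree (CohB1.tensorPow L n) :=
    isFinLocFree_of_isFinLocFreeOfRank
      ((isInvertible_iff_isFinLocFreeOfRank_one _).mp (isInvertible_tensorPow hL n))
  have e2 : Nonempty (CohB1.tensorMod F (CohB1.tensorPow L n) ≅
      (Scheme.Modules.pushforward i).obj (CohB1.tensorMod G (CohB1.tensorPow L' n))) := by
    obtain ⟨e⟩ := Groth.Agent.S0927.result i G (CohB1.tensorPow L n) hLn 0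
    obtain ⟨θ⟩ := nonempty_pullbackTensorPowIso i hL n
    have i0 : Coh.Rpush i 0 ≅ Coh.push i := Functor.rightDerivedZeroIsoSelf _
    exact ⟨tensorCongr (asIso (adj.unit.app F)) (Iso.refl _) ≪≫ tensorBraid _ _ ≪≫
      tensorCongr (Iso.refl _) (i0.app G).symm ≪≫ e ≪≫ i0.app _ ≪≫
      (Coh.push i).mapIso (tensorCongr θ (Iso.refl G) ≪≫ tensorBraid _ _)⟩
  obtain ⟨e2⟩ := e2
  exact (h2.of_iso e1).of_iso ((Coh.Rpush f p).mapIso e2)

end Groth.Agent.Helper19.PropSupp
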