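import Mathlib
import Groth.Agent.Helper19.PropSupp1
import Groth.Agent.Helper19.PropSupp2
import Groth.Agent.Lib.Lead.TwistExact
import Groth.Agent.Lib.Helper12.Dev2
import Groth.Prelude.Def_DCoh4

/-! # Eventually exact pushforwards of twists, proper supports -/

set_option autoImplicit false
universe u

open CategoryTheory CategoryTheory.Limits AlgebraicGeometry TopologicalSpace Opposite

namespace Groth.Agent.Helper19.PropSupp

open Groth.Agent.Lib.Helper29.QCoh Groth.Agent.Lib.Helper12.H12PS

variable {X : Scheme.{u}}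

noncomputable def tRIso (F : X.Modules) :
    DCoh.tensorRightMod F ≅ (DCoh.tensorBi (X := X)).flip.obj F :=
  NatIso.ofComponents (fun M => Iso.refl _) (fun {M N} g =>
    Eq.trans (Category.comp_id ((DCoh.tensorRightMod F).map g))
      (Eq.trans (show (DCoh.tensorRightMod F).map g = ((DCoh.tensorBi (X := X)).flip.obj F).map g
        from rfl) (Category.id_comp _).symm))

theorem preservesFiniteLimits_tensorRightMod {M : X.Modules} (hM : FlatMod.IsFlat M) :
    PreservesFiniteLimits (DCoh.tensorRightMod M) := by
  haveI : PreservesFiniteLimits ((DCoh.tensorBi (X := X)).flip.obj M) :=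
    Groth.Agent.Lib.Lead.TwistExact.preservesFiniteLimits_tensorRight_of_isFlat hM
  exact preservesFiniteLimits_of_natIso (tRIso M).symm

theorem preservesFiniteColimits_tensorRightMod (M : X.Modules) :
    PreservesFiniteColimits (DCoh.tensorRightMod M) := by
  haveI : PreservesFiniteColimits ((DCoh.tensorBi (X := X)).flip.obj M) :=
    Groth.Agent.Lib.Helper17.Tensor.flip_obj_preservesFiniteColimits (O := X.sheaf) M
  exact preservesFiniteColimits_of_natIso (tRIso M).symm

variable {Y : Scheme.{u}} (f : X ⟶ Y) [IsNoetherian Y] [LocallyOfFiniteType f]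

theorem exists_forall_exact_push_twist (L : X.Modules) (hL : PicF.IsInvertible L)
    (hamp : RelAmple.IsRelAmple f L) (C : ShortComplex X.Modules) (hC : C.Exact)
    (h1 : Coh.IsCoh C.X₁) (h2 : Coh.IsCoh C.X₂)
    (hs1 : ClSub.IsProperOver f (CohB1.support C.X₁)) :
    ∃ N : ℕ, ∀ n : ℕ, N ≤ n →
      (C.map (DCoh.tensorRightMod (CohB1.tensorPow L n) ⋙ Coh.push f)).Exact := by
  haveI : IsLocallyNoetherian X := LocallyOfFiniteType.isLocallyNoetherian f
  haveI : EnoughInjectives X.Modules :=
    Groth.Agent.S0485.result (Opens.grothendieckTopology X) X.ringCatSheaf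
  haveI : HasInjectiveResolutions X.Modules := inferInstance
  have hK : Coh.IsCoh (kernel C.f) := Groth.Agent.Lib.Helper12.H12Dev.isCoh_kernel C.f h1 h2
  obtain ⟨N, hN⟩ := exists_forall_isZero_Rpush_twist f L hL hamp (kernel C.f) hK _ hs1
    (Groth.Agent.Lib.Helper12.H12Dev.support_subset_of_mono (kernel.ι C.f))
  refine ⟨N, fun n hn => ?_⟩
  have hflat : FlatMod.IsFlat (CohB1.tensorPow L n) :=
    Groth.Agent.Lib.Lead.TwistExact.isFlat_of_isInvertible (isInvertible_tensorPow hL n)
  haveI := preservesFiniteLimits_tensorRightMod hflat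
  haveI := preservesFiniteColimits_tensorRightMod (CohB1.tensorPow L n)
  haveI : PreservesFiniteLimits (Scheme.Modules.pushforward f) := by
    haveI := (Scheme.Modules.pullbackPushforwardAdjunction f).rightAdjoint_preservesLimits
    infer_instance
  have hCT : (C.map (DCoh.tensorRightMod (CohB1.tensorPow L n))).Exact :=
    hC.map (DCoh.tensorRightMod (CohB1.tensorPow L n))
  have hker : kernel (C.map (DCoh.tensorRightMod (CohB1.tensorPow L n))).f ≅
      CohB1.tensorMod (kernel C.f) (CohB1.tensorPow L n) :=
    (PreservesKernel.iso (DCoh.tensorRightMod (CohB1.tensorPow L n)) C.f).symm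
  have hz : IsZero (((Coh.push f).rightDerived 1).obj
      (kernel (C.map (DCoh.tensorRightMod (CohB1.tensorPow L n))).f)) :=
    (hN n hn 1 one_pos).of_iso ((Coh.Rpush f 1).mapIso hker)
  exact exact_map_of_isZero_rightDerived_kernel (Coh.push f)
    (C.map (DCoh.tensorRightMod (CohB1.tensorPow L n))) hCT hz

end Groth.Agent.Helper19.PropSupp
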