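import Mathlib
import Groth.Agent.Helper19.FSGlue3
set_option autoImplicit false
set_option linter.style.haveILetI false
set_option linter.unusedSectionVars false
universe u

open TensorProduct

namespace Groth.Agent.Helper19.FSGlue

section zar

variable {R : Type u} [CommRing R] {ι : Type u} [Fintype ι] (s : ι → R)
  (L : ι → Type u) [∀ i, CommRing (L i)] [∀ i, Algebra R (L i)]
  [∀ i, IsLocalization.Away (s i) (L i)]

theorem faithfullyFlat_pi_of_away (hs : Ideal.span (Set.range s) = ⊤) :
    Module.FaithfullyFlat R (Π i, L i) := by
  classical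
  haveI : ∀ i, Module.Flat R (L i) := fun i => IsLocalization.flat (L i) (Submonoid.powers (s i))
  haveI : Module.Flat R (Π i, L i) :=
    Module.Flat.of_linearEquiv (DirectSum.linearEquivFunOnFintype R ι L).symm
  apply Module.FaithfullyFlat.of_comap_surjective
  intro p
  obtain ⟨i, hi⟩ : ∃ i, s i ∉ p.asIdeal := by
    by_contra hcon
    push_neg at hcon
    have h1 : Ideal.span (Set.range s) ≤ p.asIdeal :=
      Ideal.span_le.mpr (by rintro _ ⟨i, rfl⟩; exact hcon i)
    rw [hs] at h1
    exact p.isPrime.ne_top (top_le_iff.mp h1)
  have h2 : p ∈ Set.range (PrimeSpectrum.comap (algebraMap R (L i))) := by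
    rw [PrimeSpectrum.localization_away_comap_range (L i) (s i)]
    exact hi
  obtain ⟨q, hq⟩ := h2
  refine ⟨PrimeSpectrum.comap (Pi.evalRingHom _ i) q, ?_⟩
  rw [← hq]
  rfl

attribute [local instance] evalAlgebra

/-- Zariski-local projectivity implies projectivity, for arbitrary models of the localizations. -/
theorem projective_of_isLocalization_away (hs : Ideal.span (Set.range s) = ⊤) (M : Type u)
    [AddCommGroup M] [Module R M]
    (h : ∀ i, Module.Projective (L i) (L i ⊗[R] M)) :
    Module.Projective R M := by
  classical
  haveI := faithfullyFlat_pi_of_away s L hs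
  haveI : ∀ i, IsScalarTower R (Π i, L i) (L i) :=
    fun i => IsScalarTower.of_algebraMap_eq' rfl
  haveI : Module.Projective (Π i, L i) ((Π i, L i) ⊗[R] M) := by
    apply projective_pi
    intro i
    exact Module.Projective.of_equiv' (TensorProduct.AlgebraTensorModule.cancelBaseChange R
      (Π i, L i) (L i) (L i) M).symm
  exact Groth.Agent.S0585.result R (Π i, L i) M

end zar

end Groth.Agent.Helper19.FSGlue
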