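import Mathlib
import Groth.Agent.Helper19.ZarProj
import Groth.Agent.Lib.Helper29.QCohBasic
set_option autoImplicit false
set_option linter.style.haveILetI false
set_option linter.unusedSectionVars false
universe u

open CategoryTheory AlgebraicGeometry TensorProduct Opposite

namespace Groth.Agent.Helper19.QCohProj

open Groth.Agent.Lib.Helper29.QCoh Groth.Agent.Helper19.FSGlue

variable {X : Scheme.{u}}

theorem proj_congr (M : X.Modules) {W₁ W₂ : X.Opens} (h : W₁ = W₂)
    (hp : Module.Projective Γ(X, W₁) Γ(M, W₁)) :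
    Module.Projective Γ(X, W₂) Γ(M, W₂) := by
  subst h; exact hp

/-- Projectivity of sections passes to basic opens. -/
theorem proj_basicOpen (M : X.Modules) [M.IsQuasicoherent] {W : X.Opens} (hW : IsAffineOpen W)
    (f : Γ(X, W)) (hp : Module.Projective Γ(X, W) Γ(M, W)) :
    Module.Projective Γ(X, X.basicOpen f) Γ(M, X.basicOpen f) := by
  letI := sectionsModule M (X.basicOpen_le f)
  letI : Algebra Γ(X, W) Γ(X, X.basicOpen f) :=
    (X.presheaf.map (homOfLE (X.basicOpen_le f)).op).hom.toAlgebra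
  haveI : IsScalarTower Γ(X, W) Γ(X, X.basicOpen f) Γ(M, X.basicOpen f) :=
    IsScalarTower.of_algebraMap_smul fun _ _ => rfl
  haveI := hW.isLocalization_basicOpen f
  haveI := isLocalizedModule_res_basicOpen M hW f
  have hbc : IsBaseChange Γ(X, X.basicOpen f) (resₗ M (X.basicOpen_le f)) :=
    IsLocalizedModule.isBaseChange (Submonoid.powers f) _ _
  exact Module.Projective.of_equiv' hbc.equiv

/-- Projectivity of sections over an affine open can be checked on a cover by basic opens. -/
theorem proj_of_basicOpen_cover (M : X.Modules) [M.IsQuasicoherent] {U : X.Opens}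
    (hU : IsAffineOpen U)
    (H : ∀ x ∈ U, ∃ f : Γ(X, U), x ∈ X.basicOpen f ∧
      Module.Projective Γ(X, X.basicOpen f) Γ(M, X.basicOpen f)) :
    Module.Projective Γ(X, U) Γ(M, U) := by
  classical
  set S : Set Γ(X, U) := {f | Module.Projective Γ(X, X.basicOpen f) Γ(M, X.basicOpen f)} with hS
  have hspan : Ideal.span S = ⊤ := by
    rw [← hU.self_le_iSup_basicOpen_iff]
    intro x hx
    obtain ⟨f, hxf, hf⟩ := H x hx
    exact TopologicalSpace.Opens.mem_iSup.mpr ⟨⟨f, hf⟩, hxf⟩
  obtain ⟨t, ht, htspan⟩ := (Ideal.span_eq_top_iff_finite _).mp hspan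
  letI : ∀ i : t, Algebra Γ(X, U) Γ(X, X.basicOpen i.1) := fun i =>
    (X.presheaf.map (homOfLE (X.basicOpen_le i.1)).op).hom.toAlgebra
  haveI : ∀ i : t, IsLocalization.Away i.1 Γ(X, X.basicOpen i.1) := fun i =>
    hU.isLocalization_basicOpen i.1
  apply projective_of_isLocalization_away (ι := t) (fun i => i.1)
    (fun i => Γ(X, X.basicOpen i.1)) (by
      have h0 : Set.range (fun i : t => (i.1 : Γ(X, U))) = (t : Set Γ(X, U)) := Subtype.range_coe
      rw [h0]
      exact htspan)
  intro i
  have hi : Module.Projective Γ(X, X.basicOpen i.1) Γ(M, X.basicOpen i.1) := ht i.2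
  letI := sectionsModule M (X.basicOpen_le i.1)
  haveI : IsScalarTower Γ(X, U) Γ(X, X.basicOpen i.1) Γ(M, X.basicOpen i.1) :=
    IsScalarTower.of_algebraMap_smul fun _ _ => rfl
  haveI := isLocalizedModule_res_basicOpen M hU i.1
  have hbc : IsBaseChange Γ(X, X.basicOpen i.1) (resₗ M (X.basicOpen_le i.1)) :=
    IsLocalizedModule.isBaseChange (Submonoid.powers i.1) _ _
  exact Module.Projective.of_equiv' hbc.equiv.symm

/-- Local projectivity of a quasi-coherent module can be checked on an affine open cover. -/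
theorem proj_of_affine_cover (M : X.Modules) [M.IsQuasicoherent] {I : Type u} (V : I → X.Opens)
    (hV : (⨆ i, V i) = ⊤) (hVa : ∀ i, IsAffineOpen (V i))
    (hVp : ∀ i, Module.Projective Γ(X, V i) Γ(M, V i)) {U : X.Opens} (hU : IsAffineOpen U) :
    Module.Projective Γ(X, U) Γ(M, U) := by
  apply proj_of_basicOpen_cover M hU
  intro x hx
  have hx' : x ∈ (⨆ i, V i) := by rw [hV]; trivial
  obtain ⟨i, hxi⟩ := TopologicalSpace.Opens.mem_iSup.mp hx'
  obtain ⟨f, g, e, hxf⟩ := exists_basicOpen_le_affine_inter hU (hVa i) x ⟨hx, hxi⟩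
  exact ⟨f, hxf, proj_congr M e.symm (proj_basicOpen M (hVa i) g (hVp i))⟩

end Groth.Agent.Helper19.QCohProj
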