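import Mathlib
import Groth.Prelude.Def_CAlgX
set_option autoImplicit false
set_option linter.style.haveILetI false
universe u

/-! # Ring-level lemmas for conormal modules of complete intersections (helper19) -/

namespace Groth.Agent.Helper19.RegInter

section h1

variable {P : Type u} [CommRing P] {N : ℕ} (h : Fin N → P)

/-- Relations on an `H_1`-regular sequence have coefficients in the ideal it generates. -/
theorem coeff_mem_of_isH1Regular (hh : CAlgX.IsH1Regular h) (a : Fin N → P)
    (ha : ∑ m, a m * h m = 0) (m : Fin N) : a m ∈ Ideal.span (Set.range h) := by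
  have h1 := hh a ha
  have key : ∀ v ∈ Submodule.span P {v : Fin N → P | ∃ i j : Fin N,
      v = Pi.single i (h j) - Pi.single j (h i)}, ∀ m, v m ∈ Ideal.span (Set.range h) := by
    intro v hv
    induction hv using Submodule.span_induction with
    | mem v hv =>
      obtain ⟨i, j, rfl⟩ := hv
      intro m
      rw [Pi.sub_apply]
      refine Ideal.sub_mem _ ?_ ?_
      · by_cases hmi : m = i
        · subst hmi
          rw [Pi.single_eq_same]
          exact Ideal.subset_span ⟨j, rfl⟩
        · rw [Pi.single_eq_of_ne hmi]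
          exact zero_mem _
      · by_cases hmj : m = j
        · subst hmj
          rw [Pi.single_eq_same]
          exact Ideal.subset_span ⟨i, rfl⟩
        · rw [Pi.single_eq_of_ne hmj]
          exact zero_mem _
    | zero => intro m; exact zero_mem _
    | add v w _ _ hv hw => intro m; exact Ideal.add_mem _ (hv m) (hw m)
    | smul c v _ hv => intro m; exact Ideal.mul_mem_left _ _ (hv m)
  exact key a h1 m

/-- If `∑ a_m h_m ∈ I²` for an `H_1`-regular sequence `h` generating `I`, all `a_m ∈ I`. -/
theorem coeff_mem_of_sum_mem_sq (hh : CAlgX.IsH1Regular h) (a : Fin N → P)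
    (ha : ∑ m, a m * h m ∈ Ideal.span (Set.range h) * Ideal.span (Set.range h)) (m : Fin N) :
    a m ∈ Ideal.span (Set.range h) := by
  have h2 : ∑ m, a m * h m ∈
      Ideal.span (Set.range h) • Submodule.span P (Set.range h) := ha
  rw [Submodule.mem_ideal_smul_span_iff_exists_sum] at h2
  obtain ⟨q, hq, hqe⟩ := h2
  have h4 : (q.sum fun i c => c • h i) = ∑ k, q k * h k := by
    rw [Finsupp.sum_fintype]
    · rfl
    · intro i
      rw [zero_smul]
  have h3 : ∑ k, (a k - q k) * h k = 0 := by
    simp only [sub_mul]
    rw [Finset.sum_sub_distrib, ← h4, hqe, sub_self]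
  have h5 := coeff_mem_of_isH1Regular h hh _ h3 m
  have := Ideal.add_mem _ h5 (hq m)
  rwa [sub_add_cancel] at this

end h1

section matrix

variable {P : Type u} [CommRing P] {σ : Type} [Fintype σ] [DecidableEq σ]

/-- Change of generators: if `f` and `h` (same finite index set) generate the same ideal `I` and
`h` has the degree-one quasi-regularity property, so has `f`. -/
theorem coeff_mem_of_sum_mem_sq_of_span_eq (f h : σ → P) (I : Ideal P)
    (hIf : Ideal.span (Set.range f) = I) (hIh : Ideal.span (Set.range h) = I)
    (hq : ∀ a : σ → P, ∑ s, a s * h s ∈ I * I → ∀ s, a s ∈ I)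
    (a : σ → P) (ha : ∑ s, a s * f s ∈ I * I) (s : σ) : a s ∈ I := by
  have hf : ∀ s, ∃ c : σ → P, ∑ t, c t * h t = f s := by
    intro s
    have : f s ∈ Ideal.span (Set.range h) := by
      rw [hIh, ← hIf]
      exact Ideal.subset_span ⟨s, rfl⟩
    exact (Ideal.mem_span_range_iff_exists_fun (R := P)).mp this
  have hh : ∀ t, ∃ c : σ → P, ∑ s, c s * f s = h t := by
    intro t
    have : h t ∈ Ideal.span (Set.range f) := by
      rw [hIf, ← hIh]
      exact Ideal.subset_span ⟨t, rfl⟩
    exact (Ideal.mem_span_range_iff_exists_fun (R := P)).mp this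
  choose C hC using hf
  choose B hB using hh
  let Cm : Matrix σ σ P := Matrix.of C
  let Bm : Matrix σ σ P := Matrix.of B
  let π := Ideal.Quotient.mk I
  -- B * C ≡ 1 mod I
  have hBC : ∀ t u, (Bm * Cm) t u - (1 : Matrix σ σ P) t u ∈ I := by
    intro t
    apply hq
    have : ∑ u, ((Bm * Cm) t u - (1 : Matrix σ σ P) t u) * h u = 0 := by
      simp only [sub_mul, Finset.sum_sub_distrib]
      have e1 : ∑ u, (Bm * Cm) t u * h u = h t := by
        simp only [Matrix.mul_apply, Finset.sum_mul]
        rw [Finset.sum_comm]
        rw [← hB t]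
        refine Finset.sum_congr rfl fun s _ => ?_
        rw [← hC s, Finset.mul_sum]
        refine Finset.sum_congr rfl fun u _ => ?_
        change B t s * C s u * h u = B t s * (C s u * h u)
        ring
      have e2 : ∑ u, (1 : Matrix σ σ P) t u * h u = h t := by
        simp [Matrix.one_apply]
      rw [e1, e2, sub_self]
    rw [this]
    exact zero_mem _
  have hBC' : (Bm.map π) * (Cm.map π) = 1 := by
    rw [← Matrix.map_mul]
    ext t u
    rw [Matrix.map_apply]
    have := Ideal.Quotient.eq.mpr (hBC t u)
    rw [this]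
    by_cases htu : t = u
    · subst htu
      simp
    · simp [Matrix.one_apply_ne htu]
  have hCB' : (Cm.map π) * (Bm.map π) = 1 := mul_eq_one_comm.mp hBC'
  -- a ᵥ* C ∈ I
  have haC : ∀ t, Matrix.vecMul a Cm t ∈ I := by
    apply hq
    have : ∑ t, Matrix.vecMul a Cm t * h t = ∑ s, a s * f s := by
      simp only [Matrix.vecMul, dotProduct, Finset.sum_mul]
      rw [Finset.sum_comm]
      refine Finset.sum_congr rfl fun s _ => ?_
      rw [← hC s, Finset.mul_sum]
      refine Finset.sum_congr rfl fun u _ => ?_
      change a s * C s u * h u = a s * (C s u * h u)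
      ring
    rw [this]
    exact ha
  have h0 : Matrix.vecMul (π ∘ a) (Cm.map π) = 0 := by
    ext t
    rw [← RingHom.map_vecMul]
    exact Ideal.Quotient.eq_zero_iff_mem.mpr (haC t)
  have h1 : π ∘ a = 0 := by
    have := congrArg (fun v => Matrix.vecMul v (Bm.map π)) h0
    simp only [Matrix.vecMul_vecMul, hCB', Matrix.vecMul_one, Matrix.zero_vecMul] at this
    exact this
  exact Ideal.Quotient.eq_zero_iff_mem.mp (congrFun h1 s)

end matrix

end Groth.Agent.Helper19.RegInter
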