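import Mathlib
import Groth.Agent.Helper19.RegInter1
import Groth.Agent.Helper19.RegInter2
set_option autoImplicit false
set_option linter.style.haveILetI false
set_option linter.unusedSectionVars false
universe u

open CategoryTheory CategoryTheory.Limits AlgebraicGeometry Opposite TopologicalSpace
open scoped TensorProduct

/-! # The sum map of pulled back ideal modules of an intersection (helper19) -/

namespace Groth.Agent.Helper19.RegInter

open Groth.Agent.Lib.Helper29.QCoh Groth.Agent.Helper19.OmegaD Groth.Agent.Helper19.OmegaLocal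
open Groth.Agent.Helper19.OmegaAlg Groth.Agent.Helper19.GrDict

section psi

variable {Y X : Scheme.{u}} (i : Y ⟶ X) {r : ℕ} (J : Fin r → X.IdealSheafData)
  (I : X.IdealSheafData) (h : ∀ l, J l ≤ I)

/-- The sum of the pulled back inclusions. -/
noncomputable def Psi : (∐ fun l => PJ i (J l)) ⟶ PJ i I :=
  Sigma.desc fun l => (Scheme.Modules.pullback i).map (idealModIncl (h l))

theorem Psi_ι_app (l : Fin r) (V : Y.Opens) (m : Γ(PJ i (J l), V)) :
    (Psi i J I h).app V ((Sigma.ι (fun l => PJ i (J l)) l).app V m) =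
      ((Scheme.Modules.pullback i).map (idealModIncl (h l))).app V m := by
  have h1 : Sigma.ι (fun l => PJ i (J l)) l ≫ Psi i J I h =
      (Scheme.Modules.pullback i).map (idealModIncl (h l)) := Sigma.ι_desc _ _
  rw [← h1]
  rfl

variable {U : X.Opens} (hU : IsAffineOpen U) {V : Y.Opens} (e : V ≤ i ⁻¹ᵁ U)
  (hV : IsAffineOpen V)

include hV in
theorem clsV_sum {ι : Type*} (s : Finset ι) (x : ι → I.ideal ⟨U, hU⟩) :
    clsV i I hU e (∑ l ∈ s, x l) = ∑ l ∈ s, clsV i I hU e (x l) := by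
  classical
  induction s using Finset.induction_on with
  | empty => rw [Finset.sum_empty, Finset.sum_empty, clsV_zero hV]
  | insert a s ha ih => rw [Finset.sum_insert ha, Finset.sum_insert ha, clsV_add hV, ih]

variable (hc : Function.Surjective (i.appLE U V e).hom)
  (hker : RingHom.ker (i.appLE U V e).hom = I.ideal ⟨U, hU⟩)
  (hsup : I.ideal ⟨U, hU⟩ = ⨆ l, (J l).ideal ⟨U, hU⟩)

include hV hc hsup in
theorem Psi_app_surjective : Function.Surjective ((Psi i J I h).app V) := by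
  intro n
  obtain ⟨x, rfl⟩ := exists_clsV_eq (i := i) (J := I) (hU := hU) (e := e) hV hc n
  have hx : x.1 ∈ ⨆ l, (J l).ideal ⟨U, hU⟩ := hsup ▸ x.2
  have key : ∃ (hx' : x.1 ∈ I.ideal ⟨U, hU⟩) (w : Γ(∐ fun l => PJ i (J l), V)),
      (Psi i J I h).app V w = clsV i I hU e ⟨x.1, hx'⟩ := by
    refine Submodule.iSup_induction (fun l => (J l).ideal ⟨U, hU⟩)
      (motive := fun y => ∃ (hy : y ∈ I.ideal ⟨U, hU⟩) (w : Γ(∐ fun l => PJ i (J l), V)),
        (Psi i J I h).app V w = clsV i I hU e ⟨y, hy⟩) hx ?_ ?_ ?_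
    · intro l y hy
      refine ⟨h l ⟨U, hU⟩ hy, (Sigma.ι (fun l => PJ i (J l)) l).app V
        (clsV i (J l) hU e ⟨y, hy⟩), ?_⟩
      rw [Psi_ι_app, pullback_incl_clsV]
    · refine ⟨Submodule.zero_mem _, 0, ?_⟩
      rw [map_zero]
      exact (clsV_zero hV).symm
    · rintro y z ⟨hy, w₁, hw₁⟩ ⟨hz, w₂, hw₂⟩
      refine ⟨Submodule.add_mem _ hy hz, w₁ + w₂, ?_⟩
      rw [map_add, hw₁, hw₂, ← clsV_add hV]
      rfl
  obtain ⟨_, w, hw⟩ := key
  exact ⟨w, hw⟩

variable (d : Fin r → ℕ) (f : ∀ l, Fin (d l) → Γ(X, U))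
  (hf : ∀ l, (J l).ideal ⟨U, hU⟩ = Ideal.span (Set.range (f l)))
  (hq : ∀ a : (Σ l, Fin (d l)) → Γ(X, U),
    ∑ s, a s * f s.1 s.2 ∈ I.ideal ⟨U, hU⟩ * I.ideal ⟨U, hU⟩ → ∀ s, a s ∈ I.ideal ⟨U, hU⟩)

include hV hc hker hf hq in
theorem Psi_app_injective : Function.Injective ((Psi i J I h).app V) := by
  rw [injective_iff_map_eq_zero]
  intro w hw
  obtain ⟨m, rfl⟩ := exists_sum_ι (fun l => PJ i (J l)) V w
  have hx : ∀ l, ∃ x : (J l).ideal ⟨U, hU⟩, m l = clsV i (J l) hU e x := fun l =>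
    exists_clsV_eq (i := i) (J := J l) (hU := hU) (e := e) hV hc (m l)
  choose x hxm using hx
  have ha : ∀ l, ∃ a : Fin (d l) → Γ(X, U), ∑ k, a k * f l k = (x l).1 := by
    intro l
    have h1 : (x l).1 ∈ Ideal.span (Set.range (f l)) := hf l ▸ (x l).2
    exact Ideal.mem_span_range_iff_exists_fun.1 h1
  choose a hax using ha
  -- the image is the class of the sum
  have h2 : (Psi i J I h).app V (∑ l, (Sigma.ι (fun l => PJ i (J l)) l).app V (m l)) =
      clsV i I hU e (∑ l, ⟨(x l).1, h l ⟨U, hU⟩ (x l).2⟩) := by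
    rw [map_sum, clsV_sum i I hU e hV]
    refine Finset.sum_congr rfl fun l _ => ?_
    rw [Psi_ι_app, hxm l, pullback_incl_clsV]
  rw [h2, clsV_eq_zero_iff i I hU e hV hc, hker] at hw
  have h3 : ((∑ l, (⟨(x l).1, h l ⟨U, hU⟩ (x l).2⟩ : I.ideal ⟨U, hU⟩) : I.ideal ⟨U, hU⟩) :
      Γ(X, U)) = ∑ s : (Σ l, Fin (d l)), a s.1 s.2 * f s.1 s.2 := by
    rw [Fintype.sum_sigma, AddSubmonoidClass.coe_finset_sum]
    refine Finset.sum_congr rfl fun l _ => ?_
    exact (hax l).symm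
  rw [h3] at hw
  have h4 := hq (fun s => a s.1 s.2) hw
  have h5 : ∀ l, m l = 0 := by
    intro l
    rw [hxm l, clsV_eq_zero_iff i (J l) hU e hV hc, hker, ← hax l]
    refine Ideal.sum_mem _ fun k _ => ?_
    refine Ideal.mul_mem_mul (h4 ⟨l, k⟩) ?_
    rw [hf l]
    exact Ideal.subset_span ⟨k, rfl⟩
  refine Finset.sum_eq_zero fun l _ => ?_
  rw [h5 l, map_zero]

end psi

end Groth.Agent.Helper19.RegInter
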