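import Mathlib
import Groth.Prelude.Def_RegImm
import Groth.Agent.Helper19.RegInter3
import Groth.Agent.Helper19.RegImmComp
import Groth.Agent.Lib.Helper1.KoszulLow
import Groth.Agent.Lib.Helper29.IsoCover
import Groth.Agent.Lib.Helper29.QCohCrit
set_option autoImplicit false
set_option linter.style.haveILetI false
set_option linter.unusedSectionVars false
universe u

open CategoryTheory CategoryTheory.Limits AlgebraicGeometry Opposite TopologicalSpace
open scoped TensorProduct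

/-! # Conormal sheaf of a regular intersection: charts and the isomorphism (helper19) -/

namespace Groth.Agent.Helper19.RegInter

open Groth.Agent.Lib.Helper29.QCoh Groth.Agent.Helper19.OmegaD Groth.Agent.Helper19.OmegaLocal
open Groth.Agent.Helper19.OmegaAlg Groth.Agent.Helper19.GrDict Groth.Agent.Helper19.RegImmBC

section ring

open Groth.Agent.Lib.Helper1.KoszulLow in
theorem isH1Regular_of_koszul {R : Type u} [CommRing R] (l : List R)
    (h : LCI.IsKoszulRegularSeq R l) : CAlgX.IsH1Regular l.get := by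
  intro a ha
  have h1 := rel_mem_kosz l (h (-1) (by norm_num)) a ha
  refine (Submodule.span_le.2 ?_ : kosz (fun i => l.get i) ≤ _) h1
  rintro _ ⟨i, j, rfl⟩
  refine Submodule.subset_span ⟨j, i, ?_⟩
  funext k
  simp only [Pi.sub_apply, Pi.smul_apply, Pi.single_apply, smul_eq_mul]
  split_ifs <;> simp

end ring

section chart

variable {Z X : Scheme.{u}} (i : Z ⟶ X)

/-- Restriction of a Koszul chart to a smaller affine open containing the point. -/
theorem koszul_chart_restrict (z : Z) (U W : X.affineOpens) (e : W.1 ≤ U.1) (hzW : i z ∈ W.1)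
    [IsClosedImmersion (i ∣_ U.1)] (rs : List Γ(X, U.1)) (hrs : LCI.IsKoszulRegularSeq _ rs)
    (hker : RingHom.ker (i.app U.1).hom = Ideal.ofList rs) :
    IsClosedImmersion (i ∣_ W.1) ∧
      LCI.IsKoszulRegularSeq Γ(X, W.1) (rs.map (X.presheaf.map (homOfLE e).op).hom) ∧
      RingHom.ker (i.app W.1).hom =
        Ideal.ofList (rs.map (X.presheaf.map (homOfLE e).op).hom) := by
  obtain ⟨hclW, hkerW⟩ := restrict_chart i U W e
  rw [hker, Ideal.map_ofList] at hkerW
  refine ⟨hclW, ?_, hkerW⟩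
  have hflat1 : (X.presheaf.map (homOfLE e).op).hom.Flat := by
    have e' : W.1 ≤ (𝟙 X) ⁻¹ᵁ U.1 := e
    have := HasRingHomProperty.appLE (P := @Flat) (𝟙 X) inferInstance U W e'
    rwa [id_appLE_eq X e e'] at this
  refine kindFlatStable_koszul _ hflat1 rs hrs ?_
  rw [← hkerW]
  intro htop
  have h3 : (1 : Γ(X, W.1)) ∈ RingHom.ker (i.app W.1).hom := by rw [htop]; trivial
  rw [RingHom.mem_ker, map_one] at h3
  haveI : Nonempty (i ⁻¹ᵁ W.1 : Z.Opens) := ⟨⟨z, hzW⟩⟩
  haveI : Nontrivial Γ(Z, i ⁻¹ᵁ W.1) := Scheme.component_nontrivial Z (i ⁻¹ᵁ W.1)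
  exact one_ne_zero h3

end chart

section main

variable {X Y : Scheme.{u}} {r : ℕ} {Xs : Fin r → Scheme.{u}} (j : ∀ l, Xs l ⟶ X)
  (d : Fin r → ℕ)
  (hj : ∀ l, RegImm.IsRegularImmersionOfCodim RegImm.Kind.koszul (d l) (j l))
  (i : Y ⟶ X)
  (g : ∀ l, Y ⟶ Xs l) (hg : ∀ l, g l ≫ j l = i)
  (hi : RegImm.IsRegularImmersionOfCodim RegImm.Kind.koszul (∑ l, d l) i)

include hj hg hi in
/-- A common affine chart for the intersection and all the factors. -/
theorem exists_common_chart (y : Y) : ∃ W : X.affineOpens, i y ∈ W.1 ∧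
    ∃ rs₀ : List Γ(X, W.1), rs₀.length = ∑ l, d l ∧ LCI.IsKoszulRegularSeq _ rs₀ ∧
      RingHom.ker (i.app W.1).hom = Ideal.ofList rs₀ ∧
      ∀ l, ∃ rs : List Γ(X, W.1), rs.length = d l ∧
        RingHom.ker ((j l).app W.1).hom = Ideal.ofList rs := by
  obtain ⟨U₀, hyU₀, hcl₀, rs₀, hlen₀, hrs₀, hker₀⟩ := hi.2 y
  have hjy : ∀ l, (j l) (g l y) = i y := by
    intro l
    rw [← hg l]
    rfl
  have hl : ∀ l, ∃ U : X.affineOpens, i y ∈ U.1 ∧ IsClosedImmersion (j l ∣_ U.1) ∧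
      ∃ rs : List Γ(X, U.1), rs.length = d l ∧ LCI.IsKoszulRegularSeq _ rs ∧
        RingHom.ker ((j l).app U.1).hom = Ideal.ofList rs := by
    intro l
    obtain ⟨U, hU, rest⟩ := (hj l).2 (g l y)
    rw [hjy l] at hU
    exact ⟨U, hU, rest⟩
  choose Us hyUs hcls rss hlens hrss hkers using hl
  let O : X.Opens := ⟨(U₀.1 : Set X) ∩ ⋂ l, ((Us l).1 : Set X),
    U₀.1.2.inter (isOpen_iInter_of_finite fun l => (Us l).1.2)⟩
  have hyO : i y ∈ O := ⟨hyU₀, Set.mem_iInter.2 hyUs⟩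
  obtain ⟨W, hW, hyW, hWO⟩ := Opens.isBasis_iff_nbhd.1 X.isBasis_affineOpens hyO
  have hW₀ : W ≤ U₀.1 := fun x hx => (hWO hx).1
  have hWl : ∀ l, W ≤ (Us l).1 := fun l x hx => Set.mem_iInter.1 (hWO hx).2 l
  haveI := hcl₀
  obtain ⟨-, hk₀, hker₀'⟩ := koszul_chart_restrict i y U₀ ⟨W, hW⟩ hW₀ hyW rs₀ hrs₀ hker₀
  refine ⟨⟨W, hW⟩, hyW, _, ?_, hk₀, hker₀', fun l => ?_⟩
  · rw [List.length_map, hlen₀]
  · haveI := hcls l
    have hyW' : (j l) (g l y) ∈ W := by rw [hjy l]; exact hyW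
    obtain ⟨-, -, hkerl⟩ := koszul_chart_restrict (j l) (g l y) (Us l) ⟨W, hW⟩ (hWl l) hyW'
      (rss l) (hrss l) (hkers l)
    exact ⟨_, by rw [List.length_map, hlens l], hkerl⟩

end main

end Groth.Agent.Helper19.RegInter
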