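import Mathlib
import Groth.Prelude.Def_RegImm
import Groth.Agent.Helper19.RegInter4
set_option autoImplicit false
set_option linter.style.haveILetI false
set_option linter.unusedSectionVars false
universe u

open CategoryTheory CategoryTheory.Limits AlgebraicGeometry Opposite TopologicalSpace
open scoped TensorProduct

/-! # Conormal sheaf of a regular intersection: the isomorphism (helper19) -/

namespace Groth.Agent.Helper19.RegInter

open Groth.Agent.Lib.Helper29.QCoh Groth.Agent.Helper19.OmegaD Groth.Agent.Helper19.OmegaLocal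
open Groth.Agent.Helper19.OmegaAlg Groth.Agent.Helper19.GrDict Groth.Agent.Helper19.RegImmBC

section main2

variable {X Y : Scheme.{u}} {r : ℕ} {Xs : Fin r → Scheme.{u}} (j : ∀ l, Xs l ⟶ X)
  [∀ l, IsClosedImmersion (j l)] (d : Fin r → ℕ)
  (i : Y ⟶ X) [IsClosedImmersion i]
  (hY : ∀ U : X.affineOpens, i.ker.ideal U = ⨆ l, (j l).ker.ideal U)

include hY in
theorem ker_le (l : Fin r) : (j l).ker ≤ i.ker := fun U => by
  rw [hY U]
  exact le_iSup (fun l => (j l).ker.ideal U) l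

theorem Psi_chart_bijective (W : X.affineOpens) (rs₀ : List Γ(X, W.1))
    (hlen₀ : rs₀.length = ∑ l, d l) (hrs₀ : LCI.IsKoszulRegularSeq _ rs₀)
    (hker₀ : RingHom.ker (i.app W.1).hom = Ideal.ofList rs₀)
    (hl : ∀ l, ∃ rs : List Γ(X, W.1), rs.length = d l ∧
      RingHom.ker ((j l).app W.1).hom = Ideal.ofList rs) :
    Function.Bijective
      ((Psi i (fun l => (j l).ker) i.ker (ker_le j i hY)).app (i ⁻¹ᵁ W.1)) := by
  choose rss hlens hkers using hl
  have hV : IsAffineOpen (i ⁻¹ᵁ W.1) := W.2.preimage i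
  have e : i ⁻¹ᵁ W.1 ≤ i ⁻¹ᵁ W.1 := le_rfl
  have happ : i.appLE W.1 (i ⁻¹ᵁ W.1) e = i.app W.1 := Scheme.Hom.appLE_eq_app i
  have hc : Function.Surjective (i.appLE W.1 (i ⁻¹ᵁ W.1) e).hom := by
    rw [happ]
    exact i.app_surjective W.1 W.2
  have hker : RingHom.ker (i.appLE W.1 (i ⁻¹ᵁ W.1) e).hom = i.ker.ideal ⟨W.1, W.2⟩ := by
    rw [happ]
    exact (Scheme.Hom.ker_apply i W).symm
  have hI₀ : i.ker.ideal ⟨W.1, W.2⟩ = Ideal.ofList rs₀ := by
    rw [← hker₀]
    exact Scheme.Hom.ker_apply i W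
  let f : ∀ l, Fin (d l) → Γ(X, W.1) := fun l k => (rss l).get (Fin.cast (hlens l).symm k)
  have hf : ∀ l, (j l).ker.ideal ⟨W.1, W.2⟩ = Ideal.span (Set.range (f l)) := by
    intro l
    have h1 : (j l).ker.ideal ⟨W.1, W.2⟩ = RingHom.ker ((j l).app W.1).hom :=
      Scheme.Hom.ker_apply (j l) W
    rw [h1, hkers l]
    have h2 : Set.range (f l) = {x | x ∈ rss l} := by
      rw [← Set.range_list_get]
      exact (finCongr (hlens l).symm).surjective.range_comp (rss l).get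
    rw [h2]
  have hsup : i.ker.ideal ⟨W.1, W.2⟩ = ⨆ l, (j l).ker.ideal ⟨W.1, W.2⟩ := hY W
  -- the index equivalence
  let E : (Σ l, Fin (d l)) ≃ Fin rs₀.length := finSigmaFinEquiv.trans (finCongr hlen₀.symm)
  have hIf : Ideal.span (Set.range fun s : (Σ l, Fin (d l)) => f s.1 s.2) =
      i.ker.ideal ⟨W.1, W.2⟩ := by
    rw [hsup, Set.range_sigma_eq_iUnion_range, Ideal.span_iUnion]
    exact iSup_congr fun l => (hf l).symm
  have hIh : Ideal.span (Set.range fun s : (Σ l, Fin (d l)) => rs₀.get (E s)) =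
      i.ker.ideal ⟨W.1, W.2⟩ := by
    rw [hI₀]
    have h2 : (Set.range fun s : (Σ l, Fin (d l)) => rs₀.get (E s)) = {x | x ∈ rs₀} := by
      rw [← Set.range_list_get]
      exact E.surjective.range_comp rs₀.get
    rw [h2]
  have hspan₀ : Ideal.span (Set.range rs₀.get) = i.ker.ideal ⟨W.1, W.2⟩ := by
    rw [hI₀, Set.range_list_get]
  have hh1 : CAlgX.IsH1Regular rs₀.get := isH1Regular_of_koszul rs₀ hrs₀
  have hq₀ : ∀ a : (Σ l, Fin (d l)) → Γ(X, W.1),
      ∑ s, a s * rs₀.get (E s) ∈ i.ker.ideal ⟨W.1, W.2⟩ * i.ker.ideal ⟨W.1, W.2⟩ →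
        ∀ s, a s ∈ i.ker.ideal ⟨W.1, W.2⟩ := by
    intro a ha s
    have h3 : ∑ s, a s * rs₀.get (E s) = ∑ m, a (E.symm m) * rs₀.get m := by
      rw [← Equiv.sum_comp E (fun m => a (E.symm m) * rs₀.get m)]
      refine Finset.sum_congr rfl fun s _ => ?_
      rw [Equiv.symm_apply_apply]
    rw [h3, ← hspan₀] at ha
    have h4 := coeff_mem_of_sum_mem_sq rs₀.get hh1 (fun m => a (E.symm m)) ha (E s)
    rw [hspan₀] at h4
    simpa using h4
  have hq := coeff_mem_of_sum_mem_sq_of_span_eq (fun s : (Σ l, Fin (d l)) => f s.1 s.2)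
    (fun s => rs₀.get (E s)) (i.ker.ideal ⟨W.1, W.2⟩) hIf hIh hq₀
  exact ⟨Psi_app_injective i (fun l => (j l).ker) i.ker (ker_le j i hY) W.2 e hV hc hker d f hf hq,
    Psi_app_surjective i (fun l => (j l).ker) i.ker (ker_le j i hY) W.2 e hV hc hsup⟩


end main2

section qc

variable {Y : Scheme.{u}} {r : ℕ} (M : Fin r → Y.Modules) [∀ l, (M l).IsQuasicoherent]

instance isQuasicoherent_sigma : (∐ M).IsQuasicoherent :=
  isQuasicoherent_colimit_aux (Discrete.functor M) (fun ⟨l⟩ => inferInstanceAs (M l).IsQuasicoherent)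

end qc

section main3

variable {X Y : Scheme.{u}} {r : ℕ} {Xs : Fin r → Scheme.{u}} (j : ∀ l, Xs l ⟶ X)
  [∀ l, IsClosedImmersion (j l)] (d : Fin r → ℕ)
  (hj : ∀ l, RegImm.IsRegularImmersionOfCodim RegImm.Kind.koszul (d l) (j l))
  (i : Y ⟶ X) [IsClosedImmersion i]
  (hY : ∀ U : X.affineOpens, i.ker.ideal U = ⨆ l, (j l).ker.ideal U)
  (g : ∀ l, Y ⟶ Xs l) (hg : ∀ l, g l ≫ j l = i)
  (hi : RegImm.IsRegularImmersionOfCodim RegImm.Kind.koszul (∑ l, d l) i)

include hj hg hi in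
theorem isIso_Psi : IsIso (Psi i (fun l => (j l).ker) i.ker (ker_le j i hY)) := by
  have hch := fun y => exists_common_chart j d hj i g hg hi y
  choose W hyW rs₀ hlen₀ hrs₀ hker₀ hl using hch
  exact isIso_of_app_bijective_of_affine_cover _ (fun y => i ⁻¹ᵁ (W y).1)
    (fun y => (W y).2.preimage i) (fun y => ⟨y, hyW y⟩)
    (fun y => Psi_chart_bijective j d i hY (W y) (rs₀ y) (hlen₀ y) (hrs₀ y) (hker₀ y) (hl y))

end main3

end Groth.Agent.Helper19.RegInter
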