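import Mathlib
import Groth.Prelude.Def_CInt
import Groth.Prelude.Def_RegImm
import Groth.Agent.Helper19.RegNear
import Groth.Agent.Helper19.RegImmComp
import Groth.Agent.Helper19.LciMor

/-! Regular immersions (not necessarily closed) near a point of a locally Noetherian scheme:
`i` is a regular immersion at `z` iff the kernel of the stalk map at `z` is generated by a regular
sequence (helper19). -/

set_option autoImplicit false
set_option linter.style.haveILetI false
universe u

open CategoryTheory AlgebraicGeometry TopologicalSpace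

namespace Groth.Agent.Helper19.RegNearImm

open Groth.Agent.Helper19.RegNearAlg Groth.Agent.Helper19.QuasiRegScheme
open Groth.Agent.Helper19.RegImmBC

variable {X Z : Scheme.{u}}

theorem mem_primeIdealOf_of_mem_ker (i : Z ⟶ X) (z : Z) (W : X.Opens)
    (hW : IsAffineOpen W) (hz : i z ∈ W) (a : Γ(X, W)) (ha : a ∈ RingHom.ker (i.app W).hom) :
    a ∈ (hW.primeIdealOf ⟨i z, hz⟩).asIdeal := by
  rw [mem_primeIdealOf_iff hW (i z) hz a]
  intro hmem
  rw [RingHom.mem_ker] at ha
  have h1 : z ∈ i ⁻¹ᵁ X.basicOpen a := hmem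
  rw [Scheme.preimage_basicOpen] at h1
  have h2 : (i.app W) a = 0 := ha
  rw [h2, Scheme.basicOpen_zero] at h1
  exact h1

/-- the kernel of the stalk map of an immersion is the localisation of the kernel ideal of a
closed chart -/
theorem ker_stalkMap_eq (i : Z ⟶ X) (z : Z) (W : X.Opens)
    (hW : IsAffineOpen W) (hz : i z ∈ W) [IsClosedImmersion (i ∣_ W)] :
    RingHom.ker (i.stalkMap z).hom =
      (RingHom.ker (i.app W).hom).map (X.presheaf.germ W (i z) hz).hom := by
  have hW' : IsAffineOpen (i ⁻¹ᵁ W) := isAffineOpen_preimage_of_restrict i hW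
  have hsurj : Function.Surjective (i.app W).hom := app_surjective_of_restrict i hW
  have hz' : z ∈ i ⁻¹ᵁ W := hz
  letI : Algebra Γ(X, W) (X.presheaf.stalk (i z)) :=
    TopCat.Presheaf.algebra_section_stalk X.presheaf ⟨i z, hz⟩
  letI : Algebra Γ(Z, i ⁻¹ᵁ W) (Z.presheaf.stalk z) :=
    TopCat.Presheaf.algebra_section_stalk Z.presheaf ⟨z, hz'⟩
  haveI hlocX : IsLocalization.AtPrime (X.presheaf.stalk (i z))
      (hW.primeIdealOf ⟨i z, hz⟩).asIdeal := hW.isLocalization_stalk ⟨i z, hz⟩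
  haveI hlocZ : IsLocalization.AtPrime (Z.presheaf.stalk z)
      (hW'.primeIdealOf ⟨z, hz'⟩).asIdeal := hW'.isLocalization_stalk ⟨z, hz'⟩
  have hcomm : ∀ a : Γ(X, W), (i.stalkMap z).hom (algebraMap Γ(X, W) (X.presheaf.stalk (i z)) a) =
      algebraMap Γ(Z, i ⁻¹ᵁ W) (Z.presheaf.stalk z) ((i.app W).hom a) := by
    intro a
    exact Scheme.Hom.germ_stalkMap_apply i W z hz a
  have hmapeq : (RingHom.ker (i.app W).hom).map (X.presheaf.germ W (i z) hz).hom =
      (RingHom.ker (i.app W).hom).map (algebraMap Γ(X, W) (X.presheaf.stalk (i z))) := rfl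
  rw [hmapeq]
  apply le_antisymm
  · intro a' ha'
    obtain ⟨a, s, rfl⟩ := IsLocalization.exists_mk'_eq
      (hW.primeIdealOf ⟨i z, hz⟩).asIdeal.primeCompl a'
    have h1 : (i.stalkMap z).hom (algebraMap Γ(X, W) (X.presheaf.stalk (i z)) a) = 0 := by
      have : algebraMap Γ(X, W) (X.presheaf.stalk (i z)) a =
          IsLocalization.mk' (X.presheaf.stalk (i z)) a s *
            algebraMap Γ(X, W) (X.presheaf.stalk (i z)) (s : Γ(X, W)) :=
        (IsLocalization.mk'_spec _ a s).symm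
      rw [this, map_mul, RingHom.mem_ker.mp ha', zero_mul]
    rw [hcomm] at h1
    obtain ⟨⟨t, ht⟩, htz⟩ := (IsLocalization.map_eq_zero_iff
      (hW'.primeIdealOf ⟨z, hz'⟩).asIdeal.primeCompl (Z.presheaf.stalk z) _).mp h1
    obtain ⟨t', rfl⟩ := hsurj t
    rw [IsLocalization.mk'_mem_map_algebraMap_iff]
    refine ⟨t', ?_, ?_⟩
    · intro ht'
      apply ht
      have h3 := (mem_primeIdealOf_iff hW (i z) hz t').mp ht'
      rw [SetLike.mem_coe, mem_primeIdealOf_iff hW' z hz']
      intro h4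
      apply h3
      have h5 : z ∈ i ⁻¹ᵁ X.basicOpen t' := by
        rw [Scheme.preimage_basicOpen]
        exact h4
      exact h5
    · rw [RingHom.mem_ker, map_mul]
      exact htz
  · rw [Ideal.map_le_iff_le_comap]
    intro a ha
    rw [Ideal.mem_comap, RingHom.mem_ker, hcomm]
    rw [RingHom.mem_ker] at ha
    rw [ha, map_zero]

theorem stalk_of_regularAt (i : Z ⟶ X) (z : Z)
    (h : RegImm.IsRegularImmersionAt RegImm.Kind.regular i z) :
    CInt.IsRegularIdeal (RingHom.ker (i.stalkMap z).hom) := by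
  obtain ⟨U, hz, hcl, rs, hrs, hker⟩ := h
  haveI := hcl
  rw [ker_stalkMap_eq i z U.1 U.2 hz]
  letI : Algebra Γ(X, U.1) (X.presheaf.stalk (i z)) :=
    TopCat.Presheaf.algebra_section_stalk X.presheaf ⟨i z, hz⟩
  haveI hlocX : IsLocalization.AtPrime (X.presheaf.stalk (i z))
      (U.2.primeIdealOf ⟨i z, hz⟩).asIdeal := U.2.isLocalization_stalk ⟨i z, hz⟩
  exact localize (RingHom.ker (i.app U.1).hom) (U.2.primeIdealOf ⟨i z, hz⟩).asIdeal
    (fun a ha => mem_primeIdealOf_of_mem_ker i z U.1 U.2 hz a ha) (X.presheaf.stalk (i z))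
    ⟨rs, hrs, hker.symm⟩

theorem regularAt_of_stalk [IsLocallyNoetherian X] (i : Z ⟶ X) [IsImmersion i] (z : Z)
    (h : CInt.IsRegularIdeal (RingHom.ker (i.stalkMap z).hom)) :
    RegImm.IsRegularImmersionAt RegImm.Kind.regular i z := by
  have hzc : i z ∈ i.coborderRange := subset_coborder ⟨z, rfl⟩
  obtain ⟨W₀, hW₀, hz, hle⟩ := exists_isAffineOpen_mem_and_subset (x := i z)
    (U := i.coborderRange) hzc
  haveI hcl₀ : IsClosedImmersion (i ∣_ W₀) :=
    Groth.Agent.Helper19.LciMor.isClosedImmersion_restrict_of_le_coborderRange i W₀ hle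
  rw [ker_stalkMap_eq i z W₀ hW₀ hz] at h
  letI : Algebra Γ(X, W₀) (X.presheaf.stalk (i z)) :=
    TopCat.Presheaf.algebra_section_stalk X.presheaf ⟨i z, hz⟩
  haveI hlocX : IsLocalization.AtPrime (X.presheaf.stalk (i z))
      (hW₀.primeIdealOf ⟨i z, hz⟩).asIdeal := hW₀.isLocalization_stalk ⟨i z, hz⟩
  haveI : IsNoetherianRing Γ(X, W₀) := IsLocallyNoetherian.component_noetherian ⟨W₀, hW₀⟩
  obtain ⟨g, hg, hB⟩ := spread (RingHom.ker (i.app W₀).hom) (hW₀.primeIdealOf ⟨i z, hz⟩).asIdeal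
    (fun a ha => mem_primeIdealOf_of_mem_ker i z W₀ hW₀ hz a ha) (X.presheaf.stalk (i z)) h
  have hzg : i z ∈ X.basicOpen g := by
    by_contra hn
    exact hg ((mem_primeIdealOf_iff hW₀ (i z) hz g).mpr hn)
  obtain ⟨hcl, hker⟩ := restrict_chart i ⟨W₀, hW₀⟩ ⟨X.basicOpen g, hW₀.basicOpen g⟩
    (X.basicOpen_le g)
  haveI := hW₀.isLocalization_basicOpen g
  obtain ⟨rs, hrs, hI⟩ := hB Γ(X, X.basicOpen g)
  refine ⟨⟨X.basicOpen g, hW₀.basicOpen g⟩, hzg, hcl, rs, hrs, ?_⟩
  rw [hker]
  exact hI.symm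

/-- Main characterisation: an immersion into a locally Noetherian scheme is a regular
immersion at `z` iff the kernel of its stalk map at `z` is generated by a regular sequence. -/
theorem regularAt_iff_stalk [IsLocallyNoetherian X] (i : Z ⟶ X) [IsImmersion i] (z : Z) :
    RegImm.IsRegularImmersionAt RegImm.Kind.regular i z ↔
      CInt.IsRegularIdeal (RingHom.ker (i.stalkMap z).hom) :=
  ⟨stalk_of_regularAt i z, regularAt_of_stalk i z⟩

end Groth.Agent.Helper19.RegNearImm
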