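import Mathlib
import Groth.Agent.Helper19.RegNearImm
import Groth.Agent.S8679
import Groth.Agent.Lib.Helper16.KzComp4
import Groth.Agent.Lib.Helper11.QReg

/-! Pointwise comparison of the kinds of regular immersions (helper19). -/

set_option autoImplicit false
set_option linter.style.haveILetI false
universe u

open CategoryTheory AlgebraicGeometry TopologicalSpace

namespace Groth.Agent.Helper19.RegNearImm

open Groth.Agent.Helper19.RegImmBC

variable {Y X : Scheme.{u}} (j : Y ⟶ X) (z : Y)

theorem koszulAt_of_regularAt (h : RegImm.IsRegularImmersionAt RegImm.Kind.regular j z) :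
    RegImm.IsRegularImmersionAt RegImm.Kind.koszul j z := by
  obtain ⟨U, hz, hcl, rs, hrs, hker⟩ := h
  have hrs' : RingTheory.Sequence.IsRegular Γ(X, U.1) rs := hrs
  exact ⟨U, hz, hcl, rs,
    Groth.Agent.Lib.Helper16.KzComp.kreg_of_isWeaklyRegular rs hrs'.toIsWeaklyRegular, hker⟩

theorem h1At_of_koszulAt (h : RegImm.IsRegularImmersionAt RegImm.Kind.koszul j z) :
    RegImm.IsRegularImmersionAt RegImm.Kind.h1 j z := by
  obtain ⟨U, hz, hcl, rs, hrs, hker⟩ := h
  exact ⟨U, hz, hcl, rs, Groth.Agent.S8679.isH1Regular_of_isKoszulRegularSeq rs hrs, hker⟩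

theorem quasiAt_of_h1At (h : RegImm.IsRegularImmersionAt RegImm.Kind.h1 j z) :
    RegImm.IsRegularImmersionAt RegImm.Kind.quasi j z := by
  obtain ⟨U, hz, hcl, rs, hrs, hker⟩ := h
  have hrs' : CAlgX.IsH1Regular rs.get := hrs
  exact ⟨U, hz, hcl, rs,
    Groth.Agent.Lib.Helper11.QReg.isQuasiRegular_of_isH1Regular rs.get hrs', hker⟩

theorem h1At_of_regularAt (h : RegImm.IsRegularImmersionAt RegImm.Kind.regular j z) :
    RegImm.IsRegularImmersionAt RegImm.Kind.h1 j z :=
  h1At_of_koszulAt j z (koszulAt_of_regularAt j z h)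

theorem quasiAt_of_regularAt (h : RegImm.IsRegularImmersionAt RegImm.Kind.regular j z) :
    RegImm.IsRegularImmersionAt RegImm.Kind.quasi j z :=
  quasiAt_of_h1At j z (h1At_of_regularAt j z h)

theorem regularAt_of_quasiAt [IsLocallyNoetherian X] [IsImmersion j] [QuasiCompact j]
    (h : RegImm.IsRegularImmersionAt RegImm.Kind.quasi j z) :
    RegImm.IsRegularImmersionAt RegImm.Kind.regular j z := by
  obtain ⟨U, hzU, hcl, rs, hq, hker⟩ := h
  haveI := hcl
  have hsupp : j z ∈ j.ker.support := by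
    have h1 : j z ∈ (j.ker.support : Set X) := by
      rw [Scheme.Hom.support_ker]
      exact subset_closure ⟨z, rfl⟩
    exact h1
  have hI : j.ker.ideal U = Ideal.ofList rs := by
    rw [Scheme.Hom.ker_apply]
    exact hker
  obtain ⟨g, hxg, rs', hreg, hI'⟩ :=
    Groth.Agent.Helper19.QuasiRegScheme.core j.ker (j z) hsupp U hzU rs hq hI
  obtain ⟨hcl', -⟩ := restrict_chart j U (X.affineBasicOpen g) (X.basicOpen_le g)
  refine ⟨X.affineBasicOpen g, hxg, hcl', rs', hreg, ?_⟩
  rw [← Scheme.Hom.ker_apply]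
  exact hI'

end Groth.Agent.Helper19.RegNearImm
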