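import Mathlib
import Groth.Agent.Helper19.GrDict8
import Groth.Agent.Lib.Helper20.RegSeqElem
set_option autoImplicit false
set_option linter.style.haveILetI false
universe u

open scoped TensorProduct

/-! # Regular sections: the conormal module of a regular sequence is free (helper19) -/

namespace Groth.Agent.Helper19.RegSec

open Groth.Agent.Helper19.OmegaAlg Groth.Agent.Helper19.GrDict

section ringlevel

variable {P : Type u} [CommRing P] {E : Type u} [AddCommGroup E] [Module P E] {n : ℕ}
  (b : Module.Basis (Fin n) P E) (σ : E →ₗ[P] P)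

/-- If `σ(b_k)` is a weakly regular sequence generating `I` and `σ e ∈ I²`, then `e ∈ I E`. -/
theorem mem_smul_top_of_apply_mem_sq
    (hreg : RingTheory.Sequence.IsWeaklyRegular P (List.ofFn fun k => σ (b k))) (e : E)
    (he : σ e ∈ Ideal.span (Set.range fun k => σ (b k)) *
      Ideal.span (Set.range fun k => σ (b k))) :
    e ∈ (Ideal.span (Set.range fun k => σ (b k))) • (⊤ : Submodule P E) := by
  set a : Fin n → P := fun k => σ (b k) with ha
  set I : Ideal P := Ideal.span (Set.range a) with hI
  have h1 : σ e = ∑ k, b.repr e k * a k := by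
    conv_lhs => rw [← b.sum_repr e]
    rw [map_sum]
    refine Finset.sum_congr rfl fun k _ => ?_
    rw [map_smul, smul_eq_mul]
  have h2 : σ e ∈ I • Submodule.span P (Set.range a) := he
  rw [Submodule.mem_ideal_smul_span_iff_exists_sum] at h2
  obtain ⟨q, hq, hqe⟩ := h2
  have h3 : ∑ k, (b.repr e k - q k) * a k = 0 := by
    have h4 : (q.sum fun i c => c • a i) = ∑ k, q k * a k := by
      rw [Finsupp.sum_fintype]
      · rfl
      · intro i
        rw [zero_smul]
    simp only [sub_mul]
    rw [Finset.sum_sub_distrib, ← h1, ← h4, hqe, sub_self]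
  have h5 := Groth.Agent.Lib.Helper20.RegSeqElem.coeff_mem_of_sum_eq_zero a hreg _ h3
  have h6 : ∀ k, b.repr e k ∈ I := by
    intro k
    have := Ideal.add_mem _ (h5 k) (hq k)
    rwa [sub_add_cancel] at this
  rw [← b.sum_repr e]
  exact Submodule.sum_mem _ fun k _ => Submodule.smul_mem_smul (h6 k) Submodule.mem_top

end ringlevel

section basechange

variable {P S : Type u} [CommRing P] [CommRing S] [Algebra P S]
  {E N : Type u} [AddCommGroup E] [Module P E] [AddCommGroup N] [Module P N] {n : ℕ}
  (b : Module.Basis (Fin n) P E) (τ : E →ₗ[P] N) (ι : N →ₗ[P] P)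

/-- For a regular section, `S ⊗ E → S ⊗ I` is bijective (`S = P/I`). -/
theorem baseChange_bijective_of_regular (hS : Function.Surjective (algebraMap P S))
    (hτ : Function.Surjective τ)
    (hker : RingHom.ker (algebraMap P S) = LinearMap.range ι)
    (hreg : RingTheory.Sequence.IsWeaklyRegular P (List.ofFn fun k => ι (τ (b k)))) :
    Function.Bijective (LinearMap.baseChange S τ) := by
  have hI : LinearMap.range ι = Ideal.span (Set.range fun k => (ι ∘ₗ τ) (b k)) := by
    have h1 : LinearMap.range (ι ∘ₗ τ) = LinearMap.range ι := by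
      rw [LinearMap.range_comp, LinearMap.range_eq_top.mpr hτ, Submodule.map_top]
    rw [← h1, ← Submodule.map_top, ← b.span_eq, Submodule.map_span]
    congr 1
    ext x
    simp only [Set.mem_image, Set.mem_range, exists_exists_eq_and]
  constructor
  · rw [injective_iff_map_eq_zero]
    intro z hz
    obtain ⟨e, rfl⟩ := exists_one_tmul_gen (P := P) (S := S) hS z
    rw [LinearMap.baseChange_tmul] at hz
    have h2 := mem_smul_top_of_one_tmul_eq_zero (P := P) (S := S) hS (τ e) hz
    have h3 := Submodule.mem_map_of_mem (f := ι) h2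
    rw [Submodule.map_smul'', Submodule.map_top, hker, hI] at h3
    have h4 := mem_smul_top_of_apply_mem_sq b (ι ∘ₗ τ) hreg e h3
    rw [← hI, ← hker] at h4
    exact one_tmul_eq_zero_of_mem_smul_top (P := P) (S := S) e h4
  · intro w
    induction w using TensorProduct.induction_on with
    | zero => exact ⟨0, map_zero _⟩
    | tmul c x =>
      obtain ⟨e, rfl⟩ := hτ x
      exact ⟨c ⊗ₜ e, LinearMap.baseChange_tmul _ _ _⟩
    | add w₁ w₂ h₁ h₂ =>
      obtain ⟨z₁, rfl⟩ := h₁
      obtain ⟨z₂, rfl⟩ := h₂
      exact ⟨z₁ + z₂, map_add _ _ _⟩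

end basechange

end Groth.Agent.Helper19.RegSec
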