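import Mathlib
import Groth.Agent.Helper19.RegSec1
import Groth.Agent.Helper19.PullSectNat
import Groth.Agent.Lib.Helper29.IsoCover
import Groth.Agent.Lib.Helper29.QCohLocFree
import Groth.Agent.Lib.Helper29.QCohAffine
set_option autoImplicit false
set_option linter.style.haveILetI false
set_option linter.unusedSectionVars false
universe u

open CategoryTheory CategoryTheory.Limits AlgebraicGeometry Opposite TopologicalSpace
open scoped TensorProduct

/-! # Regular sections of a finite locally free module: `E|_Y ≅ C_{Y/X}` (helper19) -/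

namespace Groth.Agent.Helper19.RegSec

open Groth.Agent.Lib.Helper29.QCoh

section scheme

variable {X Y : Scheme.{u}} (n : ℕ) (E : X.Modules) [E.IsQuasicoherent]
  (s : E ⟶ Coh.structureModule X) (i : Y ⟶ X) [IsClosedImmersion i]
  (t : E ⟶ ClSub.idealMod i.ker) [Epi t] (hts : t ≫ ClSub.idealModι i.ker = s)

include hts in
/-- Chart-level bijectivity. -/
theorem chart_bijective {U : X.Opens} (hU : IsAffineOpen U)
    (b : Module.Basis (Fin n) Γ(X, U) (E.val.obj (op U)))
    (hreg : @RingTheory.Sequence.IsWeaklyRegular Γ(X, U) Γ(X, U) _ _ _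
      (List.ofFn fun k => (s.val.app (op U)).hom (b k))) :
    Function.Bijective (((Scheme.Modules.pullback i).map t).app (i ⁻¹ᵁ U)) := by
  apply Groth.Agent.Helper19.PullSectNat.pullback_map_app_bijective i t (hU.preimage i) hU
    (le_refl _)
  letI := (i.appLE U (i ⁻¹ᵁ U) (le_refl _)).hom.toAlgebra
  let ι : Γ(ClSub.idealMod i.ker, U) →ₗ[Γ(X, U)] Γ(X, U) :=
    (Submodule.subtype (i.ker.ideal ⟨U, hU⟩)) ∘ₗ
      (idealModSectionsEquiv i.ker ⟨U, hU⟩).toLinearMap
  refine baseChange_bijective_of_regular (P := Γ(X, U)) (S := Γ(Y, i ⁻¹ᵁ U)) b (appₗ t U) ι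
    ?_ ?_ ?_ ?_
  · change Function.Surjective (i.appLE U (i ⁻¹ᵁ U) (le_refl _)).hom
    rw [Scheme.Hom.appLE_eq_app]
    exact i.app_surjective U hU
  · exact app_surjective_of_epi t hU
  · change RingHom.ker (i.appLE U (i ⁻¹ᵁ U) (le_refl _)).hom = _
    rw [Scheme.Hom.appLE_eq_app, ← Scheme.Hom.ker_apply i ⟨U, hU⟩, LinearMap.range_comp,
      LinearEquiv.range, Submodule.map_top, Submodule.range_subtype]
  · have h1 : ∀ k, ι (appₗ t U (b k)) = (s.val.app (op U)).hom (b k) := by
      intro k
      change fromUnit ((ClSub.idealModι i.ker).app U (t.app U (b k))) = _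
      rw [← hts]
      rfl
    have h2 : (fun k => ι (appₗ t U (b k))) = fun k => (s.val.app (op U)).hom (b k) :=
      funext h1
    exact h2 ▸ hreg

end scheme

end Groth.Agent.Helper19.RegSec
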