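import Mathlib
import Groth.Agent.Helper19.RegNearImm

/-! Two-out-of-three for regular immersions at a point of a locally Noetherian scheme
(helper19). -/

set_option autoImplicit false
set_option linter.style.haveILetI false
universe u

open CategoryTheory AlgebraicGeometry TopologicalSpace

namespace Groth.Agent.Helper19.RegNearImm

open Groth.Agent.Helper19.RegNearAlg

theorem locallyOfFiniteType_of_isImmersion {Y X : Scheme.{u}} (j : Y ⟶ X) [IsImmersion j] :
    LocallyOfFiniteType j := by
  rw [← j.liftCoborder_ι]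
  infer_instance

theorem isLocallyNoetherian_of_isImmersion {Y X : Scheme.{u}} (j : Y ⟶ X) [IsImmersion j]
    [IsLocallyNoetherian X] : IsLocallyNoetherian Y := by
  haveI := locallyOfFiniteType_of_isImmersion j
  exact LocallyOfFiniteType.isLocallyNoetherian j

variable {Z Y X : Scheme.{u}} (i : Z ⟶ Y) (j : Y ⟶ X) [IsImmersion i] [IsImmersion j]
  [IsLocallyNoetherian X] (z : Z)

theorem regularAt_comp_iff_stalk :
    RegImm.IsRegularImmersionAt RegImm.Kind.regular (i ≫ j) z ↔
      CInt.IsRegularIdeal (RingHom.ker ((i.stalkMap z).hom.comp (j.stalkMap (i z)).hom)) := by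
  rw [regularAt_iff_stalk]
  have h : ((i ≫ j).stalkMap z) = j.stalkMap (i z) ≫ i.stalkMap z :=
    Scheme.Hom.stalkMap_comp i j z
  exact Iff.of_eq (congrArg
    (fun f : X.presheaf.stalk ((i ≫ j) z) ⟶ Z.presheaf.stalk z =>
      CInt.IsRegularIdeal (RingHom.ker (CommRingCat.Hom.hom f))) h)

/-- ring-level data at the stalks -/
theorem stalk_data :
    let φ := (j.stalkMap (i z)).hom
    let ψ := (i.stalkMap z).hom
    let K := RingHom.ker (ψ.comp φ)
    Function.Surjective φ ∧ RingHom.ker φ ≤ K ∧
      K ≤ IsLocalRing.maximalIdeal (X.presheaf.stalk (j (i z))) ∧ K.map φ = RingHom.ker ψ := by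
  intro φ ψ K
  have hφ : Function.Surjective φ := j.stalkMap_surjective (i z)
  have hK : K = Ideal.comap φ (RingHom.ker ψ) := by
    rw [RingHom.comap_ker]
  refine ⟨hφ, ?_, ?_, ?_⟩
  · rw [hK]
    intro a ha
    rw [Ideal.mem_comap, RingHom.mem_ker.mp ha]
    exact zero_mem _
  · intro a ha
    rw [IsLocalRing.mem_maximalIdeal, mem_nonunits_iff]
    intro hu
    have h1 : IsUnit ((ψ.comp φ) a) := hu.map _
    rw [RingHom.mem_ker.mp ha] at h1
    exact not_isUnit_zero h1
  · rw [hK, Ideal.map_comap_of_surjective φ hφ]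

theorem regular_comp_at (hi : RegImm.IsRegularImmersionAt RegImm.Kind.regular i z)
    (hj : RegImm.IsRegularImmersionAt RegImm.Kind.regular j (i z)) :
    RegImm.IsRegularImmersionAt RegImm.Kind.regular (i ≫ j) z := by
  haveI := isLocallyNoetherian_of_isImmersion j
  rw [regularAt_comp_iff_stalk]
  rw [regularAt_iff_stalk] at hi hj
  obtain ⟨hφ, hJK, hK, hmap⟩ := stalk_data i j z
  exact regular_of_regular_ker_of_regular_map _ hφ _ hJK hK hj (by rw [hmap]; exact hi)

theorem regular_of_comp_at (hi : RegImm.IsRegularImmersionAt RegImm.Kind.regular i z)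
    (hij : RegImm.IsRegularImmersionAt RegImm.Kind.regular (i ≫ j) z) :
    RegImm.IsRegularImmersionAt RegImm.Kind.regular j (i z) := by
  haveI := isLocallyNoetherian_of_isImmersion j
  rw [regularAt_comp_iff_stalk] at hij
  rw [regularAt_iff_stalk] at hi ⊢
  obtain ⟨hφ, hJK, hK, hmap⟩ := stalk_data i j z
  exact regular_ker_of_regular_map _ hφ _ hJK hK hij (by rw [hmap]; exact hi)

end Groth.Agent.Helper19.RegNearImm
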