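import Mathlib
import Groth.Prelude.Def_RegImm
import Groth.Prelude.Def_Mor2
import Groth.Agent.Helper19.RelRegImm13

/-!
# Slicing by a fibrewise regular sequence: the scheme-level package (helper19)
-/

set_option autoImplicit false
set_option linter.unusedSectionVars false
set_option linter.unusedVariables false
set_option linter.style.haveILetI false
universe u

open AlgebraicGeometry CategoryTheory CategoryTheory.Limits Opposite

namespace Groth.Agent.Helper19.RelRegImm

open Groth.Agent.Lib27.LocalCore Groth.Agent.Helper19.KosLoc Groth.Agent.Helper19.RelGCI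

set_option maxHeartbeats 1600000 in
theorem slice_package {X S : Scheme.{u}} (f : X ⟶ S) [LocallyOfFinitePresentation f]
    (U : X.Opens) (hU : IsAffineOpen U) (V : S.Opens) (hV : IsAffineOpen V) (hUV : U ≤ f ⁻¹ᵁ V)
    (x : X) (hx : x ∈ U) (hs' : List Γ(X, U))
    (htr : letI := (f.appLE V U hUV).hom.toAlgebra
      RegImm.IsTransRegularSeq Γ(S, V) Γ(X, U) hs')
    (hmem : Ideal.ofList hs' ≤ (hU.primeIdealOf ⟨x, hx⟩).asIdeal) :
    Mor2.IsRegularClosedImmersion
        (Spec.map (CommRingCat.ofHom (Ideal.Quotient.mk (Ideal.ofList hs'))) ≫ hU.isoSpec.inv) ∧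
      x ∈ Set.range ⇑(Spec.map (CommRingCat.ofHom (Ideal.Quotient.mk (Ideal.ofList hs'))) ≫
        hU.fromSpec) ∧
      Flat (Spec.map (CommRingCat.ofHom (Ideal.Quotient.mk (Ideal.ofList hs'))) ≫
        hU.fromSpec ≫ f) ∧
      LocallyOfFinitePresentation
        (Spec.map (CommRingCat.ofHom (Ideal.Quotient.mk (Ideal.ofList hs'))) ≫ hU.fromSpec ≫ f) ∧
      ∀ (S' : Scheme.{u}) (g : S' ⟶ S), Mor2.IsRegularClosedImmersion
        (pullback.map (Spec.map (CommRingCat.ofHom (Ideal.Quotient.mk (Ideal.ofList hs'))) ≫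
            hU.isoSpec.inv ≫ U.ι ≫ f) g (U.ι ≫ f) g
          (Spec.map (CommRingCat.ofHom (Ideal.Quotient.mk (Ideal.ofList hs'))) ≫ hU.isoSpec.inv)
          (𝟙 S') (𝟙 S) (Category.comp_id _)
          ((Category.comp_id g).trans (Category.id_comp g).symm)) := by
  haveI : IsAffine ↑U := hU
  set I := Ideal.ofList hs' with hI
  set φ : Γ(X, U) ⟶ CommRingCat.of (Γ(X, U) ⧸ I) := CommRingCat.ofHom (Ideal.Quotient.mk I)
    with hφ
  set i : Spec (CommRingCat.of (Γ(X, U) ⧸ I)) ⟶ ↑U := Spec.map φ ≫ hU.isoSpec.inv with hi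
  haveI hφci : IsClosedImmersion (Spec.map φ) :=
    IsClosedImmersion.spec_of_surjective φ Ideal.Quotient.mk_surjective
  haveI hici : IsClosedImmersion i := inferInstance
  have hiι : i ≫ U.ι = Spec.map φ ≫ hU.fromSpec := by
    rw [hi, Category.assoc, hU.isoSpec_inv_ι]
  have hcompf : Spec.map φ ≫ hU.fromSpec ≫ f =
      Spec.map (f.appLE V U hUV ≫ φ) ≫ hV.fromSpec := by
    rw [← IsAffineOpen.SpecMap_appLE_fromSpec f hV hU hUV, Spec.map_comp, Category.assoc]
  have htrAt := isTransRegularImmersionAt_spec f U hU V hV hUV hs' htr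
  letI algAB : Algebra Γ(S, V) Γ(X, U) := (f.appLE V U hUV).hom.toAlgebra
  have hflI : Module.Flat Γ(S, V) (Γ(X, U) ⧸ I) := by
    have := htr.2 hs'.length le_rfl
    rwa [List.take_length] at this
  refine ⟨isRegularClosedImmersion_of_isTransRegularImmersionAt (U.ι ≫ f) i htrAt, ?_, ?_, ?_, ?_⟩
  · -- `x` lies in the image
    have hkerle : RingHom.ker (Ideal.Quotient.mk I) ≤ (hU.primeIdealOf ⟨x, hx⟩).asIdeal := by
      rw [Ideal.mk_ker]; exact hmem
    let z₀ : Spec (CommRingCat.of (Γ(X, U) ⧸ I)) :=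
      ⟨(hU.primeIdealOf ⟨x, hx⟩).asIdeal.map (Ideal.Quotient.mk I),
        Ideal.map_isPrime_of_surjective Ideal.Quotient.mk_surjective hkerle⟩
    have hz₀ : Spec.map φ z₀ = hU.primeIdealOf ⟨x, hx⟩ := by
      apply PrimeSpectrum.ext
      change ((hU.primeIdealOf ⟨x, hx⟩).asIdeal.map (Ideal.Quotient.mk I)).comap
        (Ideal.Quotient.mk I) = _
      rw [Ideal.comap_map_of_surjective _ Ideal.Quotient.mk_surjective,
        ← RingHom.ker_eq_comap_bot]
      exact sup_eq_left.mpr hkerle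
    refine ⟨z₀, ?_⟩
    rw [Scheme.Hom.comp_apply, hz₀]
    exact hU.fromSpec_primeIdealOf ⟨x, hx⟩
  · -- flat
    rw [hcompf]
    haveI : Flat (Spec.map (f.appLE V U hUV ≫ φ)) := by
      rw [Flat.SpecMap_iff]
      exact (RingHom.flat_algebraMap_iff (R := Γ(S, V)) (S := Γ(X, U) ⧸ I)).mpr hflI
    infer_instance
  · -- locally of finite presentation
    haveI : LocallyOfFinitePresentation (Spec.map φ) := by
      rw [LocallyOfFinitePresentation.SpecMap_iff]
      refine RingHom.FinitePresentation.of_surjective _ Ideal.Quotient.mk_surjective ?_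
      change (RingHom.ker (Ideal.Quotient.mk I)).FG
      rw [Ideal.mk_ker, hI]
      exact Groth.Agent.Lib.Helper23.SliceCM.fg_ofList hs'
    haveI : LocallyOfFinitePresentation hU.fromSpec := inferInstance
    infer_instance
  · -- base change
    intro S' g
    have hsq1 : IsPullback (pullback.fst (U.ι ≫ f) g) (pullback.snd (U.ι ≫ f) g) (U.ι ≫ f) g :=
      IsPullback.of_hasPullback _ _
    have hsq2 : IsPullback (pullback.fst (Spec.map φ ≫ hU.isoSpec.inv ≫ U.ι ≫ f) g)
        (pullback.map (Spec.map φ ≫ hU.isoSpec.inv ≫ U.ι ≫ f) g (U.ι ≫ f) g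
          i (𝟙 S') (𝟙 S) (Category.comp_id _)
          ((Category.comp_id g).trans (Category.id_comp g).symm)) i
        (pullback.fst (U.ι ≫ f) g) := by
      have hbig : IsPullback (pullback.fst (Spec.map φ ≫ hU.isoSpec.inv ≫ U.ι ≫ f) g)
          (pullback.snd (Spec.map φ ≫ hU.isoSpec.inv ≫ U.ι ≫ f) g)
          (Spec.map φ ≫ hU.isoSpec.inv ≫ U.ι ≫ f) g := IsPullback.of_hasPullback _ _
      refine (IsPullback.of_right (h₁₂ := pullback.snd (U.ι ≫ f) g) (h₂₂ := U.ι ≫ f)
        (v₁₃ := g) ?_ ?_ hsq1.flip).flip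
      · have h1 : pullback.map (Spec.map φ ≫ hU.isoSpec.inv ≫ U.ι ≫ f) g (U.ι ≫ f) g
            i (𝟙 S') (𝟙 S) (Category.comp_id _)
            ((Category.comp_id g).trans (Category.id_comp g).symm) ≫ pullback.snd (U.ι ≫ f) g =
            pullback.snd (Spec.map φ ≫ hU.isoSpec.inv ≫ U.ι ≫ f) g := by
          rw [pullback.lift_snd, Category.comp_id]
        rw [h1]
        have h2 : i ≫ U.ι ≫ f = Spec.map φ ≫ hU.isoSpec.inv ≫ U.ι ≫ f := by
          rw [hi, Category.assoc]
        rw [h2]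
        exact hbig.flip
      · rw [pullback.lift_fst]
    haveI : IsClosedImmersion (pullback.map (Spec.map φ ≫ hU.isoSpec.inv ≫ U.ι ≫ f) g
        (U.ι ≫ f) g i (𝟙 S') (𝟙 S) (Category.comp_id _)
        ((Category.comp_id g).trans (Category.id_comp g).symm)) :=
      MorphismProperty.of_isPullback (P := @IsClosedImmersion) hsq2 hici
    refine isRegularClosedImmersion_of_isTransRegularImmersionAt (pullback.snd (U.ι ≫ f) g) _
      (fun z' => ?_)
    exact isTransRegularImmersionAt_of_isPullback (U.ι ≫ f) i g _ _ _ _ hsq1 hsq2 z' (htrAt _)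

end Groth.Agent.Helper19.RelRegImm
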