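import Mathlib
import Groth.Prelude.Def_RegImm
import Groth.Prelude.Def_Mor2
import Groth.Agent.Helper19.RelRegImm14

/-!
# Slicing by a fibrewise regular sequence: existence of the chart (helper19)
-/

set_option autoImplicit false
set_option linter.unusedSectionVars false
set_option linter.unusedVariables false
set_option linter.style.haveILetI false
universe u

open AlgebraicGeometry CategoryTheory CategoryTheory.Limits Opposite

namespace Groth.Agent.Helper19.RelRegImm

open Groth.Agent.Lib27.LocalCore Groth.Agent.Helper19.KosLoc Groth.Agent.Helper19.RelGCI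

set_option maxHeartbeats 1600000 in
theorem exists_slice_chart {X S : Scheme.{u}} (f : X ⟶ S) [LocallyOfFinitePresentation f] (x : X)
    (hflat : (f.stalkMap x).hom.Flat) (hs : List (X.presheaf.stalk x))
    (hreg : RingTheory.Sequence.IsRegular (X.presheaf.stalk x ⧸
        Ideal.map (f.stalkMap x).hom (IsLocalRing.maximalIdeal (S.presheaf.stalk (f x))))
      (hs.map (Ideal.Quotient.mk (Ideal.map (f.stalkMap x).hom
        (IsLocalRing.maximalIdeal (S.presheaf.stalk (f x))))))) :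
    ∃ (U : X.Opens) (hU : IsAffineOpen U) (hx : x ∈ U) (V : S.Opens) (hV : IsAffineOpen V)
      (hUV : U ≤ f ⁻¹ᵁ V) (hs' : List Γ(X, U)),
      hs'.map (X.presheaf.germ U x hx).hom = hs ∧
      (letI := (f.appLE V U hUV).hom.toAlgebra;
        RegImm.IsTransRegularSeq Γ(S, V) Γ(X, U) hs') ∧
      Ideal.ofList hs' ≤ (hU.primeIdealOf ⟨x, hx⟩).asIdeal := by
  classical
  obtain ⟨W, hW, hfxW, -⟩ := exists_affine_nhds_le (⊤ : S.Opens) (f x) trivial
  obtain ⟨V, hV, hxV, hVW, bs, hbs⟩ := exists_affine_sections x (f ⁻¹ᵁ W) hfxW hs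
  have hfp : RingHom.FinitePresentation (f.appLE W V hVW).hom :=
    HasRingHomProperty.appLE (P := @LocallyOfFinitePresentation) f inferInstance ⟨W, hW⟩ ⟨V, hV⟩
      hVW
  letI algAB : Algebra Γ(S, W) Γ(X, V) := (f.appLE W V hVW).hom.toAlgebra
  haveI : Algebra.FinitePresentation Γ(S, W) Γ(X, V) := hfp
  letI algBL : Algebra Γ(X, V) (X.presheaf.stalk x) := X.presheaf.algebra_section_stalk ⟨x, hxV⟩
  haveI locL : IsLocalization.AtPrime (X.presheaf.stalk x) (hV.primeIdealOf ⟨x, hxV⟩).asIdeal :=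
    hV.isLocalization_stalk ⟨x, hxV⟩
  letI algAL : Algebra Γ(S, W) (X.presheaf.stalk x) :=
    ((algebraMap Γ(X, V) (X.presheaf.stalk x)).comp (algebraMap Γ(S, W) Γ(X, V))).toAlgebra
  haveI towerL : IsScalarTower Γ(S, W) Γ(X, V) (X.presheaf.stalk x) :=
    IsScalarTower.of_algebraMap_eq (fun _ => rfl)
  have hcomp : (f.stalkMap x).hom.comp (S.presheaf.germ W (f x) hfxW).hom =
      algebraMap Γ(S, W) (X.presheaf.stalk x) := by
    ext a
    change f.stalkMap x (S.presheaf.germ W (f x) hfxW a) =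
      X.presheaf.germ V x hxV (f.appLE W V hVW a)
    rw [Scheme.Hom.germ_stalkMap_apply, Scheme.Hom.appLE, CommRingCat.comp_apply,
      X.presheaf.germ_res_apply]
  haveI flatL : Module.Flat Γ(S, W) (X.presheaf.stalk x) := by
    have h1 : (S.presheaf.germ W (f x) hfxW).hom.Flat := by
      letI := S.presheaf.algebra_section_stalk ⟨f x, hfxW⟩
      haveI := hW.isLocalization_stalk ⟨f x, hfxW⟩
      exact RingHom.flat_algebraMap_iff.mpr
        (IsLocalization.flat (S.presheaf.stalk (f x))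
          (hW.primeIdealOf ⟨f x, hfxW⟩).asIdeal.primeCompl)
    have h2 := RingHom.Flat.comp h1 hflat
    rw [hcomp] at h2
    exact RingHom.flat_algebraMap_iff.mp h2
  have hp : (hW.primeIdealOf ⟨f x, hfxW⟩).asIdeal =
      (hV.primeIdealOf ⟨x, hxV⟩).asIdeal.comap (algebraMap Γ(S, W) Γ(X, V)) :=
    congr($(IsAffineOpen.comap_primeIdealOf_appLE W hW V hV hVW hxV).1).symm
  have hJ : Ideal.map (f.stalkMap x).hom (IsLocalRing.maximalIdeal (S.presheaf.stalk (f x))) =
      fibIdeal (A := Γ(S, W)) (hV.primeIdealOf ⟨x, hxV⟩).asIdeal (X.presheaf.stalk x) := by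
    letI := S.presheaf.algebra_section_stalk ⟨f x, hfxW⟩
    haveI := hW.isLocalization_stalk ⟨f x, hfxW⟩
    have hmax := IsLocalization.AtPrime.map_eq_maximalIdeal
      (hW.primeIdealOf ⟨f x, hfxW⟩).asIdeal (S.presheaf.stalk (f x))
    rw [← hmax, Ideal.map_map, fibIdeal, ← hp]
    exact congrArg (fun φ => Ideal.map φ (hW.primeIdealOf ⟨f x, hfxW⟩).asIdeal) hcomp
  have hreg' : RingTheory.Sequence.IsRegular (X.presheaf.stalk x ⧸
        Ideal.map (f.stalkMap x).hom (IsLocalRing.maximalIdeal (S.presheaf.stalk (f x))))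
      ((bs.map (algebraMap Γ(X, V) (X.presheaf.stalk x))).map (Ideal.Quotient.mk
        (Ideal.map (f.stalkMap x).hom (IsLocalRing.maximalIdeal (S.presheaf.stalk (f x)))))) := by
    have : bs.map (algebraMap Γ(X, V) (X.presheaf.stalk x)) = hs := hbs
    rw [this]
    exact hreg
  obtain ⟨hbsq, g, hgq, H⟩ := exists_transReg_away' (A := Γ(S, W))
    (hV.primeIdealOf ⟨x, hxV⟩).asIdeal (X.presheaf.stalk x) _ hJ bs hreg'
  have hxU : x ∈ X.basicOpen g := by
    rw [Scheme.mem_basicOpen X g x hxV]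
    exact IsLocalization.map_units (X.presheaf.stalk x)
      (⟨g, hgq⟩ : (hV.primeIdealOf ⟨x, hxV⟩).asIdeal.primeCompl)
  have hU : IsAffineOpen (X.basicOpen g) := hV.basicOpen g
  have hle : X.basicOpen g ≤ V := X.basicOpen_le g
  have hUW : X.basicOpen g ≤ f ⁻¹ᵁ W := hle.trans hVW
  letI algPg : Algebra Γ(X, V) Γ(X, X.basicOpen g) :=
    (X.presheaf.map (homOfLE hle).op).hom.toAlgebra
  letI algAg : Algebra Γ(S, W) Γ(X, X.basicOpen g) := (f.appLE W (X.basicOpen g) hUW).hom.toAlgebra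
  haveI : IsScalarTower Γ(S, W) Γ(X, V) Γ(X, X.basicOpen g) :=
    IsScalarTower.of_algebraMap_eq fun a => by
      change (f.appLE W (X.basicOpen g) hUW).hom a =
        (X.presheaf.map (homOfLE hle).op).hom ((f.appLE W V hVW).hom a)
      rw [← Scheme.Hom.appLE_map f hVW (homOfLE hle).op]
      rfl
  haveI : IsLocalization.Away g Γ(X, X.basicOpen g) :=
    hV.isLocalization_of_eq_basicOpen g (homOfLE hle) rfl
  obtain ⟨hw, hfl⟩ := H Γ(X, X.basicOpen g)
  refine ⟨X.basicOpen g, hU, hxU, W, hW, hUW, bs.map (X.presheaf.map (homOfLE hle).op).hom,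
    ?_, ⟨hw, fun j _ => ?_⟩, ?_⟩
  · rw [List.map_map, ← hbs]
    apply List.map_congr_left
    intro b _
    exact X.presheaf.germ_res_apply (homOfLE hle) x hxU b
  · have := hfl j
    rwa [List.map_take] at this
  · rw [Ideal.ofList, Ideal.span_le]
    intro r hr
    obtain ⟨b, hb, rfl⟩ := List.mem_map.mp hr
    letI := X.presheaf.algebra_section_stalk ⟨x, hxU⟩
    haveI := hU.isLocalization_stalk ⟨x, hxU⟩
    rw [SetLike.mem_coe, ← IsLocalization.AtPrime.to_map_mem_maximal_iff (X.presheaf.stalk x)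
      (hU.primeIdealOf ⟨x, hxU⟩).asIdeal]
    have h1 : algebraMap Γ(X, X.basicOpen g) (X.presheaf.stalk x)
        ((X.presheaf.map (homOfLE hle).op).hom b) = algebraMap Γ(X, V) (X.presheaf.stalk x) b :=
      X.presheaf.germ_res_apply (homOfLE hle) x hxU b
    rw [h1]
    exact (IsLocalization.AtPrime.to_map_mem_maximal_iff (X.presheaf.stalk x)
      (hV.primeIdealOf ⟨x, hxV⟩).asIdeal b).mpr (hbsq b hb)

end Groth.Agent.Helper19.RelRegImm
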