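import Mathlib
import Groth.Agent.Helper19.Conormal7
import Groth.Agent.Helper19.UnivConormal
set_option autoImplicit false
set_option linter.style.haveILetI false
set_option linter.unusedSectionVars false
universe u

open CategoryTheory CategoryTheory.Limits AlgebraicGeometry
open scoped TensorProduct

/-! # Square-zero ideals: principal of order two iff invertible conormal module (helper19) -/

namespace Groth.Agent.Helper19.Ribbon

open Groth.Agent.Helper19.OmegaAlg

section ring

variable {A B : Type u} [CommRing A] [CommRing B] [Algebra A B] (I : Ideal A)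
  (hI : RingHom.ker (algebraMap A B) = I) (hs : Function.Surjective (algebraMap A B))
  (hsq : I ^ 2 = ⊥)

include hI hs hsq in
theorem free_of_principal (z : A) (hz : I = Ideal.span {z}) (hann : ∀ a : A, a * z = 0 → a ∈ I) :
    Nonempty ((B ⊗[A] I) ≃ₗ[B] (Fin 1 →₀ B)) := by
  have hzI : z ∈ I := by rw [hz]; exact Ideal.mem_span_singleton_self z
  let t : B ⊗[A] I := (1 : B) ⊗ₜ[A] (⟨z, hzI⟩ : I)
  let F : (Fin 1 →₀ B) →ₗ[B] (B ⊗[A] I) :=
    (LinearMap.toSpanSingleton B (B ⊗[A] I) t) ∘ₗ (Finsupp.lapply (0 : Fin 1))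
  have hF : ∀ c : Fin 1 →₀ B, F c = c 0 • t := fun c => rfl
  have hat : ∀ a : A, algebraMap A B a • t = (1 : B) ⊗ₜ[A] (⟨a * z, I.mul_mem_left a hzI⟩ : I) := by
    intro a
    change algebraMap A B a • ((1 : B) ⊗ₜ[A] (⟨z, hzI⟩ : I)) = _
    rw [TensorProduct.smul_tmul', smul_eq_mul, mul_one]
    have : (⟨a * z, I.mul_mem_left a hzI⟩ : I) = a • (⟨z, hzI⟩ : I) := rfl
    rw [this, TensorProduct.tmul_smul, TensorProduct.smul_tmul', Algebra.smul_def, mul_one]
  have hinj : Function.Injective F := by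
    rw [injective_iff_map_eq_zero]
    intro c hc
    rw [hF] at hc
    obtain ⟨a, ha⟩ := hs (c 0)
    rw [← ha, hat, one_tmul_eq_zero_iff' I hI hs, hsq, Ideal.mem_bot] at hc
    have h1 : a ∈ I := hann a hc
    have h2 : algebraMap A B a = 0 := by
      rw [← hI] at h1; exact h1
    apply Finsupp.ext
    intro k
    have hk : k = 0 := Subsingleton.elim _ _
    rw [hk, ← ha, h2]
    rfl
  have hsurj : Function.Surjective F := by
    intro y
    obtain ⟨x, rfl⟩ := exists_one_tmul' I hI hs y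
    have hx : x.1 ∈ Ideal.span {z} := hz ▸ x.2
    obtain ⟨a, ha⟩ := Ideal.mem_span_singleton'.mp hx
    refine ⟨Finsupp.single 0 (algebraMap A B a), ?_⟩
    rw [hF, Finsupp.single_eq_same, hat]
    congr 1
    exact Subtype.ext ha
  exact ⟨(LinearEquiv.ofBijective F ⟨hinj, hsurj⟩).symm⟩

include hI hs hsq in
theorem principal_of_free (e : (B ⊗[A] I) ≃ₗ[B] (Fin 1 →₀ B)) :
    ∃ z : A, I = Ideal.span {z} ∧ ∀ a : A, a * z = 0 → a ∈ I := by
  obtain ⟨z, hz⟩ := exists_one_tmul' I hI hs (e.symm (Finsupp.single 0 1))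
  have hat : ∀ a : A, algebraMap A B a • ((1 : B) ⊗ₜ[A] z) =
      (1 : B) ⊗ₜ[A] (⟨a * z.1, I.mul_mem_left a z.2⟩ : I) := by
    intro a
    rw [TensorProduct.smul_tmul', smul_eq_mul, mul_one]
    have : (⟨a * z.1, I.mul_mem_left a z.2⟩ : I) = a • z := rfl
    rw [this, TensorProduct.tmul_smul, TensorProduct.smul_tmul', Algebra.smul_def, mul_one]
  refine ⟨z.1, ?_, ?_⟩
  · apply le_antisymm
    · intro x hx
      obtain ⟨a, ha⟩ := hs (e ((1 : B) ⊗ₜ[A] (⟨x, hx⟩ : I)) 0)
      have h1 : e ((1 : B) ⊗ₜ[A] (⟨x, hx⟩ : I)) = algebraMap A B a • Finsupp.single 0 1 := by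
        apply Finsupp.ext
        intro k
        have hk : k = 0 := Subsingleton.elim _ _
        rw [hk, Finsupp.smul_apply, Finsupp.single_eq_same, smul_eq_mul, mul_one, ha]
      have h2 : (1 : B) ⊗ₜ[A] (⟨x, hx⟩ : I) = algebraMap A B a • ((1 : B) ⊗ₜ[A] z) := by
        apply e.injective
        rw [h1, map_smul, ← hz, LinearEquiv.apply_symm_apply]
      rw [hat] at h2
      have h3 : (1 : B) ⊗ₜ[A] ((⟨x, hx⟩ : I) - ⟨a * z.1, I.mul_mem_left a z.2⟩) = 0 := by
        rw [TensorProduct.tmul_sub, h2, sub_self]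
      rw [one_tmul_eq_zero_iff' I hI hs, hsq, Ideal.mem_bot] at h3
      have h4 : x = a * z.1 := sub_eq_zero.mp h3
      rw [h4]
      exact Ideal.mem_span_singleton'.mpr ⟨a, rfl⟩
    · rw [Ideal.span_singleton_le_iff_mem]
      exact z.2
  · intro a ha
    have h1 : algebraMap A B a • ((1 : B) ⊗ₜ[A] z) = 0 := by
      rw [hat]
      have : (⟨a * z.1, I.mul_mem_left a z.2⟩ : I) = 0 := Subtype.ext ha
      rw [this, TensorProduct.tmul_zero]
    have h2 : algebraMap A B a • Finsupp.single (0 : Fin 1) (1 : B) = 0 := by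
      have := congrArg e h1
      rw [map_smul, ← hz, LinearEquiv.apply_symm_apply, map_zero] at this
      exact this
    have h3 : algebraMap A B a = 0 := by
      have := congrArg (fun c : Fin 1 →₀ B => c 0) h2
      simpa [Algebra.smul_def] using this
    rw [← hI]
    exact h3

end ring

end Groth.Agent.Helper19.Ribbon
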