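import Mathlib
import Groth.Agent.Helper19.Ribbon7
import Groth.Agent.Helper19.Conormal3
import Groth.Agent.S9370
set_option autoImplicit false
set_option linter.style.haveILetI false
set_option linter.unusedSectionVars false
universe u

open CategoryTheory CategoryTheory.Limits AlgebraicGeometry Opposite TopologicalSpace

/-! # Ribbons: the map on restricted differentials induced by a lift (helper19) -/

namespace Groth.Agent.Helper19.Ribbon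

open Groth.Agent.Lib.Helper29.QCoh Groth.Agent.Helper19.Conormal
  Groth.Agent.Helper19.UnivConormal Groth.Agent.Helper19.UnivDer

section Gen

variable {X' X S : Scheme.{u}} (h : X' ⟶ X) {f : X ⟶ S} {Ω : X.Modules} (d : OmegaSh.Der f Ω)
  (hd : OmegaSh.IsUniversal d)

include hd in
/-- Maps out of the pullback of the universal differentials are determined by their values on
the pulled-back differentials. -/
theorem hom_ext_of_universal {M : X'.Modules} (u u' : (Scheme.Modules.pullback h).obj Ω ⟶ M)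
    (huu : ∀ (V : X.Opens) (r : Γ(X, V)),
      u.app (h ⁻¹ᵁ V) (pullSect h Ω V (d.app V r)) =
        u'.app (h ⁻¹ᵁ V) (pullSect h Ω V (d.app V r))) : u = u' := by
  let adj := Scheme.Modules.pullbackPushforwardAdjunction h
  apply (adj.homEquiv Ω M).injective
  obtain ⟨γ, -, hγu⟩ := hd _ (d.postcomp (adj.homEquiv Ω M u').val)
  have h1 : adj.homEquiv Ω M u = γ := by
    apply hγu
    apply Groth.Agent.Helper19.OmegaD.der_ext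
    intro W s
    rw [Groth.Agent.Helper19.OmegaD.postcomp_app, Groth.Agent.Helper19.OmegaD.postcomp_app,
      Groth.Agent.S9370.homEquiv_app, Groth.Agent.S9370.homEquiv_app]
    exact huu W s
  have h2 : adj.homEquiv Ω M u' = γ := hγu _ rfl
  rw [h1, h2]

end Gen

section Lift

variable {S S' S'' D C X : Scheme.{u}} (i : D ⟶ C) (f : D ⟶ X) (g : C ⟶ X)
  {pC : C ⟶ S} {pX : X ⟶ S'} {Ω₁ : C.Modules} (d₁ : OmegaSh.Der pC Ω₁)
  {Ω₃ : X.Modules} (d₃ : OmegaSh.Der pX Ω₃)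

/-- `s : f^*Ω₃ → i^*Ω₁` is the map induced by the lift `g` of `f` on the pulled-back
differentials. -/
def IsLiftDiff (s : (Scheme.Modules.pullback f).obj Ω₃ ⟶ (Scheme.Modules.pullback i).obj Ω₁) :
    Prop :=
  ∀ (V : X.Opens) (r : Γ(X, V)) (le : f ⁻¹ᵁ V ≤ i ⁻¹ᵁ (g ⁻¹ᵁ V)),
    s.app (f ⁻¹ᵁ V) (pullSect f Ω₃ V (d₃.app V r)) =
      res ((Scheme.Modules.pullback i).obj Ω₁) le
        (pullSect i Ω₁ (g ⁻¹ᵁ V) (d₁.app (g ⁻¹ᵁ V) (g.app V r)))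

theorem exists_isLiftDiff (hg : i ≫ g = f)
    (dg : (Scheme.Modules.pullback g).obj Ω₃ ⟶ Ω₁) (hdg : OmegaSh.IsDiffCompat g d₃ d₁ dg) :
    ∃ s : (Scheme.Modules.pullback f).obj Ω₃ ⟶ (Scheme.Modules.pullback i).obj Ω₁,
      IsLiftDiff i f g d₁ d₃ s := by
  subst hg
  refine ⟨(Scheme.Modules.pullbackComp i g).inv.app Ω₃ ≫ (Scheme.Modules.pullback i).map dg, ?_⟩
  intro V r le
  have e1 := pullbackComp_inv_pullSect i g Ω₃ V (d₃.app V r)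
  have e2 := pullSect_naturality i dg (g ⁻¹ᵁ V) (pullSect g Ω₃ V (d₃.app V r))
  have e3 : dg.app (g ⁻¹ᵁ V) (pullSect g Ω₃ V (d₃.app V r)) =
      d₁.app (g ⁻¹ᵁ V) (g.app V r) := hdg V r
  change ((Scheme.Modules.pullback i).map dg).app (i ⁻¹ᵁ (g ⁻¹ᵁ V))
    (((Scheme.Modules.pullbackComp i g).inv.app Ω₃).app ((i ≫ g) ⁻¹ᵁ V)
      (pullSect (i ≫ g) Ω₃ V (d₃.app V r))) = _
  rw [e1, e2, e3]
  exact (res_self _ _).symm

theorem isLiftDiff_comp_diffCompat {S'' : Scheme.{u}} (hg : i ≫ g = f)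
    (hd₃ : OmegaSh.IsUniversal d₃)
    (s : (Scheme.Modules.pullback f).obj Ω₃ ⟶ (Scheme.Modules.pullback i).obj Ω₁)
    (hs : IsLiftDiff i f g d₁ d₃ s) {pD : D ⟶ S''} {Ω₂ : D.Modules} (d₂ : OmegaSh.Der pD Ω₂)
    (c : (Scheme.Modules.pullback i).obj Ω₁ ⟶ Ω₂) (hc : OmegaSh.IsDiffCompat i d₁ d₂ c)
    (df : (Scheme.Modules.pullback f).obj Ω₃ ⟶ Ω₂) (hdf : OmegaSh.IsDiffCompat f d₃ d₂ df) :
    s ≫ c = df := by
  subst hg
  apply hom_ext_of_universal (i ≫ g) d₃ hd₃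
  intro V r
  have h1 : c.app (i ⁻¹ᵁ (g ⁻¹ᵁ V)) (pullSect i Ω₁ (g ⁻¹ᵁ V) (d₁.app (g ⁻¹ᵁ V) (g.app V r))) =
      d₂.app (i ⁻¹ᵁ (g ⁻¹ᵁ V)) (i.app (g ⁻¹ᵁ V) (g.app V r)) := hc (g ⁻¹ᵁ V) (g.app V r)
  have h2 : df.app ((i ≫ g) ⁻¹ᵁ V) (pullSect (i ≫ g) Ω₃ V (d₃.app V r)) =
      d₂.app ((i ≫ g) ⁻¹ᵁ V) ((i ≫ g).app V r) := hdf V r
  rw [app_comp, hs V r (le_refl _), h2]
  refine Eq.trans ?_ h1
  exact congrArg _ (res_self _ _)

end Lift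

section Comp

variable {S S' D C C' : Scheme.{u}} (i : D ⟶ C) (i' : D ⟶ C') (g : C ⟶ C') (g' : C' ⟶ C)
  {pC : C ⟶ S} {pC' : C' ⟶ S'} {Ω₁ : C.Modules} (d₁ : OmegaSh.Der pC Ω₁)
  {Ω₁' : C'.Modules} (d₁' : OmegaSh.Der pC' Ω₁')

theorem pullSect_id_helper (θ : C' ⟶ C') (hθ : θ = 𝟙 C') (V : C'.Opens) (r : Γ(C', V))
    (le : i' ⁻¹ᵁ V ≤ i' ⁻¹ᵁ (θ ⁻¹ᵁ V)) :
    res ((Scheme.Modules.pullback i').obj Ω₁') le
      (pullSect i' Ω₁' (θ ⁻¹ᵁ V) (d₁'.app (θ ⁻¹ᵁ V) (θ.app V r))) =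
      pullSect i' Ω₁' V (d₁'.app V r) := by
  subst hθ
  exact res_self _ _

theorem isLiftDiff_comp_eq_id (hd₁' : OmegaSh.IsUniversal d₁') (hgg : g' ≫ g = 𝟙 C')
    (s₁ : (Scheme.Modules.pullback i').obj Ω₁' ⟶ (Scheme.Modules.pullback i).obj Ω₁)
    (h₁ : IsLiftDiff i i' g d₁ d₁' s₁)
    (s₂ : (Scheme.Modules.pullback i).obj Ω₁ ⟶ (Scheme.Modules.pullback i').obj Ω₁')
    (h₂ : IsLiftDiff i' i g' d₁' d₁ s₂)
    (hg : i ≫ g = i') (hg' : i' ≫ g' = i) : s₁ ≫ s₂ = 𝟙 _ := by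
  apply hom_ext_of_universal i' d₁' hd₁'
  intro V r
  have le₁ : i' ⁻¹ᵁ V ≤ i ⁻¹ᵁ (g ⁻¹ᵁ V) := by rw [← hg]; exact le_refl _
  have le₂ : ∀ W : C.Opens, i ⁻¹ᵁ W ≤ i' ⁻¹ᵁ (g' ⁻¹ᵁ W) := by
    intro W; rw [← hg']; exact le_refl _
  rw [app_comp, h₁ V r le₁, app_res, h₂ (g ⁻¹ᵁ V) (g.app V r) (le₂ _), res_res]
  exact pullSect_id_helper i' d₁' (g' ≫ g) hgg V r _

end Comp

end Groth.Agent.Helper19.Ribbon
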