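import Groth.Agent.S14236
import Groth.Agent.S14249
import Mathlib.LinearAlgebra.RootSystem.BaseExists
open RootCh RootCh.Facet
universe u v w x
set_option linter.style.haveILetI false
set_option linter.unusedSectionVars false

namespace Groth.Agent.Helper19.RootCham

variable {ι : Type u} {R : Type v} {M : Type w} {N : Type x}
    [Field R] [LinearOrder R] [IsStrictOrderedRing R]
    [AddCommGroup M] [Module R M] [AddCommGroup N] [Module R N] [Finite ι]
    (P : RootPairing ι R M N) [P.IsRootSystem] [P.IsCrystallographic] [P.IsReduced]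

open Groth.Agent.S14236 in
/-- existence of a regular vector -/
theorem exists_regular : ∃ η : M, ∀ i, P.coroot' i η ≠ 0 := by
  apply Module.Dual.exists_forall_ne_zero_of_forall_exists (fun i => P.coroot' i)
  intro i
  refine ⟨P.root i, ?_⟩
  rw [P.root_coroot'_eq_pairing, P.pairing_same]
  norm_num

/-- A regular vector lies in the open chamber of some base. -/
theorem exists_base_of_regular (ξ : M) (hξ : ∀ i, P.coroot' i ξ ≠ 0) :
    ∃ b : P.Base, ∀ i ∈ b.support, 0 < P.coroot' i ξ := by
  classical
  haveI := Fintype.ofFinite ι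
  let f : Module.Dual R M := P.RootForm ξ
  have hf2 : ∀ i, 2 * f (P.root i) = P.RootForm (P.root i) (P.root i) * P.coroot' i ξ := by
    intro i
    rw [Groth.Agent.S14236.rootForm_coroot']
    show 2 * P.RootForm ξ (P.root i) = _
    have := P.rootForm_symmetric.eq ξ (P.root i)
    simp only [RingHom.id_apply] at this
    rw [this]
  have hf : ∀ i, f (P.root i) ≠ 0 := by
    intro i h
    have := hf2 i
    rw [h, mul_zero] at this
    rcases mul_eq_zero.mp this.symm with h1 | h1
    · exact (Groth.Agent.S14236.rootForm_root_pos P i).ne' h1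
    · exact hξ i h1
  let := P.indexNeg
  let b : P.Base := RootPairing.Base.mk' P (IsAddIndecomposable.baseOf P.root (f : M →+ R))
    (P.linearIndepOn_root_baseOf' f hf)
    (fun i ↦ IsAddIndecomposable.mem_or_neg_mem_closure_baseOf P.root (f : M →+ R) i (hf i) (by simp))
  refine ⟨b, fun i hi => ?_⟩
  have hi' : i ∈ IsAddIndecomposable.baseOf P.root (f : M →+ R) := by
    simpa [b, RootPairing.Base.mk'] using hi
  have hpos : 0 < f (P.root i) := IsAddIndecomposable.baseOf_subset_pos P.root (f : M →+ R) hi'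
  have h2 := hf2 i
  have h3 := Groth.Agent.S14236.rootForm_root_pos P i
  by_contra hneg
  rw [not_lt] at hneg
  have : P.RootForm (P.root i) (P.root i) * P.coroot' i ξ ≤ 0 :=
    mul_nonpos_of_nonneg_of_nonpos h3.le hneg
  linarith

omit [Finite ι] in
theorem exists_eps {α : Type*} (s : Finset α) (a c : α → R) :
    ∃ ε : R, 0 < ε ∧ ∀ ε', 0 < ε' → ε' ≤ ε → ∀ i ∈ s, 0 < a i → 0 < a i + ε' * c i := by
  classical
  induction s using Finset.induction_on with
  | empty => exact ⟨1, one_pos, by simp⟩
  | insert j s hj ih =>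
    obtain ⟨ε, hε, h⟩ := ih
    by_cases haj : 0 < a j
    · refine ⟨min ε (a j / (|c j| + 1)), lt_min hε (div_pos haj (by positivity)), ?_⟩
      intro ε' hε' hle i hi hai
      rcases Finset.mem_insert.mp hi with rfl | hi
      · have h1 : ε' ≤ a i / (|c i| + 1) := hle.trans (min_le_right _ _)
        have h2 : ε' * (|c i| + 1) ≤ a i := by rwa [le_div_iff₀ (by positivity)] at h1
        have h3 : -|c i| ≤ c i := neg_abs_le _
        nlinarith [mul_nonneg hε'.le (by linarith : 0 ≤ c i + |c i|)]
      · exact h ε' hε' (hle.trans (min_le_left _ _)) i hi hai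
    · refine ⟨ε, hε, ?_⟩
      intro ε' hε' hle i hi hai
      rcases Finset.mem_insert.mp hi with rfl | hi
      · exact absurd hai haj
      · exact h ε' hε' hle i hi hai

/-- perturbation to a regular vector keeping the strict signs -/
theorem exists_perturb (ξ : M) : ∃ ξ' : M, (∀ i, P.coroot' i ξ' ≠ 0) ∧
    ∀ i, 0 < P.coroot' i ξ → 0 < P.coroot' i ξ' := by
  classical
  haveI := Fintype.ofFinite ι
  obtain ⟨η, hη⟩ := exists_regular P
  obtain ⟨ε, hε, h⟩ := exists_eps (R := R) (Finset.univ : Finset ι) (fun i => P.coroot' i ξ)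
    (fun i => P.coroot' i η)
  have hpos : ∀ i, 0 < P.coroot' i ξ → 0 < P.coroot' i (ξ + ε • η) := by
    intro i hi
    rw [map_add, map_smul, smul_eq_mul]
    exact h ε hε le_rfl i (Finset.mem_univ _) hi
  refine ⟨ξ + ε • η, fun i => ?_, hpos⟩
  rcases lt_trichotomy (P.coroot' i ξ) 0 with h1 | h1 | h1
  · have h2 := hpos (P.reflectionPerm i i) (by
      rw [Groth.Agent.S14236.coroot'_ng]; linarith)
    rw [Groth.Agent.S14236.coroot'_ng] at h2
    intro h3; rw [h3] at h2; simp at h2
  · rw [map_add, map_smul, smul_eq_mul, h1, zero_add]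
    exact mul_ne_zero hε.ne' (hη i)
  · exact (hpos i h1).ne'

/-- every facet is adjacent to some chamber -/
theorem exists_cham (F : RootCh.Facet P) : ∃ b : P.Base, b ∈ F.cham := by
  obtain ⟨ξ, hξ⟩ := F.exists_sgnVec_eq
  obtain ⟨ξ', hreg, hpos⟩ := exists_perturb P ξ
  obtain ⟨b, hb⟩ := exists_base_of_regular P ξ' hreg
  refine ⟨b, ?_⟩
  intro ζ hζ i hi
  have hζ' : sgnVec P ζ = sgnVec P ξ := hζ.trans hξ.symm
  have h1 : SignType.sign (P.coroot' i ζ) = SignType.sign (P.coroot' i ξ) := congrFun hζ' i
  by_contra hneg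
  rw [not_le] at hneg
  have h2 : P.coroot' i ξ < 0 := by
    rw [← sign_eq_neg_one_iff, ← h1, sign_eq_neg_one_iff]; exact hneg
  have h3 := hpos (P.reflectionPerm i i) (by rw [Groth.Agent.S14236.coroot'_ng]; linarith)
  rw [Groth.Agent.S14236.coroot'_ng] at h3
  have h4 := hb i hi
  linarith

/-- the closure of a facet lies in the closed chamber of any adjacent chamber -/
theorem closure_subset_closedChamber (F : RootCh.Facet P) (b : P.Base) (hb : b ∈ F.cham) :
    F.closure ⊆ closedChamber b := by
  obtain ⟨ξ, hξ⟩ := F.exists_sgnVec_eq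
  intro w hw i hi
  have h0 : 0 ≤ P.coroot' i ξ := hb (show ξ ∈ F.carrier from hξ) i hi
  have hs : F.sgn i = SignType.sign (P.coroot' i ξ) := (congrFun hξ i).symm
  rcases hw i with h | h
  · exact (sign_eq_zero_iff.mp h).ge
  · by_contra hneg
    rw [not_le] at hneg
    have h1 : SignType.sign (P.coroot' i w) = -1 := sign_eq_neg_one_iff.mpr hneg
    have h2 : SignType.sign (P.coroot' i ξ) = -1 := by
      rw [← hs, ← h]; exact h1
    rw [sign_eq_neg_one_iff] at h2
    linarith

theorem sgn_nonneg_of_cham (F : RootCh.Facet P) (b : P.Base) (hb : b ∈ F.cham) (i : ι)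
    (hi : i ∈ b.support) : F.sgn i = 0 ∨ F.sgn i = 1 := by
  obtain ⟨ξ, hξ⟩ := F.exists_sgnVec_eq
  have h0 : 0 ≤ P.coroot' i ξ := hb (show ξ ∈ F.carrier from hξ) i hi
  have hs : F.sgn i = SignType.sign (P.coroot' i ξ) := (congrFun hξ i).symm
  rw [hs]
  rcases h0.eq_or_lt with h | h
  · left; rw [← h]; exact sign_zero
  · right; exact sign_eq_one_iff.mpr h

/-- fundamental weights of simple roots positive on the facet are corners of the facet -/
theorem fundWeight_mem_corners (F : RootCh.Facet P) (b : P.Base) (hb : b ∈ F.cham)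
    (j : b.support) (hj : F.sgn j = 1) : fundWeight b j ∈ F.corners := by
  refine ⟨⟨b, j, rfl⟩, ?_⟩
  obtain ⟨ξ, hξ⟩ := F.exists_sgnVec_eq
  have hξb : ξ ∈ closedChamber b := hb (show ξ ∈ F.carrier from hξ)
  have hs : ∀ i, F.sgn i = SignType.sign (P.coroot' i ξ) := fun i => (congrFun hξ i).symm
  have hpos : 0 < P.coroot' j ξ := sign_eq_one_iff.mp ((hs j).symm.trans hj)
  intro k
  show SignType.sign (P.toLinearMap (fundWeight b j) (P.coroot k)) = 0 ∨
    SignType.sign (P.toLinearMap (fundWeight b j) (P.coroot k)) = F.sgn k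
  rw [hs k]
  show _ ∨ _ = SignType.sign (P.toLinearMap ξ (P.coroot k))
  rcases b.coroot_mem_or_neg_mem k with h | h
  · obtain ⟨a1, a2, a3⟩ := Groth.Agent.S14249.key_closure b ξ hξb j hpos _ h
    rcases a1.eq_or_lt with h0 | h0
    · left; rw [← h0]; exact sign_zero
    · right
      have : 0 < P.toLinearMap ξ (P.coroot k) := by
        rcases a2.eq_or_lt with h1 | h1
        · exact absurd (a3 h1.symm) h0.ne'
        · exact h1
      rw [sign_eq_one_iff.mpr h0, sign_eq_one_iff.mpr this]
  · obtain ⟨a1, a2, a3⟩ := Groth.Agent.S14249.key_closure b ξ hξb j hpos _ h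
    simp only [map_neg] at a1 a2 a3
    rcases a1.eq_or_lt with h0 | h0
    · left
      have : P.toLinearMap (fundWeight b j) (P.coroot k) = 0 := by linarith
      rw [this]; exact sign_zero
    · right
      have h0' : P.toLinearMap (fundWeight b j) (P.coroot k) < 0 := by linarith
      have : P.toLinearMap ξ (P.coroot k) < 0 := by
        rcases a2.eq_or_lt with h1 | h1
        · have := a3 h1.symm; linarith
        · linarith
      rw [sign_eq_neg_one_iff.mpr h0', sign_eq_neg_one_iff.mpr this]

/-- vectors killed by the simple coroots vanishing on the facet are in the span of the corners -/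
theorem mem_span_corners (F : RootCh.Facet P) (b : P.Base) (hb : b ∈ F.cham) (x : M)
    (hx : ∀ i ∈ b.support, F.sgn i = 0 → P.coroot' i x = 0) :
    x ∈ Submodule.span R F.corners := by
  rw [Groth.Agent.S14249.expand b x]
  refine Submodule.sum_mem _ (fun i _ => ?_)
  rcases sgn_nonneg_of_cham P F b hb i i.2 with h | h
  · rw [hx i i.2 h, zero_smul]; exact Submodule.zero_mem _
  · exact Submodule.smul_mem _ _ (Submodule.subset_span (fundWeight_mem_corners P F b hb i h))

/-- a coroot nonnegative on all corners is nonnegative on the facet -/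
theorem coroot'_nonneg_of_corners (F : RootCh.Facet P) (ξ : M) (hξ : ξ ∈ F.carrier) (k : ι)
    (hk : ∀ m ∈ F.corners, 0 ≤ P.coroot' k m) : 0 ≤ P.coroot' k ξ := by
  obtain ⟨b, hb⟩ := exists_cham P F
  rw [Groth.Agent.S14249.expand b ξ, map_sum]
  refine Finset.sum_nonneg (fun i _ => ?_)
  rw [map_smul, smul_eq_mul]
  have hs : F.sgn i = SignType.sign (P.coroot' i ξ) := (congrFun hξ i).symm
  rcases sgn_nonneg_of_cham P F b hb i i.2 with h | h
  · rw [hs, sign_eq_zero_iff] at h
    rw [h, zero_mul]
  · have h1 : 0 < P.coroot' i ξ := by rw [hs, sign_eq_one_iff] at h; exact h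
    exact mul_nonneg h1.le (hk _ (fundWeight_mem_corners P F b hb i h))

theorem root'_polarization [Fintype ι] (k : ι) (m : M) :
    P.root' k (P.Polarization m) * 2 = P.RootForm (P.root k) (P.root k) * P.coroot' k m := by
  rw [Groth.Agent.S14236.rootForm_coroot']
  show P.toLinearMap (P.root k) (P.Polarization m) * 2 = _
  rw [P.toLinearMap_apply_apply_Polarization]
  have := P.rootForm_symmetric.eq m (P.root k)
  simp only [RingHom.id_apply] at this
  rw [this]; ring

/-- two vectors of N pairing equally with the simple roots of a base are equal -/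
theorem eq_of_root'_eq (b : P.Base) (x y : N)
    (h : ∀ j ∈ b.support, P.root' j x = P.root' j y) : x = y := by
  rw [Groth.Agent.S14249.expand (P := P.flip) b.flip x,
    Groth.Agent.S14249.expand (P := P.flip) b.flip y]
  refine Finset.sum_congr rfl (fun j _ => ?_)
  congr 1
  exact h j j.2

theorem polarization_fundWeight [Fintype ι] (b : P.Base) (i : b.support) :
    P.Polarization (fundWeight b i) =
      (P.RootForm (P.root i) (P.root i) / 2) • fundCoweight b i := by
  classical
  apply eq_of_root'_eq P b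
  intro j hj
  have h1 := root'_polarization P j (fundWeight b i)
  rw [map_smul, smul_eq_mul]
  by_cases hji : (⟨j, hj⟩ : b.support) = i
  · subst hji
    rw [show P.coroot' j (fundWeight b ⟨j, hj⟩) = 1 from coroot'_fundWeight_self b ⟨j, hj⟩] at h1
    rw [show P.root' j (fundCoweight b ⟨j, hj⟩) = 1 from root'_fundCoweight_self b ⟨j, hj⟩]
    linarith
  · rw [show P.coroot' j (fundWeight b i) = 0 from coroot'_fundWeight_of_ne b i ⟨j, hj⟩ hji] at h1
    rw [show P.root' j (fundCoweight b i) = 0 from root'_fundCoweight_of_ne b i ⟨j, hj⟩ hji]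
    linarith

/-- the fundamental coweight corresponding to a fundamental weight pairs with the roots as a
positive multiple of the (length-weighted) pairing of the weight with the coroots -/
theorem corr_root' (m : M) (y : N) (h : Corr P m y) :
    ∃ c : R, 0 < c ∧ ∀ k, ∃ a : R, 0 < a ∧ P.root' k y = c * (a * P.coroot' k m) := by
  classical
  haveI := Fintype.ofFinite ι
  obtain ⟨b, i, rfl, rfl⟩ := h
  have hpos := Groth.Agent.S14236.rootForm_root_pos P i
  refine ⟨(P.RootForm (P.root i) (P.root i))⁻¹, inv_pos.mpr hpos, fun k => ?_⟩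
  refine ⟨P.RootForm (P.root k) (P.root k), Groth.Agent.S14236.rootForm_root_pos P k, ?_⟩
  have h1 := root'_polarization P k (fundWeight b i)
  rw [polarization_fundWeight, map_smul, smul_eq_mul] at h1
  rw [← h1]
  field_simp

theorem corr_root'_nonneg_iff (m : M) (y : N) (h : Corr P m y) (k : ι) :
    0 ≤ P.root' k y ↔ 0 ≤ P.coroot' k m := by
  obtain ⟨c, hc, hk⟩ := corr_root' P m y h
  obtain ⟨a, ha, e⟩ := hk k
  rw [e]
  constructor
  · intro h1
    by_contra hneg
    rw [not_le] at hneg
    have : c * (a * P.coroot' k m) < 0 :=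
      mul_neg_of_pos_of_neg hc (mul_neg_of_pos_of_neg ha hneg)
    linarith
  · intro h1
    exact mul_nonneg hc.le (mul_nonneg ha.le h1)

theorem corr_root'_eq_zero_iff (m : M) (y : N) (h : Corr P m y) (k : ι) :
    P.root' k y = 0 ↔ P.coroot' k m = 0 := by
  obtain ⟨c, hc, hk⟩ := corr_root' P m y h
  obtain ⟨a, ha, e⟩ := hk k
  rw [e]
  constructor
  · intro h1
    rcases mul_eq_zero.mp h1 with h2 | h2
    · exact absurd h2 hc.ne'
    · rcases mul_eq_zero.mp h2 with h3 | h3
      · exact absurd h3 ha.ne'
      · exact h3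
  · intro h1; rw [h1, mul_zero, mul_zero]

end Groth.Agent.Helper19.RootCham
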