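import Groth.Agent.Helper19.RootGallery
import Groth.Agent.S14235
open RootCh RootCh.Facet
universe u v w x
set_option linter.style.haveILetI false
set_option linter.unusedSectionVars false

namespace Groth.Agent.Helper19.RootFacet

variable {ι : Type u} {R : Type v} {M : Type w} {N : Type x}
    [Field R] [LinearOrder R] [IsStrictOrderedRing R]
    [AddCommGroup M] [Module R M] [AddCommGroup N] [Module R N] [Finite ι]
    (P : RootPairing ι R M N) [P.IsRootSystem] [P.IsCrystallographic] [P.IsReduced]

open Groth.Agent.Helper19.RootCham Groth.Agent.Helper19.RootGallery Groth.Agent.S14236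

/-- the corners of a facet are the fundamental weights of an adjacent base attached to the
simple roots positive on the facet -/
theorem corners_eq_image (F : RootCh.Facet P) (b : P.Base) (hb : b ∈ F.cham) :
    F.corners = fundWeight b '' {j : b.support | F.sgn j = 1} := by
  ext m
  constructor
  · intro hm
    have hmb : m ∈ baseCorners b := ⟨hm.1, closure_subset_closedChamber P F b hb hm.2⟩
    obtain ⟨j, rfl⟩ := eq_fundWeight_of_mem_baseCorners P b m hmb
    refine ⟨j, ?_, rfl⟩
    have h1 : sgnVec P (fundWeight b j) j = 1 := by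
      show SignType.sign (P.coroot' j (fundWeight b j)) = 1
      rw [coroot'_fundWeight_self, sign_one]
    rcases hm.2 j with h | h
    · rw [h1] at h; exact absurd h (by decide)
    · rw [h1] at h; exact h.symm
  · rintro ⟨j, hj, rfl⟩
    exact fundWeight_mem_corners P F b hb j hj

open scoped Classical in
theorem linearIndependent_fundWeight (b : P.Base) : LinearIndependent R (fundWeight b) := by
  rw [linearIndependent_iff']
  intro s g hg k hk
  have := congrArg (P.coroot' k) hg
  rw [map_sum, map_zero] at this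
  rw [Finset.sum_eq_single k] at this
  · rw [map_smul, smul_eq_mul, coroot'_fundWeight_self, mul_one] at this
    exact this
  · intro j _ hj
    rw [map_smul, smul_eq_mul, coroot'_fundWeight_of_ne b j k (Ne.symm hj), mul_zero]
  · intro h; exact absurd hk h

/-- adding a vector of the closure to a vector of the facet stays in the facet -/
theorem add_mem_carrier (F : RootCh.Facet P) (ξ m : M) (hξ : ξ ∈ F.carrier) (hm : m ∈ F.closure) :
    ξ + m ∈ F.carrier := by
  funext i
  show SignType.sign (P.coroot' i (ξ + m)) = F.sgn i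
  have h1 : SignType.sign (P.coroot' i ξ) = F.sgn i := congrFun hξ i
  have h2 : SignType.sign (P.coroot' i m) = 0 ∨ SignType.sign (P.coroot' i m) = F.sgn i := hm i
  rw [map_add, ← h1]
  rw [← h1] at h2
  rcases h2 with h2 | h2
  · rw [sign_eq_zero_iff] at h2; rw [h2, add_zero]
  · rcases lt_trichotomy (P.coroot' i ξ) 0 with h | h | h
    · rw [sign_eq_neg_one_iff.mpr h] at h2 ⊢
      rw [sign_eq_neg_one_iff] at h2 ⊢; linarith
    · rw [h, sign_zero, sign_eq_zero_iff] at h2; rw [h, h2, add_zero]
    · rw [sign_eq_one_iff.mpr h] at h2 ⊢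
      rw [sign_eq_one_iff] at h2 ⊢; linarith

/-- every root not vanishing on the facet is non-zero on some corner -/
theorem exists_corner_ne_zero (F : RootCh.Facet P) (i : ι) (hi : F.sgn i ≠ 0) :
    ∃ m ∈ F.corners, P.coroot' i m ≠ 0 := by
  by_contra hcon
  push Not at hcon
  obtain ⟨ξ, hξ⟩ := F.exists_sgnVec_eq
  have h1 := coroot'_nonneg_of_corners P F ξ hξ i (fun m hm => (hcon m hm).ge)
  have h2 := coroot'_nonneg_of_corners P F ξ hξ (P.reflectionPerm i i) (fun m hm => by
    rw [coroot'_ng, hcon m hm, neg_zero])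
  rw [coroot'_ng] at h2
  have h3 : P.coroot' i ξ = 0 := by linarith
  apply hi
  have : F.sgn i = SignType.sign (P.coroot' i ξ) := (congrFun hξ i).symm
  rw [this, h3, sign_zero]

/-- a positive combination of vectors of the closure, involving enough of them, lies in the
facet -/
theorem pos_comb_mem_carrier (F : RootCh.Facet P) (t : Finset M) (c : M → R)
    (hc : ∀ m ∈ t, 0 < c m) (ht : ∀ m ∈ t, m ∈ F.closure)
    (hne : ∀ i, F.sgn i ≠ 0 → ∃ m ∈ t, P.coroot' i m ≠ 0) :
    ∑ m ∈ t, c m • m ∈ F.carrier := by
  funext i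
  show SignType.sign (P.coroot' i (∑ m ∈ t, c m • m)) = F.sgn i
  rw [map_sum]
  simp_rw [map_smul, smul_eq_mul]
  have hcl : ∀ m ∈ t, SignType.sign (P.coroot' i m) = 0 ∨
      SignType.sign (P.coroot' i m) = F.sgn i := fun m hm => ht m hm i
  rcases hs' : F.sgn i with _ | _ | _
  · have hs : F.sgn i = 0 := hs'
    show SignType.sign _ = (0 : SignType)
    rw [sign_eq_zero_iff]
    refine Finset.sum_eq_zero (fun m hm => ?_)
    have := hcl m hm
    rw [hs, or_self, sign_eq_zero_iff] at this
    rw [this, mul_zero]
  · have hs : F.sgn i = -1 := hs'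
    show SignType.sign _ = (-1 : SignType)
    rw [sign_eq_neg_one_iff]
    obtain ⟨m0, hm0, hne0⟩ := hne i (by rw [hs]; decide)
    have hle : ∀ m ∈ t, P.coroot' i m ≤ 0 := by
      intro m hm
      rcases hcl m hm with h | h
      · exact (sign_eq_zero_iff.mp h).le
      · rw [hs] at h; exact (sign_eq_neg_one_iff.mp h).le
    refine Finset.sum_neg' (fun m hm => mul_nonpos_of_nonneg_of_nonpos (hc m hm).le (hle m hm))
      ⟨m0, hm0, mul_neg_of_pos_of_neg (hc m0 hm0) (lt_of_le_of_ne (hle m0 hm0) hne0)⟩
  · have hs : F.sgn i = 1 := hs'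
    show SignType.sign _ = (1 : SignType)
    rw [sign_eq_one_iff]
    obtain ⟨m0, hm0, hne0⟩ := hne i (by rw [hs]; decide)
    have hle : ∀ m ∈ t, 0 ≤ P.coroot' i m := by
      intro m hm
      rcases hcl m hm with h | h
      · exact (sign_eq_zero_iff.mp h).ge
      · rw [hs] at h; exact (sign_eq_one_iff.mp h).le
    refine Finset.sum_pos' (fun m hm => mul_nonneg (hc m hm).le (hle m hm))
      ⟨m0, hm0, mul_pos (hc m0 hm0) (lt_of_le_of_ne (hle m0 hm0) (Ne.symm hne0))⟩

theorem corners_finite (F : RootCh.Facet P) : F.corners.Finite := by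
  obtain ⟨b, hb⟩ := exists_cham P F
  rw [corners_eq_image P F b hb]
  exact Set.toFinite _

open scoped Classical in
/-- the facet attached to a set of simple roots of a base -/
theorem exists_facet_of_subset (b : P.Base) (J : Set b.support) :
    ∃ G : RootCh.Facet P, b ∈ G.cham ∧ G.corners = fundWeight b '' J := by
  obtain ⟨ξ, hξ⟩ : ∃ ξ : M, ξ = ∑ j ∈ Finset.univ.filter (fun j : b.support => j ∈ J),
      fundWeight b j := ⟨_, rfl⟩
  have hpair : ∀ k : b.support, P.coroot' k ξ = if k ∈ J then 1 else 0 := by
    intro k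
    rw [hξ, map_sum]
    split_ifs with hk
    · rw [Finset.sum_eq_single k]
      · exact coroot'_fundWeight_self b k
      · intro j _ hj
        exact coroot'_fundWeight_of_ne b j k (Ne.symm hj)
      · intro h
        exact absurd (Finset.mem_filter.mpr ⟨Finset.mem_univ _, hk⟩) h
    · refine Finset.sum_eq_zero (fun j hj => ?_)
      have hjJ : j ∈ J := (Finset.mem_filter.mp hj).2
      have : k ≠ j := by rintro rfl; exact hk hjJ
      exact coroot'_fundWeight_of_ne b j k this
  have hcham : b ∈ (Facet.ofVec P ξ).cham := by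
    intro ζ hζ k hk
    have h1 : SignType.sign (P.coroot' k ζ) = SignType.sign (P.coroot' k ξ) := congrFun hζ k
    have h2 := hpair ⟨k, hk⟩
    simp only at h2
    rw [h2] at h1
    by_contra hneg
    rw [not_le] at hneg
    rw [sign_eq_neg_one_iff.mpr hneg] at h1
    split_ifs at h1
    · rw [sign_one] at h1; exact absurd h1 (by decide)
    · rw [sign_zero] at h1; exact absurd h1 (by decide)
  refine ⟨Facet.ofVec P ξ, hcham, ?_⟩
  rw [corners_eq_image P _ b hcham]
  congr 1
  ext k
  show SignType.sign (P.coroot' k ξ) = 1 ↔ k ∈ J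
  rw [hpair k]
  split_ifs with hk
  · simp [hk]
  · simp [hk]

end Groth.Agent.Helper19.RootFacet
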