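import Groth.Agent.Helper19.RootCham
open RootCh RootCh.Facet
universe u v w x
set_option linter.style.haveILetI false
set_option linter.unusedSectionVars false

namespace Groth.Agent.Helper19.RootGallery

variable {ι : Type u} {R : Type v} {M : Type w} {N : Type x}
    [Field R] [LinearOrder R] [IsStrictOrderedRing R]
    [AddCommGroup M] [Module R M] [AddCommGroup N] [Module R N] [Finite ι]
    (P : RootPairing ι R M N) [P.IsRootSystem] [P.IsCrystallographic] [P.IsReduced]

open Groth.Agent.Helper19.RootCham Groth.Agent.S14236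

/-- the base obtained by applying the reflection `s_i` to all simple roots -/
def reflBase (b : P.Base) (i : ι) : P.Base where
  support := b.support.map (P.reflectionPerm i).toEmbedding
  linearIndepOn_root := by
    rw [Finset.coe_map]
    apply LinearIndepOn.image_of_comp
    have : P.root ∘ (P.reflectionPerm i).toEmbedding = (P.reflection i).toLinearMap ∘ P.root := by
      funext j; exact P.root_reflectionPerm i j
    rw [this]
    exact b.linearIndepOn_root.map_injOn _ (P.reflection i).injective.injOn
  linearIndepOn_coroot := by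
    rw [Finset.coe_map]
    apply LinearIndepOn.image_of_comp
    have : P.coroot ∘ (P.reflectionPerm i).toEmbedding =
        (P.coreflection i).toLinearMap ∘ P.coroot := by
      funext j; exact P.coroot_reflectionPerm i j
    rw [this]
    exact b.linearIndepOn_coroot.map_injOn _ (P.coreflection i).injective.injOn
  root_mem_or_neg_mem j := by
    rw [Finset.coe_map]
    have himg : P.root '' ((P.reflectionPerm i).toEmbedding '' (b.support : Set ι)) =
        (P.reflection i : M →+ M) '' (P.root '' b.support) := by
      rw [Set.image_image, Set.image_image]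
      refine Set.image_congr (fun k _ => ?_)
      exact P.root_reflectionPerm i k
    rw [himg, ← AddMonoidHom.map_mclosure]
    have hj : P.root j = (P.reflection i : M →+ M) (P.root (P.reflectionPerm i j)) := by
      show P.root j = P.reflection i (P.root (P.reflectionPerm i j))
      rw [P.root_reflectionPerm, P.reflection_same]
    rcases b.root_mem_or_neg_mem (P.reflectionPerm i j) with h | h
    · left; rw [hj]; exact AddSubmonoid.mem_map_of_mem _ h
    · right; rw [hj, ← map_neg]; exact AddSubmonoid.mem_map_of_mem _ h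
  coroot_mem_or_neg_mem j := by
    rw [Finset.coe_map]
    have himg : P.coroot '' ((P.reflectionPerm i).toEmbedding '' (b.support : Set ι)) =
        (P.coreflection i : N →+ N) '' (P.coroot '' b.support) := by
      rw [Set.image_image, Set.image_image]
      refine Set.image_congr (fun k _ => ?_)
      exact P.coroot_reflectionPerm i k
    rw [himg, ← AddMonoidHom.map_mclosure]
    have hj : P.coroot j = (P.coreflection i : N →+ N) (P.coroot (P.reflectionPerm i j)) := by
      show P.coroot j = P.coreflection i (P.coroot (P.reflectionPerm i j))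
      rw [P.coroot_reflectionPerm, P.coreflection_same]
    rcases b.coroot_mem_or_neg_mem (P.reflectionPerm i j) with h | h
    · left; rw [hj]; exact AddSubmonoid.mem_map_of_mem _ h
    · right; rw [hj, ← map_neg]; exact AddSubmonoid.mem_map_of_mem _ h

theorem mem_reflBase_support (b : P.Base) (i j : ι) :
    j ∈ (reflBase P b i).support ↔ P.reflectionPerm i j ∈ b.support := by
  show j ∈ b.support.map (P.reflectionPerm i).toEmbedding ↔ _
  rw [Finset.mem_map]
  constructor
  · rintro ⟨k, hk, rfl⟩
    show P.reflectionPerm i (P.reflectionPerm i k) ∈ b.support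
    rw [P.reflectionPerm_self]; exact hk
  · intro h
    exact ⟨_, h, P.reflectionPerm_self i j⟩

theorem rootForm_root [Fintype ι] (ξ : M) (k : ι) :
    2 * P.RootForm ξ (P.root k) = P.RootForm (P.root k) (P.root k) * P.coroot' k ξ := by
  rw [rootForm_coroot']
  have := P.rootForm_symmetric.eq ξ (P.root k)
  simp only [RingHom.id_apply] at this
  rw [this]

theorem rootForm_root_nonneg [Fintype ι] (ξ : M) (k : ι) (h : 0 ≤ P.coroot' k ξ) :
    0 ≤ P.RootForm ξ (P.root k) := by
  have h1 := rootForm_root P ξ k
  have h2 := rootForm_root_pos P k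
  have : 0 ≤ P.RootForm (P.root k) (P.root k) * P.coroot' k ξ := mul_nonneg h2.le h
  linarith

theorem rootForm_root_pos' [Fintype ι] (ξ : M) (k : ι) (h : 0 < P.coroot' k ξ) :
    0 < P.RootForm ξ (P.root k) := by
  have h1 := rootForm_root P ξ k
  have h2 := rootForm_root_pos P k
  have : 0 < P.RootForm (P.root k) (P.root k) * P.coroot' k ξ := mul_pos h2 h
  linarith

theorem coroot'_nonneg_of_rootForm [Fintype ι] (ξ : M) (k : ι)
    (h : 0 ≤ P.RootForm ξ (P.root k)) : 0 ≤ P.coroot' k ξ := by
  have h1 := rootForm_root P ξ k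
  have h2 := rootForm_root_pos P k
  by_contra hneg
  rw [not_le] at hneg
  have : P.RootForm (P.root k) (P.root k) * P.coroot' k ξ < 0 := mul_neg_of_pos_of_neg h2 hneg
  linarith

theorem coroot'_pos_of_rootForm [Fintype ι] (ξ : M) (k : ι)
    (h : 0 < P.RootForm ξ (P.root k)) : 0 < P.coroot' k ξ := by
  have h1 := rootForm_root P ξ k
  have h2 := rootForm_root_pos P k
  by_contra hneg
  rw [not_lt] at hneg
  have : P.RootForm (P.root k) (P.root k) * P.coroot' k ξ ≤ 0 :=
    mul_nonpos_of_nonneg_of_nonpos h2.le hneg
  linarith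

/-- positive roots pair non-negatively with the closed chamber -/
theorem coroot'_nonneg_of_isPos (b : P.Base) (ξ : M) (hξ : ξ ∈ closedChamber b) (j : ι)
    (hj : b.IsPos j) : 0 ≤ P.coroot' j ξ := by
  classical
  haveI := Fintype.ofFinite ι
  apply coroot'_nonneg_of_rootForm
  obtain ⟨f, hf, h | h⟩ := b.exists_root_eq_sum_nat_or_neg j
  · rw [h, map_sum]
    refine Finset.sum_nonneg (fun k hk => ?_)
    rw [map_nsmul]
    exact nsmul_nonneg (rootForm_root_nonneg P ξ k (hξ k hk)) _
  · exfalso
    have h' : P.root j = ∑ k ∈ b.support, (fun k => -(f k : ℤ)) k • P.root k := by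
      rw [h, ← Finset.sum_neg_distrib]
      refine Finset.sum_congr rfl (fun k _ => ?_)
      simp
    have hh := RootPairing.Base.height_eq_sum h'
    rw [RootPairing.Base.isPos_iff, hh] at hj
    have : ∑ k ∈ b.support, -(f k : ℤ) ≤ 0 :=
      Finset.sum_nonpos (fun k _ => by simp)
    omega

/-- for a vector of the open chamber, positivity of a root is positivity of the pairing -/
theorem isPos_iff_coroot'_pos (b : P.Base) (ξ : M) (hξ : ξ ∈ openChamber b) (j : ι) :
    b.IsPos j ↔ 0 < P.coroot' j ξ := by
  classical
  haveI := Fintype.ofFinite ι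
  have hcl : ξ ∈ closedChamber b := fun k hk => (hξ k hk).le
  constructor
  · intro hj
    apply coroot'_pos_of_rootForm
    obtain ⟨f, hf, h | h⟩ := b.exists_root_eq_sum_nat_or_neg j
    · rw [h, map_sum]
      have hne : ∃ k ∈ b.support, f k ≠ 0 := by
        by_contra hcon
        push Not at hcon
        apply P.ne_zero j
        rw [h]
        exact Finset.sum_eq_zero (fun k hk => by rw [hcon k hk, zero_smul])
      obtain ⟨k0, hk0, hfk0⟩ := hne
      refine Finset.sum_pos' (fun k hk => ?_) ⟨k0, hk0, ?_⟩
      · rw [map_nsmul]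
        exact nsmul_nonneg (rootForm_root_nonneg P ξ k (hcl k hk)) _
      · rw [map_nsmul]
        exact nsmul_pos (rootForm_root_pos' P ξ k0 (hξ k0 hk0)) hfk0
    · exfalso
      have h' : P.root j = ∑ k ∈ b.support, (fun k => -(f k : ℤ)) k • P.root k := by
        rw [h, ← Finset.sum_neg_distrib]
        refine Finset.sum_congr rfl (fun k _ => ?_)
        simp
      have hh := RootPairing.Base.height_eq_sum h'
      rw [RootPairing.Base.isPos_iff, hh] at hj
      have : ∑ k ∈ b.support, -(f k : ℤ) ≤ 0 :=
        Finset.sum_nonpos (fun k _ => by simp)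
      omega
  · intro hj
    by_contra hneg
    let := P.indexNeg
    have h1 : b.IsPos (-j) := (RootPairing.Base.IsPos.neg_iff_not b j).mpr hneg
    have h2 := coroot'_nonneg_of_isPos P b ξ hcl _ h1
    have h3 : P.coroot' (-j) ξ = - P.coroot' j ξ := coroot'_ng P j ξ
    rw [h3] at h2
    linarith

/-- the sum of the fundamental weights of a base -/
noncomputable def rho (b : P.Base) : M := ∑ j : b.support, fundWeight b j

open scoped Classical in
theorem coroot'_rho (b : P.Base) (k : ι) (hk : k ∈ b.support) : P.coroot' k (rho P b) = 1 := by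
  rw [rho, map_sum]
  rw [Finset.sum_eq_single (⟨k, hk⟩ : b.support)]
  · exact coroot'_fundWeight_self b ⟨k, hk⟩
  · intro j _ hj
    exact coroot'_fundWeight_of_ne b j ⟨k, hk⟩ (Ne.symm hj)
  · intro h; exact absurd (Finset.mem_univ _) h

theorem rho_mem_openChamber (b : P.Base) : rho P b ∈ openChamber b := by
  intro k hk
  rw [coroot'_rho P b k hk]; exact one_pos

theorem refl_rho_mem_openChamber (b : P.Base) (i : ι) :
    P.reflection i (rho P b) ∈ openChamber (reflBase P b i) := by
  intro k hk
  rw [mem_reflBase_support] at hk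
  rw [P.coroot'_reflection, coroot'_rho P b _ hk]
  exact one_pos

/-- positivity for the reflected base -/
theorem isPos_reflBase (b : P.Base) (i j : ι) :
    (reflBase P b i).IsPos j ↔ b.IsPos (P.reflectionPerm i j) := by
  rw [isPos_iff_coroot'_pos P _ _ (refl_rho_mem_openChamber P b i),
    isPos_iff_coroot'_pos P _ _ (rho_mem_openChamber P b), P.coroot'_reflection]

/-- a nonnegative-integer valued pairing -/
theorem natCast_pairing (b : P.Base) (i : b.support) (n : N)
    (hn : n ∈ AddSubmonoid.closure (P.coroot '' b.support)) :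
    ∃ z : ℕ, P.toLinearMap (fundWeight b i) n = z := by
  classical
  induction hn using AddSubmonoid.closure_induction with
  | mem x hx =>
    obtain ⟨j, hj, rfl⟩ := hx
    have h1 : P.toLinearMap (fundWeight b i) (P.coroot j) =
        if (⟨j, hj⟩ : b.support) = i then 1 else 0 :=
      Groth.Agent.S14249.coroot'_fundWeight b i ⟨j, hj⟩
    rw [h1]
    split_ifs
    · exact ⟨1, by simp⟩
    · exact ⟨0, by simp⟩
  | zero => exact ⟨0, by simp⟩
  | add x y _ _ hx hy =>
    obtain ⟨a, ha⟩ := hx
    obtain ⟨c, hc⟩ := hy
    exact ⟨a + c, by rw [map_add, ha, hc]; push_cast; rfl⟩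

theorem natCast_coroot' (b : P.Base) (i : b.support) (k : ι)
    (hpos : 0 < P.coroot' k (fundWeight b i)) : ∃ z : ℕ, 1 ≤ z ∧ P.coroot' k (fundWeight b i) = z := by
  rcases b.coroot_mem_or_neg_mem k with h | h
  · obtain ⟨z, hz⟩ := natCast_pairing P b i _ h
    have hz' : P.coroot' k (fundWeight b i) = z := hz
    refine ⟨z, ?_, hz'⟩
    rw [hz'] at hpos
    exact_mod_cast hpos
  · obtain ⟨z, hz⟩ := natCast_pairing P b i _ h
    rw [map_neg] at hz
    have hz' : P.coroot' k (fundWeight b i) = -(z : R) := by
      show P.toLinearMap (fundWeight b i) (P.coroot k) = _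
      rw [← hz, neg_neg]
    rw [hz'] at hpos
    have : (0 : R) ≤ z := Nat.cast_nonneg z
    linarith

/-- a fundamental weight lying in the closed chamber of a base is a fundamental weight of
that base -/
theorem eq_fundWeight_of_mem_baseCorners (b : P.Base) (μ : M) (hμ : μ ∈ baseCorners b) :
    ∃ j : b.support, μ = fundWeight b j := by
  classical
  obtain ⟨⟨b₃, i₃, rfl⟩, hcl⟩ := hμ
  have hcl₃ : fundWeight b₃ i₃ ∈ closedChamber b₃ :=
    (Groth.Agent.S14249.fundWeight_mem_baseCorners b₃ i₃).2
  have hexp := Groth.Agent.S14249.expand b (fundWeight b₃ i₃)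
  -- some coefficient is positive
  have hex : ∃ j : b.support, 0 < P.coroot' j (fundWeight b₃ i₃) := by
    by_contra hcon
    push Not at hcon
    have hz : fundWeight b₃ i₃ = 0 := by
      rw [hexp]
      refine Finset.sum_eq_zero (fun j _ => ?_)
      rw [le_antisymm (hcon j) (hcl j j.2), zero_smul]
    have := coroot'_fundWeight_self b₃ i₃
    rw [hz, map_zero] at this
    exact zero_ne_one this
  obtain ⟨j, hj⟩ := hex
  have hmem : ∀ j' : b.support, 0 < P.coroot' j' (fundWeight b₃ i₃) →
      fundWeight b j' ∈ closedChamber b₃ := fun j' hj' =>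
    Groth.Agent.S14249.fundWeight_mem_closedChamber b b₃ _ hcl hcl₃ j' hj'
  -- vanishing of the other coordinates of λ_j
  have hvan : ∀ k : b₃.support, k ≠ i₃ → P.coroot' k (fundWeight b j) = 0 := by
    intro k hk
    have h0 : P.coroot' k (fundWeight b₃ i₃) = 0 := coroot'_fundWeight_of_ne b₃ i₃ k hk
    have hsum : P.coroot' k (fundWeight b₃ i₃) =
        ∑ j' : b.support, P.coroot' j' (fundWeight b₃ i₃) * P.coroot' k (fundWeight b j') := by
      conv_lhs => rw [hexp]
      rw [map_sum]
      refine Finset.sum_congr rfl (fun j' _ => ?_)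
      rw [map_smul, smul_eq_mul]
    rw [h0] at hsum
    have hnn : ∀ j' ∈ (Finset.univ : Finset b.support),
        0 ≤ P.coroot' j' (fundWeight b₃ i₃) * P.coroot' k (fundWeight b j') := by
      intro j' _
      rcases (hcl j' j'.2).eq_or_lt with h | h
      · rw [← h, zero_mul]
      · exact mul_nonneg h.le (hmem j' h k k.2)
    have := (Finset.sum_eq_zero_iff_of_nonneg hnn).mp hsum.symm j (Finset.mem_univ _)
    rcases mul_eq_zero.mp this with h | h
    · exact absurd h hj.ne'
    · exact h
  -- λ_j = e • μ
  have hexp₃ := Groth.Agent.S14249.expand b₃ (fundWeight b j)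
  rw [Finset.sum_eq_single i₃ (fun k _ hk => by rw [hvan k hk, zero_smul])
    (fun h => absurd (Finset.mem_univ _) h)] at hexp₃
  have hprod : P.coroot' i₃ (fundWeight b j) * P.coroot' j (fundWeight b₃ i₃) = 1 := by
    have := congrArg (P.coroot' j) hexp₃
    rw [map_smul, smul_eq_mul, coroot'_fundWeight_self] at this
    exact this.symm
  have hepos : 0 < P.coroot' i₃ (fundWeight b j) := by
    by_contra hneg
    rw [not_lt] at hneg
    have : P.coroot' i₃ (fundWeight b j) * P.coroot' j (fundWeight b₃ i₃) ≤ 0 :=
      mul_nonpos_of_nonpos_of_nonneg hneg hj.le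
    rw [hprod] at this
    exact absurd this (by norm_num)
  obtain ⟨z, hz1, hz⟩ := natCast_coroot' P b₃ i₃ j hj
  obtain ⟨z', hz1', hz'⟩ := natCast_coroot' P b j i₃ hepos
  rw [hz, hz'] at hprod
  have hzz : z' * z = 1 := by exact_mod_cast hprod
  have hz'1 : z' = 1 := Nat.eq_one_of_mul_eq_one_right hzz
  refine ⟨j, ?_⟩
  rw [hz', hz'1, Nat.cast_one, one_smul] at hexp₃
  exact hexp₃.symm

theorem baseCorners_eq_range (b : P.Base) : baseCorners b = Set.range (fundWeight b) := by
  ext μ
  constructor
  · intro h
    obtain ⟨j, rfl⟩ := eq_fundWeight_of_mem_baseCorners P b μ h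
    exact ⟨j, rfl⟩
  · rintro ⟨j, rfl⟩
    exact Groth.Agent.S14249.fundWeight_mem_baseCorners b j

theorem fundWeight_injective (b : P.Base) : Function.Injective (fundWeight b) := by
  intro j k h
  by_contra hne
  have h1 := coroot'_fundWeight_self b j
  rw [h, coroot'_fundWeight_of_ne b k j hne] at h1
  exact zero_ne_one h1

theorem ncard_baseCorners (b : P.Base) : (baseCorners b).ncard = b.support.card := by
  rw [baseCorners_eq_range, ← Set.image_univ,
    Set.ncard_image_of_injective _ (fundWeight_injective P b), Set.ncard_univ,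
    Nat.card_eq_fintype_card, Fintype.card_coe]

/-- common corners of a base and its reflection in a simple root -/
theorem corners_inter (b : P.Base) (i : ι) (hi : i ∈ b.support) :
    baseCorners (reflBase P b i) ∩ baseCorners b = baseCorners b \ {fundWeight b ⟨i, hi⟩} := by
  ext μ
  constructor
  · rintro ⟨h1, h2⟩
    refine ⟨h2, ?_⟩
    rintro rfl
    have hk : P.reflectionPerm i i ∈ (reflBase P b i).support := by
      rw [mem_reflBase_support, P.reflectionPerm_self]; exact hi
    have := h1.2 _ hk
    rw [coroot'_ng, show P.coroot' i (fundWeight b ⟨i, hi⟩) = 1 from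
      coroot'_fundWeight_self b ⟨i, hi⟩] at this
    linarith
  · rintro ⟨h2, hne⟩
    refine ⟨⟨h2.1, ?_⟩, h2⟩
    obtain ⟨j, rfl⟩ := eq_fundWeight_of_mem_baseCorners P b μ h2
    have hji : j ≠ ⟨i, hi⟩ := by
      rintro rfl; exact hne rfl
    intro k hk
    rw [mem_reflBase_support] at hk
    have hfix : P.reflection i (fundWeight b j) = fundWeight b j := by
      rw [P.reflection_apply,
        show P.coroot' i (fundWeight b j) = 0 from
          coroot'_fundWeight_of_ne b j ⟨i, hi⟩ (Ne.symm hji), zero_smul, sub_zero]
    have : P.coroot' k (fundWeight b j) = P.coroot' (P.reflectionPerm i k) (fundWeight b j) := by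
      rw [← P.coroot'_reflection, hfix]
    rw [this]
    exact (Groth.Agent.S14249.fundWeight_mem_baseCorners b j).2 _ hk

theorem ncard_corners_inter (b : P.Base) (i : ι) (hi : i ∈ b.support) :
    (baseCorners (reflBase P b i) ∩ baseCorners b).ncard + 1 = (reflBase P b i).support.card := by
  rw [corners_inter P b i hi]
  have hfin : (baseCorners b).Finite := by
    rw [baseCorners_eq_range]; exact Set.finite_range _
  rw [Set.ncard_sdiff_singleton_add_one (Groth.Agent.S14249.fundWeight_mem_baseCorners b ⟨i, hi⟩)
    hfin, ncard_baseCorners]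
  show b.support.card = (b.support.map (P.reflectionPerm i).toEmbedding).card
  rw [Finset.card_map]

/-- the positivity condition across the wall -/
theorem isPos_wall (b : P.Base) (i : ι) (hi : i ∈ b.support) (j : ι) :
    ((reflBase P b i).IsPos j ∧ ¬ b.IsPos j) ↔ j = P.reflectionPerm i i := by
  let := P.indexNeg
  rw [isPos_reflBase]
  constructor
  · rintro ⟨h1, h2⟩
    by_contra hne
    have h3 : P.reflectionPerm i j ≠ i := by
      intro h
      apply hne
      have h4 := congrArg (P.reflectionPerm i) h
      rw [P.reflectionPerm_self] at h4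
      exact h4
    have := RootPairing.Base.IsPos.reflectionPerm h1 hi h3
    rw [P.reflectionPerm_self] at this
    exact h2 this
  · rintro rfl
    rw [P.reflectionPerm_self]
    refine ⟨RootPairing.Base.isPos_of_mem_support hi, ?_⟩
    have := (RootPairing.Base.IsPos.neg_iff_not b i).mp
    intro h
    exact (RootPairing.Base.IsPos.neg_iff_not b i).mp h (RootPairing.Base.isPos_of_mem_support hi)

/-- expansion of a vector of N in the simple coroots of a base -/
theorem expand_coroot (b : P.Base) (δ : N) :
    δ = ∑ k : b.support, P.toLinearMap (fundWeight b k) δ • P.coroot k := by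
  have h := b.toCoweightBasis.sum_repr δ
  conv_lhs => rw [← h]
  refine Finset.sum_congr rfl (fun k _ => ?_)
  rw [b.toCoweightBasis_apply]
  congr 1
  rw [← Module.Basis.coord_apply]
  show _ = P.toPerfPair (fundWeight b k) δ
  rw [fundWeight, LinearEquiv.apply_symm_apply]

/-- crossing a wall towards a base increases the pairing with the corners of that base -/
theorem wall_step (d : P.Base → N) (hd : RootCh.IsCCS d) (b₀ : P.Base) (m : M)
    (hm : m ∈ closedChamber b₀) (b' : P.Base) (i : ι) (hi : i ∈ b'.support)
    (hneg : ¬ b₀.IsPos i) :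
    P.toLinearMap m (d (reflBase P b' i)) ≤ P.toLinearMap m (d b') := by
  classical
  let := P.indexNeg
  obtain ⟨δ, hδ⟩ : ∃ δ : N, δ = d b' - d (reflBase P b' i) := ⟨_, rfl⟩
  -- δ is a multiple of the coroot
  have hzero : ∀ k : b'.support, k ≠ ⟨i, hi⟩ → P.toLinearMap (fundWeight b' k) δ = 0 := by
    intro k hk
    have hmem : fundWeight b' k ∈ baseCorners (reflBase P b' i) ∩ baseCorners b' := by
      rw [corners_inter P b' i hi]
      refine ⟨Groth.Agent.S14249.fundWeight_mem_baseCorners b' k, ?_⟩
      intro h
      exact hk (fundWeight_injective P b' h)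
    rw [hδ, map_sub, hd.corner_eq b' (reflBase P b' i) _ hmem.2 hmem.1, sub_self]
  have hexp := expand_coroot P b' δ
  rw [Finset.sum_eq_single (⟨i, hi⟩ : b'.support)
    (fun k _ hk => by rw [hzero k hk, zero_smul])
    (fun h => absurd (Finset.mem_univ _) h)] at hexp
  obtain ⟨t, ht⟩ : ∃ t : R, t = P.toLinearMap (fundWeight b' ⟨i, hi⟩) δ := ⟨_, rfl⟩
  rw [← ht] at hexp
  have hexp' : δ = t • P.coroot i := hexp
  -- the wall inequality
  have hwall := hd.wall_le (reflBase P b' i) b' (P.reflectionPerm i i)
    (ncard_corners_inter P b' i hi) (isPos_wall P b' i hi)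
  have hroot : ∀ y : N, P.root' (P.reflectionPerm i i) y = - P.root' i y := by
    intro y
    show P.toLinearMap (P.root (P.reflectionPerm i i)) y = - P.toLinearMap (P.root i) y
    rw [root_ng, map_neg, LinearMap.neg_apply]
  rw [hroot, hroot, neg_le_neg_iff] at hwall
  have ht0 : t ≤ 0 := by
    have h1 : P.root' i δ = t * 2 := by
      rw [hexp', map_smul, smul_eq_mul, P.root'_coroot_eq_pairing, P.pairing_same]
    have h2 : P.root' i δ ≤ 0 := by
      rw [hδ, map_sub]; linarith
    linarith
  have hm0 : P.coroot' i m ≤ 0 := by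
    have h1 : b₀.IsPos (-i) := (RootPairing.Base.IsPos.neg_iff_not b₀ i).mpr hneg
    have h2 := coroot'_nonneg_of_isPos P b₀ m hm _ h1
    have h3 : P.coroot' (-i) m = - P.coroot' i m := coroot'_ng P i m
    rw [h3] at h2
    linarith
  have hfin : P.toLinearMap m δ = t * P.coroot' i m := by
    rw [hexp', map_smul, smul_eq_mul]; rfl
  have : 0 ≤ P.toLinearMap m δ := by
    rw [hfin]; exact mul_nonneg_of_nonpos_of_nonpos ht0 hm0
  rw [hδ, map_sub] at this
  linarith

open scoped Classical in
/-- number of roots positive for `b'` and not positive for `b₀` -/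
noncomputable def dist [Fintype ι] (b₀ b' : P.Base) : ℕ :=
  (Finset.univ.filter (fun j => b'.IsPos j ∧ ¬ b₀.IsPos j)).card

theorem dist_reflBase_lt [Fintype ι] (b₀ b' : P.Base) (i : ι) (hi : i ∈ b'.support)
    (hneg : ¬ b₀.IsPos i) : dist P b₀ (reflBase P b' i) < dist P b₀ b' := by
  classical
  let := P.indexNeg
  apply Finset.card_lt_card
  have hsub : Finset.univ.filter (fun j => (reflBase P b' i).IsPos j ∧ ¬ b₀.IsPos j) ⊆
      Finset.univ.filter (fun j => b'.IsPos j ∧ ¬ b₀.IsPos j) := by
    intro j hj
    simp only [Finset.mem_filter, Finset.mem_univ, true_and] at hj ⊢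
    refine ⟨?_, hj.2⟩
    have h1 := (isPos_reflBase P b' i j).mp hj.1
    by_cases hji : P.reflectionPerm i j = i
    · exfalso
      have h4 := congrArg (P.reflectionPerm i) hji
      rw [P.reflectionPerm_self] at h4
      apply hj.2
      rw [h4]
      exact (RootPairing.Base.IsPos.neg_iff_not b₀ i).mpr hneg
    · have := RootPairing.Base.IsPos.reflectionPerm h1 hi hji
      rwa [P.reflectionPerm_self] at this
  rw [Finset.ssubset_iff_of_subset hsub]
  refine ⟨i, ?_, ?_⟩
  · simp only [Finset.mem_filter, Finset.mem_univ, true_and]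
    exact ⟨RootPairing.Base.isPos_of_mem_support hi, hneg⟩
  · simp only [Finset.mem_filter, Finset.mem_univ, true_and, not_and, not_not]
    intro h
    exfalso
    have h1 := (isPos_reflBase P b' i i).mp h
    exact (RootPairing.Base.IsPos.neg_iff_not b' i).mp h1
      (RootPairing.Base.isPos_of_mem_support hi)

/-- **Gallery lemma**: a corner of a chamber pairs least with the `d`-value of that chamber. -/
theorem pairing_le (d : P.Base → N) (hd : RootCh.IsCCS d) (b₀ : P.Base) (m : M)
    (hm : m ∈ baseCorners b₀) (b' : P.Base) :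
    P.toLinearMap m (d b₀) ≤ P.toLinearMap m (d b') := by
  classical
  haveI := Fintype.ofFinite ι
  induction hn : dist P b₀ b' using Nat.strong_induction_on generalizing b' with
  | _ n ih =>
    by_cases h : ∃ i ∈ b'.support, ¬ b₀.IsPos i
    · obtain ⟨i, hi, hneg⟩ := h
      have hlt := dist_reflBase_lt P b₀ b' i hi hneg
      rw [hn] at hlt
      have h1 := ih _ hlt (reflBase P b' i) rfl
      exact h1.trans (wall_step P d hd b₀ m hm.2 b' i hi hneg)
    · push Not at h
      have hmem : m ∈ baseCorners b' := by
        refine ⟨hm.1, fun k hk => ?_⟩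
        exact coroot'_nonneg_of_isPos P b₀ m hm.2 k (h k hk)
      exact (hd.corner_eq b₀ b' m hm hmem).le

omit [P.IsRootSystem] [P.IsCrystallographic] [P.IsReduced] [LinearOrder R]
  [IsStrictOrderedRing R] in
theorem finite_base : Finite P.Base := by
  apply Finite.of_injective (fun b : P.Base => b.support)
  intro b b' h
  cases b; cases b'
  simp only at h
  subst h
  rfl

/-- every vector lies in the closed chamber of some base -/
theorem exists_closedChamber (ξ : M) : ∃ b : P.Base, ξ ∈ closedChamber b := by
  obtain ⟨b, hb⟩ := exists_cham P (Facet.ofVec P ξ)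
  exact ⟨b, hb (show ξ ∈ (Facet.ofVec P ξ).carrier from rfl)⟩

/-- pairing of a vector with `N` in terms of fundamental weights -/
theorem pairing_expand (b : P.Base) (ξ : M) (y : N) :
    P.toLinearMap ξ y = ∑ k : b.support, P.coroot' k ξ * P.toLinearMap (fundWeight b k) y := by
  conv_lhs => rw [Groth.Agent.S14249.expand b ξ]
  rw [map_sum, LinearMap.sum_apply]
  refine Finset.sum_congr rfl (fun k _ => ?_)
  rw [map_smul, LinearMap.smul_apply, smul_eq_mul]

end Groth.Agent.Helper19.RootGallery
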