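import Groth.Agent.Helper19.RootSpecial2
import Groth.Agent.S14251
open RootCh RootCh.Facet
universe u v w x
set_option linter.style.haveILetI false
set_option linter.unusedSectionVars false

namespace Groth.Agent.Helper19.RootMetric

variable {ι : Type u} {R : Type v} {M : Type w} {N : Type x}
    [Field R] [LinearOrder R] [IsStrictOrderedRing R]
    [AddCommGroup M] [Module R M] [AddCommGroup N] [Module R N] [Finite ι]
    (P : RootPairing ι R M N) [P.IsRootSystem] [P.IsCrystallographic] [P.IsReduced]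

open Groth.Agent.Helper19.RootCham Groth.Agent.Helper19.RootGallery Groth.Agent.S14236
  Groth.Agent.Helper19.RootFacet Groth.Agent.Helper19.RootSpecial

theorem two_B_coroot (B : LinearMap.BilinForm R N)
    (hBi : ∀ (i : ι) (y z : N), B (P.coreflection i y) (P.coreflection i z) = B y z)
    (i : ι) (y : N) :
    2 * B y (P.coroot i) = P.root' i y * B (P.coroot i) (P.coroot i) := by
  have h := hBi i y (P.coroot i)
  rw [P.coreflection_apply_self, P.coreflection_apply, map_neg, map_sub, LinearMap.sub_apply,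
    map_smul, LinearMap.smul_apply, smul_eq_mul] at h
  linarith

/-- the vector of `M` representing `B y₀` lies in the facet whose dual facet contains `y₀` -/
theorem exists_xi (B : LinearMap.BilinForm R N)
    (hBp : ∀ y : N, y ≠ 0 → 0 < B y y)
    (hBi : ∀ (i : ι) (y z : N), B (P.coreflection i y) (P.coreflection i z) = B y z)
    (F : RootCh.Facet P) (y₀ : N) (hy₀ : y₀ ∈ F.dualCarrier) :
    ∃ ξ : M, ξ ∈ F.carrier ∧ ∀ z : N, P.toLinearMap ξ z = B y₀ z := by
  obtain ⟨ξ, hξ⟩ : ∃ ξ : M, P.toPerfPair ξ = B y₀ := ⟨P.toPerfPair.symm (B y₀), by simp⟩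
  have hz : ∀ z : N, P.toLinearMap ξ z = B y₀ z := fun z => by rw [← hξ]; rfl
  refine ⟨ξ, ?_, hz⟩
  funext i
  show SignType.sign (P.toLinearMap ξ (P.coroot i)) = F.sgn i
  have h1 : SignType.sign (P.root' i y₀) = F.sgn i := congrFun hy₀ i
  rw [← h1, hz]
  have h2 := two_B_coroot P B hBi i y₀
  have h3 : 0 < B (P.coroot i) (P.coroot i) := hBp _ (P.ne_zero' i)
  rcases lt_trichotomy (P.root' i y₀) 0 with h | h | h
  · rw [sign_eq_neg_one_iff.mpr h, sign_eq_neg_one_iff]
    have : P.root' i y₀ * B (P.coroot i) (P.coroot i) < 0 := mul_neg_of_neg_of_pos h h3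
    linarith
  · rw [h, zero_mul] at h2
    rw [h, sign_zero, sign_eq_zero_iff]; linarith
  · rw [sign_eq_one_iff.mpr h, sign_eq_one_iff]
    have : 0 < P.root' i y₀ * B (P.coroot i) (P.coroot i) := mul_pos h h3
    linarith

/-- for `ξ` in the facet and a point `y₀` on the corner hyperplanes, points of the solid pair
at least as much with `ξ` -/
theorem pair_le_of_mem_solid (d : P.Base → N) (hd : RootCh.IsCCS d) (F : RootCh.Facet P)
    (b : P.Base) (hb : b ∈ F.cham) (ξ : M) (hξ : ξ ∈ F.carrier) (y₀ y : N)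
    (hy₀ : ∀ w ∈ F.corners, P.toLinearMap w y₀ = P.toLinearMap w (d b)) (hy : y ∈ solid d) :
    P.toLinearMap ξ y₀ ≤ P.toLinearMap ξ y := by
  rw [pairing_expand P b ξ y₀, pairing_expand P b ξ y]
  apply Finset.sum_le_sum
  intro k _
  have hs : F.sgn k = SignType.sign (P.coroot' k ξ) := (congrFun hξ k).symm
  rcases sgn_nonneg_of_cham P F b hb k k.2 with h | h
  · rw [hs, sign_eq_zero_iff] at h
    rw [h, zero_mul, zero_mul]
  · have hc : 0 ≤ P.coroot' k ξ := hb hξ k k.2
    rw [hy₀ _ (fundWeight_mem_corners P F b hb k h)]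
    exact mul_le_mul_of_nonneg_left
      (solid_le P d hd b _ (Groth.Agent.S14249.fundWeight_mem_baseCorners b k) y hy) hc

end Groth.Agent.Helper19.RootMetric
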