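import Groth.Agent.Helper19.RootFacet
import Groth.Agent.Helper19.Gordan
import Groth.Agent.S14238
import Groth.Agent.S14231
import Groth.Agent.S14242
import Groth.Agent.S14250
open RootCh RootCh.Facet
universe u v w x
set_option linter.style.haveILetI false
set_option linter.unusedSectionVars false

namespace Groth.Agent.Helper19.RootSpecial

variable {ι : Type u} {R : Type v} {M : Type w} {N : Type x}
    [Field R] [LinearOrder R] [IsStrictOrderedRing R]
    [AddCommGroup M] [Module R M] [AddCommGroup N] [Module R N] [Finite ι]
    (P : RootPairing ι R M N) [P.IsRootSystem] [P.IsCrystallographic] [P.IsReduced]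

open Groth.Agent.Helper19.RootCham Groth.Agent.Helper19.RootGallery Groth.Agent.S14236
  Groth.Agent.Helper19.RootFacet

/-- points of the solid pair with a corner of a chamber at least as much as the `d`-value of
that chamber -/
theorem solid_le (d : P.Base → N) (hd : RootCh.IsCCS d) (b : P.Base) (m : M)
    (hm : m ∈ baseCorners b) (y : N) (hy : y ∈ solid d) :
    P.toLinearMap m (d b) ≤ P.toLinearMap m y := by
  have hconv : Convex R {y : N | P.toLinearMap m (d b) ≤ P.toLinearMap m y} :=
    convex_halfSpace_ge (P.toLinearMap m).isLinear _
  have hsub : Set.range d ⊆ {y : N | P.toLinearMap m (d b) ≤ P.toLinearMap m y} := by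
    rintro _ ⟨b', rfl⟩
    exact pairing_le P d hd b m hm b'
  exact convexHull_min hsub hconv hy

theorem dualSolid_subset_solid (d : P.Base → N) (F : RootCh.Facet P) :
    dualSolid d F ⊆ solid d :=
  convexHull_mono (Set.image_subset_range d _)

/-- vectors of the span of the corners pair equally with a point of all the corner
hyperplanes and with the `d`-value of an adjacent chamber -/
theorem pair_eq_of_mem_span (d : P.Base → N) (F : RootCh.Facet P) (b : P.Base) (y : N)
    (hy : ∀ w ∈ F.corners, P.toLinearMap w y = P.toLinearMap w (d b)) (v : M)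
    (hv : v ∈ Submodule.span R F.corners) : P.toLinearMap v y = P.toLinearMap v (d b) := by
  induction hv using Submodule.span_induction with
  | mem w hw => exact hy w hw
  | zero => simp
  | add x z _ _ hx hz => rw [map_add, LinearMap.add_apply, LinearMap.add_apply, hx, hz]
  | smul a x _ hx => rw [map_smul, LinearMap.smul_apply, LinearMap.smul_apply, hx]

/-- a point of the dual solid pairs with the corners of the facet as the `d`-values of the adjacent
chambers -/
theorem dualSolid_pair (d : P.Base → N) (hd : RootCh.IsCCS d) (F : RootCh.Facet P) (b : P.Base)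
    (hb : b ∈ F.cham) (y : N) (hy : y ∈ dualSolid d F) (w : M) (hw : w ∈ F.corners) :
    P.toLinearMap w y = P.toLinearMap w (d b) :=
  Groth.Agent.S14251.dualSolid_subset_hyper P d hd F w hw hy b
    ⟨hw.1, closure_subset_closedChamber P F b hb hw.2⟩

theorem deg_eq (d : P.Base → N) (F : RootCh.Facet P) (b : P.Base) :
    F.deg d b = P.toLinearMap (∑ i ∈ (Set.toFinite F.parab).toFinset, P.root i) (d b) := by
  show (∑ i ∈ (Set.toFinite F.parab).toFinset, P.root' i (d b)) = _
  rw [map_sum, LinearMap.sum_apply]

theorem root'_ng (i : ι) (y : N) : P.root' (P.reflectionPerm i i) y = - P.root' i y := by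
  show P.toLinearMap (P.root (P.reflectionPerm i i)) y = - P.toLinearMap (P.root i) y
  rw [root_ng, map_neg, LinearMap.neg_apply]

open scoped Classical in
/-- the sum over the parabolic set of a facet of a function odd under negation of roots is the
sum over the strictly positive part -/
theorem sum_parab_eq [Fintype ι] (G : RootCh.Facet P) (f : ι → R)
    (hf : ∀ i, f (P.reflectionPerm i i) = - f i) :
    ∑ i ∈ (Set.toFinite G.parab).toFinset, f i =
      ∑ i ∈ Finset.univ.filter (fun i => G.sgn i = 1), f i := by
  have hfin : (Set.toFinite G.parab).toFinset =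
      Finset.univ.filter (fun i => G.sgn i = 0) ∪ Finset.univ.filter (fun i => G.sgn i = 1) := by
    ext i
    simp only [Set.Finite.mem_toFinset, Facet.parab, Set.mem_ofPred_eq, Finset.mem_union,
      Finset.mem_filter, Finset.mem_univ, true_and]
    cases G.sgn i <;> decide
  have hdisj : Disjoint (Finset.univ.filter (fun i => G.sgn i = 0))
      (Finset.univ.filter (fun i => G.sgn i = 1)) := by
    rw [Finset.disjoint_filter]
    intro i _ h0 h1
    rw [h0] at h1
    exact absurd h1 (by decide)
  rw [hfin, Finset.sum_union hdisj]
  have h0 : ∑ i ∈ Finset.univ.filter (fun i => G.sgn i = 0), f i = 0 := by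
    apply Groth.Agent.S14237.sum_eq_zero_of_invol _ (fun i => P.reflectionPerm i i)
      (Groth.Agent.S14237.neg_neg' P)
    · intro a ha
      simp only [Finset.mem_filter, Finset.mem_univ, true_and] at ha ⊢
      rw [Groth.Agent.S14237.sgn_neg, ha, neg_zero]
    · intro a _
      exact hf a
  rw [h0, zero_add]

end Groth.Agent.Helper19.RootSpecial
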