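import Groth.Agent.Helper19.RootSpecial
open RootCh RootCh.Facet
universe u v w x
set_option linter.style.haveILetI false
set_option linter.unusedSectionVars false

namespace Groth.Agent.Helper19.RootSpecial

variable {ι : Type u} {R : Type v} {M : Type w} {N : Type x}
    [Field R] [LinearOrder R] [IsStrictOrderedRing R]
    [AddCommGroup M] [Module R M] [AddCommGroup N] [Module R N] [Finite ι]
    (P : RootPairing ι R M N) [P.IsRootSystem] [P.IsCrystallographic] [P.IsReduced]

open Groth.Agent.Helper19.RootCham Groth.Agent.Helper19.RootGallery Groth.Agent.S14236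
  Groth.Agent.Helper19.RootFacet

/-- positive pairings of a root with a fundamental coweight are positive integers -/
theorem natCast_root' (b : P.Base) (i : b.support) (k : ι)
    (hpos : 0 < P.root' k (fundCoweight b i)) :
    ∃ z : ℕ, 1 ≤ z ∧ P.root' k (fundCoweight b i) = z :=
  natCast_coroot' P.flip b.flip i k hpos

/-- the fundamental coweight corresponding to a fundamental weight is unique -/
theorem corr_unique (m : M) (x x' : N) (h : Corr P m x) (h' : Corr P m x') : x = x' := by
  classical
  haveI := Fintype.ofFinite ι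
  obtain ⟨b, i, hm, rfl⟩ := h
  obtain ⟨b', i', hm', rfl⟩ := h'
  have h1 := polarization_fundWeight P b i
  have h2 := polarization_fundWeight P b' i'
  rw [hm] at h1
  rw [hm'] at h2
  have ha := rootForm_root_pos P i
  have ha' := rootForm_root_pos P i'
  obtain ⟨t, ht⟩ : ∃ t : R, t = P.RootForm (P.root i) (P.root i) / P.RootForm (P.root i') (P.root i') :=
    ⟨_, rfl⟩
  have htpos : 0 < t := by rw [ht]; exact div_pos ha ha'
  have hx : fundCoweight b' i' = t • fundCoweight b i := by
    have h3 : (P.RootForm (P.root i') (P.root i') / 2) • fundCoweight b' i' =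
        (P.RootForm (P.root i) (P.root i) / 2) • fundCoweight b i := by rw [← h1, ← h2]
    have h4 := congrArg (fun z => (2 / P.RootForm (P.root i') (P.root i')) • z) h3
    simp only [smul_smul] at h4
    rw [show 2 / P.RootForm (P.root i') (P.root i') * (P.RootForm (P.root i') (P.root i') / 2) = 1 by
      field_simp, one_smul] at h4
    rw [h4, ht]
    congr 1
    field_simp
  -- integrality
  have e1 : P.root' i (fundCoweight b' i') = t := by
    rw [hx, map_smul, smul_eq_mul, root'_fundCoweight_self, mul_one]
  have e2 : P.root' i' (fundCoweight b i) = t⁻¹ := by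
    have := root'_fundCoweight_self b' i'
    rw [hx, map_smul, smul_eq_mul] at this
    field_simp
    rw [mul_comm]; exact this
  obtain ⟨z, hz1, hz⟩ := natCast_root' P b' i' i (by rw [e1]; exact htpos)
  obtain ⟨z', hz1', hz'⟩ := natCast_root' P b i i' (by rw [e2]; exact inv_pos.mpr htpos)
  rw [e1] at hz
  rw [e2] at hz'
  have hprod : (z : R) * z' = 1 := by rw [← hz, ← hz', mul_inv_cancel₀ htpos.ne']
  have hzz : z * z' = 1 := by exact_mod_cast hprod
  have : z = 1 := Nat.eq_one_of_mul_eq_one_right hzz
  rw [hx, hz, this, Nat.cast_one, one_smul]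

/-- expansion of the pairing of a root with a vector of `N` along the fundamental coweights -/
theorem root'_expand (b : P.Base) (i : ι) (y : N) :
    P.root' i y = ∑ j : b.support, P.root' j y * P.root' i (fundCoweight b j) := by
  have h : y = ∑ j : b.support, P.root' j y • fundCoweight b j :=
    Groth.Agent.S14249.expand (P := P.flip) b.flip y
  conv_lhs => rw [h]
  rw [map_sum]
  refine Finset.sum_congr rfl (fun j _ => ?_)
  rw [map_smul, smul_eq_mul]

/-- membership in the elementary set of roots in terms of an adjacent base -/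
theorem mem_Psi_iff (F : RootCh.Facet P) (b : P.Base) (hb : b ∈ F.cham) (k : b.support)
    (hk : F.sgn k = 1) (i : ι) :
    i ∈ F.Psi (fundWeight b k) ↔ P.root' i (fundCoweight b k) = 1 ∧
      ∀ j : b.support, F.sgn j = 1 → j ≠ k → P.root' i (fundCoweight b j) = 0 := by
  constructor
  · rintro ⟨h1, h2⟩
    refine ⟨h1 _ ⟨b, k, rfl, rfl⟩, fun j hj hjk => ?_⟩
    exact h2 (fundWeight b j) (fundWeight_mem_corners P F b hb j hj)
      (fun h => hjk (fundWeight_injective P b h)) _ ⟨b, j, rfl, rfl⟩
  · rintro ⟨h1, h2⟩
    refine ⟨fun x hx => ?_, fun w' hw' hne x hx => ?_⟩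
    · rw [corr_unique P _ x _ hx ⟨b, k, rfl, rfl⟩]; exact h1
    · rw [corners_eq_image P F b hb] at hw'
      obtain ⟨j, hj, rfl⟩ := hw'
      rw [corr_unique P _ x _ hx ⟨b, j, rfl, rfl⟩]
      exact h2 j hj (fun h => hne (by rw [h]))

theorem self_mem_Psi (F : RootCh.Facet P) (b : P.Base) (hb : b ∈ F.cham) (k : b.support)
    (hk : F.sgn k = 1) : (k : ι) ∈ F.Psi (fundWeight b k) := by
  rw [mem_Psi_iff P F b hb k hk]
  exact ⟨root'_fundCoweight_self b k, fun j _ hjk => root'_fundCoweight_of_ne b j k (Ne.symm hjk)⟩

/-- on vectors orthogonal to the Levi part, the roots of the elementary set all pair as the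
simple root -/
theorem root'_eq_of_mem_Psi (F : RootCh.Facet P) (b : P.Base) (hb : b ∈ F.cham) (k : b.support)
    (hk : F.sgn k = 1) (y : N) (hy : ∀ l : b.support, F.sgn l = 0 → P.root' l y = 0) (i : ι)
    (hi : i ∈ F.Psi (fundWeight b k)) : P.root' i y = P.root' k y := by
  classical
  rw [mem_Psi_iff P F b hb k hk] at hi
  rw [root'_expand P b i y, Finset.sum_eq_single k]
  · rw [hi.1, mul_one]
  · intro j _ hjk
    rcases sgn_nonneg_of_cham P F b hb j j.2 with h | h
    · rw [hy j h, zero_mul]
    · rw [hi.2 j h hjk, mul_zero]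
  · intro h; exact absurd (Finset.mem_univ _) h

/-- the numerical invariant computed through a point of the hyperplanes orthogonal to the Levi
part -/
theorem numInv_eq (d : P.Base → N) (F : RootCh.Facet P) (b : P.Base) (hb : b ∈ F.cham)
    (k : b.support) (hk : F.sgn k = 1) (y : N)
    (hy : ∀ l : b.support, F.sgn l = 0 → P.root' l y = 0)
    (hyc : ∀ w ∈ F.corners, P.toLinearMap w y = P.toLinearMap w (d b)) :
    F.numInv d (fundWeight b k) b =
      ((Set.toFinite (F.Psi (fundWeight b k))).toFinset.card : R) * P.root' k y := by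
  have hm : fundWeight b k ∈ F.corners := fundWeight_mem_corners P F b hb k hk
  have hmem := Groth.Agent.S14242.result P F _ hm
  have h1 : F.numInv d (fundWeight b k) b =
      P.toLinearMap (∑ i ∈ (Set.toFinite (F.Psi (fundWeight b k))).toFinset, P.root i) (d b) := by
    show (∑ i ∈ (Set.toFinite (F.Psi (fundWeight b k))).toFinset, P.root' i (d b)) = _
    rw [map_sum, LinearMap.sum_apply]
  rw [h1, ← pair_eq_of_mem_span P d F b y hyc _ hmem, map_sum, LinearMap.sum_apply]
  rw [Finset.sum_congr rfl (fun i hi => root'_eq_of_mem_Psi P F b hb k hk y hy i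
    ((Set.Finite.mem_toFinset _).mp hi))]
  rw [Finset.sum_const, nsmul_eq_mul]

theorem card_Psi_pos (F : RootCh.Facet P) (b : P.Base) (hb : b ∈ F.cham) (k : b.support)
    (hk : F.sgn k = 1) : 0 < ((Set.toFinite (F.Psi (fundWeight b k))).toFinset.card : R) := by
  have : 0 < (Set.toFinite (F.Psi (fundWeight b k))).toFinset.card :=
    Finset.card_pos.mpr ⟨k, (Set.Finite.mem_toFinset _).mpr (self_mem_Psi P F b hb k hk)⟩
  exact_mod_cast this

end Groth.Agent.Helper19.RootSpecial
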