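import Groth.Agent.Helper19.RootSpecial2
import Groth.Agent.S14251
import Mathlib.LinearAlgebra.FiniteDimensional.Basic
open RootCh RootCh.Facet
universe u v w x
set_option linter.style.haveILetI false
set_option linter.unusedSectionVars false

namespace Groth.Agent.Helper19.RootSpecial

variable {ι : Type u} {R : Type v} {M : Type w} {N : Type x}
    [Field R] [LinearOrder R] [IsStrictOrderedRing R]
    [AddCommGroup M] [Module R M] [AddCommGroup N] [Module R N] [Finite ι]
    (P : RootPairing ι R M N) [P.IsRootSystem] [P.IsCrystallographic] [P.IsReduced]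

open Groth.Agent.Helper19.RootCham Groth.Agent.Helper19.RootGallery Groth.Agent.S14236
  Groth.Agent.Helper19.RootFacet

/-- the dual facet is non-empty -/
theorem exists_mem_dualCarrier (F : RootCh.Facet P) : ∃ x : N, x ∈ F.dualCarrier := by
  classical
  haveI := Fintype.ofFinite ι
  obtain ⟨ξ, hξ⟩ := F.exists_sgnVec_eq
  refine ⟨P.Polarization ξ, ?_⟩
  funext i
  show SignType.sign (P.root' i (P.Polarization ξ)) = F.sgn i
  have h1 : SignType.sign (P.coroot' i ξ) = F.sgn i := congrFun hξ i
  rw [← h1]
  have h2 := root'_polarization P i ξ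
  have h3 := rootForm_root_pos P i
  rcases lt_trichotomy (P.coroot' i ξ) 0 with h | h | h
  · rw [sign_eq_neg_one_iff.mpr h, sign_eq_neg_one_iff]
    have : P.RootForm (P.root i) (P.root i) * P.coroot' i ξ < 0 := mul_neg_of_pos_of_neg h3 h
    linarith
  · rw [h, mul_zero] at h2
    rw [h, sign_zero, sign_eq_zero_iff]; linarith
  · rw [sign_eq_one_iff.mpr h, sign_eq_one_iff]
    have : 0 < P.RootForm (P.root i) (P.root i) * P.coroot' i ξ := mul_pos h3 h
    linarith

/-- adding a vector of the closure of the dual facet to a vector of the dual facet -/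
theorem add_mem_dualCarrier (F : RootCh.Facet P) (x z : N) (hx : x ∈ F.dualCarrier)
    (hz : z ∈ F.dualClosure) : x + z ∈ F.dualCarrier := by
  funext i
  show SignType.sign (P.root' i (x + z)) = F.sgn i
  have h1 : SignType.sign (P.root' i x) = F.sgn i := congrFun hx i
  have h2 : SignType.sign (P.root' i z) = 0 ∨ SignType.sign (P.root' i z) = F.sgn i := hz i
  rw [map_add, ← h1]
  rw [← h1] at h2
  rcases h2 with h2 | h2
  · rw [sign_eq_zero_iff] at h2; rw [h2, add_zero]
  · rcases lt_trichotomy (P.root' i x) 0 with h | h | h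
    · rw [sign_eq_neg_one_iff.mpr h] at h2 ⊢
      rw [sign_eq_neg_one_iff] at h2 ⊢; linarith
    · rw [h, sign_zero, sign_eq_zero_iff] at h2; rw [h, h2, add_zero]
    · rw [sign_eq_one_iff.mpr h] at h2 ⊢
      rw [sign_eq_one_iff] at h2 ⊢; linarith

theorem fundCoweight_mem_span (F : RootCh.Facet P) (b : P.Base) (hb : b ∈ F.cham)
    (j : b.support) (hj : F.sgn j = 1) :
    fundCoweight b j ∈ Submodule.span R F.dualCarrier := by
  obtain ⟨x, hx⟩ := exists_mem_dualCarrier P F
  have hcl : fundCoweight b j ∈ F.dualClosure := by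
    intro i
    show SignType.sign (P.root' i (fundCoweight b j)) = 0 ∨
      SignType.sign (P.root' i (fundCoweight b j)) = F.sgn i
    rw [Groth.Agent.S14231.sign_root'_eq P (fundWeight b j) _ ⟨b, j, rfl, rfl⟩ i]
    exact (fundWeight_mem_corners P F b hb j hj).2 i
  have h2 := add_mem_dualCarrier P F x _ hx hcl
  have : fundCoweight b j = (x + fundCoweight b j) - x := by abel
  rw [this]
  exact Submodule.sub_mem _ (Submodule.subset_span h2) (Submodule.subset_span hx)

/-- **existence of the point `y(F)`** : a vector of the span of the dual facet with prescribed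
pairings with the corners of the facet -/
theorem exists_yF (F : RootCh.Facet P) (b : P.Base) (hb : b ∈ F.cham) (z : N) :
    ∃ y : N, y ∈ Submodule.span R F.dualCarrier ∧
      ∀ w ∈ F.corners, P.toLinearMap w y = P.toLinearMap w z := by
  classical
  obtain ⟨S, hS⟩ : ∃ S : ({j : b.support // F.sgn j = 1} → R) →ₗ[R] N,
      S = Fintype.linearCombination R (fun j : {j : b.support // F.sgn j = 1} =>
        fundCoweight b j.1) := ⟨_, rfl⟩
  have hSapp : ∀ t, S t = ∑ j : {j : b.support // F.sgn j = 1}, t j • fundCoweight b j.1 := by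
    intro t; rw [hS, Fintype.linearCombination_apply]
  have hSmem : ∀ t, S t ∈ Submodule.span R F.dualCarrier := by
    intro t
    rw [hSapp]
    exact Submodule.sum_mem _ (fun j _ => Submodule.smul_mem _ _
      (fundCoweight_mem_span P F b hb j.1 j.2))
  obtain ⟨T, hT⟩ : ∃ T : ({j : b.support // F.sgn j = 1} → R) →ₗ[R]
      ({j : b.support // F.sgn j = 1} → R),
      T = LinearMap.pi (fun j' : {j : b.support // F.sgn j = 1} =>
        (P.toLinearMap (fundWeight b j'.1)) ∘ₗ S) := ⟨_, rfl⟩
  have hTapp : ∀ t j', T t j' = P.toLinearMap (fundWeight b j'.1) (S t) := by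
    intro t j'; rw [hT]; rfl
  have hli : LinearIndependent R (fun j : {j : b.support // F.sgn j = 1} =>
      fundCoweight b j.1) :=
    (linearIndependent_fundWeight P.flip b.flip).comp _ Subtype.val_injective
  have hinj : Function.Injective T := by
    rw [← LinearMap.ker_eq_bot, LinearMap.ker_eq_bot']
    intro t ht
    have hz : S t = 0 := by
      apply Groth.Agent.S14251.eq_zero_of_orth P F _ (hSmem t)
      intro w hw
      rw [corners_eq_image P F b hb] at hw
      obtain ⟨j, hj, rfl⟩ := hw
      have := congrFun ht ⟨j, hj⟩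
      rw [hTapp] at this
      exact this
    rw [hSapp] at hz
    funext j
    exact (Fintype.linearIndependent_iff.mp hli) t hz j
  have hsurj : Function.Surjective T := LinearMap.injective_iff_surjective.mp hinj
  obtain ⟨t, ht⟩ := hsurj (fun j' => P.toLinearMap (fundWeight b j'.1) z)
  refine ⟨S t, hSmem t, ?_⟩
  intro w hw
  rw [corners_eq_image P F b hb] at hw
  obtain ⟨j, hj, rfl⟩ := hw
  have := congrFun ht ⟨j, hj⟩
  rw [hTapp] at this
  exact this

/-- the degree of a facet computed through a point on its corner hyperplanes -/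
theorem deg_via (d : P.Base → N)
    (G : RootCh.Facet P) (b : P.Base) (hb : b ∈ G.cham) (y : N)
    (hyc : ∀ w ∈ G.corners, P.toLinearMap w y = P.toLinearMap w (d b)) :
    G.deg d b = ∑ i ∈ (Set.toFinite G.parab).toFinset, P.root' i y := by
  have hσ : (∑ i ∈ (Set.toFinite G.parab).toFinset, P.root i) ∈ Submodule.span R G.corners := by
    apply mem_span_corners P G b hb
    intro k _ hk
    have := congrFun (Groth.Agent.S14237.result P G) k
    rw [hk] at this
    exact sign_eq_zero_iff.mp this
  rw [deg_eq, ← pair_eq_of_mem_span P d G b y hyc _ hσ, map_sum, LinearMap.sum_apply]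

end Groth.Agent.Helper19.RootSpecial
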