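import Mathlib.AlgebraicGeometry.Morphisms.SchemeTheoreticallyDominant
import Mathlib.AlgebraicGeometry.Morphisms.ClosedImmersion
import Mathlib.AlgebraicGeometry.Cover.Open
import Mathlib.Tactic

/-! Scheme-theoretically dominant, quasi-compact, surjective morphisms are epimorphisms of schemes
(helper19).  Main results:
* `Groth.Agent.Helper19.SchDomEpi.eq_of_comp_eq`
* `Groth.Agent.Helper19.SchDomEpi.specMap_eq_of_comp_eq` : for an injective ring map `φ` with `Spec φ`
  surjective on points.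
-/

open CategoryTheory AlgebraicGeometry

universe u

namespace Groth.Agent.Helper19.SchDomEpi

theorem eq_of_comp_eq {Z Y X : Scheme.{u}} (m : Z ⟶ Y) [IsSchemeTheoreticallyDominant m]
    [QuasiCompact m] (hsurj : Function.Surjective m.base) (g g' : Y ⟶ X)
    (h : m ≫ g = m ≫ g') : g = g' := by
  have hpts : ∀ y : Y, g y = g' y := by
    intro y
    obtain ⟨z, rfl⟩ := hsurj y
    have := congrArg (fun t : Z ⟶ X => t z) h
    simpa using this
  -- cover `Y` by the preimages of the affine opens of `X`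
  have hle : ∀ U : X.Opens, g ⁻¹ᵁ U ≤ g' ⁻¹ᵁ U := by
    intro U y hy
    show g' y ∈ U
    rw [← hpts y]
    exact hy
  have hcov : ⨆ U : X.affineOpens, g ⁻¹ᵁ (U : X.Opens) = ⊤ := by
    rw [eq_top_iff]
    rintro y -
    obtain ⟨_, ⟨U, hU : IsAffineOpen U, rfl⟩, hyU, -⟩ :=
      X.isBasis_affineOpens.exists_subset_of_mem_open (Set.mem_univ (g y)) isOpen_univ
    exact TopologicalSpace.Opens.mem_iSup.mpr ⟨⟨U, hU⟩, hyU⟩
  refine (Y.openCoverOfIsOpenCover _ hcov).hom_ext _ _ ?_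
  rintro ⟨U, hU⟩
  show (g ⁻¹ᵁ U).ι ≫ g = (g ⁻¹ᵁ U).ι ≫ g'
  have : IsAffine (U : Scheme.{u}) := hU
  have hk : g ∣_ U = g'.resLE U (g ⁻¹ᵁ U) (hle U) := by
    apply ext_of_isAffine
    have hm : (m ∣_ (g ⁻¹ᵁ U)) ≫ (g ∣_ U) = (m ∣_ (g ⁻¹ᵁ U)) ≫ g'.resLE U (g ⁻¹ᵁ U) (hle U) := by
      rw [← cancel_mono U.ι]
      simp only [Category.assoc, morphismRestrict_ι, Scheme.Hom.resLE_comp_ι]
      rw [morphismRestrict_ι_assoc, morphismRestrict_ι_assoc, h]
    have hm2 := congrArg Scheme.Hom.appTop hm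
    rw [Scheme.Hom.comp_appTop, Scheme.Hom.comp_appTop] at hm2
    have hinj : Function.Injective (m ∣_ (g ⁻¹ᵁ U)).appTop := by
      have e := morphismRestrict_appTop m (g ⁻¹ᵁ U)
      have h1 : ∀ a, (m ∣_ (g ⁻¹ᵁ U)).appTop.hom a =
          (Z.presheaf.map (eqToHom (image_morphismRestrict_preimage m (g ⁻¹ᵁ U) ⊤)).op).hom
            ((m.app ((g ⁻¹ᵁ U).ι ''ᵁ ⊤)).hom a) := fun a => congrArg (fun t => t.hom a) e
      intro a b hab
      have hab' : (m ∣_ (g ⁻¹ᵁ U)).appTop.hom a = (m ∣_ (g ⁻¹ᵁ U)).appTop.hom b := hab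
      rw [h1, h1] at hab'
      exact m.app_injective _
        ((ConcreteCategory.bijective_of_isIso (Z.presheaf.map (eqToHom _).op)).1 hab')
    ext x
    apply hinj
    exact congrArg (fun t => t.hom x) hm2
  rw [← morphismRestrict_ι, hk, Scheme.Hom.resLE_comp_ι]

theorem isSchemeTheoreticallyDominant_specMap {A A' : CommRingCat.{u}} (φ : A ⟶ A')
    (hinj : Function.Injective φ.hom) : IsSchemeTheoreticallyDominant (Spec.map φ) := by
  constructor
  apply Scheme.IdealSheafData.ext_of_isAffine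
  rw [(Spec.map φ).ker_apply ⟨⊤, isAffineOpen_top _⟩]
  simp only [Scheme.IdealSheafData.ideal_bot, Pi.bot_apply]
  rw [← RingHom.injective_iff_ker_eq_bot]
  have h1 : (Spec.map φ).appTop = (Scheme.ΓSpecIso A).hom ≫ φ ≫ (Scheme.ΓSpecIso A').inv := by
    rw [Scheme.ΓSpecIso_inv_naturality, Iso.hom_inv_id_assoc]
  show Function.Injective (Spec.map φ).appTop.hom
  rw [h1]
  simp only [CommRingCat.hom_comp, RingHom.coe_comp]
  exact ((ConcreteCategory.bijective_of_isIso (Scheme.ΓSpecIso A').inv).1.comp hinj).comp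
    (ConcreteCategory.bijective_of_isIso (Scheme.ΓSpecIso A).hom).1

theorem specMap_eq_of_comp_eq {A A' : CommRingCat.{u}} (φ : A ⟶ A')
    (hinj : Function.Injective φ.hom)
    (hsurj : Function.Surjective (PrimeSpectrum.comap φ.hom)) {X : Scheme.{u}}
    (g g' : Spec A ⟶ X) (h : Spec.map φ ≫ g = Spec.map φ ≫ g') : g = g' := by
  have := isSchemeTheoreticallyDominant_specMap φ hinj
  exact eq_of_comp_eq (Spec.map φ) hsurj g g' h

end Groth.Agent.Helper19.SchDomEpi
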