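import Mathlib

/-!
# McCoy's theorem for multivariate polynomials (helper19)

A polynomial `G ∈ R[X_1, …, X_n]` whose coefficients have no common nonzero annihilator in `R`
is a non-zero-divisor.
-/

set_option autoImplicit false
universe u

namespace Groth.Agent.Helper19.SmCov

open MvPolynomial

variable {R : Type u} [CommRing R] {n : ℕ}

/-- **McCoy**: if no nonzero element of `R` kills all the coefficients of `G`, then `G` is a
non-zero-divisor of the polynomial ring. -/
theorem mccoy (G : MvPolynomial (Fin n) R)
    (hG : ∀ r : R, (∀ ν, r * coeff ν G = 0) → r = 0) :
    ∀ q : MvPolynomial (Fin n) R, G * q = 0 → q = 0 := by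
  classical
  let m : MonomialOrder (Fin n) := MonomialOrder.lex
  suffices H : ∀ k : ℕ, ∀ q : MvPolynomial (Fin n) R, q.support.card ≤ k → G * q = 0 → q = 0 from
    fun q hq => H _ q le_rfl hq
  intro k
  induction k with
  | zero =>
    intro q hq _
    have : q.support = ∅ := Finset.card_eq_zero.mp (Nat.le_zero.mp hq)
    exact MvPolynomial.support_eq_empty.mp this
  | succ k ih =>
    intro q hq hGq
    by_contra hq0
    -- the set of exponents of `G` whose coefficient does not kill `q`
    set Jset := G.support.filter (fun ν => C (coeff ν G) * q ≠ 0) with hJ
    by_cases hJe : Jset = ∅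
    · -- all coefficients of `G` kill `q`
      apply hq0
      ext μ
      rw [coeff_zero]
      apply hG
      intro ν
      by_cases hν : ν ∈ G.support
      · have : ν ∉ Jset := by rw [hJe]; exact Finset.notMem_empty _
        rw [hJ, Finset.mem_filter, not_and, not_not] at this
        have h2 := congrArg (coeff μ) (this hν)
        rw [coeff_C_mul, coeff_zero] at h2
        rw [mul_comm]; exact h2
      · rw [MvPolynomial.notMem_support_iff.mp hν, mul_zero]
    · obtain ⟨ν₀, hν₀J, hν₀max⟩ := Finset.exists_max_image Jset m.toSyn
        (Finset.nonempty_iff_ne_empty.mpr hJe)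
      set μ := m.degree q with hμ
      have hν₀ : ν₀ ∈ G.support ∧ C (coeff ν₀ G) * q ≠ 0 := by
        rw [hJ, Finset.mem_filter] at hν₀J; exact hν₀J
      -- the coefficient of `ν₀ + μ` in `G * q`
      have hcoef : coeff (ν₀ + μ) (G * q) = coeff ν₀ G * coeff μ q := by
        rw [coeff_mul]
        apply Finset.sum_eq_single (ν₀, μ)
        · rintro ⟨a, b⟩ hab hne
          rw [Finset.HasAntidiagonal.mem_antidiagonal] at hab
          simp only at hab
          by_cases ha : a ∈ Jset
          · -- then `a ≺ ν₀`, so `b ≻ μ`
            have hle : m.toSyn a ≤ m.toSyn ν₀ := hν₀max a ha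
            have hane : a ≠ ν₀ := by
              rintro rfl
              apply hne
              have : b = μ := add_left_cancel hab
              rw [this]
            have hlt : m.toSyn a < m.toSyn ν₀ :=
              lt_of_le_of_ne hle (fun h => hane (m.toSyn.injective h))
            have hb : m.toSyn μ < m.toSyn b := by
              by_contra hcon
              rw [not_lt] at hcon
              have h1 : m.toSyn (a + b) < m.toSyn (ν₀ + μ) := by
                rw [map_add, map_add]
                exact add_lt_add_of_lt_of_le hlt hcon
              rw [hab] at h1
              exact lt_irrefl _ h1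
            rw [m.coeff_eq_zero_of_lt hb, mul_zero]
          · by_cases haG : a ∈ G.support
            · have : C (coeff a G) * q = 0 := by
                by_contra hcon
                exact ha (by rw [hJ, Finset.mem_filter]; exact ⟨haG, hcon⟩)
              have h2 := congrArg (coeff b) this
              rw [coeff_C_mul, coeff_zero] at h2
              exact h2
            · rw [MvPolynomial.notMem_support_iff.mp haG, zero_mul]
        · intro h
          exfalso
          apply h
          rw [Finset.HasAntidiagonal.mem_antidiagonal]
      rw [hGq, coeff_zero] at hcoef
      -- `q' = C (coeff ν₀ G) * q` has smaller support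
      set q' := C (coeff ν₀ G) * q with hq'
      have hsub : q'.support ⊆ q.support.erase μ := by
        intro d hd
        rw [MvPolynomial.mem_support_iff, hq', coeff_C_mul] at hd
        rw [Finset.mem_erase, MvPolynomial.mem_support_iff]
        refine ⟨?_, fun h => hd (by rw [h, mul_zero])⟩
        rintro rfl
        exact hd hcoef.symm
      have hμs : μ ∈ q.support := m.degree_mem_support hq0
      have hcard : q'.support.card ≤ k := by
        have h1 := Finset.card_le_card hsub
        rw [Finset.card_erase_of_mem hμs] at h1
        omega
      have hGq' : G * q' = 0 := by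
        rw [hq', mul_left_comm, hGq, mul_zero]
      exact hν₀.2 (ih q' hcard hGq')

end Groth.Agent.Helper19.SmCov
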