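import Mathlib
import Groth.Prelude.Def_LCI2
import Groth.Agent.Lib.Helper11.KzBot

/-!
# The annihilator of a Koszul-regular sequence is zero (helper19)
-/

set_option autoImplicit false
universe u

open CategoryTheory CategoryTheory.Limits

namespace Groth.Agent.Helper19.SmCov

open Groth.Agent.Lib.Helper11.Kz

variable {A : Type u} [CommRing A]

/-- a nonempty Koszul-regular sequence has no nonzero common annihilator -/
theorem ann_eq_zero_of_kreg (l : List A) (hl : LCI.IsKoszulRegularSeq A l) (hne : l ≠ [])
    (x : A) (hx : ∀ a ∈ l, a * x = 0) : x = 0 := by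
  obtain ⟨e⟩ := nonempty_KH_bot_equiv A l
  have hlen : (-(l.length : ℤ)) ≠ 0 := by
    have : 0 < l.length := List.length_pos_iff.mpr hne
    omega
  have h0 : IsZero ((Koszul.koszul A l).homology (-(l.length : ℤ))) := hl _ hlen
  rw [koszul_eq] at h0
  have hs : Subsingleton (KH l A (-(l.length : ℤ))) := ModuleCat.isZero_iff_subsingleton.mp h0
  have hs2 : Subsingleton (killedBy l A) :=
    (e.trans (killedByEquivHom l A).symm).symm.toEquiv.subsingleton
  have hx' : x ∈ killedBy l A := fun a ha => by rw [smul_eq_mul]; exact hx a ha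
  have := congrArg Subtype.val (Subsingleton.elim (⟨x, hx'⟩ : killedBy l A) 0)
  exact this

end Groth.Agent.Helper19.SmCov
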