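import Mathlib
import Groth.Prelude.Def_LCI2
import Groth.Agent.Helper19.SmCov1
import Groth.Agent.Helper19.SmCov2
import Groth.Agent.Lib.Helper16.KzComp4

/-!
# One step of "Koszul-regular becomes regular on a smooth cover" (helper19)

`R` a ring, `J` an ideal, `f₀ :: f'` a list whose image in `R/J` is Koszul-regular.  In the
polynomial ring `S₁ = R[X_j]` (one variable for each member of `f'`) put
`g₁ = f₀ + ∑ X_j f'_j`.  Then `g₁` is a non-zero-divisor modulo `J S₁`, the image of `f'` in
`S₁/(J S₁ + (g₁))` is Koszul-regular, and `J S₁ + (g₁) + (f') = J S₁ + (f₀ :: f')`.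
-/

set_option autoImplicit false
universe u

open CategoryTheory CategoryTheory.Limits

namespace Groth.Agent.Helper19.SmCov

open MvPolynomial Groth.Agent.Lib.Helper16.KzInv Groth.Agent.Lib.Helper16.KzComp

variable {R : Type u} [CommRing R]

/-- the generic element `f₀ + ∑ X_j f'_j` -/
noncomputable def gen (f₀ : R) (f' : List R) : MvPolynomial (Fin f'.length) R :=
  C f₀ + ∑ j : Fin f'.length, X j * C (f'.get j)

theorem map_gen {R' : Type u} [CommRing R'] (φ : R →+* R') (f₀ : R) (f' : List R) :
    MvPolynomial.map φ (gen f₀ f') =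
      C (φ f₀) + ∑ j : Fin f'.length, X j * C (φ (f'.get j)) := by
  unfold gen
  simp only [map_add, map_sum, map_mul, map_X, map_C]

theorem coeff_zero_genForm {n : ℕ} (a : R) (b : Fin n → R) :
    coeff 0 (C a + ∑ j : Fin n, X j * C (b j)) = a := by
  classical
  rw [coeff_add, coeff_sum, coeff_C, if_pos rfl]
  have : ∀ j ∈ (Finset.univ : Finset (Fin n)), coeff 0 (X j * C (b j)) = 0 := by
    intro j _
    rw [mul_comm, coeff_C_mul, coeff_zero_X, mul_zero]
  rw [Finset.sum_eq_zero this, add_zero]

theorem coeff_single_genForm {n : ℕ} (a : R) (b : Fin n → R) (i : Fin n) :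
    coeff (Finsupp.single i 1) (C a + ∑ j : Fin n, X j * C (b j)) = b i := by
  classical
  rw [coeff_add, coeff_sum, coeff_C, if_neg (by
    intro h
    have := congrArg (fun v => v i) h
    simp at this), zero_add]
  rw [Finset.sum_eq_single i]
  · rw [mul_comm, coeff_C_mul]
    simp
  · intro j _ hji
    rw [mul_comm, coeff_C_mul, coeff_X', if_neg, mul_zero]
    intro h
    exact hji (Finsupp.single_left_injective one_ne_zero h)
  · intro h; exact absurd (Finset.mem_univ i) h

theorem sub_mem_of_genForm {n : ℕ} (a : R) (b : Fin n → R) (L : Ideal (MvPolynomial (Fin n) R))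
    (hL : ∀ j, C (b j) ∈ L) : (C a + ∑ j : Fin n, X j * C (b j)) - C a ∈ L := by
  rw [add_sub_cancel_left]
  exact L.sum_mem fun j _ => L.mul_mem_left _ (hL j)

theorem span_sup_eq_of_sub_mem {T : Type*} [CommRing T] (a b : T) (L : Ideal T) (h : a - b ∈ L) :
    Ideal.span {a} ⊔ L = Ideal.span {b} ⊔ L := by
  apply le_antisymm
  · refine sup_le ?_ le_sup_right
    rw [Ideal.span_singleton_le_iff_mem]
    have : a = b + (a - b) := by ring
    rw [this]
    exact Ideal.add_mem _ (Ideal.mem_sup_left (Ideal.mem_span_singleton_self b))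
      (Ideal.mem_sup_right h)
  · refine sup_le ?_ le_sup_right
    rw [Ideal.span_singleton_le_iff_mem]
    have : b = a - (a - b) := by ring
    rw [this]
    exact Ideal.sub_mem _ (Ideal.mem_sup_left (Ideal.mem_span_singleton_self a))
      (Ideal.mem_sup_right h)

section step

variable (J : Ideal R) (f₀ : R) (f' : List R)
  (hK : LCI.IsKoszulRegularSeq (R ⧸ J) ((f₀ :: f').map (Ideal.Quotient.mk J)))

include hK in
/-- the image of the generic element over `R/J` is a non-zero-divisor -/
theorem gen_bar_regular (q : MvPolynomial (Fin f'.length) (R ⧸ J))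
    (hq : MvPolynomial.map (Ideal.Quotient.mk J) (gen f₀ f') * q = 0) : q = 0 := by
  refine mccoy _ ?_ q hq
  intro r hr
  apply ann_eq_zero_of_kreg _ hK (by simp)
  intro a ha
  rw [List.map_cons, List.mem_cons, List.mem_map] at ha
  rw [map_gen] at hr
  rcases ha with rfl | ⟨a', ha', rfl⟩
  · have := hr 0
    rw [coeff_zero_genForm] at this
    rw [mul_comm]; exact this
  · obtain ⟨i, rfl⟩ := List.mem_iff_get.mp ha'
    have := hr (Finsupp.single i 1)
    rw [coeff_single_genForm] at this
    rw [mul_comm]; exact this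

include hK in
/-- (α) the generic element is a non-zero-divisor modulo `J S₁` -/
theorem gen_regular_mod (x : MvPolynomial (Fin f'.length) R)
    (hx : gen f₀ f' * x ∈ J.map (C : R →+* MvPolynomial (Fin f'.length) R)) :
    x ∈ J.map (C : R →+* MvPolynomial (Fin f'.length) R) := by
  have hker := MvPolynomial.ker_map (σ := Fin f'.length) (Ideal.Quotient.mk J)
  rw [Ideal.mk_ker] at hker
  rw [← hker, RingHom.mem_ker] at hx ⊢
  rw [map_mul] at hx
  exact gen_bar_regular J f₀ f' hK _ hx

/-- (γ) the ideal equality -/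
theorem gen_ideal_eq :
    J.map (C : R →+* MvPolynomial (Fin f'.length) R) ⊔ Ideal.span {gen f₀ f'} ⊔
        (Ideal.ofList f').map (C : R →+* MvPolynomial (Fin f'.length) R) =
      J.map (C : R →+* MvPolynomial (Fin f'.length) R) ⊔
        (Ideal.ofList (f₀ :: f')).map (C : R →+* MvPolynomial (Fin f'.length) R) := by
  have hsp : (Ideal.span {f₀}).map (C : R →+* MvPolynomial (Fin f'.length) R) =
      Ideal.span {C f₀} := by rw [Ideal.map_span, Set.image_singleton]
  rw [Ideal.ofList_cons, Ideal.map_sup, hsp, sup_assoc]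
  congr 1
  apply span_sup_eq_of_sub_mem
  apply sub_mem_of_genForm
  intro j
  apply Ideal.mem_map_of_mem
  exact Ideal.subset_span (List.get_mem f' j)

set_option maxHeartbeats 1000000 in
include hK in
/-- (β) the image of `f'` in `S₁/(J S₁ + (g₁))` is Koszul-regular -/
theorem gen_kreg_quot :
    LCI.IsKoszulRegularSeq
      (MvPolynomial (Fin f'.length) R ⧸
        (J.map (C : R →+* MvPolynomial (Fin f'.length) R) ⊔ Ideal.span {gen f₀ f'}))
      ((f'.map (C : R →+* MvPolynomial (Fin f'.length) R)).map (Ideal.Quotient.mk _)) := by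
  classical
  set S₁ := MvPolynomial (Fin f'.length) R with hS₁
  set Sb := MvPolynomial (Fin f'.length) (R ⧸ J) with hSb
  set φ : S₁ →+* Sb := MvPolynomial.map (Ideal.Quotient.mk J) with hφ
  set gb : Sb := φ (gen f₀ f') with hgb
  set lb : List Sb := (f'.map (Ideal.Quotient.mk J)).map (C : (R ⧸ J) →+* Sb) with hlb
  -- (1) flat base change
  have h1 : LCI.IsKoszulRegularSeq Sb
      (((f₀ :: f').map (Ideal.Quotient.mk J)).map (algebraMap (R ⧸ J) Sb)) :=
    isKoszulRegularSeq_map_of_flat hK
  rw [MvPolynomial.algebraMap_eq, List.map_cons, List.map_cons] at h1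
  -- (2) change the head
  have hsub : gb - C (Ideal.Quotient.mk J f₀) ∈ Ideal.span {x | x ∈ lb} := by
    rw [hgb, hφ, map_gen]
    apply sub_mem_of_genForm
    intro j
    apply Ideal.subset_span
    rw [hlb]
    exact List.mem_map.mpr ⟨_, List.mem_map.mpr ⟨_, List.get_mem f' j, rfl⟩, rfl⟩
  have h2 : LCI.IsKoszulRegularSeq Sb (gb :: lb) :=
    isKoszulRegularSeq_of_dIso (dIso_kz_cons_of_sub_mem _ lb _ gb hsub).symm h1
  -- (3) the head is a non-zero-divisor
  have h3 : RingTheory.Sequence.IsWeaklyRegular Sb [gb] := by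
    rw [RingTheory.Sequence.isWeaklyRegular_cons_iff]
    refine ⟨?_, RingTheory.Sequence.IsWeaklyRegular.nil _ _⟩
    rw [isSMulRegular_iff_right_eq_zero_of_smul]
    intro q hq
    exact gen_bar_regular J f₀ f' hK q hq
  have h3' : LCI.IsKoszulRegularSeq Sb [gb] := kreg_of_isWeaklyRegular _ h3
  -- (4) pass to the quotient by the head
  have h4 : LCI.IsKoszulRegularSeq Sb (lb ++ [gb]) :=
    isKoszulRegularSeq_perm (List.perm_append_singleton gb lb).symm h2
  have h5 := (kreg_append_iff [gb] lb h3').mp h4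
  -- (5) transfer along the ring isomorphism
  set I' : Ideal Sb := Ideal.ofList [gb] with hI'
  set J₁ : Ideal S₁ := J.map (C : R →+* S₁) ⊔ Ideal.span {gen f₀ f'} with hJ₁
  let π : S₁ →+* Sb ⧸ I' := (Ideal.Quotient.mk I').comp φ
  have hφs : Function.Surjective φ := MvPolynomial.map_surjective _ Ideal.Quotient.mk_surjective
  have hπs : Function.Surjective π := Ideal.Quotient.mk_surjective.comp hφs
  have hkerφ : RingHom.ker φ = J.map (C : R →+* S₁) := by
    rw [hφ, MvPolynomial.ker_map, Ideal.mk_ker]
  have hkerπ : RingHom.ker π = J₁ := by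
    change RingHom.ker ((Ideal.Quotient.mk I').comp φ) = J₁
    rw [← RingHom.comap_ker, Ideal.mk_ker, hI', Ideal.ofList_singleton, hgb,
      ← Set.image_singleton, ← Ideal.map_span, Ideal.comap_map_of_surjective φ hφs,
      ← RingHom.ker_eq_comap_bot, hkerφ, hJ₁, sup_comm]
  let e : S₁ ⧸ J₁ ≃+* Sb ⧸ I' :=
    (Ideal.quotEquivOfEq hkerπ.symm).trans (RingHom.quotientKerEquivOfSurjective hπs)
  have he : ∀ s : S₁, e (Ideal.Quotient.mk J₁ s) = π s := fun s => rfl
  have h6 := kreg_map_ringEquiv e.symm _ h5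
  convert h6 using 1
  rw [hlb, List.map_map, List.map_map, List.map_map, List.map_map]
  apply List.map_congr_left
  intro r _
  simp only [Function.comp_apply]
  rw [RingEquiv.eq_symm_apply, he]
  change (Ideal.Quotient.mk I') (φ (C r)) = _
  rw [hφ, MvPolynomial.map_C]

end step

end Groth.Agent.Helper19.SmCov
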