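import Mathlib
import Groth.Prelude.Def_LCI2
import Groth.Agent.Helper19.SmCov3

/-!
# Koszul-regular sequences become regular on a smooth cover: the ring theorem (helper19)
-/

set_option autoImplicit false
universe u

open CategoryTheory CategoryTheory.Limits

namespace Groth.Agent.Helper19.SmCov

open MvPolynomial TensorProduct Groth.Agent.Lib.Helper16.KzComp

/-- `gs` is a regular sequence modulo the ideal `K` (elementwise form) -/
def RegMod {S : Type u} [CommRing S] (K : Ideal S) (gs : List S) : Prop :=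
  ∀ (i : ℕ) (hi : i < gs.length) (x : S),
    gs[i] * x ∈ K ⊔ Ideal.ofList (gs.take i) → x ∈ K ⊔ Ideal.ofList (gs.take i)

theorem regMod_nil {S : Type u} [CommRing S] (K : Ideal S) : RegMod K ([] : List S) := by
  intro i hi
  simp at hi

theorem regMod_cons {S : Type u} [CommRing S] (K : Ideal S) (g : S) (gs : List S)
    (h0 : ∀ x, g * x ∈ K → x ∈ K) (h1 : RegMod (K ⊔ Ideal.span {g}) gs) :
    RegMod K (g :: gs) := by
  intro i hi x hx
  cases i with
  | zero =>
    simp only [List.take_zero, Ideal.ofList_nil, sup_bot_eq, List.getElem_cons_zero] at hx ⊢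
    exact h0 x hx
  | succ i =>
    simp only [List.take_succ_cons, Ideal.ofList_cons, List.getElem_cons_succ] at hx ⊢
    rw [← sup_assoc] at hx ⊢
    exact h1 i (by simpa using hi) x hx

/-- regular sequences modulo `⊥` are weakly regular -/
theorem isWeaklyRegular_of_regMod_bot {S : Type u} [CommRing S] (gs : List S)
    (h : RegMod (⊥ : Ideal S) gs) : RingTheory.Sequence.IsWeaklyRegular S gs := by
  rw [RingTheory.Sequence.isWeaklyRegular_iff_Fin]
  intro i
  rw [isSMulRegular_quotient_iff_mem_of_smul_mem]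
  intro x hx
  have h2 := h i.1 i.2 x
  rw [bot_sup_eq] at h2
  rw [smul_eq_mul, Ideal.mul_top] at hx ⊢
  exact h2 hx

/-- colon ideals and flat base change -/
theorem flat_colon {A B : Type u} [CommRing A] [CommRing B] [Algebra A B] [Module.Flat A B]
    (K : Ideal A) (g : A) (h : ∀ x, g * x ∈ K → x ∈ K) (y : B)
    (hy : algebraMap A B g * y ∈ K.map (algebraMap A B)) : y ∈ K.map (algebraMap A B) := by
  have h1 : IsSMulRegular (A ⧸ K) g := by
    rw [isSMulRegular_quotient_iff_mem_of_smul_mem]
    intro x hx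
    exact h x hx
  have h2 : IsSMulRegular (B ⊗[A] (A ⧸ K)) g := IsSMulRegular.lTensor B h1
  have h3 : IsSMulRegular (B ⧸ (K • (⊤ : Submodule A B))) g :=
    (LinearEquiv.isSMulRegular_congr (tensorQuotEquivQuotSMul B K) g).mp h2
  rw [isSMulRegular_quotient_iff_mem_of_smul_mem] at h3
  have h4 := h3 y
  rw [Ideal.smul_top_eq_map] at h4
  apply h4
  change g • y ∈ K.map (algebraMap A B)
  rw [Algebra.smul_def]
  exact hy

theorem faithfullyFlat_mvPolynomial (R : Type u) [CommRing R] (n : ℕ) :
    Module.FaithfullyFlat R (MvPolynomial (Fin n) R) := by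
  rcases subsingleton_or_nontrivial R with h | h
  · refine ⟨?_⟩
    intro m hm
    exact absurd (Subsingleton.elim m ⊤) hm.ne_top
  · infer_instance

theorem smooth_mvPolynomial (R : Type u) [CommRing R] (n : ℕ) :
    Algebra.Smooth R (MvPolynomial (Fin n) R) := ⟨inferInstance, inferInstance⟩

set_option maxHeartbeats 1000000 in
/-- **Koszul-regular sequences become regular on a smooth cover**, relative form -/
theorem exists_cover_mod : ∀ (n : ℕ) (R : Type u) [CommRing R] (J : Ideal R) (f : List R),
    f.length = n → LCI.IsKoszulRegularSeq (R ⧸ J) (f.map (Ideal.Quotient.mk J)) →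
    ∃ (S : Type u) (_ : CommRing S) (_ : Algebra R S), Algebra.Smooth R S ∧
      Module.FaithfullyFlat R S ∧ ∃ gs : List S, RegMod (J.map (algebraMap R S)) gs ∧
        J.map (algebraMap R S) ⊔ Ideal.ofList gs =
          J.map (algebraMap R S) ⊔ (Ideal.ofList f).map (algebraMap R S) := by
  intro n
  induction n with
  | zero =>
    intro R _ J f hf _
    have hf' : f = [] := List.length_eq_zero_iff.mp hf
    subst hf'
    refine ⟨R, inferInstance, inferInstance, ⟨inferInstance, inferInstance⟩, inferInstance, [],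
      regMod_nil _, ?_⟩
    simp
  | succ n ih =>
    intro R _ J f hf hK
    obtain ⟨f₀, f', rfl⟩ : ∃ f₀ f', f = f₀ :: f' := by
      cases f with
      | nil => simp at hf
      | cons a l => exact ⟨a, l, rfl⟩
    have hlen : f'.length = n := by simpa using hf
    let S₁ := MvPolynomial (Fin f'.length) R
    let J₁ : Ideal S₁ := J.map (C : R →+* S₁) ⊔ Ideal.span {gen f₀ f'}
    obtain ⟨S, iCR, iAlg, hsm, hff, gs', hreg', hid'⟩ :=
      ih S₁ J₁ (f'.map (C : R →+* S₁)) (by rw [List.length_map]; exact hlen)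
        (gen_kreg_quot J f₀ f' hK)
    letI : Algebra R S := ((algebraMap S₁ S).comp (C : R →+* S₁)).toAlgebra
    haveI : IsScalarTower R S₁ S := IsScalarTower.of_algebraMap_eq (fun r => rfl)
    have hmapJ : J.map (algebraMap R S) = (J.map (C : R →+* S₁)).map (algebraMap S₁ S) := by
      rw [Ideal.map_map]; rfl
    have hJ₁ : J₁.map (algebraMap S₁ S) =
        J.map (algebraMap R S) ⊔ Ideal.span {algebraMap S₁ S (gen f₀ f')} := by
      rw [Ideal.map_sup, Ideal.map_span, Set.image_singleton, hmapJ]
    haveI hsm₁ : Algebra.Smooth R (MvPolynomial (Fin f'.length) R) := smooth_mvPolynomial R _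
    haveI hff₁ : Module.FaithfullyFlat R (MvPolynomial (Fin f'.length) R) :=
      faithfullyFlat_mvPolynomial R _
    refine ⟨S, iCR, inferInstance, Algebra.Smooth.comp R (MvPolynomial (Fin f'.length) R) S,
      Module.FaithfullyFlat.trans R (MvPolynomial (Fin f'.length) R) S,
      algebraMap S₁ S (gen f₀ f') :: gs', ?_, ?_⟩
    · apply regMod_cons
      · intro y hy
        rw [hmapJ] at hy ⊢
        exact flat_colon _ _ (gen_regular_mod J f₀ f' hK) y hy
      · rw [← hJ₁]
        exact hreg'
    · have hgie : J₁ ⊔ Ideal.ofList (f'.map (C : R →+* S₁)) =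
          J.map (C : R →+* S₁) ⊔ (Ideal.ofList (f₀ :: f')).map (C : R →+* S₁) := by
        rw [← Ideal.map_ofList]
        exact gen_ideal_eq J f₀ f'
      calc J.map (algebraMap R S) ⊔ Ideal.ofList (algebraMap S₁ S (gen f₀ f') :: gs')
          = J₁.map (algebraMap S₁ S) ⊔ Ideal.ofList gs' := by
            rw [Ideal.ofList_cons, ← sup_assoc, ← hJ₁]
        _ = J₁.map (algebraMap S₁ S) ⊔
              (Ideal.ofList (f'.map (C : R →+* S₁))).map (algebraMap S₁ S) := hid'
        _ = (J₁ ⊔ Ideal.ofList (f'.map (C : R →+* S₁))).map (algebraMap S₁ S) :=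
            (Ideal.map_sup _ _ _).symm
        _ = (J.map (C : R →+* S₁) ⊔
              (Ideal.ofList (f₀ :: f')).map (C : R →+* S₁)).map (algebraMap S₁ S) := by rw [hgie]
        _ = J.map (algebraMap R S) ⊔ (Ideal.ofList (f₀ :: f')).map (algebraMap R S) := by
            rw [Ideal.map_sup, Ideal.map_map, Ideal.map_map]
            rfl

/-- **Koszul-regular sequences become regular on a smooth cover** -/
theorem exists_cover (R : Type u) [CommRing R] (f : List R) (hf : LCI.IsKoszulRegularSeq R f) :
    ∃ (S : Type u) (_ : CommRing S) (_ : Algebra R S), Algebra.Smooth R S ∧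
      Module.FaithfullyFlat R S ∧ ∃ gs : List S, RingTheory.Sequence.IsWeaklyRegular S gs ∧
        Ideal.ofList gs = (Ideal.ofList f).map (algebraMap R S) := by
  have h0 : LCI.IsKoszulRegularSeq (R ⧸ (⊥ : Ideal R)) (f.map (Ideal.Quotient.mk ⊥)) :=
    kreg_map_ringEquiv (RingEquiv.quotientBot R).symm f hf
  obtain ⟨S, iCR, iAlg, hsm, hff, gs, hreg, hid⟩ := exists_cover_mod f.length R ⊥ f rfl h0
  refine ⟨S, iCR, iAlg, hsm, hff, gs, ?_, ?_⟩
  · apply isWeaklyRegular_of_regMod_bot
    rw [Ideal.map_bot] at hreg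
    exact hreg
  · rw [Ideal.map_bot, bot_sup_eq, bot_sup_eq] at hid
    exact hid

end Groth.Agent.Helper19.SmCov
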