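import Mathlib
import Groth.Prelude.Def_RegImm
import Groth.Agent.Helper19.SmCov4
import Groth.Agent.Helper19.RegImmBC

/-!
# A Koszul-regular closed immersion becomes regular on a smooth cover (helper19)
-/

set_option autoImplicit false
set_option linter.style.haveILetI false
universe u

open CategoryTheory CategoryTheory.Limits AlgebraicGeometry

namespace Groth.Agent.Helper19.SmCov

open Groth.Agent.Helper19.RegImmBC

section affineLemma

variable {X X' : Scheme.{u}}

/-- an open immersion from an affine scheme identifies the sections over its range -/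
theorem exists_iso_of_openImmersion_Spec (S : CommRingCat.{u}) (j : Spec S ⟶ X')
    [IsOpenImmersion j] (g : X' ⟶ X) (U : X.affineOpens) (φ : Γ(X, U.1) ⟶ S)
    (h : j ≫ g = Spec.map φ ≫ U.2.fromSpec) :
    ∃ (e : j.opensRange ≤ g ⁻¹ᵁ U.1) (θ : Γ(X', j.opensRange) ≅ S),
      g.appLE U.1 j.opensRange e ≫ θ.hom = φ := by
  have hU' : IsAffineOpen j.opensRange := isAffineOpen_opensRange j
  have e : j.opensRange ≤ g ⁻¹ᵁ U.1 := by
    rintro x ⟨y, rfl⟩
    change g (j y) ∈ U.1
    rw [← Scheme.Hom.comp_apply, h, Scheme.Hom.comp_apply]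
    have : U.2.fromSpec ((Spec.map φ) y) ∈ Set.range U.2.fromSpec := ⟨_, rfl⟩
    rw [U.2.range_fromSpec] at this
    exact this
  have hr : Set.range j = Set.range hU'.fromSpec := by
    rw [hU'.range_fromSpec]; rfl
  let κ : Spec S ≅ Spec Γ(X', j.opensRange) := IsOpenImmersion.isoOfRangeEq j hU'.fromSpec hr
  have hκ : κ.hom ≫ hU'.fromSpec = j := IsOpenImmersion.isoOfRangeEq_hom_fac _ _ hr
  let θ : Γ(X', j.opensRange) ≅ S :=
    { hom := Spec.preimage κ.hom
      inv := Spec.preimage κ.inv
      hom_inv_id := by rw [← Spec.preimage_comp, Iso.inv_hom_id, Spec.preimage_id]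
      inv_hom_id := by rw [← Spec.preimage_comp, Iso.hom_inv_id, Spec.preimage_id] }
  refine ⟨e, θ, ?_⟩
  apply Spec.map_injective
  rw [← cancel_mono U.2.fromSpec, Spec.map_comp, Category.assoc,
    IsAffineOpen.SpecMap_appLE_fromSpec g U.2 hU' e]
  change Spec.map (Spec.preimage κ.hom) ≫ _ = _
  rw [Spec.map_preimage, ← Category.assoc, hκ, h]

/-- weakly regular sequences transfer along isomorphisms of rings -/
theorem isWeaklyRegular_map_iso {A B : CommRingCat.{u}} (θ : A ≅ B) (gs : List B)
    (h : RingTheory.Sequence.IsWeaklyRegular B gs) :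
    RingTheory.Sequence.IsWeaklyRegular A (gs.map θ.inv.hom) := by
  letI : Algebra B A := θ.inv.hom.toAlgebra
  haveI : Module.Flat B A := by
    have hb : Function.Bijective θ.inv.hom := ConcreteCategory.bijective_of_isIso θ.inv
    exact RingHom.flat_algebraMap_iff.mp (RingHom.Flat.of_bijective hb)
  exact RingTheory.Sequence.IsWeaklyRegular.of_flat (R := B) (S := A) h

end affineLemma

section main

variable {Z X : Scheme.{u}}

/-- the chart data at a point of a Koszul-regular closed immersion -/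
structure ChartData (i : Z ⟶ X) (z : Z) where
  U : X.affineOpens
  mem : i z ∈ U.1
  rs : List Γ(X, U.1)
  ker : RingHom.ker (i.app U.1).hom = Ideal.ofList rs
  S : CommRingCat.{u}
  φ : Γ(X, U.1) ⟶ S
  smooth : φ.hom.Smooth
  surj : Function.Surjective (Spec.map φ)
  gs : List S
  wreg : RingTheory.Sequence.IsWeaklyRegular S gs
  gen : Ideal.ofList gs = (Ideal.ofList rs).map φ.hom

theorem nonempty_chartData (i : Z ⟶ X) (hi : RegImm.IsRegularImmersion RegImm.Kind.koszul i)
    (z : Z) : Nonempty (ChartData i z) := by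
  obtain ⟨U, hz, -, rs, hrs, hker⟩ := hi.2 z
  obtain ⟨S, iCR, iAlg, hsm, hff, gs, hw, hg⟩ := exists_cover Γ(X, U.1) rs hrs
  refine ⟨⟨U, hz, rs, hker, CommRingCat.of S, CommRingCat.ofHom (algebraMap Γ(X, U.1) S), ?_, ?_,
    gs, hw, hg⟩⟩
  · exact RingHom.smooth_algebraMap.mpr hsm
  · intro p
    obtain ⟨q, hq⟩ := PrimeSpectrum.comap_surjective_of_faithfullyFlat (A := Γ(X, U.1)) (B := S) p
    exact ⟨q, hq⟩

end main

end Groth.Agent.Helper19.SmCov
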