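import Mathlib
import Groth.Prelude.Def_RegImm
import Groth.Agent.Helper19.SmCov5

/-!
# A Koszul-regular closed immersion becomes regular on a smooth cover: the cover (helper19)
-/

set_option autoImplicit false
set_option linter.style.haveILetI false
universe u

open CategoryTheory CategoryTheory.Limits AlgebraicGeometry

namespace Groth.Agent.Helper19.SmCov

open Groth.Agent.Helper19.RegImmBC

variable {Z X : Scheme.{u}} (i : Z ⟶ X) [IsClosedImmersion i]
  (hi : RegImm.IsRegularImmersion RegImm.Kind.koszul i)

/-- chosen chart data -/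
noncomputable def cd (z : Z) : ChartData i z := (nonempty_chartData i hi z).some

/-- the open complement of the image of a closed immersion -/
def complOpen : X.Opens := ⟨(Set.range i)ᶜ, i.isClosedEmbedding.isClosed_range.isOpen_compl⟩

/-- the pieces of the cover -/
noncomputable def piece : Option Z → Scheme.{u}
  | none => (complOpen i : Scheme.{u})
  | some z => Spec (cd i hi z).S

/-- the maps of the pieces to `X` -/
noncomputable def pieceMap : (a : Option Z) → piece i hi a ⟶ X
  | none => (complOpen i).ι
  | some z => Spec.map (cd i hi z).φ ≫ (cd i hi z).U.2.fromSpec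

instance pieceMap_smooth (a : Option Z) : Smooth (pieceMap i hi a) := by
  cases a with
  | none =>
    change Smooth (complOpen i).ι
    infer_instance
  | some z =>
    change Smooth (Spec.map (cd i hi z).φ ≫ (cd i hi z).U.2.fromSpec)
    haveI : Smooth (Spec.map (cd i hi z).φ) :=
      (HasRingHomProperty.Spec_iff (P := @Smooth)).mpr (cd i hi z).smooth
    infer_instance

/-- the cover -/
noncomputable def cover : Scheme.{u} := ∐ (piece i hi)

/-- the covering map -/
noncomputable def coverMap : cover i hi ⟶ X := Sigma.desc (pieceMap i hi)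

instance coverMap_smooth : Smooth (coverMap i hi) :=
  IsZariskiLocalAtSource.sigmaDesc (P := @Smooth) (fun a => pieceMap_smooth i hi a)

instance coverMap_surjective : Surjective (coverMap i hi) := by
  apply Surjective.sigmaDesc_of_union_range_eq_univ
  rw [Set.eq_univ_iff_forall]
  intro x
  rw [Set.mem_iUnion]
  by_cases hx : x ∈ Set.range i
  · obtain ⟨z, rfl⟩ := hx
    refine ⟨some z, ?_⟩
    have h1 : i z ∈ Set.range (cd i hi z).U.2.fromSpec := by
      rw [(cd i hi z).U.2.range_fromSpec]
      exact (cd i hi z).mem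
    obtain ⟨p, hp⟩ := h1
    obtain ⟨q, hq⟩ := (cd i hi z).surj p
    refine ⟨q, ?_⟩
    change (Spec.map (cd i hi z).φ ≫ (cd i hi z).U.2.fromSpec) q = _
    rw [Scheme.Hom.comp_apply, hq, hp]
  · refine ⟨none, ⟨⟨x, hx⟩, rfl⟩⟩

set_option maxHeartbeats 1000000 in
/-- **The base change of a Koszul-regular closed immersion to the cover is a regular immersion.** -/
theorem isRegularImmersion_cover :
    RegImm.IsRegularImmersion RegImm.Kind.regular (pullback.snd i (coverMap i hi)) := by
  refine ⟨inferInstance, fun z' => ?_⟩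
  have hsq : IsPullback (pullback.fst i (coverMap i hi)) (pullback.snd i (coverMap i hi)) i
      (coverMap i hi) := IsPullback.of_hasPullback i (coverMap i hi)
  set i' := pullback.snd i (coverMap i hi) with hi'
  set g' := pullback.fst i (coverMap i hi) with hg'
  obtain ⟨⟨a, y⟩, hy⟩ := (sigmaMk (piece i hi)).surjective (i' z')
  rw [sigmaMk_mk] at hy
  have hgi : (coverMap i hi) (i' z') = i (g' z') := by
    rw [← Scheme.Hom.comp_apply, ← hsq.w, Scheme.Hom.comp_apply]
  cases a with
  | none =>
    exfalso
    have h1 : (coverMap i hi) (i' z') = (pieceMap i hi none) y := by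
      have h0 : Sigma.ι (piece i hi) none ≫ coverMap i hi = pieceMap i hi none :=
        Sigma.ι_desc _ _
      have h00 := Scheme.Hom.comp_apply (Sigma.ι (piece i hi) none) (coverMap i hi) y
      rw [h0] at h00
      rw [← hy]
      exact h00.symm
    have h2 : (pieceMap i hi none) y ∈ (Set.range i)ᶜ := by
      change ((complOpen i).ι y) ∈ _
      exact y.2
    rw [← h1, hgi] at h2
    exact h2 ⟨_, rfl⟩
  | some z =>
    let j : Spec (cd i hi z).S ⟶ cover i hi := Sigma.ι (piece i hi) (some z)
    haveI : IsOpenImmersion j := by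
      change IsOpenImmersion (Sigma.ι (piece i hi) (some z))
      infer_instance
    have hj : j ≫ coverMap i hi = Spec.map (cd i hi z).φ ≫ (cd i hi z).U.2.fromSpec :=
      Sigma.ι_desc _ _
    obtain ⟨e, θ, hθ⟩ := exists_iso_of_openImmersion_Spec (cd i hi z).S j (coverMap i hi)
      (cd i hi z).U (cd i hi z).φ hj
    let U' : (cover i hi).affineOpens := ⟨j.opensRange, isAffineOpen_opensRange j⟩
    have hzU' : i' z' ∈ U'.1 := ⟨y, hy⟩
    have hk := ker_app_baseChange hsq (cd i hi z).U U' e
    rw [(cd i hi z).ker] at hk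
    have hφ : (coverMap i hi).appLE (cd i hi z).U.1 j.opensRange e = (cd i hi z).φ ≫ θ.inv := by
      rw [← hθ, Category.assoc, Iso.hom_inv_id, Category.comp_id]
    have hgen : Ideal.ofList ((cd i hi z).gs.map θ.inv.hom) = RingHom.ker (i'.app U'.1).hom := by
      rw [hk, ← Ideal.map_ofList, (cd i hi z).gen, Ideal.map_map]
      congr 1
      change _ = ((coverMap i hi).appLE (cd i hi z).U.1 j.opensRange e).hom
      rw [hφ]
      rfl
    refine ⟨U', hzU', inferInstance, (cd i hi z).gs.map θ.inv.hom, ?_, hgen.symm⟩
    change RingTheory.Sequence.IsRegular _ _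
    refine ⟨isWeaklyRegular_map_iso θ _ (cd i hi z).wreg, ?_⟩
    rw [smul_eq_mul, Ideal.mul_top, hgen]
    intro htop
    have h3 : (1 : Γ(cover i hi, U'.1)) ∈ RingHom.ker (i'.app U'.1).hom := by
      rw [← htop]; trivial
    rw [RingHom.mem_ker, map_one] at h3
    haveI : Nonempty (i' ⁻¹ᵁ U'.1 : (pullback i (coverMap i hi)).Opens) := ⟨⟨z', hzU'⟩⟩
    haveI : Nontrivial Γ(pullback i (coverMap i hi), i' ⁻¹ᵁ U'.1) :=
      Scheme.component_nontrivial _ (i' ⁻¹ᵁ U'.1)
    exact one_ne_zero h3

end Groth.Agent.Helper19.SmCov
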