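import Mathlib
import Groth.Agent.Lib.Helper16.RegDesc1
import Groth.Agent.Helper19.RegImmBC3

set_option autoImplicit false
set_option linter.style.haveILetI false
set_option linter.unusedSectionVars false
universe u

namespace Groth.Agent.Helper19.SmDesc

open Groth.Agent.Lib.Helper16.RegDesc

section poly

variable (A : Type u) [CommRing A] (σ : Type*)

/-- `A → A[X]/(X)` is bijective. -/
theorem bijective_algebraMap_quot_idealOfVars :
    Function.Bijective (algebraMap A (MvPolynomial σ A ⧸ MvPolynomial.idealOfVars σ A)) := by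
  constructor
  · rw [injective_iff_map_eq_zero]
    intro a ha
    have h1 : (MvPolynomial.C a : MvPolynomial σ A) ∈ MvPolynomial.idealOfVars σ A := by
      rw [← Ideal.Quotient.eq_zero_iff_mem]
      exact ha
    have h2 : (MvPolynomial.C a : MvPolynomial σ A) ∈ MvPolynomial.idealOfVars σ A ^ 1 := by
      rwa [pow_one]
    rcases (MvPolynomial.C_mem_pow_idealOfVars_iff 1 a).mp h2 with h | h
    · exact h
    · exact absurd h one_ne_zero
  · intro y
    classical
    obtain ⟨f, rfl⟩ := Ideal.Quotient.mk_surjective y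
    refine ⟨MvPolynomial.constantCoeff f, ?_⟩
    change Ideal.Quotient.mk _ (MvPolynomial.C (MvPolynomial.constantCoeff f)) = _
    rw [Ideal.Quotient.eq, ← pow_one (MvPolynomial.idealOfVars σ A),
      MvPolynomial.mem_pow_idealOfVars_iff']
    intro x hx
    have hx0 : x = 0 := by
      have : x.degree = 0 := by omega
      exact (Finsupp.degree_eq_zero_iff x).mp this
    subst hx0
    rw [MvPolynomial.coeff_sub, MvPolynomial.coeff_C, if_pos rfl]
    exact sub_self _


/-- the quotient of an étale `A[X]`-algebra by the variables is étale over `A` -/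
theorem etale_quot {n : ℕ} (E : Type u) [CommRing E] [Algebra A E]
    [Algebra (MvPolynomial (Fin n) A) E] [IsScalarTower A (MvPolynomial (Fin n) A) E]
    [Algebra.Etale (MvPolynomial (Fin n) A) E] :
    Algebra.Etale A
      (E ⧸ (MvPolynomial.idealOfVars (Fin n) A).map (algebraMap (MvPolynomial (Fin n) A) E)) := by
  set P := MvPolynomial (Fin n) A with hP
  set 𝔵 := MvPolynomial.idealOfVars (Fin n) A with h𝔵
  haveI : Algebra.Etale (P ⧸ 𝔵) (E ⧸ 𝔵.map (algebraMap P E)) :=
    Algebra.Etale.of_equiv (A := TensorProduct P (P ⧸ 𝔵) E)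
      (Algebra.TensorProduct.quotIdealMapEquivQuotTensor E 𝔵).symm
  haveI : Algebra.Etale A (P ⧸ 𝔵) :=
    Algebra.Etale.of_equiv (AlgEquiv.ofBijective (Algebra.ofId A (P ⧸ 𝔵))
      (bijective_algebraMap_quot_idealOfVars A (Fin n)))
  haveI : IsScalarTower A (P ⧸ 𝔵) (E ⧸ 𝔵.map (algebraMap P E)) :=
    IsScalarTower.of_algebraMap_eq (fun a => by
      change _ = algebraMap (P ⧸ 𝔵) (E ⧸ 𝔵.map (algebraMap P E)) (Ideal.Quotient.mk 𝔵 (algebraMap A P a))
      rw [Ideal.Quotient.algebraMap_quotient_map_quotient, ← IsScalarTower.algebraMap_apply]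
      rfl)
  exact Algebra.Etale.comp A (P ⧸ 𝔵) (E ⧸ 𝔵.map (algebraMap P E))

end poly


section away

variable {A : Type u} [CommRing A]

/-- the local condition over a basic localization gives it at a prime of the ring -/
theorem locKAt_of_away (k : RegImm.Kind) (I 𝔭 : Ideal A) [𝔭.IsPrime] (hI : I ≤ 𝔭) (g : A)
    (hg : g ∉ 𝔭)
    (h : LocK k (Localization.Away g) (I.map (algebraMap A (Localization.Away g)))) :
    ∃ c : A, c ∉ 𝔭 ∧ ∃ l : List (Localization.Away c), k.Seq (Localization.Away c) l ∧
      I.map (algebraMap A (Localization.Away c)) = Ideal.ofList l := by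
  set A' := Localization.Away g with hA'
  have hdisj : Disjoint (Submonoid.powers g : Set A) (𝔭 : Set A) := by
    rw [Set.disjoint_left]
    rintro _ ⟨n, rfl⟩ hn
    exact hg (Ideal.IsPrime.mem_of_pow_mem inferInstance n hn)
  haveI hP' : (𝔭.map (algebraMap A A')).IsPrime :=
    IsLocalization.isPrime_of_isPrime_disjoint (Submonoid.powers g) A' 𝔭 inferInstance hdisj
  have hcomap : (𝔭.map (algebraMap A A')).comap (algebraMap A A') = 𝔭 :=
    IsLocalization.under_map_of_isPrime_disjoint (Submonoid.powers g) A' inferInstance hdisj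
  obtain ⟨g', hg', l, hl, hIl⟩ := h (𝔭.map (algebraMap A A')) (Ideal.map_mono hI)
  set x := (IsLocalization.Away.sec g g').1 with hx
  have hass : Associated (algebraMap A A' x) g' := IsLocalization.Away.associated_sec_fst g g'
  haveI : IsLocalization.Away (g * x) (Localization.Away g') :=
    IsLocalization.Away.mul_of_associated g x g' hass
  have hxp : x ∉ 𝔭 := by
    intro hxp
    apply hg'
    rw [← Ideal.mem_iff_of_associated hass]
    exact Ideal.mem_map_of_mem _ hxp
  have hc : g * x ∉ 𝔭 := fun hmem =>
    (Ideal.IsPrime.mem_or_mem inferInstance hmem).elim hg hxp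
  refine ⟨g * x, hc, ?_⟩
  have hJl : I.map (algebraMap A (Localization.Away g')) = Ideal.ofList l := by
    rw [IsScalarTower.algebraMap_eq A A' (Localization.Away g'), ← Ideal.map_map]
    exact hIl
  exact exists_seq_of_isLocalizationAway k (g * x) (Localization.Away g')
    (Localization.Away (g * x)) I (map_away_ne_top I 𝔭 hI (g * x) hc _) l hl hJl

end away


section descent

open Groth.Agent.Helper19.RegImmBC

variable {A T : Type u} [CommRing A] [CommRing T] [Algebra A T]

/-- descent of the local condition at a prime along a flat finitely presented algebra -/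
theorem locKAt_of_flat_fp (k : RegImm.Kind) (hk : k ≠ RegImm.Kind.regular)
    [Module.Flat A T] [Algebra.FinitePresentation A T]
    (I : Ideal A) (l : List T) (hl : k.Seq T l) (hI : I.map (algebraMap A T) = Ideal.ofList l)
    (qT : Ideal T) [qT.IsPrime] (𝔭 : Ideal A) [𝔭.IsPrime]
    (h𝔭 : qT.comap (algebraMap A T) = 𝔭) (hI𝔭 : I ≤ 𝔭) :
    ∃ c : A, c ∉ 𝔭 ∧ ∃ l' : List (Localization.Away c), k.Seq (Localization.Away c) l' ∧
      I.map (algebraMap A (Localization.Away c)) = Ideal.ofList l' := by
  classical
  -- open image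
  have hopen : IsOpen (Set.range (PrimeSpectrum.comap (algebraMap A T))) :=
    (PrimeSpectrum.isOpenMap_comap_of_hasGoingDown_of_finitePresentation (R := A) (S := T)).isOpen_range
  have hmem : (⟨𝔭, inferInstance⟩ : PrimeSpectrum A) ∈
      Set.range (PrimeSpectrum.comap (algebraMap A T)) :=
    ⟨⟨qT, inferInstance⟩, PrimeSpectrum.ext h𝔭⟩
  obtain ⟨_, ⟨_, ⟨g, rfl⟩, rfl⟩, hg𝔭, hgO⟩ :=
    PrimeSpectrum.isBasis_basic_opens.exists_subset_of_mem_open hmem hopen
  have hg : g ∉ 𝔭 := hg𝔭
  refine locKAt_of_away k I 𝔭 hI𝔭 g hg ?_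
  -- the localized algebras
  set M := Submonoid.powers g with hM
  set A' := Localization.Away g with hA'
  set T' := Localization (Algebra.algebraMapSubmonoid T M) with hT'
  haveI : Module.Flat A' T' := (Module.flat_iff_of_isLocalization A' M T').mpr inferInstance
  have hρ : (algebraMap T T').Flat := RingHom.flat_algebraMap_iff.mpr inferInstance
  -- the prime of `T'`
  have hdisjT : ∀ r : Ideal T, r.IsPrime → g ∉ r.comap (algebraMap A T) →
      Disjoint (Algebra.algebraMapSubmonoid T M : Set T) (r : Set T) := by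
    intro r hr hgr
    rw [Set.disjoint_left]
    rintro _ ⟨_, ⟨n, rfl⟩, rfl⟩ hn
    apply hgr
    rw [Ideal.mem_comap]
    rw [map_pow] at hn
    exact Ideal.IsPrime.mem_of_pow_mem hr n hn
  have hne : (Ideal.ofList l).map (algebraMap T T') ≠ ⊤ := by
    have hd := hdisjT qT inferInstance (by rw [h𝔭]; exact hg)
    have hpr : (qT.map (algebraMap T T')).IsPrime :=
      IsLocalization.isPrime_of_isPrime_disjoint _ T' qT inferInstance hd
    have hle : (Ideal.ofList l).map (algebraMap T T') ≤ qT.map (algebraMap T T') := by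
      apply Ideal.map_mono
      rw [← hI, Ideal.map_le_iff_le_comap, h𝔭]
      exact hI𝔭
    intro htop
    exact hpr.ne_top (top_le_iff.mp (htop ▸ hle))
  refine locK_of_family k hk (I.map (algebraMap A A')) (ι := PUnit.{u + 1}) (fun _ => T')
    (fun _ => inferInstance) ?_ ?_
  · -- surjectivity on spectra
    intro p'
    have hp : PrimeSpectrum.comap (algebraMap A A') p' ∈
        Set.range (PrimeSpectrum.comap (algebraMap A T)) := by
      apply hgO
      change g ∉ (PrimeSpectrum.comap (algebraMap A A') p').asIdeal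
      intro hgp
      have : algebraMap A A' g ∈ p'.asIdeal := hgp
      exact p'.2.ne_top (Ideal.eq_top_of_isUnit_mem _ this
        (IsLocalization.Away.algebraMap_isUnit g))
    obtain ⟨r, hr⟩ := hp
    have hgr : g ∉ r.asIdeal.comap (algebraMap A T) := by
      intro hgr
      have h1 : g ∈ (PrimeSpectrum.comap (algebraMap A T) r).asIdeal := hgr
      rw [hr] at h1
      have : algebraMap A A' g ∈ p'.asIdeal := h1
      exact p'.2.ne_top (Ideal.eq_top_of_isUnit_mem _ this
        (IsLocalization.Away.algebraMap_isUnit g))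
    have hd := hdisjT r.asIdeal r.2 hgr
    have hpr : (r.asIdeal.map (algebraMap T T')).IsPrime :=
      IsLocalization.isPrime_of_isPrime_disjoint _ T' r.asIdeal r.2 hd
    have hcm : (r.asIdeal.map (algebraMap T T')).comap (algebraMap T T') = r.asIdeal :=
      IsLocalization.under_map_of_isPrime_disjoint _ T' r.2 hd
    refine ⟨PUnit.unit, ⟨r.asIdeal.map (algebraMap T T'), hpr⟩, ?_⟩
    have hinj := PrimeSpectrum.localization_comap_injective A' M
    have := @hinj ⟨(r.asIdeal.map (algebraMap T T')).comap (algebraMap A' T'),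
      Ideal.comap_isPrime _ _⟩ p' (by
        apply PrimeSpectrum.ext
        change ((r.asIdeal.map (algebraMap T T')).comap (algebraMap A' T')).comap (algebraMap A A') = _
        rw [Ideal.comap_comap, ← IsScalarTower.algebraMap_eq A A' T',
          IsScalarTower.algebraMap_eq A T T', ← Ideal.comap_comap, hcm]
        exact congrArg PrimeSpectrum.asIdeal hr)
    exact congrArg PrimeSpectrum.asIdeal this
  · intro _
    right
    refine ⟨l.map (algebraMap T T'), kindFlatStable k _ hρ l hl ?_, ?_⟩
    · rw [← Ideal.map_ofList]; exact hne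
    · rw [Ideal.map_map, ← IsScalarTower.algebraMap_eq A A' T', IsScalarTower.algebraMap_eq A T T',
        ← Ideal.map_map, hI, Ideal.map_ofList]

end descent

end Groth.Agent.Helper19.SmDesc
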