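import Mathlib

set_option autoImplicit false
set_option linter.style.haveILetI false
set_option linter.unusedSectionVars false
universe u

namespace Groth.Agent.Helper19.SmDesc

section coredata

variable {A B : Type u} [CommRing A] [CommRing B] [Algebra A B] (K : Ideal B) {n : ℕ}
  (b : Fin n → B) (hbK : ∀ i, b i ∈ K) (D' : Fin n → Derivation A B B)
  (hD : ∀ i j, D' i (b j) = if i = j then 1 else 0)

include hD in
theorem D_sum (β : Fin n → B) (i : Fin n) :
    D' i (∑ j, β j * b j) = β i + ∑ j, b j * D' i (β j) := by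
  classical
  rw [map_sum]
  simp_rw [Derivation.leibniz, hD, smul_eq_mul]
  rw [Finset.sum_add_distrib]
  congr 1
  rw [Finset.sum_eq_single i]
  · simp
  · intro j _ hji
    rw [if_neg (Ne.symm hji), mul_zero]
  · intro h; exact absurd (Finset.mem_univ i) h

/-- the map `k ↦ (D_i k mod K)_i` on `K` -/
noncomputable def psi : K →ₗ[B] (Fin n → B ⧸ K) where
  toFun x := fun i => Ideal.Quotient.mk K (D' i x)
  map_add' x y := by
    funext i
    simp only [Submodule.coe_add, map_add, Pi.add_apply]
  map_smul' β x := by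
    funext i
    have hx : Ideal.Quotient.mk K (x : B) = 0 := Ideal.Quotient.eq_zero_iff_mem.mpr x.2
    simp only [SetLike.val_smul, smul_eq_mul, Derivation.leibniz, map_add, map_mul, hx, zero_mul,
      add_zero, RingHom.id_apply, Pi.smul_apply]
    rfl

theorem psi_apply (x : K) (i : Fin n) : psi K D' x i = Ideal.Quotient.mk K (D' i x) := rfl

theorem smul_pi_eq_zero {r : B} (hr : r ∈ K) (v : Fin n → B ⧸ K) : r • v = 0 := by
  funext i
  have : r • v i = Ideal.Quotient.mk K r * v i := rfl
  rw [Pi.smul_apply, this, Ideal.Quotient.eq_zero_iff_mem.mpr hr, zero_mul]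
  rfl

/-- the retraction `K/K² → (B/K)^n` -/
noncomputable def rho : K.Cotangent →ₗ[B] (Fin n → B ⧸ K) :=
  Submodule.liftQ (K • ⊤ : Submodule B K) (psi K D') (by
    rw [Submodule.smul_le]
    intro r hr x _
    rw [LinearMap.mem_ker, map_smul]
    exact smul_pi_eq_zero K hr _)

theorem rho_toCotangent (x : K) : rho K D' (K.toCotangent x) = psi K D' x := rfl

/-- the map `(B/K)^n → K/K²` sending the `i`-th basis vector to the class of `b i` -/
noncomputable def alpha : (Fin n → B ⧸ K) →ₗ[B] K.Cotangent :=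
  (Fintype.linearCombination (B ⧸ K) (fun i => K.toCotangent ⟨b i, hbK i⟩)).restrictScalars B

theorem alpha_apply (v : Fin n → B ⧸ K) :
    alpha K b hbK v = ∑ i, v i • K.toCotangent ⟨b i, hbK i⟩ := by
  simp [alpha, Fintype.linearCombination_apply]

include hD in
theorem rho_alpha (v : Fin n → B ⧸ K) : rho K D' (alpha K b hbK v) = v := by
  classical
  rw [alpha_apply, map_sum]
  funext j
  rw [Finset.sum_apply]
  have key : ∀ i, (rho K D' (v i • K.toCotangent ⟨b i, hbK i⟩)) j = if i = j then v i else 0 := by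
    intro i
    obtain ⟨β, hβ⟩ := Ideal.Quotient.mk_surjective (v i)
    have h1 : v i • K.toCotangent ⟨b i, hbK i⟩ = β • K.toCotangent ⟨b i, hbK i⟩ := by
      rw [← hβ]; rfl
    rw [h1, map_smul, rho_toCotangent, Pi.smul_apply, psi_apply, hD]
    by_cases hij : j = i
    · subst hij
      rw [if_pos rfl, if_pos rfl, ← hβ]
      change Ideal.Quotient.mk K β * Ideal.Quotient.mk K 1 = _
      rw [map_one, mul_one]
    · rw [if_neg hij, if_neg (Ne.symm hij), map_zero, smul_zero]
  simp_rw [key]
  rw [Finset.sum_eq_single j]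
  · rw [if_pos rfl]
  · intro i _ hij; rw [if_neg hij]
  · intro h; exact absurd (Finset.mem_univ j) h


include hbK in
theorem span_le_K : Ideal.span (Set.range b) ≤ K :=
  Ideal.span_le.mpr (by rintro _ ⟨i, rfl⟩; exact hbK i)

/-- the map `ν : (b) → (B/K)^n` -/
noncomputable def nu : (Ideal.span (Set.range b) : Ideal B) →ₗ[B] (Fin n → B ⧸ K) :=
  (psi K D').comp (Submodule.inclusion (span_le_K K b hbK))

theorem nu_apply (x : (Ideal.span (Set.range b) : Ideal B)) (i : Fin n) :
    nu K b hbK D' x i = Ideal.Quotient.mk K (D' i x) := rfl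

include hD in
theorem nu_sum (β : Fin n → B) (hx : ∑ j, β j * b j ∈ Ideal.span (Set.range b)) (i : Fin n) :
    nu K b hbK D' ⟨∑ j, β j * b j, hx⟩ i = Ideal.Quotient.mk K (β i) := by
  rw [nu_apply]
  change Ideal.Quotient.mk K (D' i (∑ j, β j * b j)) = _
  rw [D_sum b D' hD, map_add, add_eq_left, Ideal.Quotient.eq_zero_iff_mem]
  exact Ideal.sum_mem _ fun j _ => K.mul_mem_right _ (hbK j)

include hD in
theorem nu_surjective : Function.Surjective (nu K b hbK D') := by
  intro v
  choose β hβ using fun i => Ideal.Quotient.mk_surjective (v i)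
  have hx : ∑ j, β j * b j ∈ Ideal.span (Set.range b) :=
    Ideal.sum_mem _ fun j _ => Ideal.mul_mem_left _ _ (Ideal.subset_span ⟨j, rfl⟩)
  refine ⟨⟨_, hx⟩, ?_⟩
  funext i
  rw [nu_sum K b hbK D' hD β hx i, hβ]

include hD in
theorem nu_eq_zero (x : (Ideal.span (Set.range b) : Ideal B)) (h : nu K b hbK D' x = 0) :
    (x : B) ∈ K * Ideal.span (Set.range b) := by
  obtain ⟨β, hβ⟩ := Ideal.mem_span_range_iff_exists_fun.mp x.2
  have hx : ∑ j, β j * b j ∈ Ideal.span (Set.range b) := hβ ▸ x.2
  have hxe : x = ⟨∑ j, β j * b j, hx⟩ := Subtype.ext hβ.symm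
  rw [← hβ]
  refine Ideal.sum_mem _ fun j _ => Ideal.mul_mem_mul ?_ (Ideal.subset_span ⟨j, rfl⟩)
  have h1 := congrFun h j
  rw [hxe, nu_sum K b hbK D' hD β hx j, Pi.zero_apply, Ideal.Quotient.eq_zero_iff_mem] at h1
  exact h1

include hD in
theorem alpha_nu (x : (Ideal.span (Set.range b) : Ideal B)) :
    alpha K b hbK (nu K b hbK D' x) = K.toCotangent ⟨x, span_le_K K b hbK x.2⟩ := by
  obtain ⟨β, hβ⟩ := Ideal.mem_span_range_iff_exists_fun.mp x.2
  have hx : ∑ j, β j * b j ∈ Ideal.span (Set.range b) := hβ ▸ x.2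
  have hxe : x = ⟨∑ j, β j * b j, hx⟩ := Subtype.ext hβ.symm
  rw [alpha_apply]
  have h1 : ∀ i, nu K b hbK D' x i • K.toCotangent ⟨b i, hbK i⟩ =
      K.toCotangent (β i • ⟨b i, hbK i⟩) := by
    intro i
    rw [hxe, nu_sum K b hbK D' hD β hx i, map_smul]
    rfl
  simp_rw [h1]
  rw [← map_sum, Ideal.toCotangent_eq]
  have h2 : ((∑ i, β i • (⟨b i, hbK i⟩ : K) : K) : B) = ∑ i, β i * b i := by
    rw [Submodule.coe_sum]
    rfl
  rw [h2, hβ, sub_self]
  exact zero_mem _

end coredata


section deriv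

open KaehlerDifferential TensorProduct

variable (A : Type u) [CommRing A] {n : ℕ} (E : Type u) [CommRing E] [Algebra A E]
  [Algebra (MvPolynomial (Fin n) A) E] [IsScalarTower A (MvPolynomial (Fin n) A) E]
  [Algebra.FormallyEtale (MvPolynomial (Fin n) A) E]

/-- coordinate derivations on an algebra étale over a polynomial algebra -/
theorem exists_derivations :
    ∃ D' : Fin n → Derivation A E E, ∀ i j,
      D' i (algebraMap (MvPolynomial (Fin n) A) E (MvPolynomial.X j)) = if i = j then 1 else 0 := by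
  classical
  let bΩ : Module.Basis (Fin n) E (Ω[E⁄A]) :=
    ((mvPolynomialBasis A (Fin n)).baseChange E).map
      (tensorKaehlerEquivOfFormallyEtale A (MvPolynomial (Fin n) A) E)
  have hb : ∀ j, bΩ j = D A E (algebraMap (MvPolynomial (Fin n) A) E (MvPolynomial.X j)) := by
    intro j
    simp only [bΩ, Module.Basis.map_apply, Module.Basis.baseChange_apply,
      mvPolynomialBasis_apply, tensorKaehlerEquivOfFormallyEtale_apply, mapBaseChange_tmul,
      one_smul, map_D]
  refine ⟨fun i => (bΩ.coord i).compDer (D A E), fun i j => ?_⟩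
  change bΩ.coord i (D A E (algebraMap (MvPolynomial (Fin n) A) E (MvPolynomial.X j))) = _
  rw [← hb, Module.Basis.coord_apply, Module.Basis.repr_self, Finsupp.single_apply]
  by_cases h : i = j
  · rw [if_pos h, if_pos h.symm]
  · rw [if_neg h, if_neg (Ne.symm h)]

end deriv

end Groth.Agent.Helper19.SmDesc
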