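import Mathlib
import Groth.Agent.Helper19.SmDesc1
import Groth.Agent.Helper19.SmDesc2
import Groth.Agent.Helper19.ConSplit8
import Groth.Agent.Helper19.ConSplit2

set_option autoImplicit false
set_option linter.style.haveILetI false
set_option linter.unusedSectionVars false
universe u

namespace Groth.Agent.Helper19.SmDesc

open Groth.Agent.Helper19.ConSplit Groth.Agent.Helper19.RegImmBC

section chart

variable (k : RegImm.Kind) (hk : KindOK.{u} k) (hkk : k ≠ RegImm.Kind.koszul)
  {A E : Type u} [CommRing A] [CommRing E] [Algebra A E] {n : ℕ}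
  [Algebra (MvPolynomial (Fin n) A) E] [IsScalarTower A (MvPolynomial (Fin n) A) E]
  [Algebra.Etale (MvPolynomial (Fin n) A) E]

set_option maxHeartbeats 800000 in
include hk hkk in
/-- the étale chart: on an algebra étale over `A[X]` with the variables in `K` and
`K = (X) + I E`, the ideal `I` becomes generated by a sequence of kind `k` in an étale
`A`-algebra. -/
theorem exists_etale_chart (K : Ideal E)
    (hbK : ∀ i, algebraMap (MvPolynomial (Fin n) A) E (MvPolynomial.X i) ∈ K)
    (rs : List E) (hrs : k.Seq E rs) (hK : K = Ideal.ofList rs)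
    (q : Ideal E) [q.IsPrime] (hKq : K ≤ q)
    (I : Ideal A) (hIK : I.map (algebraMap A E) ≤ K)
    (hKI : K ≤ Ideal.span (Set.range fun i =>
      algebraMap (MvPolynomial (Fin n) A) E (MvPolynomial.X i)) ⊔ I.map (algebraMap A E)) :
    ∃ (T : Type u) (_ : CommRing T) (_ : Algebra A T), Algebra.Etale A T ∧
      ∃ l : List T, k.Seq T l ∧ I.map (algebraMap A T) = Ideal.ofList l ∧
        ∃ qT : Ideal T, qT.IsPrime ∧ qT.comap (algebraMap A T) = q.comap (algebraMap A E) := by
  classical
  set P := MvPolynomial (Fin n) A with hP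
  set b : Fin n → E := fun i => algebraMap P E (MvPolynomial.X i) with hb
  set J : Ideal E := Ideal.span (Set.range b) with hJ
  have hJK : J ≤ K := span_le_K K b hbK
  have hJfg : J.FG := Submodule.fg_span (Set.finite_range b)
  obtain ⟨D', hD⟩ := exists_derivations A E (n := n)
  have hh : Ideal.span (Set.range rs.get) = K := by
    rw [hK, ofList_eq_span_range_get]
  obtain ⟨a₀, n', m, f, e, ha₀, hnm, hfJ, h1, h2, -⟩ :=
    core K J hJK hJfg q hKq K.toCotangent K.toCotangent_surjective
      (fun x => by rw [Ideal.toCotangent_eq_zero])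
      (nu K b hbK D') (nu_surjective K b hbK D' hD)
      (fun x hx => nu_eq_zero K b hbK D' hD x hx)
      (alpha K b hbK) (rho K D') (rho_alpha K b hbK D' hD)
      (fun x => alpha_nu K b hbK D' hD x)
      rs.get hh (hk.quasi rs hrs)
  -- the localization
  set E₂ := Localization.Away a₀ with hE₂
  have hflat : (algebraMap E E₂).Flat := RingHom.flat_algebraMap_iff.mpr inferInstance
  have hunit : IsUnit (algebraMap E E₂ a₀) := IsLocalization.Away.algebraMap_isUnit a₀
  have hdisj : Disjoint (Submonoid.powers a₀ : Set E) (q : Set E) := by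
    rw [Set.disjoint_left]
    rintro _ ⟨N, rfl⟩ hN
    exact ha₀ (Ideal.IsPrime.mem_of_pow_mem inferInstance N hN)
  haveI hq₂ : (q.map (algebraMap E E₂)).IsPrime :=
    IsLocalization.isPrime_of_isPrime_disjoint (Submonoid.powers a₀) E₂ q inferInstance hdisj
  have hq₂c : (q.map (algebraMap E E₂)).comap (algebraMap E E₂) = q :=
    IsLocalization.under_map_of_isPrime_disjoint (Submonoid.powers a₀) E₂ inferInstance hdisj
  have hKtop : K.map (algebraMap E E₂) ≠ ⊤ := by
    intro htop
    exact hq₂.ne_top (top_le_iff.mp (htop ▸ Ideal.map_mono hKq))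
  -- the quotient
  set 𝔵 := MvPolynomial.idealOfVars (Fin n) A with h𝔵
  have hJ𝔵 : J = 𝔵.map (algebraMap P E) := by
    rw [h𝔵, MvPolynomial.idealOfVars, Ideal.map_span, ← Set.range_comp]
    rfl
  have hJ₂ : J.map (algebraMap E E₂) = 𝔵.map (algebraMap P E₂) := by
    rw [hJ𝔵, Ideal.map_map, ← IsScalarTower.algebraMap_eq]
  set T := E₂ ⧸ 𝔵.map (algebraMap P E₂) with hT
  let π : E₂ →+* T := Ideal.Quotient.mk _
  have hπ : Function.Surjective π := Ideal.Quotient.mk_surjective
  have hker : RingHom.ker π = J.map (algebraMap E E₂) := by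
    rw [hJ₂]; exact Ideal.mk_ker
  obtain ⟨hseq, hgen⟩ := ring_final k hk (algebraMap E E₂) hflat a₀ hunit K J rs hrs hK hKtop
    f e hnm hfJ hJK h1 h2 π hπ hker (fun h => absurd h hkk)
  haveI : Algebra.Etale E E₂ := Algebra.Etale.of_isLocalizationAway a₀
  haveI : Algebra.Etale P E₂ := Algebra.Etale.comp P E E₂
  haveI hét : Algebra.Etale A T := etale_quot A E₂
  refine ⟨T, inferInstance, inferInstance, hét, _, hseq, ?_, ?_⟩
  · rw [← hgen]
    have hAT : algebraMap A T = π.comp ((algebraMap E E₂).comp (algebraMap A E)) := by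
      ext a
      change _ = Ideal.Quotient.mk _ (algebraMap E E₂ (algebraMap A E a))
      rw [← IsScalarTower.algebraMap_apply A E E₂]
      rfl
    have hI₂ : I.map (algebraMap A T) = ((I.map (algebraMap A E)).map (algebraMap E E₂)).map π := by
      rw [hAT, Ideal.map_map, Ideal.map_map, RingHom.comp_assoc]
    rw [hI₂]
    apply le_antisymm
    · exact Ideal.map_mono (Ideal.map_mono hIK)
    · have h3 : (K.map (algebraMap E E₂)).map π ≤
          ((J ⊔ I.map (algebraMap A E)).map (algebraMap E E₂)).map π :=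
        Ideal.map_mono (Ideal.map_mono hKI)
      refine h3.trans ?_
      rw [Ideal.map_sup, Ideal.map_sup, sup_le_iff]
      refine ⟨?_, le_rfl⟩
      rw [← hker, Ideal.map_le_iff_le_comap]
      intro x hx
      rw [Ideal.mem_comap, RingHom.mem_ker.mp hx]
      exact zero_mem _
  · have hkerle : RingHom.ker π ≤ q.map (algebraMap E E₂) := by
      rw [hker]; exact Ideal.map_mono (hJK.trans hKq)
    refine ⟨(q.map (algebraMap E E₂)).map π,
      Ideal.map_isPrime_of_surjective hπ hkerle, ?_⟩
    have hAT : algebraMap A T = π.comp ((algebraMap E E₂).comp (algebraMap A E)) := by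
      ext a
      change _ = Ideal.Quotient.mk _ (algebraMap E E₂ (algebraMap A E a))
      rw [← IsScalarTower.algebraMap_apply A E E₂]
      rfl
    rw [hAT, ← Ideal.comap_comap, ← Ideal.comap_comap, Ideal.comap_map_of_surjective π hπ,
      ← RingHom.ker_eq_comap_bot, sup_eq_left.mpr hkerle, hq₂c]

end chart

end Groth.Agent.Helper19.SmDesc
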