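import Mathlib
import Groth.Agent.Lib.Helper25.SectionRegular

set_option autoImplicit false
set_option linter.style.haveILetI false
set_option linter.unusedSectionVars false
universe u

namespace Groth.Agent.Helper19.SmDesc

open KaehlerDifferential TensorProduct Groth.Agent.Lib.Helper25.SectionRegular

section three

variable {A B : Type u} [CommRing A] [CommRing B] [Algebra A B] [Algebra.Smooth A B]

set_option maxHeartbeats 800000 in
/-- near a prime, `K` is generated by the coordinates and the image of the ideal of the base -/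
theorem exists_mul_mem_sup_map (K : Ideal B)
    (hsurj : Function.Surjective ((Ideal.Quotient.mk K).comp (algebraMap A B)))
    (hKfg : K.FG) (q : Ideal B) [q.IsPrime] (hKq : K ≤ q) {n : ℕ} (b : Fin n → B)
    (hbK : ∀ i, b i ∈ K) (s : B) (hsq : s ∉ q)
    (hs : ∀ ω : Ω[B⁄A], s • ω ∈ Submodule.span B (Set.range fun i => D A B (b i))) :
    ∃ t : B, t ∉ q ∧ ∀ x ∈ K, t * x ∈
      Ideal.span (Set.range b) ⊔ (K.comap (algebraMap A B)).map (algebraMap A B) := by
  classical
  set I := K.comap (algebraMap A B) with hI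
  have hIK : I.map (algebraMap A B) ≤ K := Ideal.map_comap_le
  let μ : B →+* B ⧸ I.map (algebraMap A B) := Ideal.Quotient.mk (I.map (algebraMap A B))
  have hμ : Function.Surjective μ := Ideal.Quotient.mk_surjective
  have hkerμ : RingHom.ker μ = I.map (algebraMap A B) := Ideal.mk_ker
  haveI : Algebra.Smooth (A ⧸ I) (B ⧸ I.map (algebraMap A B)) :=
    Algebra.Smooth.of_equiv (Algebra.TensorProduct.quotIdealMapEquivQuotTensor B I).symm
  set Kb : Ideal (B ⧸ I.map (algebraMap A B)) := K.map μ with hKb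
  have hcomap : Kb.comap μ = K := by
    rw [hKb, Ideal.comap_map_of_surjective μ hμ, ← RingHom.ker_eq_comap_bot, hkerμ]
    exact sup_eq_left.mpr hIK
  have hmem : ∀ x : B, μ x ∈ Kb ↔ x ∈ K := by
    intro x
    rw [← Ideal.mem_comap, hcomap]
  have hbij : Function.Bijective ((Ideal.Quotient.mk Kb).comp
      (algebraMap (A ⧸ I) (B ⧸ I.map (algebraMap A B)))) := by
    constructor
    · rw [injective_iff_map_eq_zero]
      intro x hx
      obtain ⟨a, rfl⟩ := Ideal.Quotient.mk_surjective x
      have h1 : μ (algebraMap A B a) ∈ Kb := by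
        rw [← Ideal.Quotient.eq_zero_iff_mem]
        exact hx
      rw [hmem] at h1
      rw [Ideal.Quotient.eq_zero_iff_mem]
      exact h1
    · intro y
      obtain ⟨y', rfl⟩ := Ideal.Quotient.mk_surjective y
      obtain ⟨x, rfl⟩ := hμ y'
      obtain ⟨a, ha⟩ := hsurj (Ideal.Quotient.mk K x)
      refine ⟨Ideal.Quotient.mk I a, ?_⟩
      change Ideal.Quotient.mk _ (μ (algebraMap A B a)) = Ideal.Quotient.mk _ (μ x)
      rw [Ideal.Quotient.eq, ← map_sub, hmem, ← Ideal.Quotient.eq]
      exact ha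
  let e : (A ⧸ I) ≃ₐ[A ⧸ I] ((B ⧸ I.map (algebraMap A B)) ⧸ Kb) :=
    AlgEquiv.ofBijective (Algebra.ofId (A ⧸ I) _) hbij
  haveI : Algebra.FormallySmooth (A ⧸ I) ((B ⧸ I.map (algebraMap A B)) ⧸ Kb) :=
    Algebra.FormallySmooth.of_equiv e
  have hkerq : RingHom.ker μ ≤ q := by rw [hkerμ]; exact hIK.trans hKq
  haveI hqb : (q.map μ).IsPrime := Ideal.map_isPrime_of_surjective hμ hkerq
  have hqbc : (q.map μ).comap μ = q := by
    rw [Ideal.comap_map_of_surjective μ hμ, ← RingHom.ker_eq_comap_bot]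
    exact sup_eq_left.mpr hkerq
  have hsqb : μ s ∉ q.map μ := by
    intro h
    apply hsq
    rw [← hqbc]
    exact h
  -- transfer of the spanning property
  have hsb : ∀ ω : Ω[(B ⧸ I.map (algebraMap A B))⁄(A ⧸ I)], μ s • ω ∈
      Submodule.span (B ⧸ I.map (algebraMap A B))
        (Set.range fun i => D (A ⧸ I) (B ⧸ I.map (algebraMap A B)) (μ (b i))) := by
    intro ω
    obtain ⟨ω₀, rfl⟩ := KaehlerDifferential.map_surjective_of_surjective A (A ⧸ I) B
      (B ⧸ I.map (algebraMap A B)) hμ ω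
    have h1 := hs ω₀
    have h2 : μ s • KaehlerDifferential.map A (A ⧸ I) B (B ⧸ I.map (algebraMap A B)) ω₀ =
        KaehlerDifferential.map A (A ⧸ I) B (B ⧸ I.map (algebraMap A B)) (s • ω₀) := by
      rw [map_smul]; rfl
    rw [h2]
    have h3 : Submodule.span B (Set.range fun i => D A B (b i)) ≤
        Submodule.comap (KaehlerDifferential.map A (A ⧸ I) B (B ⧸ I.map (algebraMap A B)))
        ((Submodule.span (B ⧸ I.map (algebraMap A B))
          (Set.range fun i => D (A ⧸ I) (B ⧸ I.map (algebraMap A B)) (μ (b i)))).restrictScalars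
            B) := by
      rw [Submodule.span_le]
      rintro _ ⟨i, rfl⟩
      change KaehlerDifferential.map A (A ⧸ I) B (B ⧸ I.map (algebraMap A B)) (D A B (b i)) ∈
        Submodule.span (B ⧸ I.map (algebraMap A B)) _
      rw [KaehlerDifferential.map_D]
      exact Submodule.subset_span ⟨i, rfl⟩
    exact h3 h1
  have hKbfg : Kb.FG := hKfg.map μ
  have hKbq : Kb ≤ q.map μ := Ideal.map_mono hKq
  have hbKb : ∀ i, μ (b i) ∈ Kb := fun i => Ideal.mem_map_of_mem μ (hbK i)
  obtain ⟨tb, htb, ht⟩ := exists_notMem_mul_mem_of_mul_mem_sup_sq (q.map μ) Kb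
    (Ideal.span (Set.range fun i => μ (b i))) hKbfg hKbq (μ s) hsqb
    (fun j hj => mul_mem_sup_sq (A := A ⧸ I) Kb (fun i => μ (b i)) hbKb (μ s) hsb j hj)
  obtain ⟨t, rfl⟩ := hμ tb
  refine ⟨t, fun h => htb (Ideal.mem_map_of_mem μ h), fun x hx => ?_⟩
  have h1 := ht (μ x) (Ideal.mem_map_of_mem μ hx)
  have h2 : (Ideal.span (Set.range fun i => μ (b i))) = (Ideal.span (Set.range b)).map μ := by
    rw [Ideal.map_span, ← Set.range_comp]; rfl
  rw [h2, ← map_mul, ← Ideal.mem_comap, Ideal.comap_map_of_surjective μ hμ,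
    ← RingHom.ker_eq_comap_bot, hkerμ] at h1
  exact h1

end three

end Groth.Agent.Helper19.SmDesc
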