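import Mathlib
import Groth.Agent.Helper19.SmDesc3
import Groth.Agent.Helper19.SmDesc4

set_option autoImplicit false
set_option linter.style.haveILetI false
set_option linter.unusedSectionVars false
universe u

namespace Groth.Agent.Helper19.SmDesc

open KaehlerDifferential TensorProduct Groth.Agent.Lib.Helper25.SectionRegular
open Groth.Agent.Lib.Helper25.JacobianCrit
open Groth.Agent.Helper19.ConSplit Groth.Agent.Helper19.RegImmBC Groth.Agent.Lib.Helper16.RegDesc

section main

variable (k : RegImm.Kind) (hk : KindOK.{u} k) (hkk : k ≠ RegImm.Kind.koszul)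
  (hkr : k ≠ RegImm.Kind.regular)
  {A B C : Type u} [CommRing A] [CommRing B] [CommRing C]

set_option maxHeartbeats 1600000 in
include hk hkk hkr in
/-- **Smooth descent of ideals locally generated by sequences of kind `k`** (`k = h1, quasi`). -/
theorem locK_ker_comp_of_smooth (φ : A →+* B) (hφ : φ.Smooth) (β : B →+* C)
    (hβφ : Function.Surjective (β.comp φ)) (rs : List B) (hrs : k.Seq B rs)
    (hK : RingHom.ker β = Ideal.ofList rs) :
    LocK k A (RingHom.ker (β.comp φ)) := by
  classical
  algebraize [φ]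
  intro 𝔭 h𝔭 hI𝔭
  set K := RingHom.ker β with hKdef
  set I := RingHom.ker (β.comp φ) with hIdef
  have hIcomap : K.comap (algebraMap A B) = I := RingHom.comap_ker β φ
  have hIK : I.map (algebraMap A B) ≤ K := by
    rw [← hIcomap]; exact Ideal.map_comap_le
  have hsurj : Function.Surjective ((Ideal.Quotient.mk K).comp (algebraMap A B)) := by
    intro y
    obtain ⟨x, rfl⟩ := Ideal.Quotient.mk_surjective y
    obtain ⟨a, ha⟩ := hβφ (β x)
    refine ⟨a, ?_⟩
    change Ideal.Quotient.mk K (φ a) = Ideal.Quotient.mk K x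
    rw [Ideal.Quotient.eq, RingHom.mem_ker, map_sub, sub_eq_zero]
    exact ha
  -- the prime `q`
  haveI hmp : (𝔭.map (β.comp φ)).IsPrime := Ideal.map_isPrime_of_surjective hβφ hI𝔭
  set q : Ideal B := (𝔭.map (β.comp φ)).comap β with hq
  haveI hqp : q.IsPrime := Ideal.comap_isPrime _ _
  have hKq : K ≤ q := fun x hx => by
    rw [hq, Ideal.mem_comap, RingHom.mem_ker.mp hx]; exact zero_mem _
  have hq𝔭 : q.comap (algebraMap A B) = 𝔭 := by
    change ((𝔭.map (β.comp φ)).comap β).comap φ = 𝔭
    rw [Ideal.comap_comap, Ideal.comap_map_of_surjective _ hβφ, ← RingHom.ker_eq_comap_bot]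
    exact sup_eq_left.mpr hI𝔭
  -- coordinates
  haveI : Algebra.IsSmoothAt A q := by
    show Algebra.FormallySmooth A (Localization.AtPrime q)
    haveI : Algebra.FormallySmooth B (Localization.AtPrime q) :=
      Algebra.FormallySmooth.of_isLocalization q.primeCompl
    exact Algebra.FormallySmooth.comp A B (Localization.AtPrime q)
  have hspan := span_one_tmul_D_eq_top A q.ResidueField K hsurj
  obtain ⟨n, b, hbK, hli, hsp⟩ := exists_fin_basis_of_span_image
    (fun x : B => (1 : q.ResidueField) ⊗ₜ[B] D A B x) (K : Set B) hspan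
  letI : Algebra (MvPolynomial (Fin n) A) B := (MvPolynomial.aeval b).toAlgebra
  haveI : IsScalarTower A (MvPolynomial (Fin n) A) B :=
    IsScalarTower.of_algebraMap_eq' (MvPolynomial.aeval b).comp_algebraMap.symm
  have hX : ∀ i, algebraMap (MvPolynomial (Fin n) A) B (MvPolynomial.X i) = b i :=
    fun i => MvPolynomial.aeval_X b i
  haveI : Algebra.IsEtaleAt (MvPolynomial (Fin n) A) q :=
    isEtaleAt_mvPolynomial_of_basis A b hX q hli hsp
  haveI : Algebra.FinitePresentation (MvPolynomial (Fin n) A) B :=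
    Algebra.FinitePresentation.of_restrict_scalars_finitePresentation A _ _
  obtain ⟨_, ⟨_, ⟨g₁, rfl⟩, rfl⟩, hg₁q, hg₁⟩ :=
    PrimeSpectrum.isBasis_basic_opens.exists_subset_of_mem_open
      (show (⟨q, inferInstance⟩ : PrimeSpectrum B) ∈ Algebra.etaleLocus (MvPolynomial (Fin n) A) B
        from ‹Algebra.IsEtaleAt (MvPolynomial (Fin n) A) q›)
      (Algebra.isOpen_etaleLocus (R := MvPolynomial (Fin n) A) (A := B))
  have hg₁q' : g₁ ∉ q := hg₁q
  haveI : Module.Finite B Ω[B⁄A] := inferInstance
  obtain ⟨s, hsq, hs⟩ := exists_notMem_smul_mem_span q (fun i => D A B (b i)) hsp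
  have hKfg : K.FG := by
    rw [hK]; exact Submodule.fg_span (List.finite_toSet rs)
  obtain ⟨t, htq, ht⟩ := exists_mul_mem_sup_map K hsurj hKfg q hKq b hbK s hsq hs
  rw [hIcomap] at ht
  -- the localization
  have hgq : g₁ * t ∉ q := fun hmem =>
    (Ideal.IsPrime.mem_or_mem inferInstance hmem).elim hg₁q' htq
  set E := Localization.Away (g₁ * t) with hE
  haveI hét : Algebra.Etale (MvPolynomial (Fin n) A) E := by
    rw [← Algebra.basicOpen_subset_etaleLocus_iff_etale]
    refine subset_trans ?_ hg₁
    rw [PrimeSpectrum.basicOpen_mul]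
    exact inf_le_left
  have hflat : (algebraMap B E).Flat := RingHom.flat_algebraMap_iff.mpr inferInstance
  have hdisj : Disjoint (Submonoid.powers (g₁ * t) : Set B) (q : Set B) := by
    rw [Set.disjoint_left]
    rintro _ ⟨N, rfl⟩ hN
    exact hgq (Ideal.IsPrime.mem_of_pow_mem inferInstance N hN)
  haveI hqE : (q.map (algebraMap B E)).IsPrime :=
    IsLocalization.isPrime_of_isPrime_disjoint (Submonoid.powers (g₁ * t)) E q inferInstance hdisj
  have hqEc : (q.map (algebraMap B E)).comap (algebraMap B E) = q :=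
    IsLocalization.under_map_of_isPrime_disjoint (Submonoid.powers (g₁ * t)) E inferInstance hdisj
  have hKE : K.map (algebraMap B E) = Ideal.ofList (rs.map (algebraMap B E)) := by
    rw [hK, Ideal.map_ofList]
  have hne : Ideal.ofList (rs.map (algebraMap B E)) ≠ ⊤ := by
    rw [← hKE]
    intro htop
    exact hqE.ne_top (top_le_iff.mp (htop ▸ Ideal.map_mono hKq))
  have hrsE : k.Seq E (rs.map (algebraMap B E)) := kindFlatStable k _ hflat rs hrs hne
  have hXE : ∀ i, algebraMap (MvPolynomial (Fin n) A) E (MvPolynomial.X i) =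
      algebraMap B E (b i) := by
    intro i
    rw [IsScalarTower.algebraMap_apply (MvPolynomial (Fin n) A) B E, hX]
  have hbKE : ∀ i, algebraMap (MvPolynomial (Fin n) A) E (MvPolynomial.X i) ∈
      K.map (algebraMap B E) := fun i => by
    rw [hXE]; exact Ideal.mem_map_of_mem _ (hbK i)
  have hImap : I.map (algebraMap A E) = (I.map (algebraMap A B)).map (algebraMap B E) := by
    rw [Ideal.map_map, ← IsScalarTower.algebraMap_eq]
  have hIKE : I.map (algebraMap A E) ≤ K.map (algebraMap B E) := by
    rw [hImap]; exact Ideal.map_mono hIK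
  have htu : IsUnit (algebraMap B E t) := by
    have h3 : IsUnit (algebraMap B E (g₁ * t)) := IsLocalization.Away.algebraMap_isUnit (g₁ * t)
    rw [map_mul] at h3
    exact isUnit_of_mul_isUnit_right h3
  have hKIE : K.map (algebraMap B E) ≤ Ideal.span (Set.range fun i =>
      algebraMap (MvPolynomial (Fin n) A) E (MvPolynomial.X i)) ⊔ I.map (algebraMap A E) := by
    rw [Ideal.map_le_iff_le_comap]
    intro x hx
    rw [Ideal.mem_comap]
    have h2 := Ideal.mem_map_of_mem (algebraMap B E) (ht x hx)
    rw [map_mul, Ideal.map_sup, Ideal.map_span, ← Set.range_comp, ← hImap] at h2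
    have h3 := Ideal.mul_mem_left _ (↑htu.unit⁻¹ : E) h2
    rw [← mul_assoc, IsUnit.val_inv_mul, one_mul] at h3
    have h4 : (Set.range fun i => algebraMap (MvPolynomial (Fin n) A) E (MvPolynomial.X i)) =
        Set.range (⇑(algebraMap B E) ∘ b) := by
      congr 1
      funext i
      exact hXE i
    rw [h4]
    exact h3
  obtain ⟨T, _, _, hétT, l, hl, hIl, qT, hqT, hqTc⟩ :=
    exists_etale_chart k hk hkk (K.map (algebraMap B E)) hbKE (rs.map (algebraMap B E)) hrsE hKE
      (q.map (algebraMap B E)) (Ideal.map_mono hKq) I hIKE hKIE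
  haveI := hqT
  have h𝔭T : qT.comap (algebraMap A T) = 𝔭 := by
    rw [hqTc, IsScalarTower.algebraMap_eq A B E, ← Ideal.comap_comap, hqEc, hq𝔭]
  exact locKAt_of_flat_fp k hkr I l hl hIl qT 𝔭 h𝔭T hI𝔭

end main

end Groth.Agent.Helper19.SmDesc
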