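import Mathlib
import Groth.Prelude.Def_RegImm
import Groth.Agent.Helper19.LciCharts
import Groth.Agent.Helper19.SmDesc5
import Groth.Agent.Helper19.ConSplit8
import Groth.Agent.Lib.Helper16.RegDesc2

/-!
# Descent of `H₁`-regular / quasi-regular immersions along a smooth morphism (helper19)

`i : X ⟶ V`, `j : X ⟶ V'` immersions, `p : V' ⟶ V` smooth with `j ≫ p = i`:
if `j` is regular of kind `k` (`k = h1, quasi`) then so is `i`.
-/

set_option autoImplicit false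
set_option linter.style.haveILetI false
set_option linter.unusedSectionVars false
universe u

open CategoryTheory CategoryTheory.Limits AlgebraicGeometry

namespace Groth.Agent.Helper19.SmDesc

open Groth.Agent.Helper19.RegImmBC Groth.Agent.Helper19.LciMor Groth.Agent.Helper19.LciCharts
open Groth.Agent.Lib.Helper16.RegDesc Groth.Agent.Helper19.ConSplit

variable {X V V' : Scheme.{u}}

/-- compatible charts for two immersions related by a morphism, the upper one inside a given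
open -/
theorem exists_charts' (i : X ⟶ V) [IsImmersion i] (j : X ⟶ V') [IsImmersion j] (p : V' ⟶ V)
    (h : j ≫ p = i) (z : X) (M : V'.Opens) (hzM : j z ∈ M) :
    ∃ (U : V.affineOpens) (U' : V'.affineOpens) (_ : U'.1 ≤ p ⁻¹ᵁ U.1), i z ∈ U.1 ∧ j z ∈ U'.1 ∧
      IsClosedImmersion (i ∣_ U.1) ∧ IsClosedImmersion (j ∣_ U'.1) ∧ j ⁻¹ᵁ U'.1 = i ⁻¹ᵁ U.1 ∧
      U'.1 ≤ M := by
  subst h
  obtain ⟨U₀, hcl₀, -, hz₀, -⟩ := exists_chart (j ≫ p) z ⊤ trivial ⊤ trivial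
  haveI := hcl₀
  have hz₀' : j z ∈ p ⁻¹ᵁ U₀.1 := by
    have : (j ≫ p) z ∈ U₀.1 := hz₀
    rwa [Scheme.Hom.comp_apply] at this
  obtain ⟨U₁, hcl₁, hU₁le', hz₁, -⟩ := exists_chart j z ⊤ trivial (M ⊓ p ⁻¹ᵁ U₀.1) ⟨hzM, hz₀'⟩
  have hU₁le : U₁.1 ≤ p ⁻¹ᵁ U₀.1 := hU₁le'.trans inf_le_right
  have hU₁M : U₁.1 ≤ M := hU₁le'.trans inf_le_left
  haveI := hcl₁
  have hUZ : IsAffineOpen ((j ≫ p) ⁻¹ᵁ U₀.1) := isAffineOpen_preimage_of_restrict (j ≫ p) U₀.2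
  have hsurj : Function.Surjective ((j ≫ p).app U₀.1).hom := app_surjective_of_restrict (j ≫ p) U₀.2
  obtain ⟨abar, hale, hza⟩ := hUZ.exists_basicOpen_le (V := j ⁻¹ᵁ U₁.1) ⟨z, hz₁⟩ hz₀
  obtain ⟨a, rfl⟩ := hsurj abar
  let U : V.affineOpens := ⟨V.basicOpen a, U₀.2.basicOpen a⟩
  let U' : V'.affineOpens := ⟨V'.basicOpen ((p.appLE U₀.1 U₁.1 hU₁le).hom a),
    U₁.2.basicOpen _⟩
  have hU'eq : U'.1 = U₁.1 ⊓ p ⁻¹ᵁ U.1 := Scheme.basicOpen_appLE p U₁.1 U₀.1 hU₁le a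
  have hpre : (j ≫ p) ⁻¹ᵁ U.1 = X.basicOpen (((j ≫ p).app U₀.1).hom a) := by
    change (j ≫ p) ⁻¹ᵁ V.basicOpen a = _
    rw [Scheme.preimage_basicOpen]
  have hUU₀ : U.1 ≤ U₀.1 := V.basicOpen_le a
  have hU'U₁ : U'.1 ≤ U₁.1 := V'.basicOpen_le _
  refine ⟨U, U', by rw [hU'eq]; exact inf_le_right, ?_, ?_, (restrict_chart (j ≫ p) U₀ U hUU₀).1,
    (restrict_chart j U₁ U' hU'U₁).1, ?_, hU'U₁.trans hU₁M⟩
  · have : z ∈ (j ≫ p) ⁻¹ᵁ U.1 := by rw [hpre]; exact hza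
    exact this
  · have h1 : z ∈ (j ≫ p) ⁻¹ᵁ U.1 := by rw [hpre]; exact hza
    have h2 : j z ∈ U₁.1 ⊓ p ⁻¹ᵁ U.1 := by
      refine ⟨hz₁, ?_⟩
      have : (j ≫ p) z ∈ U.1 := h1
      rwa [Scheme.Hom.comp_apply] at this
    rw [hU'eq]
    exact h2
  · rw [hU'eq]
    apply le_antisymm
    · intro y hy
      exact hy.2
    · intro y hy
      refine ⟨?_, hy⟩
      have : y ∈ X.basicOpen (((j ≫ p).app U₀.1).hom a) := by rw [← hpre]; exact hy
      exact hale this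

/-- the ring-level descent on compatible charts -/
theorem locK_of_charts (k : RegImm.Kind) (hk : KindOK.{u} k) (hkk : k ≠ RegImm.Kind.koszul)
    (hkr : k ≠ RegImm.Kind.regular)
    (i : X ⟶ V) (j : X ⟶ V') (p : V' ⟶ V) [Smooth p]
    (h : j ≫ p = i) (U : V.affineOpens) (U' : V'.affineOpens) (e : U'.1 ≤ p ⁻¹ᵁ U.1)
    [IsClosedImmersion (i ∣_ U.1)] [IsClosedImmersion (j ∣_ U'.1)]
    (heq : j ⁻¹ᵁ U'.1 = i ⁻¹ᵁ U.1) (rs : List Γ(V', U'.1)) (hrs : k.Seq Γ(V', U'.1) rs)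
    (hker : RingHom.ker (j.app U'.1).hom = Ideal.ofList rs) :
    LocK k Γ(V, U.1) (RingHom.ker (i.app U.1).hom) := by
  subst h
  have hφ : (p.appLE U.1 U'.1 e).hom.Smooth :=
    HasRingHomProperty.appLE (P := @Smooth) p inferInstance U U' e
  have hα : Function.Surjective ((j ≫ p).app U.1).hom := app_surjective_of_restrict (j ≫ p) U.2
  obtain ⟨hk', hs⟩ := appLE_of_eq (j ≫ p) U.1 (j ⁻¹ᵁ U'.1) heq
  have hcomp : (j.app U'.1).hom.comp (p.appLE U.1 U'.1 e).hom =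
      ((j ≫ p).appLE U.1 (j ⁻¹ᵁ U'.1) (le_of_eq heq)).hom := by
    have h1 : p.appLE U.1 U'.1 e ≫ j.app U'.1 =
        (j ≫ p).appLE U.1 (j ⁻¹ᵁ U'.1) (le_of_eq heq) := by
      rw [Scheme.Hom.app_eq_appLE, Scheme.Hom.appLE_comp_appLE]
    rw [← h1]
    rfl
  rw [← hk', ← hcomp]
  exact locK_ker_comp_of_smooth k hk hkk hkr _ hφ _ (by rw [hcomp]; exact hs hα) rs hrs hker

/-- **Descent of regular immersions of kind `h1`/`quasi` along a smooth morphism.** -/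
theorem isRegularImmersion_of_smooth (k : RegImm.Kind) (hk : KindOK.{u} k)
    (hkk : k ≠ RegImm.Kind.koszul) (hkr : k ≠ RegImm.Kind.regular)
    (i : X ⟶ V) [IsImmersion i] (j : X ⟶ V') [IsImmersion j]
    (p : V' ⟶ V) [Smooth p] (h : j ≫ p = i) (hj : RegImm.IsRegularImmersion k j) :
    RegImm.IsRegularImmersion k i := by
  refine ⟨inferInstance, fun z => ?_⟩
  obtain ⟨U'', hzU'', hcl'', rs, hrs, hker⟩ := hj.2 z
  haveI := hcl''
  obtain ⟨U, U', e, hzU, hzU', hcl, hcl', heq, hle⟩ := exists_charts' i j p h z U''.1 hzU''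
  haveI := hcl
  haveI := hcl'
  obtain ⟨-, rs', hrs', hker'⟩ := chart_restrict_seq j k U'' U' hle z hzU' rs hrs hker
  exact regImmAt_of_locK i k U z hzU
    (locK_of_charts k hk hkk hkr i j p h U U' e heq rs' hrs' hker')

end Groth.Agent.Helper19.SmDesc
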