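import Mathlib
import Groth.Prelude.Def_CAlgX
import Groth.Agent.Helper19.Conormal8

/-!
# Smoothness ascends along a quotient by an `H_1`-regular sequence: the local statement (helper19)

`S` a local algebra, essentially of finite presentation over `R`, `I ⊂ S` a proper ideal generated
by an `H_1`-regular sequence; if `S/I` is formally smooth over `R` then so is `S`
(Jacobian criterion on the residue field).
-/

set_option autoImplicit false
universe u

namespace Groth.Agent.Helper19.SmReg

open TensorProduct KaehlerDifferential IsLocalRing Groth.Agent.Helper19.OmegaAlg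

section tensor

variable {P K : Type u} [CommRing P] [CommRing K] [Algebra P K]
  (hK : Function.Surjective (algebraMap P K)) (M : Type u) [AddCommGroup M] [Module P M]

include hK in
theorem exists_one_tmul (z : K ⊗[P] M) : ∃ x : M, z = (1 : K) ⊗ₜ[P] x := by
  induction z using TensorProduct.induction_on with
  | zero => exact ⟨0, by rw [tmul_zero]⟩
  | tmul k m =>
    obtain ⟨p, rfl⟩ := hK k
    refine ⟨p • m, ?_⟩
    rw [← smul_tmul, Algebra.smul_def, mul_one]
  | add z₁ z₂ h₁ h₂ =>
    obtain ⟨x₁, rfl⟩ := h₁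
    obtain ⟨x₂, rfl⟩ := h₂
    exact ⟨x₁ + x₂, by rw [tmul_add]⟩

include hK in
theorem one_tmul_eq_zero_iff (x : M) :
    (1 : K) ⊗ₜ[P] x = 0 ↔ x ∈ (RingHom.ker (algebraMap P K)) • (⊤ : Submodule P M) := by
  have hK' : Function.Surjective (Algebra.ofId P K) := hK
  have hI : RingHom.ker (algebraMap P K) = RingHom.ker (Algebra.ofId P K) := rfl
  rw [hI]
  set I : Ideal P := RingHom.ker (Algebra.ofId P K)
  let e₁ : (P ⧸ I) ≃ₗ[P] K :=
    (Ideal.quotientKerAlgEquivOfSurjective hK').toLinearEquiv
  have he₁ : e₁ (Ideal.Quotient.mk I 1) = 1 := by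
    change (Ideal.quotientKerAlgEquivOfSurjective hK') (Ideal.Quotient.mk I 1) = 1
    rw [map_one, map_one]
  let e₂ := TensorProduct.quotTensorEquivQuotSMul M I
  let e : K ⊗[P] M ≃ₗ[P] M ⧸ (I • (⊤ : Submodule P M)) :=
    (TensorProduct.congr e₁ (LinearEquiv.refl P M)).symm ≪≫ₗ e₂
  have he : e ((1 : K) ⊗ₜ[P] x) = Submodule.Quotient.mk x := by
    change e₂ ((TensorProduct.congr e₁ (LinearEquiv.refl P M)).symm ((1 : K) ⊗ₜ[P] x)) = _
    rw [TensorProduct.congr_symm_tmul]
    have : e₁.symm 1 = Ideal.Quotient.mk I 1 := by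
      rw [LinearEquiv.symm_apply_eq, he₁]
    rw [this]
    change e₂ (Ideal.Quotient.mk I 1 ⊗ₜ[P] x) = _
    rw [TensorProduct.quotTensorEquivQuotSMul_mk_tmul, one_smul]
  rw [← e.map_eq_zero_iff, he, Submodule.Quotient.mk_eq_zero]

end tensor

section ideal

variable {P : Type u} [CommRing P]

theorem mem_smul_top_iff (𝔪 N : Ideal P) (y : N) :
    y ∈ 𝔪 • (⊤ : Submodule P N) ↔ (y : P) ∈ 𝔪 * N := by
  have h1 : Submodule.map N.subtype (𝔪 • (⊤ : Submodule P N)) = 𝔪 • N := by
    rw [Submodule.map_smul'', Submodule.map_subtype_top]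
  constructor
  · intro hy
    have : N.subtype y ∈ Submodule.map N.subtype (𝔪 • (⊤ : Submodule P N)) :=
      Submodule.mem_map_of_mem hy
    rw [h1] at this
    exact this
  · intro hy
    have hy' : N.subtype y ∈ Submodule.map N.subtype (𝔪 • (⊤ : Submodule P N)) := by
      rw [h1]; exact hy
    obtain ⟨y', hy', hyy⟩ := hy'
    have : y' = y := Subtype.ext hyy
    rw [← this]; exact hy'

end ideal

section main

variable {R P S T K : Type u} [CommRing R] [CommRing P] [CommRing S] [CommRing T] [Field K]
  [Algebra R P] [Algebra R S] [Algebra P S] [IsScalarTower R P S]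
  [Algebra R T] [Algebra P T] [Algebra S T] [IsScalarTower R P T] [IsScalarTower P S T]
  [Algebra P K] [Algebra S K] [Algebra T K] [IsScalarTower P S K] [IsScalarTower P T K]
  [IsLocalRing S] [IsLocalRing T]
  [Algebra.FormallySmooth R P] [Module.Free P Ω[P⁄R]] [Module.Finite P Ω[P⁄R]]

set_option maxHeartbeats 1000000 in
/-- **Smoothness ascends along a quotient by an `H_1`-regular sequence (local form).** -/
theorem formallySmooth_of_quotient_h1
    (hPS : Function.Surjective (algebraMap P S)) (hJ : (RingHom.ker (algebraMap P S)).FG)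
    (hST : Function.Surjective (algebraMap S T))
    {r : ℕ} (f : Fin r → P)
    (hker : RingHom.ker (algebraMap S T) =
      Ideal.span (Set.range (fun k => algebraMap P S (f k))))
    (hf : CAlgX.IsH1Regular (fun k => algebraMap P S (f k)))
    (hSK : maximalIdeal S ≤ RingHom.ker (algebraMap S K))
    (hTK : maximalIdeal T ≤ RingHom.ker (algebraMap T K))
    (hPK : Function.Surjective (algebraMap P K))
    (hfm : ∀ k, algebraMap P K (f k) = 0)
    [Algebra.FormallySmooth R T] : Algebra.FormallySmooth R S := by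
  have hPT : Function.Surjective (algebraMap P T) := by
    rw [IsScalarTower.algebraMap_eq P S T]
    exact hST.comp hPS
  set J' : Ideal P := RingHom.ker (algebraMap P S) with hJ'
  set K' : Ideal P := RingHom.ker (algebraMap P T) with hK'
  have hK'eq : K' = J' ⊔ Ideal.span (Set.range f) := by
    rw [hK', IsScalarTower.algebraMap_eq P S T, ← RingHom.comap_ker, hker]
    have : Ideal.span (Set.range fun k => algebraMap P S (f k)) =
        Ideal.map (algebraMap P S) (Ideal.span (Set.range f)) := by
      rw [Ideal.map_span, ← Set.range_comp]; rfl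
    rw [this, Ideal.comap_map_of_surjective _ hPS, ← RingHom.ker_eq_comap_bot, sup_comm]
  have hle : J' ≤ K' := by rw [hK'eq]; exact le_sup_left
  have hK'fg : K'.FG := by
    rw [hK'eq]
    exact Submodule.FG.sup (show Submodule.FG J' from hJ) (Submodule.fg_span (Set.finite_range f))
  rw [Algebra.FormallySmooth.iff_injective_cotangentComplexBaseChange (R := R) (S := S) P K hPS hJ
    hSK]
  have hT := (Algebra.FormallySmooth.iff_injective_cotangentComplexBaseChange (R := R) (S := T)
    P K hPT hK'fg hTK).mp inferInstance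
  let ι : J' →ₗ[P] K' := Submodule.inclusion hle
  have hcomp : cotangentComplexBaseChange R S P K =
      cotangentComplexBaseChange R T P K ∘ₗ ι.baseChange K := by
    apply TensorProduct.AlgebraTensorModule.ext
    intro a b
    rfl
  rw [hcomp, LinearMap.coe_comp]
  refine hT.comp ?_
  rw [injective_iff_map_eq_zero]
  intro z hz
  obtain ⟨x, rfl⟩ := exists_one_tmul hPK J' z
  rw [LinearMap.baseChange_tmul, one_tmul_eq_zero_iff hPK, mem_smul_top_iff] at hz
  rw [one_tmul_eq_zero_iff hPK, mem_smul_top_iff]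
  set 𝔪 : Ideal P := RingHom.ker (algebraMap P K) with h𝔪
  have hx : (x : P) ∈ 𝔪 * K' := hz
  have hf𝔪 : ∀ k, f k ∈ 𝔪 := fun k => (RingHom.mem_ker).mpr (hfm k)
  rw [hK'eq, Ideal.mul_sup] at hx
  obtain ⟨u, hu, w, hw, huw⟩ := Submodule.mem_sup.mp hx
  have hw' : w ∈ Ideal.span (Set.range f) := Ideal.mul_le_right hw
  obtain ⟨g, hg⟩ := (Ideal.mem_span_range_iff_exists_fun).mp hw'
  have hu0 : algebraMap P S u = 0 := by
    have : u ∈ J' := Ideal.mul_le_right hu
    exact RingHom.mem_ker.mp this
  have hx0 : algebraMap P S (x : P) = 0 := RingHom.mem_ker.mp x.2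
  have hsum : ∑ k, algebraMap P S (g k) * algebraMap P S (f k) = 0 := by
    rw [← huw, map_add, hu0, zero_add, ← hg, map_sum] at hx0
    rw [← hx0]
    exact Finset.sum_congr rfl fun k _ => (map_mul _ _ _).symm
  have hw2 := sum_mul_mem_of_h1 (algebraMap P S) hPS f hf 𝔪 hf𝔪 g hsum
  rw [hg, mul_comm] at hw2
  rw [← huw]
  exact add_mem hu hw2

end main

end Groth.Agent.Helper19.SmReg
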