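import Mathlib
import Groth.Agent.Helper19.SmReg1
import Groth.Agent.S8679
import Groth.Agent.Lib.Helper16.KzComp4

/-!
# Smoothness ascends along a quotient by a regular sequence: finitely presented algebras (helper19)

`A → B` finitely presented, `B → C` surjective with kernel generated by a weakly regular sequence,
`p ⊂ C` a prime at which `C` is smooth over `A`.  Then `B` is smooth over `A` at the preimage of `p`.
-/

set_option autoImplicit false
universe u

namespace Groth.Agent.Helper19.SmReg

open TensorProduct KaehlerDifferential IsLocalRing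

/-- A localisation of a finitely presented algebra is a quotient, by a finitely generated ideal, of
a formally smooth algebra with finite free differentials (copied from Mathlib's
`FormallySmooth.of_formallySmooth_residueField_tensor`). -/
theorem exists_presentation {A B : Type u} [CommRing A] [CommRing B] [Algebra A B]
    [Algebra.FinitePresentation A B]
    (S : Type u) [CommRing S] [Algebra A S] [Algebra B S] [IsScalarTower A B S] (M : Submonoid B)
    [IsLocalization M S] :
    ∃ (P : Type u) (_ : CommRing P) (_ : Algebra A P) (_ : Algebra P S) (_ : IsScalarTower A P S)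
      (_ : Algebra.FormallySmooth A P) (_ : Module.Free P Ω[P⁄A]) (_ : Module.Finite P Ω[P⁄A]),
      Function.Surjective (algebraMap P S) ∧ (RingHom.ker (algebraMap P S)).FG := by
  obtain ⟨n, f₀, hf₀⟩ := Algebra.FiniteType.iff_quotient_mvPolynomial''.mp
    (inferInstance : Algebra.FiniteType A B)
  let M' := M.comap f₀
  let P' := Localization M'
  let fP : P' →ₐ[A] S := IsLocalization.liftAlgHom (M := M')
      (f := (IsScalarTower.toAlgHom A B S).comp f₀) fun x ↦ by
    simpa using IsLocalization.map_units (M := M) _ ⟨f₀ x.1, x.2⟩
  have hf₁ : Function.Surjective fP := by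
    intro x
    obtain ⟨x, ⟨s, hs⟩, rfl⟩ := IsLocalization.exists_mk'_eq M x
    obtain ⟨x, rfl⟩ := hf₀ x
    obtain ⟨s, rfl⟩ := hf₀ s
    refine ⟨IsLocalization.mk' (M := M') _ x ⟨s, hs⟩, ?_⟩
    simp [fP, IsLocalization.lift_mk', Units.mul_inv_eq_iff_eq_mul, IsUnit.liftRight]
  have hfP : (RingHom.ker fP).FG := by
    have := Algebra.FinitePresentation.ker_fG_of_surjective _ hf₀
    convert! this.map (algebraMap _ P')
    refine le_antisymm ?_ (Ideal.map_le_iff_le_comap.mpr fun x hx ↦ by simp_all [fP])
    intro x hx
    obtain ⟨x, s, rfl⟩ := IsLocalization.exists_mk'_eq M' x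
    obtain ⟨a, ha, e⟩ : ∃ a ∈ M, a * f₀ x = 0 := by
      simpa [fP, IsLocalization.lift_mk', IsLocalization.map_eq_zero_iff M] using hx
    obtain ⟨a, rfl⟩ := hf₀ a
    rw [IsLocalization.mk'_mem_map_algebraMap_iff]
    exact ⟨a, ha, by simpa⟩
  algebraize [fP.toRingHom]
  have : Algebra.FormallyEtale (MvPolynomial (Fin n) A) P' := .of_isLocalization M'
  have : Algebra.FormallySmooth A P' := .comp _ (MvPolynomial (Fin n) A) _
  have : Module.Free P' Ω[P'⁄A] :=
    .of_equiv (KaehlerDifferential.tensorKaehlerEquivOfFormallyEtale A (MvPolynomial (Fin n) A) P')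
  have hT : IsScalarTower A P' S := .of_algebraMap_eq' fP.comp_algebraMap.symm
  exact ⟨P', inferInstance, inferInstance, inferInstance, hT, inferInstance, inferInstance,
    inferInstance, hf₁, hfP⟩

/-- The kernel of the localisation of a surjective ring map. -/
theorem ker_localRingHom {B C : Type u} [CommRing B] [CommRing C] (φ : B →+* C)
    (hφ : Function.Surjective φ) (p : Ideal C) [p.IsPrime] :
    RingHom.ker (Localization.localRingHom (p.comap φ) p φ rfl) =
      (RingHom.ker φ).map (algebraMap B (Localization.AtPrime (p.comap φ))) := by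
  apply le_antisymm
  · intro x hx
    obtain ⟨b, t, rfl⟩ := IsLocalization.exists_mk'_eq (p.comap φ).primeCompl x
    rw [RingHom.mem_ker, Localization.localRingHom_mk', IsLocalization.mk'_eq_zero_iff] at hx
    obtain ⟨⟨s, hs⟩, hsb⟩ := hx
    obtain ⟨t', rfl⟩ := hφ s
    rw [IsLocalization.mk'_mem_map_algebraMap_iff]
    refine ⟨t', hs, ?_⟩
    rw [RingHom.mem_ker, map_mul]
    exact hsb
  · rw [Ideal.map_le_iff_le_comap]
    intro b hb
    rw [Ideal.mem_comap, RingHom.mem_ker, Localization.localRingHom_to_map,
      RingHom.mem_ker.mp hb, map_zero]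

set_option maxHeartbeats 1000000 in
/-- **Smoothness ascends along a quotient by a weakly regular sequence** (EGA IV 17.12.1 c ⇒ a,
ring form). -/
theorem isSmoothAt_under_of_surjective {A B C : Type u} [CommRing A] [CommRing B] [CommRing C]
    [Algebra A B] [Algebra A C] [Algebra B C] [IsScalarTower A B C]
    [Algebra.FinitePresentation A B]
    (hBC : Function.Surjective (algebraMap B C)) (rs : List B)
    (hrs : RingTheory.Sequence.IsWeaklyRegular B rs)
    (hker : RingHom.ker (algebraMap B C) = Ideal.ofList rs) (p : Ideal C) [p.IsPrime]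
    [hp : Algebra.IsSmoothAt A p] : Algebra.IsSmoothAt A (p.under B) := by
  let q : Ideal B := p.under B
  let S := Localization.AtPrime q
  let T := Localization.AtPrime p
  letI : Algebra S T := Localization.AtPrime.algebraOfLiesOver q p
  have hST_eq : algebraMap S T = Localization.localRingHom q p (algebraMap B C) rfl := rfl
  have hST : Function.Surjective (algebraMap S T) :=
    RingHom.surjective_localRingHom_of_surjective (algebraMap B C) hBC p
  have hkerST : RingHom.ker (algebraMap S T) = (Ideal.ofList rs).map (algebraMap B S) := by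
    rw [← hker]
    exact ker_localRingHom (algebraMap B C) hBC p
  obtain ⟨P, _, _, _, _, _, _, _, hPS, hPfg⟩ :=
    exists_presentation (A := A) (B := B) S q.primeCompl
  letI : Algebra P T := ((algebraMap S T).comp (algebraMap P S)).toAlgebra
  haveI : IsScalarTower P S T := .of_algebraMap_eq' rfl
  haveI : IsScalarTower A S T := inferInstance
  haveI : IsScalarTower A P T := by
    apply IsScalarTower.of_algebraMap_eq'
    rw [IsScalarTower.algebraMap_eq A S T, IsScalarTower.algebraMap_eq A P S,
      IsScalarTower.algebraMap_eq P S T, RingHom.comp_assoc]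
  let K := ResidueField T
  -- the sequence
  let l : List S := rs.map (algebraMap B S)
  have hl : RingTheory.Sequence.IsWeaklyRegular S l :=
    RingTheory.Sequence.IsWeaklyRegular.of_isLocalization S q.primeCompl hrs
  have hh1 : CAlgX.IsH1Regular l.get :=
    Groth.Agent.S8679.isH1Regular_of_isKoszulRegularSeq l
      (Groth.Agent.Lib.Helper16.KzComp.kreg_of_isWeaklyRegular l hl)
  choose f hf using fun k : Fin l.length => hPS (l.get k)
  have hfeq : (fun k => algebraMap P S (f k)) = l.get := funext hf
  have hker' : RingHom.ker (algebraMap S T) =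
      Ideal.span (Set.range (fun k => algebraMap P S (f k))) := by
    rw [hfeq, hkerST, Ideal.map_ofList, Set.range_list_get]
  have hSK : maximalIdeal S ≤ RingHom.ker (algebraMap S K) := by
    intro x hx
    rw [RingHom.mem_ker, IsScalarTower.algebraMap_apply S T K]
    have hnu : ¬ IsUnit (algebraMap S T x) := by
      intro hu
      have : IsLocalHom (algebraMap S T) := by
        rw [hST_eq]; infer_instance
      exact hx (isUnit_of_map_unit (algebraMap S T) x hu)
    exact (IsLocalRing.residue_eq_zero_iff _).mpr hnu
  have hTK : maximalIdeal T ≤ RingHom.ker (algebraMap T K) := by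
    intro x hx
    exact RingHom.mem_ker.mpr ((IsLocalRing.residue_eq_zero_iff _).mpr hx)
  have hTKs : Function.Surjective (algebraMap T K) := IsLocalRing.residue_surjective
  have hPK : Function.Surjective (algebraMap P K) := by
    rw [IsScalarTower.algebraMap_eq P T K, IsScalarTower.algebraMap_eq P S T]
    exact hTKs.comp (hST.comp hPS)
  have hfm : ∀ k, algebraMap P K (f k) = 0 := by
    intro k
    rw [IsScalarTower.algebraMap_apply P T K, IsScalarTower.algebraMap_apply P S T]
    have : algebraMap P S (f k) ∈ RingHom.ker (algebraMap S T) := by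
      rw [hker']
      exact Ideal.subset_span ⟨k, rfl⟩
    rw [RingHom.mem_ker.mp this, map_zero]
  haveI : Algebra.FormallySmooth A T := hp
  exact formallySmooth_of_quotient_h1 (R := A) (P := P) (S := S) (T := T) (K := K) hPS hPfg hST f
    hker' (hfeq ▸ hh1) hSK hTK hPK hfm

end Groth.Agent.Helper19.SmReg
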