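import Mathlib
import Groth.Agent.Helper19.SmReg2

/-!
# EGA IV 17.12.1 c ⇒ a, scheme form (helper19)
-/

set_option autoImplicit false
universe u

namespace Groth.Agent.Helper19.SmReg

open CategoryTheory CategoryTheory.Limits AlgebraicGeometry TopologicalSpace

set_option maxHeartbeats 1000000 in
/-- Scheme form: if `j : Y → X` is a closed immersion over `S`, cut out near `j y` by a weakly regular
sequence, and `Y → S` is smooth at `y`, then `X → S` is smooth at `j y`. -/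
theorem mem_smoothLocus_of_regular {X Y S : Scheme.{u}} (f : X ⟶ S)
    [LocallyOfFinitePresentation f] (j : Y ⟶ X) [IsClosedImmersion j]
    [LocallyOfFinitePresentation (j ≫ f)] (y : Y) (hy : y ∈ (j ≫ f).smoothLocus)
    (U : X.Opens) (hU : IsAffineOpen U) (hyU : j y ∈ U) (rs : List Γ(X, U))
    (hrs : RingTheory.Sequence.IsWeaklyRegular Γ(X, U) rs)
    (hker : j.ker.ideal ⟨U, hU⟩ = Ideal.ofList rs) : j y ∈ f.smoothLocus := by
  -- affine open of `S`
  obtain ⟨_, ⟨V₀, hV₀, rfl⟩, hxV₀, -⟩ :=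
    S.isBasis_affineOpens.exists_subset_of_mem_open (Set.mem_univ (f (j y))) isOpen_univ
  -- basic open of `U`
  obtain ⟨g, hgle, hyg⟩ := hU.exists_basicOpen_le (V := U ⊓ f ⁻¹ᵁ V₀) ⟨j y, ⟨hyU, hxV₀⟩⟩ hyU
  let V' : X.affineOpens := X.affineBasicOpen (U := ⟨U, hU⟩) g
  let V : X.Opens := X.basicOpen g
  have hV : IsAffineOpen V := hU.basicOpen g
  have hVV₀ : V ≤ f ⁻¹ᵁ V₀ := hgle.trans inf_le_right
  let W : Y.Opens := j ⁻¹ᵁ V
  have hW : IsAffineOpen W := hV.preimage j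
  have hyW : y ∈ W := hyg
  have hWV₀ : W ≤ (j ≫ f) ⁻¹ᵁ V₀ := by
    intro z hz
    have : j z ∈ f ⁻¹ᵁ V₀ := hVV₀ hz
    simpa using this
  have hfp := f.finitePresentation_appLE hV₀ hV hVV₀
  algebraize [(f.appLE V₀ V hVV₀).hom, ((j ≫ f).appLE V₀ W hWV₀).hom, (j.app V).hom]
  haveI : IsScalarTower Γ(S, V₀) Γ(X, V) Γ(Y, W) := by
    apply IsScalarTower.of_algebraMap_eq'
    simp only [RingHom.algebraMap_toAlgebra]
    rw [← CommRingCat.hom_comp, ← j.appLE_eq_app, Scheme.Hom.appLE_comp_appLE]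
  -- the regular sequence in `Γ(X, V)`
  haveI := hU.isLocalization_basicOpen g
  have hrs' : RingTheory.Sequence.IsWeaklyRegular Γ(X, V)
      (rs.map (algebraMap Γ(X, U) Γ(X, V))) :=
    RingTheory.Sequence.IsWeaklyRegular.of_isLocalization Γ(X, V) (Submonoid.powers g) hrs
  have hker' : RingHom.ker (algebraMap Γ(X, V) Γ(Y, W)) =
      Ideal.ofList (rs.map (algebraMap Γ(X, U) Γ(X, V))) := by
    rw [← Ideal.map_ofList, ← hker]
    have h1 := j.ker.map_ideal_basicOpen ⟨U, hU⟩ g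
    have h2 := Scheme.Hom.ker_apply j V'
    rw [RingHom.algebraMap_toAlgebra]
    exact h2.symm.trans h1.symm
  have hsurj : Function.Surjective (algebraMap Γ(X, V) Γ(Y, W)) := j.app_surjective V hV
  -- smoothness at `y`
  have hsm := (formallySmooth_stalkMap_iff V₀ hV₀ W hW hWV₀ hyW).mp hy
  let p := hW.primeIdealOf ⟨y, hyW⟩
  haveI : Algebra.IsSmoothAt Γ(S, V₀) p.asIdeal := hsm
  have key := isSmoothAt_under_of_surjective (A := Γ(S, V₀)) (B := Γ(X, V)) (C := Γ(Y, W)) hsurj _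
    hrs' hker' p.asIdeal
  rw [Scheme.Hom.mem_smoothLocus, formallySmooth_stalkMap_iff V₀ hV₀ V hV hVV₀ hyg]
  have hcomap := IsAffineOpen.comap_primeIdealOf_appLE (f := j) V hV W hW le_rfl hyW
  rw [← hcomap]
  have : j.appLE V W le_rfl = j.app V := j.appLE_eq_app
  rw [this]
  exact key

end Groth.Agent.Helper19.SmReg
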