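import Mathlib.Topology.Constructible
import Mathlib.Topology.LocallyClosed
import Mathlib.Data.Fintype.Sum
import Mathlib.Data.Fintype.Powerset
import Mathlib.Data.Fintype.Sigma

/-!
Helper (helper19): the finite stratification of a space by the atoms of the Boolean algebra
generated by a finite family of open sets.
-/

set_option autoImplicit false
set_option linter.unusedSectionVars false

namespace Groth.Agent.Helper19

open Set Topology

variable {X : Type*} [TopologicalSpace X] {ι : Type*}

/-- `T` is saturated with respect to the family `V` : membership in `T` only depends on the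
set of those `a` with `x ∈ V a`. -/
def Sat (V : ι → Set X) (T : Set X) : Prop :=
  ∀ x y, (∀ a, x ∈ V a ↔ y ∈ V a) → x ∈ T → y ∈ T

/-- the atom attached to `A` -/
def atom (V : ι → Set X) (A : Finset ι) : Set X := {x | ∀ a, a ∈ A ↔ x ∈ V a}

lemma atom_eq (V : ι → Set X) (A : Finset ι) :
    atom V A = (⋂ a ∈ A, V a) ∩ (⋂ a ∈ {a | a ∉ A}, (V a)ᶜ) := by
  ext x
  simp only [atom, mem_ofPred_eq, mem_inter_iff, mem_iInter, mem_compl_iff]
  constructor
  · intro h
    exact ⟨fun a ha => (h a).mp ha, fun a ha hx => ha ((h a).mpr hx)⟩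
  · rintro ⟨h1, h2⟩ a
    exact ⟨h1 a, fun hx => by_contra fun ha => h2 a ha hx⟩

lemma isLocallyClosed_atom [Finite ι] {V : ι → Set X} (hV : ∀ a, IsOpen (V a)) (A : Finset ι) :
    IsLocallyClosed (atom V A) := by
  refine ⟨⋂ a ∈ A, V a, ⋂ a ∈ {a | a ∉ A}, (V a)ᶜ, ?_, ?_, atom_eq V A⟩
  · exact isOpen_biInter_finset fun a _ => hV a
  · exact isClosed_biInter fun a _ => (hV a).isClosed_compl

lemma isConstructible_atom [Finite ι] {V : ι → Set X} (hV : ∀ a, IsConstructible (V a))
    (A : Finset ι) : IsConstructible (atom V A) := by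
  rw [atom_eq]
  refine IsConstructible.inter ?_ ?_
  · exact IsConstructible.biInter (toFinite _) fun a _ => hV a
  · exact IsConstructible.biInter (toFinite _) fun a _ => (hV a).compl

lemma atom_disjoint {V : ι → Set X} {A B : Finset ι} (h : A ≠ B) :
    Disjoint (atom V A) (atom V B) := by
  rw [Set.disjoint_left]
  intro x hxA hxB
  apply h
  ext a
  rw [hxA a, hxB a]

lemma iUnion_atom [Fintype ι] (V : ι → Set X) : ⋃ A, atom V A = univ := by
  classical
  refine eq_univ_of_forall fun x => mem_iUnion.mpr ⟨Finset.univ.filter (fun a => x ∈ V a), ?_⟩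
  intro a
  simp

lemma closure_atom_subset [Fintype ι] {V : ι → Set X} (hV : ∀ a, IsOpen (V a)) (A : Finset ι) :
    closure (atom V A) ⊆ ⋃ B ∈ Set.Iic A, atom V B := by
  classical
  intro x hx
  have key : ∀ a, x ∈ V a → a ∈ A := by
    intro a hxa
    obtain ⟨y, hyV, hyA⟩ := mem_closure_iff.mp hx (V a) (hV a) hxa
    exact (hyA a).mpr hyV
  refine mem_iUnion₂.mpr ⟨Finset.univ.filter (fun a => x ∈ V a), ?_, ?_⟩
  · rw [Set.mem_Iic]
    intro a ha
    rw [Finset.mem_filter] at ha
    exact key a ha.2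
  · intro a
    simp

lemma Sat.atom_subset {V : ι → Set X} {T : Set X} (hT : Sat V T) {A : Finset ι}
    (h : (atom V A ∩ T).Nonempty) : atom V A ⊆ T := by
  obtain ⟨x, hxA, hxT⟩ := h
  intro y hyA
  exact hT x y (fun a => by rw [← hxA a, ← hyA a]) hxT

lemma Sat.compl {V : ι → Set X} {T : Set X} (hT : Sat V T) : Sat V Tᶜ := by
  intro x y h hx hy
  exact hx (hT y x (fun a => (h a).symm) hy)

lemma Sat.union {V : ι → Set X} {T T' : Set X} (hT : Sat V T) (hT' : Sat V T') :
    Sat V (T ∪ T') := by
  rintro x y h (hx | hx)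
  · exact Or.inl (hT x y h hx)
  · exact Or.inr (hT' x y h hx)

lemma Sat.inter {V : ι → Set X} {T T' : Set X} (hT : Sat V T) (hT' : Sat V T') :
    Sat V (T ∩ T') := by
  rintro x y h ⟨hx, hx'⟩
  exact ⟨hT x y h hx, hT' x y h hx'⟩

lemma Sat.self {V : ι → Set X} (a : ι) : Sat V (V a) := fun _ _ h hx => (h a).mp hx

lemma Sat.comp {κ : Type*} {V : ι → Set X} {T : Set X} (hT : Sat V T) {W : κ → Set X}
    (f : ι → κ) (hf : ∀ a, W (f a) = V a) : Sat W T := by
  intro x y h hx
  refine hT x y (fun a => ?_) hx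
  rw [← hf a]
  exact h (f a)

/-- Every constructible set is saturated with respect to some finite family of retrocompact
open sets. -/
lemma exists_sat_of_isConstructible {T : Set X} (hT : IsConstructible T) :
    ∃ (m : ℕ) (V : Fin m → Set X), (∀ a, IsOpen (V a) ∧ IsRetrocompact (V a)) ∧ Sat V T := by
  induction hT using IsConstructible.empty_union_induction with
  | open_retrocompact U hUo hUc =>
    exact ⟨1, fun _ => U, fun _ => ⟨hUo, hUc⟩, Sat.self (V := fun _ : Fin 1 => U) 0⟩
  | union s hs t ht ihs iht =>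
    obtain ⟨m₁, V₁, hV₁, hs₁⟩ := ihs
    obtain ⟨m₂, V₂, hV₂, hs₂⟩ := iht
    refine ⟨m₁ + m₂, Fin.append V₁ V₂, ?_, ?_⟩
    · intro a
      induction a using Fin.addCases with
      | left a => simpa using hV₁ a
      | right a => simpa using hV₂ a
    · refine Sat.union ?_ ?_
      · exact hs₁.comp (Fin.castAdd m₂) (fun a => by simp)
      · exact hs₂.comp (Fin.natAdd m₁) (fun a => by simp)
  | compl s hs ihs =>
    obtain ⟨m, V, hV, hs'⟩ := ihs
    exact ⟨m, V, hV, hs'.compl⟩

end Groth.Agent.Helper19
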