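import Mathlib
set_option autoImplicit false
set_option linter.style.haveILetI false
set_option linter.unusedSectionVars false

/-! # Kähler differentials of a symmetric algebra: `Ω_{Sym M / R} = Sym M ⊗_R M` -/

namespace Groth.Agent.Helper19.SymKaehler

open scoped TensorProduct

variable {R M B : Type*} [CommRing R] [AddCommGroup M] [Module R M] [CommRing B] [Algebra R B]
  {f : M →ₗ[R] B}

open TrivSqZeroExt in
/-- Derivations of a symmetric algebra are freely determined by their values on `M`. -/
theorem exists_derivation (h : IsSymmetricAlgebra f) (N : Type*) [AddCommGroup N] [Module B N]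
    [Module R N] [IsScalarTower R B N] (g : M →ₗ[R] N) :
    ∃ δ : Derivation R B N, ∀ m, δ (f m) = g m := by
  letI : Module Bᵐᵒᵖ N := Module.compHom N ((RingHom.id B).fromOpposite fun _ _ => mul_comm _ _)
  haveI : IsCentralScalar B N := ⟨fun r m => rfl⟩
  let k : M →ₗ[R] TrivSqZeroExt B N :=
    (inlAlgHom R B N).toLinearMap ∘ₗ f + ((inrHom B N).restrictScalars R) ∘ₗ g
  let F : B →ₐ[R] TrivSqZeroExt B N := h.lift k
  have hF : ∀ m, F (f m) = inl (f m) + inr (g m) := fun m => by
    change h.lift k (f m) = _
    rw [h.lift_eq]
    rfl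
  have hfst : ∀ b, (F b).fst = b := by
    have : (fstHom R B N).comp F = AlgHom.id R B := by
      apply h.algHom_ext
      ext m
      change (F (f m)).fst = f m
      rw [hF, fst_add, fst_inl, fst_inr, add_zero]
    intro b
    exact congrArg (fun φ : B →ₐ[R] B => φ b) this
  let δ₀ : B →ₗ[R] N :=
    { toFun := fun b => (F b).snd
      map_add' := fun a b => by rw [map_add, snd_add]
      map_smul' := fun r b => by rw [map_smul, snd_smul, RingHom.id_apply] }
  refine ⟨Derivation.mk' δ₀ fun a b => ?_, fun m => ?_⟩
  · change (F (a * b)).snd = a • (F b).snd + b • (F a).snd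
    rw [map_mul, snd_mul, hfst, hfst]
    rfl
  · change (F (f m)).snd = g m
    rw [hF, snd_add, snd_inl, snd_inr, zero_add]

variable (f) in
/-- The canonical map `B ⊗_R M → Ω_{B/R}`, `b ⊗ m ↦ b • d (f m)`. -/
noncomputable def can : B ⊗[R] M →ₗ[B] Ω[B⁄R] :=
  LinearMap.liftBaseChange B ((KaehlerDifferential.D R B).toLinearMap ∘ₗ f)

theorem can_tmul (b : B) (m : M) : can f (b ⊗ₜ m) = b • KaehlerDifferential.D R B (f m) := by
  simp [can]

theorem can_bijective (h : IsSymmetricAlgebra f) : Function.Bijective (can f) := by
  constructor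
  · obtain ⟨δ, hδ⟩ := exists_derivation h (B ⊗[R] M) (TensorProduct.mk R B M 1)
    have hcomp : δ.liftKaehlerDifferential ∘ₗ can f = LinearMap.id := by
      apply TensorProduct.AlgebraTensorModule.curry_injective
      ext m
      simp only [TensorProduct.AlgebraTensorModule.curry_apply, LinearMap.restrictScalars_comp,
        TensorProduct.curry_apply, LinearMap.coe_comp, LinearMap.coe_restrictScalars,
        Function.comp_apply, LinearMap.id_coe, id_eq]
      rw [can_tmul, one_smul, Derivation.liftKaehlerDifferential_comp_D, hδ]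
      rfl
    exact Function.LeftInverse.injective (g := δ.liftKaehlerDifferential)
      fun x => congrArg (fun φ : B ⊗[R] M →ₗ[B] B ⊗[R] M => φ x) hcomp
  · rw [← LinearMap.range_eq_top, eq_top_iff, ← KaehlerDifferential.span_range_derivation R B,
      Submodule.span_le]
    rintro _ ⟨b, rfl⟩
    induction b using h.induction with
    | algebraMap r =>
      rw [Derivation.map_algebraMap]
      exact Submodule.zero_mem _
    | ι m => exact ⟨1 ⊗ₜ m, by rw [can_tmul, one_smul]⟩
    | mul a b ha hb =>
      rw [Derivation.leibniz]
      exact Submodule.add_mem _ (Submodule.smul_mem _ _ hb) (Submodule.smul_mem _ _ ha)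
    | add a b ha hb =>
      rw [map_add]
      exact Submodule.add_mem _ ha hb

end Groth.Agent.Helper19.SymKaehler
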