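import Mathlib
import Groth.Agent.Helper19.UnivRing

/-!
# Ring-level universal first order thickenings: retraction for a formally smooth base change
(helper19)
-/

set_option autoImplicit false
universe u

namespace Groth.Agent.Helper19.UnivRing

variable {A P C C' C'' : Type u} [CommRing A] [CommRing P] [CommRing C] [CommRing C']
  [CommRing C'']

/-- For `A → P` formally smooth, `C'` universal for `C/P` and `C''` universal for `C/A`, the
canonical map `k : C'' → C'` has a ring retraction over `C`. -/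
theorem exists_retraction_of_formallySmooth (φAP : A →+* P)
    (hsm : letI := φAP.toAlgebra; Algebra.FormallySmooth A P)
    (φ : P →+* C) (ψP : P →+* C') (π' : C' →+* C) (hC' : IsUT φ ψP π')
    (ψA : A →+* C'') (π'' : C'' →+* C) (hC'' : IsUT (φ.comp φAP) ψA π'')
    (k : C'' →+* C') (hk1 : π'.comp k = π'') (hk2 : k.comp ψA = ψP.comp φAP) :
    ∃ ρ : C' →+* C'', ρ.comp k = RingHom.id C'' ∧ π''.comp ρ = π' := by
  letI := φAP.toAlgebra
  letI : Algebra A C'' := ψA.toAlgebra
  letI : Algebra A C := (φ.comp φAP).toAlgebra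
  haveI : Algebra.FormallySmooth A P := hsm
  let f : P →ₐ[A] C := { φ with commutes' := fun a => rfl }
  let g : C'' →ₐ[A] C := { π'' with commutes' := fun a => congr($(hC''.comp) a) }
  have hg : Function.Surjective g := hC''.surj
  have hg' : IsNilpotent (RingHom.ker (g : C'' →+* C)) := ⟨2, hC''.sq⟩
  let β : P →ₐ[A] C'' := Algebra.FormallySmooth.liftOfSurjective f g hg hg'
  have hβ1 : π''.comp (β : P →+* C'') = φ := by
    ext x
    exact Algebra.FormallySmooth.liftOfSurjective_apply f g hg hg' x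
  have hβ2 : (β : P →+* C'').comp φAP = ψA := by
    ext a
    exact β.commutes a
  obtain ⟨ρ, ⟨hρ1, hρ2⟩, -⟩ := hC'.lift π'' hC''.surj hC''.sq (β : P →+* C'') (RingHom.id C)
    (by rw [hβ1, RingHom.id_comp])
  rw [RingHom.id_comp] at hρ1
  refine ⟨ρ, ?_, hρ1⟩
  refine hC''.hom_ext π'' hC''.surj hC''.sq (RingHom.id C) _ _ ?_ ?_ ?_
  · rw [← RingHom.comp_assoc, hρ1, hk1, RingHom.id_comp]
  · rw [RingHom.comp_id, RingHom.id_comp]
  · rw [RingHom.comp_assoc, hk2, ← RingHom.comp_assoc, hρ2, hβ2, RingHom.id_comp]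

end Groth.Agent.Helper19.UnivRing
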