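import Mathlib
import Groth.Prelude.Def_Omega3
import Groth.Agent.Helper19.UnivRing

/-!
# From the unbundled `IsUT` to the frozen `OmegaSh.IsUnivThickeningRing` (helper19)
-/

set_option autoImplicit false
universe u

namespace Groth.Agent.Helper19.UnivRing

theorem isUnivThickeningRing_of_isUT {P C C' : Type u} [CommRing P] [CommRing C] [CommRing C']
    [Algebra P C] [Algebra P C'] [Algebra C' C] [IsScalarTower P C' C]
    (h : IsUT (algebraMap P C) (algebraMap P C') (algebraMap C' C)) :
    OmegaSh.IsUnivThickeningRing P C C' (IsScalarTower.toAlgHom P C' C) := by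
  refine ⟨h.surj, h.sq, ?_⟩
  intro A _ _ I hI a
  have hρs : Function.Surjective (Ideal.Quotient.mk I) := Ideal.Quotient.mk_surjective
  have hρk : RingHom.ker (Ideal.Quotient.mk I) ^ 2 = ⊥ := by rw [Ideal.mk_ker]; exact hI
  have hcomp : (Ideal.Quotient.mk I).comp (algebraMap P A) =
      (a : C →+* A ⧸ I).comp (algebraMap P C) := by
    ext p
    exact (a.commutes p).symm
  obtain ⟨α', ⟨hα1, hα2⟩, hαu⟩ := h.lift (Ideal.Quotient.mk I) hρs hρk (algebraMap P A)
    (a : C →+* A ⧸ I) hcomp
  let a' : C' →ₐ[P] A := { α' with commutes' := fun p => congr($hα2 p) }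
  refine ⟨a', ?_, ?_⟩
  · ext x
    exact congr($hα1 x)
  · intro a'' ha''
    have h1 : (a'' : C' →+* A) = α' := by
      apply hαu
      refine ⟨?_, ?_⟩
      · ext x
        exact congr($ha'' x)
      · ext p
        exact a''.commutes p
    ext x
    exact congr($h1 x)

end Groth.Agent.Helper19.UnivRing
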