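import Mathlib
import Groth.Agent.Helper19.UnivRing
import Groth.Agent.Helper19.Conormal8

/-!
# Universal first order thickening of a quotient of a formally smooth algebra by an
`H_1`-regular ideal: the kernel is finite projective (helper19)
-/

set_option autoImplicit false
universe u

open scoped TensorProduct

namespace Groth.Agent.Helper19.UnivRing

open Groth.Agent.Helper19.OmegaAlg

section retract

variable {A Q C C'' : Type u} [CommRing A] [CommRing Q] [CommRing C] [CommRing C'']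

/-- `C ⊗_{C''} ker π''` is a retract of `C ⊗_Q ker θ`. -/
theorem exists_retract_of_formallySmooth (φAQ : A →+* Q)
    (hsm : letI := φAQ.toAlgebra; Algebra.FormallySmooth A Q)
    (θ : Q →+* C) (hθ : Function.Surjective θ)
    (ψ : A →+* C'') (π'' : C'' →+* C) (hUT : IsUT (θ.comp φAQ) ψ π'') :
    letI := π''.toAlgebra
    letI := θ.toAlgebra
    ∃ (u : C ⊗[Q] (RingHom.ker θ) →ₗ[C] C ⊗[C''] (RingHom.ker π''))
      (v : C ⊗[C''] (RingHom.ker π'') →ₗ[C] C ⊗[Q] (RingHom.ker θ)), u ∘ₗ v = LinearMap.id := by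
  letI algC''C := π''.toAlgebra
  letI algQC := θ.toAlgebra
  letI algAQ := φAQ.toAlgebra
  letI algAC'' : Algebra A C'' := ψ.toAlgebra
  letI algAC : Algebra A C := (θ.comp φAQ).toAlgebra
  haveI : Algebra.FormallySmooth A Q := hsm
  set K : Ideal Q := RingHom.ker θ with hKdef
  set I'' : Ideal C'' := RingHom.ker π'' with hIdef
  -- the lift `β : Q → C''`
  let fA : Q →ₐ[A] C := { θ with commutes' := fun a => rfl }
  let gA : C'' →ₐ[A] C := { π'' with commutes' := fun a => congr($(hUT.comp) a) }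
  have hg : Function.Surjective gA := hUT.surj
  have hg' : IsNilpotent (RingHom.ker (gA : C'' →+* C)) := ⟨2, hUT.sq⟩
  let βA : Q →ₐ[A] C'' := Algebra.FormallySmooth.liftOfSurjective fA gA hg hg'
  let β : Q →+* C'' := (βA : Q →+* C'')
  have hβ1 : ∀ q : Q, π'' (β q) = θ q := fun q =>
    Algebra.FormallySmooth.liftOfSurjective_apply fA gA hg hg' q
  have hβ2 : ∀ a : A, β (φAQ a) = ψ a := fun a => βA.commutes a
  have hβK : ∀ x : Q, x ∈ K → β x ∈ I'' := by
    intro x hx
    rw [hIdef, RingHom.mem_ker, hβ1]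
    exact hx
  have hI''sq : ∀ y z : C'', y ∈ I'' → z ∈ I'' → y * z = 0 := fun y z hy hz =>
    mul_eq_zero_of_ker_sq π'' hUT.sq y z hy hz
  have hβK2 : ∀ x : Q, x ∈ K ^ 2 → β x = 0 := by
    intro x hx
    rw [pow_two] at hx
    induction hx using Submodule.mul_induction_on' with
    | mem_mul_mem a ha b hb => rw [map_mul]; exact hI''sq _ _ (hβK a ha) (hβK b hb)
    | add x _ y _ hx hy => rw [map_add, hx, hy, add_zero]
  -- the thickening `D = Q / K²`
  let D := Q ⧸ K ^ 2
  let mkD : Q →+* D := Ideal.Quotient.mk (K ^ 2)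
  have hmkD : Function.Surjective mkD := Ideal.Quotient.mk_surjective
  have hK2K : ∀ x : Q, x ∈ K ^ 2 → θ x = 0 := fun x hx => Ideal.pow_le_self two_ne_zero hx
  let ρD : D →+* C := Ideal.Quotient.lift (K ^ 2) θ hK2K
  have hρDmk : ∀ q : Q, ρD (mkD q) = θ q := fun q => Ideal.Quotient.lift_mk _ _ _
  let βD : D →+* C'' := Ideal.Quotient.lift (K ^ 2) β hβK2
  have hβDmk : ∀ q : Q, βD (mkD q) = β q := fun q => Ideal.Quotient.lift_mk _ _ _
  have hρDs : Function.Surjective ρD := by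
    intro c
    obtain ⟨q, rfl⟩ := hθ c
    exact ⟨mkD q, hρDmk q⟩
  have hρDk : RingHom.ker ρD ^ 2 = ⊥ := by
    apply ker_sq_eq_bot_of_le
    intro x y hx hy
    obtain ⟨x', rfl⟩ := hmkD x
    obtain ⟨y', rfl⟩ := hmkD y
    rw [hρDmk] at hx hy
    rw [← map_mul]
    apply Ideal.Quotient.eq_zero_iff_mem.mpr
    rw [pow_two]
    exact Ideal.mul_mem_mul hx hy
  -- `k : C'' → D`
  obtain ⟨k, ⟨hk1, hk2⟩, -⟩ := hUT.lift ρD hρDs hρDk (mkD.comp φAQ) (RingHom.id C) (by
    ext a
    exact hρDmk (φAQ a))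
  rw [RingHom.id_comp] at hk1
  have hβDk : βD.comp k = RingHom.id C'' := by
    refine hUT.hom_ext π'' hUT.surj hUT.sq (RingHom.id C) _ _ ?_ ?_ ?_
    · rw [RingHom.id_comp]
      ext y
      obtain ⟨q, hq⟩ := hmkD (k y)
      change π'' (βD (k y)) = π'' y
      rw [← hq, hβDmk, hβ1, ← hρDmk, hq]
      exact congr($hk1 y)
    · rw [RingHom.comp_id, RingHom.id_comp]
    · rw [RingHom.comp_assoc, hk2, RingHom.id_comp]
      ext a
      change βD (mkD (φAQ a)) = ψ a
      rw [hβDmk, hβ2]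
  have hky : ∀ y : C'', βD (k y) = y := fun y => congr($hβDk y)
  have hρk : ∀ y : C'', ρD (k y) = π'' y := fun y => congr($hk1 y)
  -- the map `u`
  haveI : SMulCommClass C'' Q C := ⟨fun a b c => by
    rw [Algebra.smul_def, Algebra.smul_def, Algebra.smul_def, Algebra.smul_def]; ring⟩
  haveI : SMulCommClass Q C'' C := ⟨fun a b c => by
    rw [Algebra.smul_def, Algebra.smul_def, Algebra.smul_def, Algebra.smul_def]; ring⟩
  let g' : K →ₗ[Q] C ⊗[C''] I'' :=
    { toFun := fun x => (1 : C) ⊗ₜ[C''] (⟨β x.1, hβK x.1 x.2⟩ : I'')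
      map_add' := fun x y => by
        rw [← TensorProduct.tmul_add]
        congr 1
        exact Subtype.ext (map_add β x.1 y.1)
      map_smul' := fun q x => by
        change (1 : C) ⊗ₜ[C''] (⟨β (q * x.1), _⟩ : I'') =
          θ q • ((1 : C) ⊗ₜ[C''] (⟨β x.1, hβK x.1 x.2⟩ : I''))
        have h1 : (⟨β (q * x.1), hβK _ (K.mul_mem_left q x.2)⟩ : I'') =
            β q • (⟨β x.1, hβK x.1 x.2⟩ : I'') := Subtype.ext (map_mul β q x.1)
        rw [h1, ← TensorProduct.smul_tmul, TensorProduct.smul_tmul', ← hβ1 q]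
        congr 1 }
  let u : C ⊗[Q] K →ₗ[C] C ⊗[C''] I'' := LinearMap.liftBaseChange C g'
  -- the map `v`
  let ν₀ : K →ₗ[Q] C ⊗[Q] K := (TensorProduct.mk Q C K) 1
  have hν₀ : ∀ x y : K, ν₀ (x * y) = 0 := by
    intro x y
    change (1 : C) ⊗ₜ[Q] (x * y : K) = 0
    have h1 : (x * y : K) = x.1 • y := Subtype.ext rfl
    rw [h1, ← TensorProduct.smul_tmul]
    have h2 : x.1 • (1 : C) = 0 := by
      rw [Algebra.smul_def, mul_one]
      exact x.2
    rw [h2, TensorProduct.zero_tmul]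
  have hkI : ∀ y : I'', ∃ x : K, mkD x.1 = k y.1 := by
    intro y
    obtain ⟨q, hq⟩ := hmkD (k y.1)
    refine ⟨⟨q, ?_⟩, hq⟩
    rw [hKdef, RingHom.mem_ker, ← hρDmk, hq, hρk]
    exact y.2
  have hν₀wd : ∀ x x' : K, mkD x.1 = mkD x'.1 → ν₀ x = ν₀ x' := by
    intro x x' h
    have h1 : x.1 - x'.1 ∈ K ^ 2 := by
      rw [← Ideal.Quotient.eq_zero_iff_mem, map_sub]
      exact sub_eq_zero.mpr h
    have h2 : K.toCotangent x = K.toCotangent x' := by
      rw [Ideal.toCotangent_eq]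
      exact h1
    have h3 := congrArg (Ideal.Cotangent.lift ν₀ hν₀) h2
    rw [Ideal.Cotangent.lift_toCotangent, Ideal.Cotangent.lift_toCotangent] at h3
    exact h3
  let gfun : I'' → C ⊗[Q] K := fun y => ν₀ (Classical.choose (hkI y))
  have hgfun : ∀ (y : I'') (x : K), mkD x.1 = k y.1 → gfun y = ν₀ x := by
    intro y x hx
    exact hν₀wd _ _ ((Classical.choose_spec (hkI y)).trans hx.symm)
  let g : I'' →ₗ[C''] C ⊗[Q] K :=
    { toFun := gfun
      map_add' := fun y z => by
        obtain ⟨x, hx⟩ := hkI y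
        obtain ⟨x', hx'⟩ := hkI z
        rw [hgfun y x hx, hgfun z x' hx', ← map_add]
        apply hgfun
        change mkD (x.1 + x'.1) = k (y.1 + z.1)
        rw [map_add, map_add, hx, hx']
      map_smul' := fun c y => by
        obtain ⟨x, hx⟩ := hkI y
        obtain ⟨q, hq⟩ := hmkD (k c)
        rw [hgfun y x hx]
        have h1 : gfun (c • y) = ν₀ (q • x) := by
          apply hgfun
          change mkD (q * x.1) = k (c * y.1)
          rw [map_mul, map_mul, hq, hx]
        rw [h1, map_smul]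
        change q • ν₀ x = π'' c • ν₀ x
        rw [← hρk c, ← hq, hρDmk]
        rfl }
  let v : C ⊗[C''] I'' →ₗ[C] C ⊗[Q] K := LinearMap.liftBaseChange C g
  refine ⟨u, v, ?_⟩
  apply TensorProduct.AlgebraTensorModule.ext
  intro c y
  change u (v (c ⊗ₜ[C''] y)) = c ⊗ₜ[C''] y
  obtain ⟨x, hx⟩ := hkI y
  have h1 : v (c ⊗ₜ[C''] y) = c • ν₀ x := by
    change (LinearMap.liftBaseChange C g) (c ⊗ₜ[C''] y) = _
    rw [LinearMap.liftBaseChange_tmul]
    exact congrArg (fun z => c • z) (hgfun y x hx)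
  rw [h1, map_smul]
  change c • (LinearMap.liftBaseChange C g') ((1 : C) ⊗ₜ[Q] x) = _
  rw [LinearMap.liftBaseChange_tmul, one_smul]
  change c • ((1 : C) ⊗ₜ[C''] (⟨β x.1, hβK x.1 x.2⟩ : I'')) = c ⊗ₜ[C''] y
  have h2 : (⟨β x.1, hβK x.1 x.2⟩ : I'') = y := by
    apply Subtype.ext
    change β x.1 = y.1
    rw [← hβDmk, hx, hky]
  rw [h2, TensorProduct.smul_tmul', smul_eq_mul, mul_one]

/-- For `C = Q/K` with `Q` formally smooth over `A` and `K` generated by an `H_1`-regular
sequence, the conormal module of the universal first order thickening of `C` over `A` is finite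
projective. -/
theorem finite_projective_of_isUT (φAQ : A →+* Q)
    (hsm : letI := φAQ.toAlgebra; Algebra.FormallySmooth A Q)
    (θ : Q →+* C) (hθ : Function.Surjective θ) {r : ℕ} (f : Fin r → Q)
    (hK : RingHom.ker θ = Ideal.span (Set.range f)) (hf : CAlgX.IsH1Regular f)
    (ψ : A →+* C'') (π'' : C'' →+* C) (hUT : IsUT (θ.comp φAQ) ψ π'') :
    letI := π''.toAlgebra
    Module.Finite C (C ⊗[C''] (RingHom.ker π'')) ∧
      Module.Projective C (C ⊗[C''] (RingHom.ker π'')) := by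
  letI algC''C := π''.toAlgebra
  letI algQC := θ.toAlgebra
  obtain ⟨u, v, huv⟩ := exists_retract_of_formallySmooth φAQ hsm θ hθ ψ π'' hUT
  obtain ⟨e⟩ := exists_linearEquiv_of_h1 (B := Q) (C := C) hθ f hK hf
  have hsurj : Function.Surjective (u ∘ₗ e.toLinearMap) := by
    intro m
    refine ⟨e.symm (v m), ?_⟩
    change u (e (e.symm (v m))) = m
    rw [LinearEquiv.apply_symm_apply]
    exact congr($huv m)
  refine ⟨Module.Finite.of_surjective _ hsurj, ?_⟩
  refine Module.Projective.of_split (e.symm.toLinearMap ∘ₗ v) (u ∘ₗ e.toLinearMap) ?_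
  apply LinearMap.ext
  intro m
  change u (e (e.symm (v m))) = m
  rw [LinearEquiv.apply_symm_apply]
  exact congr($huv m)

/-- Variant with the kernel given as an ideal. -/
theorem finite_projective_of_isUT' (φAQ : A →+* Q)
    (hsm : letI := φAQ.toAlgebra; Algebra.FormallySmooth A Q)
    (θ : Q →+* C) (hθ : Function.Surjective θ) {r : ℕ} (f : Fin r → Q)
    (hK : RingHom.ker θ = Ideal.span (Set.range f)) (hf : CAlgX.IsH1Regular f)
    (ψ : A →+* C'') (π'' : C'' →+* C) (hUT : IsUT (θ.comp φAQ) ψ π'')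
    (I : Ideal C'') (hI : RingHom.ker π'' = I) :
    letI := π''.toAlgebra
    Module.Finite C (C ⊗[C''] I) ∧ Module.Projective C (C ⊗[C''] I) := by
  subst hI
  exact finite_projective_of_isUT φAQ hsm θ hθ f hK hf ψ π'' hUT

end retract

end Groth.Agent.Helper19.UnivRing
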