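import Mathlib
import Groth.Agent.Helper19.UnivRing
import Groth.Agent.Helper19.Conormal8

/-!
# Injectivity of the conormal map for lci morphisms: ring level (helper19)
-/

set_option autoImplicit false
set_option linter.style.haveILetI false
set_option linter.unusedSectionVars false
universe u

open scoped TensorProduct

namespace Groth.Agent.Helper19.UnivRing

open Groth.Agent.Helper19.OmegaAlg

section flatTensor

variable {B' Q' : Type u} [CommRing B'] [CommRing Q'] [Algebra B' Q'] (J : Ideal B')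

/-- The multiplication map `Q' ⊗ J → Q'`. -/
noncomputable def muMap : Q' ⊗[B'] J →ₗ[B'] Q' :=
  (TensorProduct.rid B' Q').toLinearMap ∘ₗ (LinearMap.lTensor Q' (Submodule.subtype J))

theorem muMap_tmul (q : Q') (x : J) :
    muMap (Q' := Q') J (q ⊗ₜ x) = algebraMap B' Q' x.1 * q := by
  simp [muMap, Algebra.smul_def]

theorem muMap_injective [Module.Flat B' Q'] : Function.Injective (muMap (Q' := Q') J) := by
  unfold muMap
  exact (TensorProduct.rid B' Q').injective.comp
    (Module.Flat.lTensor_preserves_injective_linearMap _ Subtype.val_injective)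

theorem muMap_mulLeft (q : Q') (t : Q' ⊗[B'] J) :
    muMap J ((LinearMap.rTensor J (LinearMap.mulLeft B' q)) t) = q * muMap J t := by
  induction t using TensorProduct.induction_on with
  | zero => simp
  | tmul a x =>
    rw [LinearMap.rTensor_tmul, muMap_tmul, muMap_tmul, LinearMap.mulLeft_apply]; ring
  | add a b ha hb => rw [map_add, map_add, map_add, ha, hb, mul_add]

theorem exists_muMap_eq (d : Q') (hd : d ∈ Ideal.map (algebraMap B' Q') J) :
    ∃ t, muMap (Q' := Q') J t = d := by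
  rw [Ideal.map] at hd
  induction hd using Submodule.span_induction with
  | mem d hd =>
    obtain ⟨x, hx, rfl⟩ := hd
    exact ⟨1 ⊗ₜ ⟨x, hx⟩, by rw [muMap_tmul, mul_one]⟩
  | zero => exact ⟨0, map_zero _⟩
  | add a b _ _ ha hb =>
    obtain ⟨ta, rfl⟩ := ha
    obtain ⟨tb, rfl⟩ := hb
    exact ⟨ta + tb, map_add _ _ _⟩
  | smul q a _ ha =>
    obtain ⟨ta, rfl⟩ := ha
    exact ⟨_, muMap_mulLeft J q ta⟩

end flatTensor

section main

variable {A B C B' C' Q Q' : Type u} [CommRing A] [CommRing B] [CommRing C] [CommRing B']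
  [CommRing C'] [CommRing Q] [CommRing Q'] [Algebra B' Q']

set_option maxHeartbeats 1600000 in
theorem tensor_eq_zero_of_lci
    (φAB : A →+* B) (φBC : B →+* C)
    (ψB : A →+* B') (πB : B' →+* B) (hB : IsUT φAB ψB πB)
    (ψC : A →+* C') (πC : C' →+* C) (hC : IsUT (φBC.comp φAB) ψC πC)
    (m : B' →+* C') (hm1 : m.comp ψB = ψC) (hm2 : πC.comp m = φBC.comp πB)
    (σ : B →+* Q) (θ : Q →+* C) (hθ : Function.Surjective θ) (hθσ : θ.comp σ = φBC)
    {r : ℕ} (f : Fin r → Q) (hf : CAlgX.IsH1Regular f)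
    (hker : RingHom.ker θ = Ideal.span (Set.range f))
    [Module.Flat B' Q'] (ε : Q' →+* Q) (hε : Function.Surjective ε)
    (hεσ : ε.comp (algebraMap B' Q') = σ.comp πB)
    (hkerε : RingHom.ker ε = Ideal.map (algebraMap B' Q') (RingHom.ker πB))
    (hεsq : ∀ x y : Q', ε x = 0 → ε y = 0 → x * y = 0)
    (J : Ideal B') (hJ : RingHom.ker πB = J)
    {G : Type u} [AddCommGroup G] [Module B G] (cl : J → G)
    (hcl_add : ∀ x y, cl (x + y) = cl x + cl y)
    (hcl_smul : ∀ (b : B') (x : J), cl (b • x) = πB b • cl x)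
    {ι : Type*} (s : Finset ι) (c : ι → C') (x : ι → J)
    (hsum : ∑ k ∈ s, c k * m (x k).1 = 0) :
    letI := φBC.toAlgebra
    ∑ k ∈ s, (πC (c k)) ⊗ₜ[B] cl (x k) = (0 : C ⊗[B] G) := by
  letI := φBC.toAlgebra
  subst hJ
  -- lifts of the regular sequence
  choose ft hft using fun l => hε (f l)
  have hθf : ∀ l, θ (f l) = 0 := by
    intro l
    have : f l ∈ RingHom.ker θ := by rw [hker]; exact Ideal.subset_span ⟨l, rfl⟩
    exact this
  set K : Ideal Q' := Ideal.span (Set.range ft) with hKdef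
  let mkD : Q' →+* Q' ⧸ K := Ideal.Quotient.mk K
  have hmkD : Function.Surjective mkD := Ideal.Quotient.mk_surjective
  have hK0 : ∀ a ∈ K, (θ.comp ε) a = 0 := by
    intro a ha
    rw [hKdef] at ha
    induction ha using Submodule.span_induction with
    | mem a ha =>
      obtain ⟨l, rfl⟩ := ha
      change θ (ε (ft l)) = 0
      rw [hft, hθf]
    | zero => exact map_zero _
    | add a b _ _ ha hb => rw [map_add, ha, hb, add_zero]
    | smul c a _ ha => rw [smul_eq_mul, map_mul, ha, mul_zero]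
  let ρ : Q' ⧸ K →+* C := Ideal.Quotient.lift K (θ.comp ε) hK0
  have hρmk : ∀ a : Q', ρ (mkD a) = θ (ε a) := fun a => rfl
  have hρs : Function.Surjective ρ := by
    intro c
    obtain ⟨q, rfl⟩ := hθ c
    obtain ⟨q', rfl⟩ := hε q
    exact ⟨mkD q', rfl⟩
  have hmapK : Ideal.span (Set.range f) = Ideal.map ε K := by
    rw [hKdef, Ideal.map_span, ← Set.range_comp]
    congr 2
    funext l
    exact (hft l).symm
  have hrep : ∀ x' : Q', θ (ε x') = 0 → ∃ x₀ : Q', ε x₀ = 0 ∧ mkD x' = mkD x₀ := by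
    intro x' hx'
    have h1 : ε x' ∈ Ideal.map ε K := by
      rw [← hmapK, ← hker]; exact hx'
    obtain ⟨x'', hx''K, hx''⟩ := (Ideal.mem_map_iff_of_surjective ε hε).mp h1
    refine ⟨x' - x'', by rw [map_sub, hx'', sub_self], ?_⟩
    rw [map_sub]
    have : mkD x'' = 0 := Ideal.Quotient.eq_zero_iff_mem.mpr hx''K
    rw [this, sub_zero]
  have hρk : RingHom.ker ρ ^ 2 = ⊥ := by
    apply ker_sq_eq_bot_of_le
    intro a b ha hb
    obtain ⟨a', rfl⟩ := hmkD a
    obtain ⟨b', rfl⟩ := hmkD b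
    obtain ⟨a₀, ha₀, ha₁⟩ := hrep a' ha
    obtain ⟨b₀, hb₀, hb₁⟩ := hrep b' hb
    rw [ha₁, hb₁, ← map_mul, hεsq a₀ b₀ ha₀ hb₀, map_zero]
  -- the map from the universal thickening
  let β : A →+* Q' ⧸ K := mkD.comp ((algebraMap B' Q').comp ψB)
  have hεalg : ∀ b : B', ε (algebraMap B' Q' b) = σ (πB b) := fun b => congr($hεσ b)
  have hθσ' : ∀ b : B, θ (σ b) = φBC b := fun b => congr($hθσ b)
  have hcompat : ρ.comp β = (RingHom.id C).comp (φBC.comp φAB) := by
    ext a
    change θ (ε (algebraMap B' Q' (ψB a))) = φBC (φAB a)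
    rw [hεalg, hθσ']
    have : πB (ψB a) = φAB a := congr($(hB.comp) a)
    rw [this]
  obtain ⟨κ, ⟨hκ1, hκ2⟩, -⟩ := hC.lift ρ hρs hρk β (RingHom.id C) hcompat
  rw [RingHom.id_comp] at hκ1
  have hκm : κ.comp m = mkD.comp (algebraMap B' Q') := by
    refine hB.hom_ext ρ hρs hρk φBC _ _ ?_ ?_ ?_
    · rw [← RingHom.comp_assoc, hκ1, hm2]
    · ext b
      change θ (ε (algebraMap B' Q' b)) = φBC (πB b)
      rw [hεalg, hθσ']
    · rw [RingHom.comp_assoc, hm1, hκ2]
      rfl
  have hκm' : ∀ b : B', κ (m b) = mkD (algebraMap B' Q' b) := fun b => congr($hκm b)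
  have hρκ : ∀ c' : C', ρ (κ c') = πC c' := fun c' => congr($hκ1 c')
  -- lifts of the coefficients
  choose q hq using fun k => hmkD (κ (c k))
  have hθεq : ∀ k, θ (ε (q k)) = πC (c k) := by
    intro k
    rw [← hρmk, hq, hρκ]
  set y : Q' := ∑ k ∈ s, q k * algebraMap B' Q' (x k).1 with hydef
  have hy1 : y ∈ K := by
    rw [← Ideal.Quotient.eq_zero_iff_mem]
    change mkD y = 0
    rw [hydef, map_sum]
    have : ∀ k ∈ s, mkD (q k * algebraMap B' Q' (x k).1) = κ (c k * m (x k).1) := by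
      intro k _
      rw [map_mul, map_mul, hq, hκm']
    rw [Finset.sum_congr rfl this, ← map_sum, hsum, map_zero]
  obtain ⟨g, hg⟩ := Ideal.mem_span_range_iff_exists_fun.mp hy1
  have hy0 : ε y = 0 := by
    rw [hydef, map_sum]
    apply Finset.sum_eq_zero
    intro k _
    rw [map_mul, hεalg]
    have : πB (x k).1 = 0 := (x k).2
    rw [this, map_zero, mul_zero]
  have hgsum : ∑ l, ε (g l) * ε (ft l) = 0 := by
    rw [← hy0, ← hg, map_sum]
    apply Finset.sum_congr rfl
    intro l _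
    exact (map_mul _ _ _).symm
  have hf' : CAlgX.IsH1Regular (fun l => ε (ft l)) := by
    have : (fun l => ε (ft l)) = f := funext hft
    rw [this]; exact hf
  have hmem := sum_mul_mem_of_h1 ε hε ft hf' K (fun l => Ideal.subset_span ⟨l, rfl⟩) g hgsum
  obtain ⟨dc, hd1, hd2⟩ := exists_coeff_mem_of_mem_mul ft (RingHom.ker ε) _ hmem
  have hd1' : ∀ l, ∃ t, muMap (Q' := Q') (RingHom.ker πB) t = dc l := by
    intro l
    apply exists_muMap_eq
    rw [← hkerε]
    exact hd1 l
  choose t ht using hd1'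
  -- the two tensors
  set T1 : Q' ⊗[B'] (RingHom.ker πB) := ∑ k ∈ s, q k ⊗ₜ[B'] x k with hT1
  set T2 : Q' ⊗[B'] (RingHom.ker πB) :=
    ∑ l, (LinearMap.rTensor (RingHom.ker πB) (LinearMap.mulLeft B' (ft l))) (t l) with hT2
  have hμ1 : muMap (RingHom.ker πB) T1 = y := by
    rw [hT1, map_sum, hydef]
    apply Finset.sum_congr rfl
    intro k _
    rw [muMap_tmul, mul_comm]
  have hμ2 : muMap (RingHom.ker πB) T2 = y := by
    rw [hT2, map_sum]
    have : ∀ l ∈ Finset.univ, muMap (RingHom.ker πB)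
        ((LinearMap.rTensor (RingHom.ker πB) (LinearMap.mulLeft B' (ft l))) (t l)) =
        dc l * ft l := by
      intro l _
      rw [muMap_mulLeft, ht, mul_comm]
    rw [Finset.sum_congr rfl this, ← hd2, ← hg]
  have hT : T1 = T2 := muMap_injective (RingHom.ker πB) (hμ1.trans hμ2.symm)
  -- the map to `C ⊗ G`
  let F₀ : Q' → (RingHom.ker πB) →+ C ⊗[B] G := fun a =>
    AddMonoidHom.mk' (fun z => (θ (ε a)) ⊗ₜ[B] cl z) (by
      intro z w
      rw [hcl_add, TensorProduct.tmul_add])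
  let F : Q' →+ (RingHom.ker πB) →+ C ⊗[B] G :=
    AddMonoidHom.mk' F₀ (by
      intro a b
      ext z
      change (θ (ε (a + b))) ⊗ₜ[B] cl z = (θ (ε a)) ⊗ₜ[B] cl z + (θ (ε b)) ⊗ₜ[B] cl z
      rw [map_add, map_add, TensorProduct.add_tmul])
  have hF : ∀ (b : B') (a : Q') (z : RingHom.ker πB), F (b • a) z = F a (b • z) := by
    intro b a z
    change (θ (ε (b • a))) ⊗ₜ[B] cl z = (θ (ε a)) ⊗ₜ[B] cl (b • z)
    rw [hcl_smul, TensorProduct.tmul_smul, TensorProduct.smul_tmul', Algebra.smul_def,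
      map_mul, map_mul, hεalg, hθσ', Algebra.smul_def]
    rfl
  let Φ : Q' ⊗[B'] (RingHom.ker πB) →+ C ⊗[B] G := TensorProduct.liftAddHom F hF
  have hΦ : ∀ (a : Q') (z : RingHom.ker πB), Φ (a ⊗ₜ z) = (θ (ε a)) ⊗ₜ[B] cl z := fun a z => rfl
  have hΦ2 : ∀ (l : Fin r) (u : Q' ⊗[B'] (RingHom.ker πB)),
      Φ ((LinearMap.rTensor (RingHom.ker πB) (LinearMap.mulLeft B' (ft l))) u) = 0 := by
    intro l u
    induction u using TensorProduct.induction_on with
    | zero => rw [map_zero, map_zero]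
    | tmul a z =>
      rw [LinearMap.rTensor_tmul, hΦ, LinearMap.mulLeft_apply, map_mul, map_mul, hft, hθf,
        zero_mul, TensorProduct.zero_tmul]
    | add a b ha hb => rw [map_add, map_add, ha, hb, add_zero]
  have h1 : Φ T1 = ∑ k ∈ s, (πC (c k)) ⊗ₜ[B] cl (x k) := by
    rw [hT1, map_sum]
    apply Finset.sum_congr rfl
    intro k _
    rw [hΦ, hθεq]
  have h2 : Φ T2 = 0 := by
    rw [hT2, map_sum]
    exact Finset.sum_eq_zero fun l _ => hΦ2 l (t l)
  rw [← h1, hT, h2]

end main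

end Groth.Agent.Helper19.UnivRing
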