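import Mathlib

/-!
# Flat base change of an ideal as a module (helper19)
-/

set_option autoImplicit false
set_option linter.style.haveILetI false
set_option linter.unusedSectionVars false
universe u

open Function
open scoped TensorProduct

namespace Groth.Agent.Helper19.VDimFlat

variable {P Q : Type u} [CommRing P] [CommRing Q] [Algebra P Q]

/-- `I → I Q`. -/
noncomputable def toMap (I : Ideal P) : I →ₗ[P] (I.map (algebraMap P Q)) where
  toFun i := ⟨algebraMap P Q i.1, Ideal.mem_map_of_mem _ i.2⟩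
  map_add' a b := by
    apply Subtype.ext
    simp
  map_smul' c a := by
    apply Subtype.ext
    change algebraMap P Q (c * a.1) = c • algebraMap P Q a.1
    rw [map_mul, Algebra.smul_def]

/-- `Q ⊗ I → I Q`. -/
noncomputable def tensorToMap (I : Ideal P) : (Q ⊗[P] I) →ₗ[Q] (I.map (algebraMap P Q)) :=
  (toMap (Q := Q) I).liftBaseChange Q

theorem tensorToMap_tmul (I : Ideal P) (q : Q) (i : I) :
    ((tensorToMap (Q := Q) I (q ⊗ₜ[P] i) : I.map (algebraMap P Q)) : Q) = q * algebraMap P Q i.1 := by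
  change ((q • toMap (Q := Q) I i : I.map (algebraMap P Q)) : Q) = _
  rfl

theorem tensorToMap_val (I : Ideal P) (x : Q ⊗[P] I) :
    ((tensorToMap (Q := Q) I x : I.map (algebraMap P Q)) : Q) =
      Algebra.TensorProduct.rid P Q Q (LinearMap.lTensor Q I.subtype x) := by
  induction x using TensorProduct.induction_on with
  | zero => simp
  | tmul q i =>
    rw [tensorToMap_tmul, LinearMap.lTensor_tmul, Algebra.TensorProduct.rid_tmul,
      Submodule.subtype_apply, Algebra.smul_def, mul_comm]
  | add x y hx hy =>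
    rw [map_add, Submodule.coe_add, hx, hy, map_add, map_add]

theorem tensorToMap_injective [Module.Flat P Q] (I : Ideal P) :
    Injective (tensorToMap (Q := Q) I) := by
  intro x y hxy
  have h1 := congrArg Subtype.val hxy
  rw [tensorToMap_val, tensorToMap_val] at h1
  have h2 := (Algebra.TensorProduct.rid P Q Q).injective h1
  exact Module.Flat.lTensor_preserves_injective_linearMap I.subtype
    (Submodule.injective_subtype I) h2

theorem exists_tensorToMap_eq (I : Ideal P) (x : Q) (hx : x ∈ I.map (algebraMap P Q)) :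
    ∃ t : Q ⊗[P] I, ((tensorToMap (Q := Q) I t : I.map (algebraMap P Q)) : Q) = x := by
  have hx' : x ∈ Ideal.span ((algebraMap P Q) '' (I : Set P)) := hx
  clear hx
  induction hx' using Submodule.span_induction with
  | mem x hx0 =>
    obtain ⟨i, hi, rfl⟩ := hx0
    refine ⟨(1 : Q) ⊗ₜ[P] ⟨i, hi⟩, ?_⟩
    rw [tensorToMap_tmul, one_mul]
  | zero => exact ⟨0, by simp⟩
  | add a b _ _ h₁ h₂ =>
    obtain ⟨t₁, e₁⟩ := h₁
    obtain ⟨t₂, e₂⟩ := h₂
    exact ⟨t₁ + t₂, by rw [map_add, Submodule.coe_add, e₁, e₂]⟩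
  | smul c a _ h₁ =>
    obtain ⟨t₁, e₁⟩ := h₁
    exact ⟨c • t₁, by rw [map_smul, Submodule.coe_smul, e₁]⟩

theorem tensorToMap_surjective (I : Ideal P) : Surjective (tensorToMap (Q := Q) I) := by
  rintro ⟨x, hx⟩
  obtain ⟨t, ht⟩ := exists_tensorToMap_eq (Q := Q) I x hx
  exact ⟨t, Subtype.ext ht⟩

/-- `Q ⊗ I ≃ I Q` for flat `Q`. -/
noncomputable def tensorEquivMap [Module.Flat P Q] (I : Ideal P) :
    (Q ⊗[P] I) ≃ₗ[Q] (I.map (algebraMap P Q)) :=
  LinearEquiv.ofBijective (tensorToMap (Q := Q) I)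
    ⟨tensorToMap_injective I, tensorToMap_surjective I⟩

/-- base change of `I Q` to a `Q`-algebra `C`. -/
noncomputable def baseChangeEquiv [Module.Flat P Q] (I : Ideal P) (C : Type u) [CommRing C]
    [Algebra Q C] [Algebra P C] [IsScalarTower P Q C] :
    (C ⊗[Q] (I.map (algebraMap P Q))) ≃ₗ[C] C ⊗[P] I :=
  (TensorProduct.AlgebraTensorModule.congr (LinearEquiv.refl C C)
    (tensorEquivMap (Q := Q) I).symm) ≪≫ₗ
    TensorProduct.AlgebraTensorModule.cancelBaseChange P Q C C I

end Groth.Agent.Helper19.VDimFlat
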