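import Mathlib

/-!
# Ring-level independence of the virtual relative dimension (helper19)

`A → B`, `A → B'` with `B'` formally smooth over `A`, `Q` a pushout of `B`, `B'` over `A`,
`Q → C` with `B → C` surjective.  Then
`C ⊗[Q] ker(Q → C) ≃ (C ⊗[B] ker(B → C)) × (C ⊗[B'] Ω[B'/A])`.
-/

set_option autoImplicit false
set_option linter.style.haveILetI false
universe u

open scoped TensorProduct
open Algebra

namespace Groth.Agent.Helper19.VDimRing

section K

variable {A B B' Q C : Type u} [CommRing A] [CommRing B] [CommRing B'] [CommRing Q] [CommRing C]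
  [Algebra A B] [Algebra A B'] [Algebra A Q] [Algebra B Q] [Algebra B' Q]
  [IsScalarTower A B Q] [IsScalarTower A B' Q]
  [Algebra B C] [Algebra Q C] [IsScalarTower B Q C]
  [Algebra B' C] [IsScalarTower B' Q C]

/-- The extension `B → C` of the `B`-algebra `C`. -/
noncomputable def extB (hB : Function.Surjective (algebraMap B C)) : Algebra.Extension.{u} B C where
  Ring := B
  σ := fun c => (hB c).choose
  algebraMap_σ := fun c => (hB c).choose_spec

/-- The extension `Q → C` of the `B`-algebra `C`. -/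
noncomputable def extQ (hQ : Function.Surjective (algebraMap Q C)) : Algebra.Extension.{u} B C where
  Ring := Q
  σ := fun c => (hQ c).choose
  algebraMap_σ := fun c => (hQ c).choose_spec

theorem surjective_of_tower (hB : Function.Surjective (algebraMap B C)) :
    Function.Surjective (algebraMap Q C) := by
  intro c
  obtain ⟨b, rfl⟩ := hB c
  exact ⟨algebraMap B Q b, (IsScalarTower.algebraMap_apply B Q C b).symm⟩

theorem formallySmooth_of_isPushout [Algebra.IsPushout A B B' Q] [Algebra.FormallySmooth A B'] :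
    Algebra.FormallySmooth B Q :=
  Algebra.FormallySmooth.of_equiv (Algebra.IsPushout.equiv A B B' Q)

/-- `H¹` of the trivial extension is the whole conormal module. -/
noncomputable def h1EquivB (hB : Function.Surjective (algebraMap B C)) :
    (extB hB).H1Cotangent ≃ₗ[C] (extB hB).Cotangent := by
  haveI : Subsingleton (extB hB).CotangentSpace := by
    haveI : Subsingleton Ω[B⁄B] := KaehlerDifferential.subsingleton_of_surjective B B
      (fun x => ⟨x, rfl⟩)
    change Subsingleton (C ⊗[B] Ω[B⁄B])
    infer_instance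
  have htop : LinearMap.ker (extB hB).cotangentComplex = ⊤ := by
    rw [_root_.eq_top_iff]
    intro x _
    exact Subsingleton.elim _ _
  exact LinearEquiv.ofTop (LinearMap.ker (extB hB).cotangentComplex) htop

theorem cotangentComplex_surjective (hB : Function.Surjective (algebraMap B C))
    (hQ : Function.Surjective (algebraMap Q C)) :
    Function.Surjective (extQ (B := B) hQ).cotangentComplex := by
  haveI : Subsingleton Ω[C⁄B] := KaehlerDifferential.subsingleton_of_surjective B C hB
  intro y
  have h := (extQ (B := B) hQ).exact_cotangentComplex_toKaehler y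
  exact h.mp (Subsingleton.elim _ _)

theorem projective_cotangentSpace [Algebra.FormallySmooth B Q]
    (hQ : Function.Surjective (algebraMap Q C)) :
    Module.Projective C (extQ (B := B) hQ).CotangentSpace := by
  change Module.Projective C (C ⊗[Q] Ω[Q⁄B])
  infer_instance

/-- splitting of the conormal module of `Q → C`. -/
theorem nonempty_cotangent_equiv [Algebra.FormallySmooth B Q]
    (hB : Function.Surjective (algebraMap B C))
    (hQ : Function.Surjective (algebraMap Q C)) :
    Nonempty ((extQ (B := B) hQ).Cotangent ≃ₗ[C]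
      (extQ (B := B) hQ).H1Cotangent × (extQ (B := B) hQ).CotangentSpace) := by
  haveI := projective_cotangentSpace (B := B) hQ
  obtain ⟨s, hs⟩ := Module.projective_lifting_property (extQ (B := B) hQ).cotangentComplex
    LinearMap.id (cotangentComplex_surjective hB hQ)
  exact ⟨((extQ (B := B) hQ).exact_hCotangentι_cotangentComplex.splitSurjectiveEquiv
    (extQ (B := B) hQ).h1Cotangentι_injective ⟨s, hs⟩).1⟩

/-- The cotangent space of `Q → C` over `B` in terms of `Ω[B'/A]`. -/
noncomputable def cotangentSpaceEquiv [Algebra.IsPushout A B B' Q] :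
    (C ⊗[Q] Ω[Q⁄B]) ≃ₗ[C] C ⊗[B'] Ω[B'⁄A] :=
  (TensorProduct.AlgebraTensorModule.congr (LinearEquiv.refl C C)
    (KaehlerDifferential.tensorKaehlerEquiv A B B' Q).symm) ≪≫ₗ
    TensorProduct.AlgebraTensorModule.cancelBaseChange B' Q C C Ω[B'⁄A]

theorem nonempty_equiv [Algebra.IsPushout A B B' Q] [Algebra.FormallySmooth A B']
    (hB : Function.Surjective (algebraMap B C)) :
    Nonempty ((C ⊗[Q] (RingHom.ker (algebraMap Q C))) ≃ₗ[C]
      (C ⊗[B] (RingHom.ker (algebraMap B C))) × (C ⊗[B'] Ω[B'⁄A])) := by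
  have hQ : Function.Surjective (algebraMap Q C) := surjective_of_tower hB
  haveI : Algebra.FormallySmooth B Q := formallySmooth_of_isPushout (A := A) (B' := B')
  obtain ⟨e2⟩ := nonempty_cotangent_equiv (B := B) (Q := Q) hB hQ
  haveI : Algebra.FormallySmooth B (extB hB).Ring := inferInstanceAs (Algebra.FormallySmooth B B)
  haveI : Algebra.FormallySmooth B (extQ (B := B) hQ).Ring :=
    inferInstanceAs (Algebra.FormallySmooth B Q)
  let e3 : (extQ (B := B) hQ).H1Cotangent ≃ₗ[C] (extB hB).H1Cotangent :=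
    Algebra.Extension.H1Cotangent.equivOfFormallySmooth _ _
  exact ⟨(extQ (B := B) hQ).cotangentEquiv ≪≫ₗ e2 ≪≫ₗ
    LinearEquiv.prodCongr (e3 ≪≫ₗ h1EquivB hB ≪≫ₗ (extB hB).cotangentEquiv.symm)
      (cotangentSpaceEquiv (A := A) (B := B) (B' := B') (Q := Q) (C := C))⟩

end K

section R

variable {A B B' C : Type u} [CommRing A] [CommRing B] [CommRing B'] [CommRing C]
  [Algebra A B] [Algebra A B'] [Algebra B C] [Algebra B' C] [Algebra A C]
  [IsScalarTower A B C] [IsScalarTower A B' C]

attribute [local instance] Algebra.TensorProduct.rightAlgebra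

theorem rank_eq [Nontrivial C] [Algebra.FormallySmooth A B] [Algebra.FormallySmooth A B']
    (hB : Function.Surjective (algebraMap B C)) (hB' : Function.Surjective (algebraMap B' C))
    {a b a' b' : ℕ}
    (ea : (C ⊗[B] Ω[B⁄A]) ≃ₗ[C] (Fin a →₀ C))
    (eb : (C ⊗[B] RingHom.ker (algebraMap B C)) ≃ₗ[C] (Fin b →₀ C))
    (ea' : (C ⊗[B'] Ω[B'⁄A]) ≃ₗ[C] (Fin a' →₀ C))
    (eb' : (C ⊗[B'] RingHom.ker (algebraMap B' C)) ≃ₗ[C] (Fin b' →₀ C)) :
    b + a' = b' + a := by
  let ψ : B ⊗[A] B' →ₐ[A] C :=
    Algebra.TensorProduct.lift (IsScalarTower.toAlgHom A B C) (IsScalarTower.toAlgHom A B' C)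
      (fun _ _ => Commute.all _ _)
  letI : Algebra (B ⊗[A] B') C := ψ.toRingHom.toAlgebra
  haveI : IsScalarTower B (B ⊗[A] B') C := IsScalarTower.of_algebraMap_eq (fun x => by
    change algebraMap B C x = ψ (x ⊗ₜ 1)
    simp [ψ])
  haveI : IsScalarTower B' (B ⊗[A] B') C := IsScalarTower.of_algebraMap_eq (fun x => by
    change algebraMap B' C x = ψ (1 ⊗ₜ x)
    simp [ψ])
  obtain ⟨e1⟩ := nonempty_equiv (A := A) (B := B) (B' := B') (Q := B ⊗[A] B') (C := C) hB
  obtain ⟨e2⟩ := nonempty_equiv (A := A) (B := B') (B' := B) (Q := B ⊗[A] B') (C := C) hB'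
  let e : ((Fin b →₀ C) × (Fin a' →₀ C)) ≃ₗ[C] ((Fin b' →₀ C) × (Fin a →₀ C)) :=
    (LinearEquiv.prodCongr eb ea').symm ≪≫ₗ e1.symm ≪≫ₗ e2 ≪≫ₗ LinearEquiv.prodCongr eb' ea
  have h := e.finrank_eq
  simpa [Module.finrank_prod] using h

end R

end Groth.Agent.Helper19.VDimRing
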