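import Mathlib
import Groth.Agent.Helper19.KosLoc13
import Groth.Agent.Helper19.Conormal8
import Groth.Agent.Helper19.RegInter4
import Groth.Agent.Helper19.RegImmBC3

/-!
# `I ∩ K² = I K` when `K / I` is a Koszul-regular ideal (local form) (helper19)
-/

set_option autoImplicit false
set_option linter.style.haveILetI false
set_option linter.unusedSectionVars false
universe u

open Function

namespace Groth.Agent.Helper19.VDimInter

open Groth.Agent.Lib.Helper16.KzLoc Groth.Agent.Helper19.KosLoc Groth.Agent.Helper19.OmegaAlg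

variable {Q Q' : Type u} [CommRing Q] [CommRing Q']

/-- Local form at one basic open. -/
theorem exists_pow_mul_mem (π : Q →+* Q') (hπ : Surjective π) (K' : Ideal Q') (g : Q)
    (l : List Q) (hl : KregLoc (l.map π) (Submonoid.powers (π g)))
    (hLE : LocEq (Submonoid.powers (π g)) K' (Ideal.ofList (l.map π)))
    (y : Q) (hyI : y ∈ RingHom.ker π) (hyK : y ∈ (K'.comap π) ^ 2) :
    ∃ n : ℕ, g ^ n * y ∈ RingHom.ker π * K'.comap π := by
  set T := Localization.Away g with hT
  set T' := Localization.Away (π g) with hT'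
  have hsurj : Surjective (awayMap π g) := awayMap_surjective π hπ g
  have hker : RingHom.ker (awayMap π g) = (RingHom.ker π).map (algebraMap Q T) := ker_awayMap π g
  have hcomp : ∀ q : Q, awayMap π g (algebraMap Q T q) = algebraMap Q' T' (π q) := fun q =>
    congrArg (fun φ : Q →+* T' => φ q) (awayMap_comp π g)
  -- Koszul regularity in `T'`
  have hkr : LCI.IsKoszulRegularSeq T' ((l.map π).map (algebraMap Q' T')) :=
    (kreg_iff_kregLoc (l.map π) (Submonoid.powers (π g)) T').mpr hl
  have hh1 := Groth.Agent.Helper19.RegInter.isH1Regular_of_koszul _ hkr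
  let f : Fin l.length → T := fun k => algebraMap Q T (l.get k)
  have hlen : ((l.map π).map (algebraMap Q' T')).length = l.length := by
    rw [List.length_map, List.length_map]
  have hf : CAlgX.IsH1Regular (fun k => awayMap π g (f k)) := by
    refine Groth.Agent.Helper19.RegImmBC.isH1Regular_reindex hlen _ _ (fun i => ?_) hh1
    change awayMap π g (algebraMap Q T (l.get (Fin.cast hlen i))) = _
    rw [hcomp]
    simp [List.get_eq_getElem]
  -- the ideal
  have hK'T : K'.map (algebraMap Q' T') = (Ideal.ofList (l.map π)).map (algebraMap Q' T') :=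
    (map_eq_map_iff (Submonoid.powers (π g)) T' _ _).mpr hLE
  have hKK : (K'.comap π).map π = K' := Ideal.map_comap_of_surjective π hπ K'
  have hkerle : RingHom.ker π ≤ K'.comap π := by
    intro x hx
    rw [Ideal.mem_comap, RingHom.mem_ker.mp hx]
    exact zero_mem _
  have hJ : (K'.comap π).map (algebraMap Q T) =
      RingHom.ker (awayMap π g) ⊔ Ideal.span (Set.range f) := by
    have h1 : ((K'.comap π).map (algebraMap Q T)).map (awayMap π g) =
        (Ideal.span (Set.range f)).map (awayMap π g) := by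
      rw [Ideal.map_map, awayMap_comp, ← Ideal.map_map, hKK, hK'T, Ideal.ofList, Ideal.map_span,
        Ideal.map_span]
      congr 1
      ext z
      constructor
      · rintro ⟨w, hw, rfl⟩
        obtain ⟨v, hv, rfl⟩ := List.mem_map.mp hw
        obtain ⟨k, rfl⟩ := List.mem_iff_get.mp hv
        exact ⟨_, ⟨k, rfl⟩, hcomp _⟩
      · rintro ⟨_, ⟨k, rfl⟩, rfl⟩
        refine ⟨π (l.get k), List.mem_map.mpr ⟨l.get k, List.get_mem _ _, rfl⟩, ?_⟩
        exact (hcomp _).symm
    have h2 := congrArg (Ideal.comap (awayMap π g)) h1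
    rw [Ideal.comap_map_of_surjective _ hsurj, Ideal.comap_map_of_surjective _ hsurj,
      ← RingHom.ker_eq_comap_bot] at h2
    have h3 : RingHom.ker (awayMap π g) ≤ (K'.comap π).map (algebraMap Q T) := by
      rw [hker]; exact Ideal.map_mono hkerle
    rw [sup_eq_left.mpr h3] at h2
    rw [h2, sup_comm]
  have hy1 : algebraMap Q T y ∈ RingHom.ker (awayMap π g) := by
    rw [hker]; exact Ideal.mem_map_of_mem _ hyI
  have hy2 : algebraMap Q T y ∈ ((K'.comap π).map (algebraMap Q T)) ^ 2 := by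
    rw [← Ideal.map_pow]; exact Ideal.mem_map_of_mem _ hyK
  have h := mem_mul_of_mem_inter_sq (awayMap π g) hsurj f hf _ hJ _ hy1 hy2
  rw [hker, ← Ideal.map_mul] at h
  obtain ⟨_, ⟨n, rfl⟩, hn⟩ :=
    (IsLocalization.algebraMap_mem_map_algebraMap_iff (Submonoid.powers g) T _ _).mp h
  exact ⟨n, hn⟩

/-- `ker π ∩ K² ⊆ ker π · K` for `K = π⁻¹ K'`, `K'` a Koszul-regular ideal. -/
theorem mem_mul_of_mem_inter_sq_of_kregIdeal (π : Q →+* Q') (hπ : Surjective π) (K' : Ideal Q')
    (hK' : LCI.IsKoszulRegularIdeal K') (y : Q) (hyI : y ∈ RingHom.ker π)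
    (hyK : y ∈ (K'.comap π) ^ 2) : y ∈ RingHom.ker π * K'.comap π := by
  by_contra hne
  let 𝔞 : Ideal Q :=
    { carrier := {r | r * y ∈ RingHom.ker π * K'.comap π}
      add_mem' := fun {a b} ha hb => by
        change (a + b) * y ∈ RingHom.ker π * K'.comap π
        rw [add_mul]; exact add_mem ha hb
      zero_mem' := by
        change (0 : Q) * y ∈ RingHom.ker π * K'.comap π
        rw [zero_mul]; exact zero_mem _
      smul_mem' := fun c a ha => by
        change (c • a) * y ∈ RingHom.ker π * K'.comap π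
        rw [smul_eq_mul, mul_assoc]; exact Ideal.mul_mem_left _ _ ha }
  have h𝔞 : ∀ r, r ∈ 𝔞 ↔ r * y ∈ RingHom.ker π * K'.comap π := fun r => Iff.rfl
  have hne' : 𝔞 ≠ ⊤ := by
    intro h
    have : (1 : Q) ∈ 𝔞 := h ▸ Submodule.mem_top
    rw [h𝔞, one_mul] at this
    exact hne this
  obtain ⟨𝔪, h𝔪, hle⟩ := Ideal.exists_le_maximal 𝔞 hne'
  haveI := h𝔪.isPrime
  have hkerle : RingHom.ker π ≤ K'.comap π := by
    intro x hx
    rw [Ideal.mem_comap, RingHom.mem_ker.mp hx]
    exact zero_mem _
  have hK𝔪 : K'.comap π ≤ 𝔪 := by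
    intro k hk
    apply hle
    rw [h𝔞, mul_comm k y]
    exact Ideal.mul_mem_mul hyI hk
  have hprime : (𝔪.map π).IsPrime :=
    Ideal.map_isPrime_of_surjective hπ (hkerle.trans hK𝔪)
  have hK'le : K' ≤ 𝔪.map π := by
    rw [← Ideal.map_comap_of_surjective π hπ K']
    exact Ideal.map_mono hK𝔪
  obtain ⟨g', hg', l₀, hl₀, hLE⟩ := (isKoszulRegularIdeal_iff K').mp hK' ⟨𝔪.map π, hprime⟩ hK'le
  obtain ⟨g, rfl⟩ := hπ g'
  obtain ⟨l, rfl⟩ := (List.map_surjective_iff.mpr hπ) l₀
  have hg : g ∉ 𝔪 := fun h => hg' (Ideal.mem_map_of_mem π h)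
  obtain ⟨n, hn⟩ := exists_pow_mul_mem π hπ K' g l hl₀ hLE y hyI hyK
  have : g ^ n ∈ 𝔪 := hle ((h𝔞 _).mpr hn)
  exact hg (Ideal.IsPrime.mem_of_pow_mem inferInstance n this)

end Groth.Agent.Helper19.VDimInter
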