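import Mathlib
import Groth.Agent.Helper19.VDimInter
import Groth.Agent.Helper19.VDimRing
import Groth.Agent.Helper19.GrDict1

/-!
# The conormal sequence of `Q → Q' → C` with `ker(Q' → C)` Koszul-regular (helper19)
-/

set_option autoImplicit false
set_option linter.style.haveILetI false
set_option linter.unusedSectionVars false
universe u

open Function
open scoped TensorProduct

namespace Groth.Agent.Helper19.VDimSeq

open Groth.Agent.Helper19.VDimInter Groth.Agent.Helper19.VDimRing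

variable {Q Q' C : Type u} [CommRing Q] [CommRing Q'] [CommRing C]
  [Algebra Q Q'] [Algebra Q' C] [Algebra Q C] [IsScalarTower Q Q' C]

theorem ker_eq_comap :
    RingHom.ker (algebraMap Q C) = (RingHom.ker (algebraMap Q' C)).comap (algebraMap Q Q') := by
  rw [RingHom.comap_ker, ← IsScalarTower.algebraMap_eq]

theorem ker_le_ker : RingHom.ker (algebraMap Q Q') ≤ RingHom.ker (algebraMap Q C) := by
  intro x hx
  rw [RingHom.mem_ker, IsScalarTower.algebraMap_apply Q Q' C, RingHom.mem_ker.mp hx, map_zero]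

/-- the inclusion of kernels -/
noncomputable def incl : RingHom.ker (algebraMap Q Q') →ₗ[Q] RingHom.ker (algebraMap Q C) :=
  Submodule.inclusion (ker_le_ker (Q := Q) (Q' := Q') (C := C))

/-- the projection of kernels -/
noncomputable def proj : RingHom.ker (algebraMap Q C) →ₗ[Q] RingHom.ker (algebraMap Q' C) where
  toFun k := ⟨algebraMap Q Q' k.1, by
    have h : k.1 ∈ (RingHom.ker (algebraMap Q' C)).comap (algebraMap Q Q') :=
      ker_eq_comap (Q := Q) (Q' := Q') (C := C) ▸ k.2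
    exact h⟩
  map_add' a b := by
    apply Subtype.ext
    simp
  map_smul' c a := by
    apply Subtype.ext
    change algebraMap Q Q' (c * a.1) = c • algebraMap Q Q' a.1
    rw [map_mul, Algebra.smul_def]

theorem exact_incl_proj : Function.Exact (incl (Q := Q) (Q' := Q') (C := C))
    (proj (Q := Q) (Q' := Q') (C := C)) := by
  intro k
  constructor
  · intro hk
    have h1 : algebraMap Q Q' k.1 = 0 := congrArg Subtype.val hk
    exact ⟨⟨k.1, h1⟩, Subtype.ext rfl⟩
  · rintro ⟨a, rfl⟩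
    apply Subtype.ext
    exact a.2

theorem proj_surjective (hπ : Surjective (algebraMap Q Q')) :
    Surjective (proj (Q := Q) (Q' := Q') (C := C)) := by
  rintro ⟨k', hk'⟩
  obtain ⟨q, rfl⟩ := hπ k'
  refine ⟨⟨q, ?_⟩, Subtype.ext rfl⟩
  rw [ker_eq_comap (Q' := Q'), Ideal.mem_comap]
  exact hk'

/-- `1 ⊗ y = 0` in `C ⊗ K` forces `y ∈ K²`. -/
theorem mem_sq_of_one_tmul_eq_zero (hQC : Surjective (algebraMap Q C))
    (k : RingHom.ker (algebraMap Q C))
    (h : (1 : C) ⊗ₜ[Q] k = 0) : k.1 ∈ (RingHom.ker (algebraMap Q C)) ^ 2 := by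
  have h1 : (extB (B := Q) (C := C) hQC).cotangentEquiv ((1 : C) ⊗ₜ[Q] k) = 0 :=
    (LinearEquiv.map_eq_zero_iff (extB (B := Q) (C := C) hQC).cotangentEquiv).mpr h
  have h2 : (extB (B := Q) (C := C) hQC).cotangentEquiv ((1 : C) ⊗ₜ[Q] k) =
      Algebra.Extension.Cotangent.mk k := by
    refine (LinearMap.liftBaseChange_tmul (A := C)
      (Algebra.Extension.Cotangent.mk (P := extB (B := Q) (C := C) hQC)) (1 : C) k).trans ?_
    exact one_smul _ _
  rw [h2, Algebra.Extension.Cotangent.mk_eq_zero_iff] at h1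
  exact h1

/-- products die in `C ⊗ I'` -/
theorem one_tmul_eq_zero_of_mem_mul (y : Q)
    (hy : y ∈ RingHom.ker (algebraMap Q Q') * RingHom.ker (algebraMap Q C)) :
    ∃ hy' : y ∈ RingHom.ker (algebraMap Q Q'),
      (1 : C) ⊗ₜ[Q] (⟨y, hy'⟩ : RingHom.ker (algebraMap Q Q')) = 0 := by
  induction hy using Submodule.mul_induction_on' with
  | mem_mul_mem a ha k hk =>
    refine ⟨Ideal.mul_mem_right _ _ ha, ?_⟩
    have e1 : (⟨a * k, Ideal.mul_mem_right _ _ ha⟩ : RingHom.ker (algebraMap Q Q')) =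
        k • ⟨a, ha⟩ := by
      apply Subtype.ext
      change a * k = k * a
      ring
    rw [e1, TensorProduct.tmul_smul, TensorProduct.smul_tmul', Algebra.smul_def, mul_one,
      RingHom.mem_ker.mp hk, TensorProduct.zero_tmul]
  | add x₁ _ x₂ _ h₁ h₂ =>
    obtain ⟨hx₁, e₁⟩ := h₁
    obtain ⟨hx₂, e₂⟩ := h₂
    refine ⟨add_mem hx₁ hx₂, ?_⟩
    have e1 : (⟨x₁ + x₂, add_mem hx₁ hx₂⟩ : RingHom.ker (algebraMap Q Q')) =
        ⟨x₁, hx₁⟩ + ⟨x₂, hx₂⟩ := rfl
    rw [e1, TensorProduct.tmul_add, e₁, e₂, add_zero]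

theorem lTensor_incl_injective (hπ : Surjective (algebraMap Q Q'))
    (hC : Surjective (algebraMap Q' C))
    (hK' : LCI.IsKoszulRegularIdeal (RingHom.ker (algebraMap Q' C))) :
    Injective (LinearMap.lTensor C (incl (Q := Q) (Q' := Q') (C := C))) := by
  have hQC : Surjective (algebraMap Q C) := by
    rw [IsScalarTower.algebraMap_eq Q Q' C]
    exact hC.comp hπ
  rw [injective_iff_map_eq_zero]
  intro t ht
  obtain ⟨y, rfl⟩ := Groth.Agent.Helper19.GrDict.exists_one_tmul_gen (P := Q) (S := C) hQC t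
  rw [LinearMap.lTensor_tmul] at ht
  have h1 := mem_sq_of_one_tmul_eq_zero hQC _ ht
  have h2 : (incl (Q := Q) (Q' := Q') (C := C) y).1 = y.1 := rfl
  rw [h2, ker_eq_comap (Q := Q) (Q' := Q') (C := C)] at h1
  have h3 := mem_mul_of_mem_inter_sq_of_kregIdeal (algebraMap Q Q') hπ _ hK' y.1 y.2 h1
  rw [← ker_eq_comap (Q := Q) (Q' := Q') (C := C)] at h3
  obtain ⟨hy', e⟩ := one_tmul_eq_zero_of_mem_mul (Q' := Q') (C := C) y.1 h3
  exact e

/-- tensoring over `Q` or over its quotient `Q'` is the same -/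
noncomputable def tensorQuotEquiv (hπ : Surjective (algebraMap Q Q'))
    (N : Type u) [AddCommGroup N] [Module Q' N] [Module Q N] [IsScalarTower Q Q' N] :
    (C ⊗[Q] N) ≃ₗ[C] C ⊗[Q'] N :=
  haveI : TensorProduct.CompatibleSMul Q Q' C N := ⟨fun a m n => by
    obtain ⟨q, rfl⟩ := hπ a
    rw [algebraMap_smul, algebraMap_smul, TensorProduct.smul_tmul]⟩
  TensorProduct.equivOfCompatibleSMul Q' Q C C N

theorem tensorQuotEquiv_tmul (hπ : Surjective (algebraMap Q Q'))
    (N : Type u) [AddCommGroup N] [Module Q' N] [Module Q N] [IsScalarTower Q Q' N] (c : C)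
    (n : N) : tensorQuotEquiv (C := C) hπ N (c ⊗ₜ[Q] n) = c ⊗ₜ[Q'] n := rfl

theorem nonempty_conormal_equiv (hπ : Surjective (algebraMap Q Q'))
    (hC : Surjective (algebraMap Q' C))
    (hK' : LCI.IsKoszulRegularIdeal (RingHom.ker (algebraMap Q' C)))
    [Module.Projective C (C ⊗[Q'] RingHom.ker (algebraMap Q' C))] :
    Nonempty ((C ⊗[Q] RingHom.ker (algebraMap Q C)) ≃ₗ[C]
      (C ⊗[Q] RingHom.ker (algebraMap Q Q')) × (C ⊗[Q'] RingHom.ker (algebraMap Q' C))) := by
  let φ : (C ⊗[Q] RingHom.ker (algebraMap Q Q')) →ₗ[C] (C ⊗[Q] RingHom.ker (algebraMap Q C)) :=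
    (incl (Q := Q) (Q' := Q') (C := C)).baseChange C
  let ψ₀ : (C ⊗[Q] RingHom.ker (algebraMap Q C)) →ₗ[C] (C ⊗[Q] RingHom.ker (algebraMap Q' C)) :=
    (proj (Q := Q) (Q' := Q') (C := C)).baseChange C
  let e' := tensorQuotEquiv (C := C) hπ (RingHom.ker (algebraMap Q' C))
  let ψ : (C ⊗[Q] RingHom.ker (algebraMap Q C)) →ₗ[C] (C ⊗[Q'] RingHom.ker (algebraMap Q' C)) :=
    e'.toLinearMap ∘ₗ ψ₀
  have hφ : ∀ x, φ x = LinearMap.lTensor C (incl (Q := Q) (Q' := Q') (C := C)) x := fun x => rfl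
  have hψ₀ : ∀ x, ψ₀ x = LinearMap.lTensor C (proj (Q := Q) (Q' := Q') (C := C)) x := fun x => rfl
  have hex0 := lTensor_exact C (exact_incl_proj (Q := Q) (Q' := Q') (C := C))
    (proj_surjective (C := C) hπ)
  have hexact : Function.Exact φ ψ := by
    intro x
    constructor
    · intro hx
      have h1 : ψ₀ x = 0 := e'.injective (by rw [map_zero]; exact hx)
      rw [hψ₀] at h1
      obtain ⟨t, ht⟩ := (hex0 x).mp h1
      exact ⟨t, by rw [hφ, ht]⟩
    · rintro ⟨t, rfl⟩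
      change e' (ψ₀ (φ t)) = 0
      rw [hψ₀, hφ, (hex0 _).mpr ⟨t, rfl⟩, map_zero]
  have hinj : Injective φ := lTensor_incl_injective hπ hC hK'
  have hsurj : Surjective ψ := by
    have h1 : Surjective ψ₀ := LinearMap.lTensor_surjective C (proj_surjective (C := C) hπ)
    exact e'.surjective.comp h1
  obtain ⟨s, hs⟩ := Module.projective_lifting_property ψ LinearMap.id hsurj
  exact ⟨(hexact.splitSurjectiveEquiv hinj ⟨s, hs⟩).1⟩

end Groth.Agent.Helper19.VDimSeq
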