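import Mathlib
import Groth.Agent.Helper19.VDimSeq
import Groth.Agent.Helper19.VDimFlat
import Groth.Agent.Helper19.VDimRing
import Groth.Agent.Helper19.LciCancel
import Groth.Agent.Helper19.LciRing

set_option autoImplicit false
set_option linter.style.haveILetI false
set_option linter.unusedSectionVars false
universe u

open Function
open scoped TensorProduct

namespace Groth.Agent.Helper19.VDimAdd

open Groth.Agent.Helper19.VDimRing Groth.Agent.Helper19.VDimSeq Groth.Agent.Helper19.VDimFlat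
open Groth.Agent.Lib.Helper16.KzComp Groth.Agent.Helper19.LciRing Groth.Agent.Helper19.LciCancel

section Add

variable {A P B R S C : Type u} [CommRing A] [CommRing P] [CommRing B] [CommRing R] [CommRing S]
  [CommRing C]
  [Algebra A P] [Algebra P B] [Algebra A B] [IsScalarTower A P B]
  [Algebra B R] [Algebra R C] [Algebra B C] [IsScalarTower B R C]
  [Algebra A S] [Algebra S C] [Algebra A C] [IsScalarTower A S C] [IsScalarTower A B C]
  [Algebra P C] [IsScalarTower P B C] [IsScalarTower A P C]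

attribute [local instance] Algebra.TensorProduct.rightAlgebra

set_option maxHeartbeats 1600000 in
set_option synthInstance.maxHeartbeats 200000 in
theorem rank_add [Nontrivial C] [Algebra.FormallySmooth A P] [Algebra.FormallySmooth B R]
    [Algebra.Smooth A S]
    (hPB : Surjective (algebraMap P B)) (hRC : Surjective (algebraMap R C))
    (hSC : Surjective (algebraMap S C)) (hlci : IsLCIHom (algebraMap B C))
    {af bf ag bg ah bh : ℕ}
    (eaf : (C ⊗[R] Ω[R⁄B]) ≃ₗ[C] (Fin af →₀ C))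
    (ebf : (C ⊗[R] RingHom.ker (algebraMap R C)) ≃ₗ[C] (Fin bf →₀ C))
    (eag : (C ⊗[P] Ω[P⁄A]) ≃ₗ[C] (Fin ag →₀ C))
    (ebg : (C ⊗[P] RingHom.ker (algebraMap P B)) ≃ₗ[C] (Fin bg →₀ C))
    (eah : (C ⊗[S] Ω[S⁄A]) ≃ₗ[C] (Fin ah →₀ C))
    (ebh : (C ⊗[S] RingHom.ker (algebraMap S C)) ≃ₗ[C] (Fin bh →₀ C)) :
    bh + ag + af = bg + bf + ah := by
  -- the ring `Q = P ⊗ S`
  let ψQ : P ⊗[A] S →ₐ[A] C :=
    Algebra.TensorProduct.lift (IsScalarTower.toAlgHom A P C) (IsScalarTower.toAlgHom A S C)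
      (fun _ _ => Commute.all _ _)
  letI algQC : Algebra (P ⊗[A] S) C := ψQ.toRingHom.toAlgebra
  haveI tPQC : IsScalarTower P (P ⊗[A] S) C := IsScalarTower.of_algebraMap_eq (fun x => by
    change algebraMap P C x = ψQ (x ⊗ₜ 1)
    simp [ψQ])
  haveI tSQC : IsScalarTower S (P ⊗[A] S) C := IsScalarTower.of_algebraMap_eq (fun x => by
    change algebraMap S C x = ψQ (1 ⊗ₜ x)
    simp [ψQ])
  -- the ring `Q_B = B ⊗ S`
  let ψQB : B ⊗[A] S →ₐ[A] C :=
    Algebra.TensorProduct.lift (IsScalarTower.toAlgHom A B C) (IsScalarTower.toAlgHom A S C)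
      (fun _ _ => Commute.all _ _)
  letI algQBC : Algebra (B ⊗[A] S) C := ψQB.toRingHom.toAlgebra
  haveI tBQC : IsScalarTower B (B ⊗[A] S) C := IsScalarTower.of_algebraMap_eq (fun x => by
    change algebraMap B C x = ψQB (x ⊗ₜ 1)
    simp [ψQB])
  haveI tSQBC : IsScalarTower S (B ⊗[A] S) C := IsScalarTower.of_algebraMap_eq (fun x => by
    change algebraMap S C x = ψQB (1 ⊗ₜ x)
    simp [ψQB])
  -- the map `Q → Q_B`
  let π : P ⊗[A] S →ₐ[A] B ⊗[A] S :=
    Algebra.TensorProduct.map (IsScalarTower.toAlgHom A P B) (AlgHom.id A S)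
  letI algQQB : Algebra (P ⊗[A] S) (B ⊗[A] S) := π.toRingHom.toAlgebra
  haveI tQQBC : IsScalarTower (P ⊗[A] S) (B ⊗[A] S) C := IsScalarTower.of_algebraMap_eq' (by
    change ψQ.toRingHom = ψQB.toRingHom.comp π.toRingHom
    have h : ψQ = ψQB.comp π := by
      apply Algebra.TensorProduct.ext
      · ext x
        simp [ψQ, ψQB, π, ← IsScalarTower.algebraMap_apply]
      · ext x
        simp [ψQ, ψQB, π]
    rw [h]
    rfl)
  have hπ : Surjective (algebraMap (P ⊗[A] S) (B ⊗[A] S)) :=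
    Algebra.TensorProduct.map_surjective (IsScalarTower.toAlgHom A P B) (AlgHom.id A S) hPB
      surjective_id
  have hQBC : Surjective (algebraMap (B ⊗[A] S) C) := surjective_of_tower (B := S) hSC
  -- the kernel of `π`
  have hkerπ : RingHom.ker (algebraMap (P ⊗[A] S) (B ⊗[A] S)) =
      (RingHom.ker (algebraMap P B)).map (algebraMap P (P ⊗[A] S)) := by
    have h := Algebra.TensorProduct.rTensor_ker (R := A) (C := S) (IsScalarTower.toAlgHom A P B) hPB
    exact h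
  -- Koszul regularity of the kernel of `Q_B → C`
  have hsm : (algebraMap B (B ⊗[A] S)).Smooth := by
    rw [RingHom.smooth_algebraMap]
    infer_instance
  have hK' : LCI.IsKoszulRegularIdeal (RingHom.ker (algebraMap (B ⊗[A] S) C)) := by
    rw [← isLCIHom_iff_of_surjective _ hQBC]
    refine isLCIHom_of_comp_smooth _ hsm _ ?_
    rw [← IsScalarTower.algebraMap_eq]
    exact hlci
  -- (α)
  obtain ⟨eα⟩ := nonempty_equiv (A := A) (B := S) (B' := P) (Q := P ⊗[A] S) (C := C) hSC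
  -- (β)
  let ψRS : R ⊗[B] (B ⊗[A] S) →ₐ[B] C :=
    Algebra.TensorProduct.lift (IsScalarTower.toAlgHom B R C)
      (IsScalarTower.toAlgHom B (B ⊗[A] S) C) (fun _ _ => Commute.all _ _)
  letI algRSC : Algebra (R ⊗[B] (B ⊗[A] S)) C := ψRS.toRingHom.toAlgebra
  haveI tR : IsScalarTower R (R ⊗[B] (B ⊗[A] S)) C := IsScalarTower.of_algebraMap_eq (fun x => by
    change algebraMap R C x = ψRS (x ⊗ₜ 1)
    simp [ψRS])
  haveI tQB : IsScalarTower (B ⊗[A] S) (R ⊗[B] (B ⊗[A] S)) C :=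
    IsScalarTower.of_algebraMap_eq (fun x => by
      change algebraMap (B ⊗[A] S) C x = ψRS (1 ⊗ₜ x)
      simp [ψRS])
  haveI : Algebra.FormallySmooth A S := Algebra.Smooth.formallySmooth
  obtain ⟨e1⟩ := nonempty_equiv (A := B) (B := R) (B' := B ⊗[A] S) (Q := R ⊗[B] (B ⊗[A] S))
    (C := C) hRC
  obtain ⟨e2⟩ := nonempty_equiv (A := B) (B := B ⊗[A] S) (B' := R) (Q := R ⊗[B] (B ⊗[A] S))
    (C := C) hQBC
  let eΩ : (C ⊗[B ⊗[A] S] Ω[(B ⊗[A] S)⁄B]) ≃ₗ[C] C ⊗[S] Ω[S⁄A] :=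
    cotangentSpaceEquiv (A := A) (B := B) (B' := S) (Q := B ⊗[A] S) (C := C)
  -- `K' × C^{af} ≃ C^{bf} × C^{ah}`
  let eβ : ((C ⊗[B ⊗[A] S] RingHom.ker (algebraMap (B ⊗[A] S) C)) × (Fin af →₀ C)) ≃ₗ[C]
      ((Fin bf →₀ C) × (Fin ah →₀ C)) :=
    (LinearEquiv.prodCongr (LinearEquiv.refl C _) eaf.symm) ≪≫ₗ e2.symm ≪≫ₗ e1 ≪≫ₗ
      LinearEquiv.prodCongr ebf (eΩ ≪≫ₗ eah)
  haveI hproj : Module.Projective C (C ⊗[B ⊗[A] S] RingHom.ker (algebraMap (B ⊗[A] S) C)) := by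
    haveI : Module.Projective C
        ((C ⊗[B ⊗[A] S] RingHom.ker (algebraMap (B ⊗[A] S) C)) × (Fin af →₀ C)) :=
      Module.Projective.of_equiv eβ.symm
    exact Module.Projective.of_split (LinearMap.inl C _ (Fin af →₀ C))
      (LinearMap.fst C _ (Fin af →₀ C)) (by ext x; simp)
  -- (γ)
  haveI : Module.Flat A S := inferInstance
  haveI : Module.Flat P (P ⊗[A] S) := inferInstance
  obtain ⟨eγ⟩ := nonempty_conormal_equiv (Q := P ⊗[A] S) (Q' := B ⊗[A] S) (C := C) hπ hQBC hK'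
  let eI : (C ⊗[P ⊗[A] S] RingHom.ker (algebraMap (P ⊗[A] S) (B ⊗[A] S))) ≃ₗ[C]
      C ⊗[P] RingHom.ker (algebraMap P B) :=
    (TensorProduct.AlgebraTensorModule.congr (LinearEquiv.refl C C)
      (LinearEquiv.ofEq _ _ hkerπ)) ≪≫ₗ
      baseChangeEquiv (Q := P ⊗[A] S) (RingHom.ker (algebraMap P B)) C
  -- the count
  let e : (((Fin bh →₀ C) × (Fin ag →₀ C)) × (Fin af →₀ C)) ≃ₗ[C]
      ((Fin bg →₀ C) × ((Fin bf →₀ C) × (Fin ah →₀ C))) :=
    (LinearEquiv.prodCongr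
      ((LinearEquiv.prodCongr ebh eag).symm ≪≫ₗ eα.symm ≪≫ₗ eγ ≪≫ₗ
        LinearEquiv.prodCongr (eI ≪≫ₗ ebg) (LinearEquiv.refl C _))
      (LinearEquiv.refl C (Fin af →₀ C))) ≪≫ₗ
      LinearEquiv.prodAssoc C _ _ _ ≪≫ₗ
      LinearEquiv.prodCongr (LinearEquiv.refl C _) eβ
  have h := e.finrank_eq
  simp [Module.finrank_prod] at h
  omega

/-- base change of a free module along `B → C` -/
noncomputable def freeBaseChange {M : Type u} [AddCommGroup M] [Module P M] {n : ℕ} (e : (B ⊗[P] M) ≃ₗ[B] (Fin n →₀ B)) :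
    (C ⊗[P] M) ≃ₗ[C] (Fin n →₀ C) :=
  (TensorProduct.AlgebraTensorModule.cancelBaseChange P B C C M).symm ≪≫ₗ
    (Algebra.TensorProduct.basis C (Module.Basis.ofRepr e)).repr

set_option maxHeartbeats 1600000 in
theorem rank_add' [Nontrivial C] [Algebra.FormallySmooth A P] [Algebra.FormallySmooth B R]
    [Algebra.Smooth A S]
    (hPB : Surjective (algebraMap P B)) (hRC : Surjective (algebraMap R C))
    (hSC : Surjective (algebraMap S C)) (hlci : IsLCIHom (algebraMap B C))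
    {af bf ag bg ah bh : ℕ}
    (eaf : (C ⊗[R] Ω[R⁄B]) ≃ₗ[C] (Fin af →₀ C))
    (ebf : (C ⊗[R] RingHom.ker (algebraMap R C)) ≃ₗ[C] (Fin bf →₀ C))
    (eag : (B ⊗[P] Ω[P⁄A]) ≃ₗ[B] (Fin ag →₀ B))
    (ebg : (B ⊗[P] RingHom.ker (algebraMap P B)) ≃ₗ[B] (Fin bg →₀ B))
    (eah : (C ⊗[S] Ω[S⁄A]) ≃ₗ[C] (Fin ah →₀ C))
    (ebh : (C ⊗[S] RingHom.ker (algebraMap S C)) ≃ₗ[C] (Fin bh →₀ C)) :
    bh + ag + af = bg + bf + ah :=
  rank_add hPB hRC hSC hlci eaf ebf (freeBaseChange (C := C) eag) (freeBaseChange (C := C) ebg)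
    eah ebh

end Add

end Groth.Agent.Helper19.VDimAdd
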