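import Mathlib

/-!
# Common affine charts for two closed immersions of the same scheme (helper19)
-/

set_option autoImplicit false
set_option linter.style.haveILetI false
universe u

open CategoryTheory CategoryTheory.Limits AlgebraicGeometry

namespace Groth.Agent.Helper19.VDimChart

variable {X V V' : Scheme.{u}}

/-- A small affine chart of the target of a closed immersion. -/
theorem exists_chart (i : X ⟶ V) [IsClosedImmersion i] (x : X) (N : X.Opens) (hx : x ∈ N)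
    (M : V.Opens) (hM : i x ∈ M) :
    ∃ U : V.Opens, IsAffineOpen U ∧ U ≤ M ∧ i x ∈ U ∧ i ⁻¹ᵁ U ≤ N := by
  obtain ⟨N', hN'o, hN'⟩ := i.isEmbedding.isInducing.isOpen_iff.mp N.2
  have hzN' : i x ∈ N' := by
    have : x ∈ (i : X → V) ⁻¹' N' := by rw [hN']; exact hx
    exact this
  obtain ⟨U, hU, hzU, hUle⟩ := exists_isAffineOpen_mem_and_subset (x := i x)
    (U := (⟨N', hN'o⟩ : V.Opens) ⊓ M) ⟨hzN', hM⟩
  refine ⟨U, hU, hUle.trans inf_le_right, hzU, ?_⟩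
  intro y hy
  have h1 : i y ∈ N' := (hUle hy).1
  have : y ∈ (i : X → V) ⁻¹' N' := h1
  rw [hN'] at this
  exact this

/-- Common affine charts for two closed immersions. -/
theorem exists_common_chart (i : X ⟶ V) [IsClosedImmersion i] (i' : X ⟶ V') [IsClosedImmersion i']
    (x : X) (N : X.Opens) (hx : x ∈ N) (M : V.Opens) (hM : i x ∈ M) (M' : V'.Opens)
    (hM' : i' x ∈ M') :
    ∃ (U : V.Opens) (U' : V'.Opens), IsAffineOpen U ∧ IsAffineOpen U' ∧ U ≤ M ∧ U' ≤ M' ∧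
      i x ∈ U ∧ i ⁻¹ᵁ U ≤ N ∧ i' ⁻¹ᵁ U' = i ⁻¹ᵁ U := by
  obtain ⟨U₀, hU₀, hU₀M, hxU₀, hU₀N⟩ := exists_chart i x N hx M hM
  obtain ⟨U₀', hU₀', hU₀M', hxU₀', hU₀le⟩ := exists_chart i' x (i ⁻¹ᵁ U₀) hxU₀ M' hM'
  have hW₀ : IsAffineOpen (i ⁻¹ᵁ U₀) := hU₀.preimage i
  have hsurj : Function.Surjective (i.app U₀).hom := i.app_surjective U₀ hU₀
  have hsurj' : Function.Surjective (i'.app U₀').hom := i'.app_surjective U₀' hU₀'
  obtain ⟨abar, hale, hxa⟩ := hW₀.exists_basicOpen_le (V := i' ⁻¹ᵁ U₀') ⟨x, hxU₀'⟩ hxU₀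
  obtain ⟨a, rfl⟩ := hsurj abar
  obtain ⟨a', ha'⟩ := hsurj' ((X.presheaf.map (homOfLE hU₀le).op).hom ((i.app U₀).hom a))
  have hpre : i ⁻¹ᵁ V.basicOpen a = X.basicOpen ((i.app U₀).hom a) :=
    Scheme.preimage_basicOpen i a
  have hpre' : i' ⁻¹ᵁ V'.basicOpen a' = X.basicOpen ((i'.app U₀').hom a') :=
    Scheme.preimage_basicOpen i' a'
  refine ⟨V.basicOpen a, V'.basicOpen a', hU₀.basicOpen a, hU₀'.basicOpen a',
    (V.basicOpen_le a).trans hU₀M, (V'.basicOpen_le a').trans hU₀M', ?_, ?_, ?_⟩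
  · have : x ∈ i ⁻¹ᵁ V.basicOpen a := by rw [hpre]; exact hxa
    exact this
  · rw [hpre]
    exact (X.basicOpen_le _).trans hU₀N
  · rw [hpre, hpre', ha']
    have h := Scheme.basicOpen_res X ((i.app U₀).hom a) (homOfLE hU₀le).op
    refine h.trans ?_
    exact inf_eq_right.mpr hale

end Groth.Agent.Helper19.VDimChart
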