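import Mathlib
import Groth.Prelude.Def_FlatMod2
import Groth.Agent.Lib.Helper29.QCohLocFree

/-!
# Free sections over small affines from local freeness of a restriction (helper19)
-/

set_option autoImplicit false
set_option linter.style.haveILetI false
universe u

open CategoryTheory CategoryTheory.Limits AlgebraicGeometry

namespace Groth.Agent.Helper19.VDimFree

open Groth.Agent.Lib.Helper29.QCoh

variable {X : Scheme.{u}}

theorem exists_open_free_sections (M : X.Modules) (U : X.Opens) (n : ℕ)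
    (h : FlatMod.IsFinLocFreeOfRank n ((Scheme.Modules.restrictFunctor U.ι).obj M)) (x : X)
    (hx : x ∈ U) :
    ∃ U' : X.Opens, x ∈ U' ∧ ∀ W : X.Opens, IsAffineOpen W → W ≤ U' →
      Nonempty (Γ(M, W) ≃ₗ[Γ(X, W)] (Fin n →₀ Γ(X, W))) := by
  rw [isFinLocFreeOfRank_iff_isFreeAlong] at h
  obtain ⟨U₁, hxU₁, ⟨e⟩⟩ := h ⟨x, hx⟩
  have hM : IsFreeAlong M (U₁.ι ≫ U.ι) n :=
    ⟨(Scheme.Modules.pullbackComp U₁.ι U.ι).symm.app M ≪≫
      (Scheme.Modules.pullback U₁.ι).mapIso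
        ((Scheme.Modules.restrictFunctorIsoPullback U.ι).symm.app M) ≪≫ e⟩
  refine ⟨(U₁.ι ≫ U.ι).opensRange, ?_, fun W hW hWle => ?_⟩
  · exact ⟨⟨⟨x, hx⟩, hxU₁⟩, rfl⟩
  · refine nonempty_linearEquiv_of_isFreeAlong_fromSpec M hW n (hM.of_range_subset _ ?_)
    rw [hW.range_fromSpec]
    exact hWle

end Groth.Agent.Helper19.VDimFree
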