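import Mathlib.RingTheory.WittVector.Identities
import Mathlib.RingTheory.WittVector.Domain
import Mathlib.RingTheory.WittVector.Teichmuller
import Mathlib.RingTheory.WittVector.Truncated

/-!
# Small facts on Witt vectors over an arbitrary commutative ring

* `exists_verschiebung_of_coeff_zero` : `x₀ = 0 → x = V y`
* `verschiebung_mul_verschiebung` : `V x * V y = p * V (x * y)`
* `verschiebung_mul_p` : `V (x * p) = V x * p`
-/

set_option autoImplicit false

namespace Groth.Agent.Helper19.Witt

open WittVector

variable {p : ℕ} [hp : Fact p.Prime] {R : Type*} [CommRing R]

theorem exists_verschiebung_of_coeff_zero (x : WittVector p R) (h : x.coeff 0 = 0) :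
    ∃ y : WittVector p R, x = verschiebung y := by
  refine ⟨x.shift 1, ?_⟩
  have := eq_iterate_verschiebung (x := x) (n := 1) (fun i hi => by
    have : i = 0 := by omega
    subst this; exact h)
  simpa using this

theorem verschiebung_mul_p (x : WittVector p R) :
    verschiebung (x * (p : WittVector p R)) = verschiebung x * (p : WittVector p R) := by
  rw [mul_comm x, ← nsmul_eq_mul, map_nsmul, nsmul_eq_mul, mul_comm]

theorem verschiebung_mul_verschiebung (x y : WittVector p R) :
    verschiebung x * verschiebung y = (p : WittVector p R) * verschiebung (x * y) := by
  rw [← verschiebung_mul_frobenius, frobenius_verschiebung, ← mul_assoc, verschiebung_mul_p,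
    mul_comm]

theorem p_mul_verschiebung (x : WittVector p R) :
    (p : WittVector p R) * verschiebung x = verschiebung ((p : WittVector p R) * x) := by
  rw [mul_comm, ← verschiebung_mul_p, mul_comm]

theorem p_pow_mul_verschiebung (k : ℕ) (x : WittVector p R) :
    (p : WittVector p R) ^ k * verschiebung x = verschiebung ((p : WittVector p R) ^ k * x) := by
  induction k generalizing x with
  | zero => simp
  | succ k ih => rw [pow_succ, mul_assoc, p_mul_verschiebung, ih, mul_assoc]

theorem p_pow_mul_iterate_verschiebung (k n : ℕ) (x : WittVector p R) :
    (p : WittVector p R) ^ k * verschiebung^[n] x =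
      verschiebung^[n] ((p : WittVector p R) ^ k * x) := by
  induction n generalizing x with
  | zero => simp
  | succ n ih =>
    rw [Function.iterate_succ_apply', Function.iterate_succ_apply', p_pow_mul_verschiebung, ih]

end Groth.Agent.Helper19.Witt
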